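import Groth.Agent.H4LC.Torsion
import Groth.Agent.H4Depth.IdealDepth

/-!
# Depth and vanishing of local cohomology
-/

set_option autoImplicit false

universe u

open CategoryTheory CategoryTheory.Limits Opposite CategoryTheory.Abelian

namespace Groth.Agent.H4LC

variable {R : Type u} [CommRing R] [IsNoetherianRing R] (I : Ideal R)
  (M : Type u) [AddCommGroup M] [Module R M] [Module.Finite R M]

theorem support_quotSys_subset {n : ℕ} :
    Module.support R ((quotSys I).obj (op n)) ⊆ PrimeSpectrum.zeroLocus (I : Set R) := by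
  change Module.support R (R ⧸ I ^ n) ⊆ _
  rw [Groth.Agent.H4Depth.support_quotient_eq]
  rcases Nat.eq_zero_or_pos n with rfl | hn
  · simp
  · rw [PrimeSpectrum.zeroLocus_pow I hn.ne']

instance finite_quotSys (n : ℕ) : Module.Finite R ((quotSys I).obj (op n)) :=
  inferInstanceAs (Module.Finite R (R ⧸ I ^ n))

theorem subsingleton_H_of_lt_idealDepth {i : ℕ} (hi : (i : ℕ∞) < LocCoh.idealDepth I M) :
    Subsingleton (LocCoh.H I i M) :=
  subsingleton_H_of_ext I i M fun n₀ => ⟨n₀, le_rfl,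
    Groth.Agent.H4Depth.subsingleton_ext_of_lt_idealDepth ((quotSys I).obj (op n₀))
      (support_quotSys_subset I) i hi⟩

theorem mk₀_tr_comp_eq_zero {d : ℕ} (hd : (d : ℕ∞) ≤ LocCoh.idealDepth I M) {m : ℕ} (hm : 1 ≤ m)
    (x : Abelian.Ext ((quotSys I).obj (op 1)) (ModuleCat.of R M) d)
    (hx : (Abelian.Ext.mk₀ (tr (quotSys I) hm)).comp x (zero_add d) = 0) : x = 0 := by
  have hsurj : Function.Surjective (tr (quotSys I) hm).hom := fun y => by
    obtain ⟨r, rfl⟩ := exists_eq_smul_oneCls I y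
    exact ⟨r • oneCls I m, (map_smul _ r _).trans rfl⟩
  have hS := Groth.Agent.H4Depth.shortComplexOf_shortExact
    (LinearMap.ker (tr (quotSys I) hm).hom).subtype (tr (quotSys I) hm).hom
    Subtype.val_injective hsurj (LinearMap.exact_subtype_ker_map _)
  cases d with
  | zero =>
    obtain ⟨f, rfl⟩ := (Abelian.Ext.mk₀_bijective _ _).2 x
    rw [Abelian.Ext.mk₀_comp_mk₀, ← Abelian.Ext.mk₀_zero] at hx
    have hf := (Abelian.Ext.mk₀_bijective _ _).1 hx
    have : f = 0 := quot_hom_ext I (by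
      have h2 := congrArg (fun a => a.hom (oneCls I m)) hf
      exact (congrArg _ (tr_one I hm)).symm.trans h2)
    rw [this, Abelian.Ext.mk₀_zero]
  | succ k =>
    obtain ⟨y, rfl⟩ := Abelian.Ext.contravariant_sequence_exact₃ hS _ x hx
      (show 1 + k = k + 1 by omega)
    have : Subsingleton (Abelian.Ext
        (ModuleCat.of R (LinearMap.ker (tr (quotSys I) hm).hom)) (ModuleCat.of R M) k) := by
      refine Groth.Agent.H4Depth.subsingleton_ext_of_lt_idealDepth _ ?_ k
        (lt_of_lt_of_le (by exact_mod_cast Nat.lt_succ_self k) hd)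
      exact (Module.support_subset_of_injective _
        (LinearMap.ker (tr (quotSys I) hm).hom).injective_subtype).trans
        (support_quotSys_subset I)
    exact (congrArg (fun z => hS.extClass.comp z (show 1 + k = k + 1 by omega))
      (@Subsingleton.elim _ this y 0)).trans (Abelian.Ext.comp_zero _ _ _ _ _)

theorem nontrivial_H_idealDepth {d : ℕ} (hd : LocCoh.idealDepth I M = d) :
    Nontrivial (LocCoh.H I d M) := by
  rw [← not_subsingleton_iff_nontrivial]
  intro hs
  refine not_subsingleton_iff_nontrivial.2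
    (Groth.Agent.H4Depth.idealDepth_eq_natCast_iff_ext.1 hd).2
    (subsingleton_of_forall_eq 0 fun x => ?_)
  have key : ∀ e : Abelian.Ext ((quotSys I).obj (op 1)) (ModuleCat.of R M) d, e = 0 := by
    intro e
    obtain ⟨m, hm, he⟩ := (ι_eq_zero_iff (quotSys I) d (ModuleCat.of R M) e).1
      (@Subsingleton.elim _ hs _ _)
    exact mk₀_tr_comp_eq_zero I M hd.ge hm e he
  let φ : (quotSys I).obj (op 1) ⟶ ModuleCat.of R (R ⧸ I) :=
    ModuleCat.ofHom (Submodule.mapQ (I ^ 1) I LinearMap.id (by simp))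
  let ψ : ModuleCat.of R (R ⧸ I) ⟶ (quotSys I).obj (op 1) :=
    ModuleCat.ofHom (Submodule.mapQ I (I ^ 1) LinearMap.id (by simp))
  have hψφ : ψ ≫ φ = 𝟙 _ := by
    apply ModuleCat.hom_ext
    refine LinearMap.ext fun y => ?_
    obtain ⟨r, rfl⟩ := Submodule.Quotient.mk_surjective I y
    rfl
  rw [← Abelian.Ext.mk₀_id_comp x, ← hψφ, ← Abelian.Ext.mk₀_comp_mk₀_assoc,
    key ((Abelian.Ext.mk₀ φ).comp x (zero_add d)), Abelian.Ext.comp_zero]

theorem le_idealDepth_iff_H {n : ℕ} :
    (n : ℕ∞) ≤ LocCoh.idealDepth I M ↔ ∀ i < n, Subsingleton (LocCoh.H I i M) := by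
  refine ⟨fun h i hi =>
    subsingleton_H_of_lt_idealDepth I M (lt_of_lt_of_le (by exact_mod_cast hi) h), fun h => ?_⟩
  by_contra hlt
  rw [not_le] at hlt
  obtain ⟨d, hd⟩ := ENat.ne_top_iff_exists.1 (ne_top_of_lt hlt)
  rw [← hd, Nat.cast_lt] at hlt
  exact not_subsingleton_iff_nontrivial.2 (nontrivial_H_idealDepth I M hd.symm) (h d hlt)

theorem idealDepth_eq_natCast_iff_H {n : ℕ} :
    LocCoh.idealDepth I M = n ↔
      (∀ i < n, Subsingleton (LocCoh.H I i M)) ∧ Nontrivial (LocCoh.H I n M) := by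
  refine ⟨fun h => ⟨(le_idealDepth_iff_H I M).1 h.ge, nontrivial_H_idealDepth I M h⟩, fun ⟨h, hn⟩ => ?_⟩
  refine le_antisymm ?_ ((le_idealDepth_iff_H I M).2 h)
  by_contra hlt
  rw [not_le] at hlt
  exact not_subsingleton_iff_nontrivial.2 hn (subsingleton_H_of_lt_idealDepth I M hlt)

end Groth.Agent.H4LC
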