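import Groth.Agent.H4LC.SupportChange
import Groth.Agent.H4LC.Depth
import Groth.Agent.H4Depth.LocDepth
import Groth.Agent.H1CAlg.Associated
import Groth.Agent.H8Props.FlatDepth
import Mathlib.RingTheory.Regular.Flat

/-!
# Uniform annihilation of local cohomology below a degree, and a bound by the depth at a prime
-/

set_option autoImplicit false
set_option linter.unusedSectionVars false

universe u

open CategoryTheory CategoryTheory.Limits Opposite IsLocalRing
open scoped TensorProduct

namespace Groth.Agent.H4LC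

variable {R : Type u} [CommRing R]

/-- A power of `b` kills `H^i_J(M)`. -/
def PowKills (b : R) (J : Ideal R) (i : ℕ) (M : Type u) [AddCommGroup M] [Module R M] : Prop :=
  ∃ k : ℕ, ∀ z : LocCoh.H J i M, b ^ k • z = 0

variable [IsNoetherianRing R] {b : R} {J : Ideal R} {i : ℕ} {M : Type u} [AddCommGroup M]
  [Module R M]

theorem PowKills.of_radical_eq (h : PowKills b J i M) {J' : Ideal R} (e : J.radical = J'.radical) :
    PowKills b J' i M := by
  obtain ⟨e⟩ := nonempty_H_equiv_of_radical_eq e M i
  obtain ⟨k, hk⟩ := h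
  exact ⟨k, fun z => e.symm.injective (by rw [map_smul, hk, map_zero])⟩

theorem exists_pow_smul_mem_range (c : R) (z : LocCoh.H J i (LocalizedModule (Submonoid.powers c) M)) :
    ∃ k : ℕ, c ^ k • z ∈ LinearMap.range ((localCohomology J i).map (locHom c M)).hom := by
  obtain ⟨E⟩ := nonempty_coker_equiv_ker (b := c) (le_sup_left : J ≤ _) rfl M i
  let w := E (Submodule.Quotient.mk z)
  obtain ⟨n, hn⟩ := isPowerTorsion_H (J ⊔ Ideal.span {c}) (i + 1) M w.1
  refine ⟨n, (Submodule.Quotient.mk_eq_zero _).1 (E.injective (Subtype.ext ?_))⟩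
  rw [Submodule.Quotient.mk_smul, map_smul, map_zero]
  exact hn _ (Ideal.pow_mem_pow (Submodule.mem_sup_right (Ideal.mem_span_singleton_self c)) n)

theorem PowKills.sup_span_succ (c : R) (h : PowKills b J i M) (h' : PowKills b J (i + 1) M) :
    PowKills b (J ⊔ Ideal.span {c}) (i + 1) M := by
  obtain ⟨k, hk⟩ := h
  obtain ⟨l, hl⟩ := h'
  obtain ⟨E⟩ := nonempty_coker_equiv_ker (b := c) (le_sup_left : J ≤ _) rfl M i
  have hM : ∀ z : LocCoh.H J i (LocalizedModule (Submonoid.powers c) M), b ^ k • z = 0 := by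
    intro z
    obtain ⟨n, y, hy⟩ := exists_pow_smul_mem_range c z
    have h0 : c ^ n • b ^ k • z = 0 := by
      rw [smul_comm, ← hy, ← map_smul, hk, map_zero]
    clear hy
    induction n with
    | zero => rwa [pow_zero, one_smul] at h0
    | succ n ih =>
      refine ih (smul_injective_H_away J c M i _ ?_)
      rw [smul_smul, ← pow_succ']
      exact h0
  refine ⟨k + l, fun z => ?_⟩
  have hker : b ^ l • z ∈ LinearMap.ker
      ((Dual2.HmapOfLE (le_sup_left : J ≤ J ⊔ Ideal.span {c}) (i + 1)).app (ModuleCat.of R M)).hom := by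
    rw [LinearMap.mem_ker, map_smul]
    exact hl _
  obtain ⟨q, hq⟩ := E.surjective ⟨_, hker⟩
  obtain ⟨w, rfl⟩ := Submodule.Quotient.mk_surjective _ q
  have h1 := congrArg (fun x => b ^ k • x) hq
  simp only [← map_smul, ← Submodule.Quotient.mk_smul, hM, Submodule.Quotient.mk_zero, map_zero] at h1
  rw [pow_add, mul_smul]
  exact (congrArg Subtype.val h1).symm

theorem powKills_le_of_fg {f : ℕ} (h : ∀ i < f, PowKills b J i M) (s : Finset R) :
    ∀ i < f, PowKills b (J ⊔ Ideal.span (s : Set R)) i M := by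
  classical
  induction s using Finset.induction with
  | empty => simpa using h
  | insert c t hc ih =>
    intro i hi
    rw [Finset.coe_insert, Ideal.span_insert, sup_comm (Ideal.span {c}), ← sup_assoc]
    cases i with
    | zero =>
      obtain ⟨k, hk⟩ := ih 0 hi
      refine ⟨k, fun z => HmapOfLE_zero_injective
        (le_sup_left : J ⊔ Ideal.span (t : Set R) ≤ _) M ?_⟩
      rw [map_smul, map_zero]
      exact hk _
    | succ j => exact (ih j (j.lt_succ_self.trans hi)).sup_span_succ c (ih (j + 1) hi)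

theorem powKills_of_le {J' : Ideal R} (hJ : J ≤ J') {f : ℕ} (h : ∀ i < f, PowKills b J i M) :
    ∀ i < f, PowKills b J' i M := by
  obtain ⟨s, hs⟩ := IsNoetherian.noetherian J'
  have := powKills_le_of_fg h s
  rwa [show Ideal.span (s : Set R) = J' from hs, sup_eq_right.2 hJ] at this

theorem powKills_localization (S : Submonoid R) (h : PowKills b J i M) :
    PowKills (algebraMap R (Localization S) b) (J.map (algebraMap R (Localization S))) i
      (LocalizedModule S M) := by
  obtain ⟨e⟩ := nonempty_localization_H J M S i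
  obtain ⟨k, hk⟩ := h
  refine ⟨k, fun z => e.symm.injective ?_⟩
  rw [map_smul, map_zero]
  induction e.symm z using LocalizedModule.induction_on with
  | h m s => rw [← map_pow, algebraMap_smul, LocalizedModule.smul'_mk, hk, LocalizedModule.zero_mk]

section Depth

/-- Depth over a local ring which is a localisation of `R` at a prime. -/
theorem depth_eq_of_isBaseChange (S : Type u) [CommRing S] [IsLocalRing S] [Algebra R S]
    (q : Ideal R) [q.IsPrime] [IsLocalization.AtPrime S q] (N : Type u) [AddCommGroup N]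
    [Module R N] [Module S N] [IsScalarTower R S N] (f : M →ₗ[R] N) (hf : IsBaseChange S f) :
    LocCoh.depth S N =
      LocCoh.depth (Localization.AtPrime q) (LocalizedModule q.primeCompl M) := by
  let e : Localization.AtPrime q ≃ₐ[R] S := IsLocalization.algEquiv q.primeCompl _ _
  let alg : Algebra (Localization.AtPrime q) S := e.toAlgHom.toRingHom.toAlgebra
  let mod : Module (Localization.AtPrime q) N := Module.compHom N e.toAlgHom.toRingHom
  have : IsScalarTower (Localization.AtPrime q) S N :=
    IsScalarTower.of_algebraMap_smul fun _ _ => rfl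
  have : IsScalarTower R (Localization.AtPrime q) N := IsScalarTower.of_algebraMap_smul fun r n => by
    change e (algebraMap R _ r) • n = r • n
    rw [e.commutes, algebraMap_smul]
  have hf' : IsLocalizedModule q.primeCompl f :=
    (isLocalizedModule_iff_isBaseChange q.primeCompl S f).2 hf
  rw [Groth.Agent.H8Props.FlatDepth.depth_eq_of_surjective (R := Localization.AtPrime q) (S := S)
    e.surjective]
  exact (Groth.Agent.H4Depth.depth_congr
    ((IsLocalizedModule.iso q.primeCompl f).extendScalarsOfIsLocalization q.primeCompl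
      (Localization.AtPrime q))).symm

variable [IsLocalRing R] [Module.Finite R M]

theorem depth_le_idealDepth_add_dim {I : Ideal R} (hI : I • (⊤ : Submodule R M) ≠ ⊤) :
    ((LocCoh.depth R M : ℕ∞) : WithBot ℕ∞) ≤
      ((LocCoh.idealDepth I M : ℕ∞) : WithBot ℕ∞) + ringKrullDim (R ⧸ I) := by
  have hne : I ≠ ⊤ := fun h => hI (by rw [h, Submodule.top_smul])
  have hIm : I ≤ maximalIdeal R := le_maximalIdeal hne
  obtain ⟨rs, -, hreg, hmem, hmax⟩ := Groth.Agent.H4Depth.exists_maximal_extension hI
    (RingTheory.Sequence.IsWeaklyRegular.nil R M) (by simp)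
  obtain ⟨P, hP, hle⟩ := Groth.Agent.H4Depth.exists_associatedPrime_ge_of_no_regular
    (M := M ⧸ Ideal.ofList rs • (⊤ : Submodule R M)) (I := I) fun x hx hx' => hmax x hx (by
      rw [RingTheory.Sequence.isWeaklyRegular_append_iff]
      exact ⟨hreg, (RingTheory.Sequence.isWeaklyRegular_cons_iff _ x []).mpr
        ⟨hx', RingTheory.Sequence.IsWeaklyRegular.nil R _⟩⟩)
  have hnt : Nontrivial M := by
    by_contra hnt
    rw [not_nontrivial_iff_subsingleton] at hnt
    exact hI (Subsingleton.elim _ _)
  have hd := Groth.Agent.H4Depth.idealDepth_quotient_ofList_add_length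
    (Groth.Agent.H4Depth.maximalIdeal_smul_top_ne_top (R := R) (M := M)) rs hreg
    fun r hr => hIm (hmem r hr)
  change _ ≤ _
  rw [← Groth.Agent.H4Depth.length_eq_idealDepth_of_maximal hI hreg hmem hmax,
    show LocCoh.depth R M = LocCoh.idealDepth (maximalIdeal R) M from rfl, ← hd, WithBot.coe_add,
    add_comm]
  gcongr
  refine (Groth.Agent.H4Depth.depth_le_ringKrullDim_quotient_of_mem_associatedPrimes hP).trans ?_
  exact ringKrullDim_le_of_surjective (Ideal.Quotient.factor hle) (Ideal.Quotient.factor_surjective hle)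

theorem depth_le_depth_localization_add_dim (P : Ideal R) [P.IsPrime]
    (hM : Nontrivial (LocalizedModule P.primeCompl M)) :
    ((LocCoh.depth R M : ℕ∞) : WithBot ℕ∞) ≤
      ((LocCoh.depth (Localization.AtPrime P) (LocalizedModule P.primeCompl M) : ℕ∞) : WithBot ℕ∞) +
        ringKrullDim (R ⧸ P) := by
  have : Nontrivial M := by
    by_contra hnt
    rw [not_nontrivial_iff_subsingleton] at hnt
    exact not_subsingleton_iff_nontrivial.2 hM (LocalizedModule.subsingleton_iff.2 fun m =>
      ⟨1, P.primeCompl.one_mem, Subsingleton.elim _ _⟩)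
  refine (depth_le_idealDepth_add_dim (I := P) ?_).trans ?_
  · exact ne_top_of_le_ne_top (Groth.Agent.H4Depth.maximalIdeal_smul_top_ne_top (R := R) (M := M))
      (Submodule.smul_mono_left (le_maximalIdeal (Ideal.IsPrime.ne_top ‹_›)))
  · gcongr
    exact_mod_cast Groth.Agent.H4Depth.idealDepth_le_depth_localization P le_rfl

end Depth

theorem ringKrullDim_localization_quotient_le_height {p q : Ideal R} [p.IsPrime] [q.IsPrime]
    (hpq : p ≤ q) :
    ringKrullDim (Localization.AtPrime q ⧸ p.map (algebraMap R (Localization.AtPrime q))) ≤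
      ((q.map (Ideal.Quotient.mk p)).height : WithBot ℕ∞) := by
  let A := Localization.AtPrime q
  let P := p.map (algebraMap R A)
  let φ : R →+* A ⧸ P := (Ideal.Quotient.mk P).comp (algebraMap R A)
  have hker : ∀ a ∈ p, φ a = 0 := fun a ha =>
    Ideal.Quotient.eq_zero_iff_mem.2 (Ideal.mem_map_of_mem _ ha)
  let ψ : R ⧸ p →+* A ⧸ P := Ideal.Quotient.lift p φ hker
  have hmap : (q.map (Ideal.Quotient.mk p)).IsPrime :=
    Ideal.map_isPrime_of_surjective Ideal.Quotient.mk_surjective (by rw [Ideal.mk_ker]; exact hpq)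
  let F : PrimeSpectrum (A ⧸ P) → {x : PrimeSpectrum (R ⧸ p) // x ≤ ⟨_, hmap⟩} := fun x =>
    ⟨PrimeSpectrum.comap ψ x, by
      rintro r hr
      obtain ⟨r, rfl⟩ := Ideal.Quotient.mk_surjective r
      refine Ideal.mem_map_of_mem _ ?_
      have h1 : algebraMap R A r ∈ x.asIdeal.comap (Ideal.Quotient.mk P) := hr
      by_contra hrq
      exact (x.2.comap (Ideal.Quotient.mk P)).ne_top
        (Ideal.eq_top_of_isUnit_mem _ h1 (IsLocalization.map_units A (⟨r, hrq⟩ : q.primeCompl)))⟩
  have hF : StrictMono F := by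
    refine Monotone.strictMono_of_injective (fun x y hxy => Ideal.comap_mono hxy) fun x y hxy => ?_
    have h := congrArg (fun z => (z.1.asIdeal).comap (Ideal.Quotient.mk p)) hxy
    simp only [F, PrimeSpectrum.comap_asIdeal, Ideal.comap_comap, ψ, φ] at h
    rw [Ideal.Quotient.lift_comp_mk, ← Ideal.comap_comap, ← Ideal.comap_comap] at h
    have := IsLocalization.map_under q.primeCompl A (x.asIdeal.comap (Ideal.Quotient.mk P))
    have hy := IsLocalization.map_under q.primeCompl A (y.asIdeal.comap (Ideal.Quotient.mk P))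
    rw [Ideal.under_def] at this hy
    rw [h, hy] at this
    exact PrimeSpectrum.ext (Ideal.comap_injective_of_surjective _ Ideal.Quotient.mk_surjective this.symm)
  refine (Order.krullDim_le_of_strictMono F hF).trans (le_of_eq ?_)
  exact (Order.height_eq_krullDim_Iic (⟨_, hmap⟩ : PrimeSpectrum (R ⧸ p))).symm.trans
    (congrArg _ (PrimeSpectrum.height_eq_orderHeight ⟨_, hmap⟩).symm)

/-- In a local ring, a prime other than the maximal ideal lies below a prime covered by the maximal
ideal which avoids a given element. -/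
theorem exists_covered_prime_notMem [IsLocalRing R] {p : Ideal R} [p.IsPrime] {b : R}
    (hbp : b ∉ p) (hbm : b ∈ maximalIdeal R) :
    ∃ q : Ideal R, q.IsPrime ∧ p ≤ q ∧ b ∉ q ∧
      ∀ Q : Ideal R, Q.IsPrime → q < Q → Q = maximalIdeal R := by
  obtain ⟨q, ⟨hq, hpq, hbq⟩, hmax⟩ := set_has_maximal_iff_noetherian.2 ‹IsNoetherianRing R›
    {q : Ideal R | q.IsPrime ∧ p ≤ q ∧ b ∉ q} ⟨p, ‹_›, le_rfl, hbp⟩
  refine ⟨q, hq, hpq, hbq, fun Q hQ hlt => by_contra fun hne => ?_⟩
  have hbQ : ∀ Q' : Ideal R, Q'.IsPrime → q < Q' → b ∈ Q' := fun Q' hQ' h' => by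
    by_contra hb
    exact hmax Q' ⟨hQ', hpq.trans h'.le, hb⟩ h'
  let B := R ⧸ q
  let π := Ideal.Quotient.mk q
  have hb0 : π b ≠ 0 := fun h => hbq (Ideal.Quotient.eq_zero_iff_mem.1 h)
  have hfin := Ideal.finite_minimalPrimes_of_isNoetherianRing B (Ideal.span {π b})
  have : IsLocalRing B := IsLocalRing.of_surjective' π Ideal.Quotient.mk_surjective
  have hmQ : ¬ (maximalIdeal B : Set B) ⊆ ⋃ P ∈ (Ideal.span {π b}).minimalPrimes, (P : Set B) := by
    intro hsub
    obtain ⟨P, hP, hle⟩ := (Ideal.subset_union_prime_finite hfin ⊥ ⊥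
      fun P hP _ _ => hP.1.1).1 hsub
    have h1 : P.height ≤ 1 := Ideal.height_le_one_of_isPrincipal_of_mem_minimalPrimes _ P hP
    have hmap : (Q.map π).IsPrime :=
      Ideal.map_isPrime_of_surjective Ideal.Quotient.mk_surjective (by rw [Ideal.mk_ker]; exact hlt.le)
    have hne0 : ⊥ < Q.map π := bot_lt_iff_ne_bot.2 fun h => hlt.not_ge fun x hx =>
      Ideal.Quotient.eq_zero_iff_mem.1 ((Submodule.eq_bot_iff _).1 h _ (Ideal.mem_map_of_mem π hx))
    have hlt2 : Q.map π < P := by
      refine lt_of_lt_of_le (lt_of_le_of_ne (le_maximalIdeal hmap.ne_top) fun h => hne ?_) hle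
      have := congrArg (Ideal.comap π) h
      rw [Ideal.comap_map_of_surjective _ Ideal.Quotient.mk_surjective, ← RingHom.ker_eq_comap_bot,
        Ideal.mk_ker, sup_eq_left.2 hlt.le] at this
      rw [this]
      exact have := IsLocalHom.of_surjective π Ideal.Quotient.mk_surjective; IsLocalRing.maximalIdeal_comap π
    have := hP.1.1
    have h2 : (Q.map π).height < 1 :=
      (Ideal.height_strict_mono_of_isPrime hlt2).trans_le h1
    have h3 : (⊥ : Ideal B).height < (Q.map π).height :=
      Ideal.height_strict_mono_of_isPrime hne0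
    rw [Order.lt_one_iff] at h2
    rw [h2] at h3
    exact not_lt_zero h3
  obtain ⟨x, hxm, hx⟩ := Set.not_subset.1 hmQ
  simp only [Set.mem_iUnion, not_exists] at hx
  have hxtop : Ideal.span {x} ≠ ⊤ :=
    ne_top_of_le_ne_top (maximalIdeal.isMaximal B).ne_top ((Ideal.span_singleton_le_iff_mem _).2 hxm)
  obtain ⟨m', hm', hle'⟩ := Ideal.exists_le_maximal _ hxtop
  obtain ⟨P', hP', -⟩ := Ideal.exists_minimalPrimes_le hle'
  have := hP'.1.1
  have hxP : x ∈ P' := hP'.1.2 (Ideal.mem_span_singleton_self x)
  have h1 : P'.height ≤ 1 := Ideal.height_le_one_of_isPrincipal_of_mem_minimalPrimes _ P' hP'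
  have hbP : π b ∈ P' := by
    have hcomap : q < P'.comap π := by
      refine lt_of_le_of_ne (fun a ha => ?_) fun h => ?_
      · rw [Ideal.mem_comap, show π a = 0 from Ideal.Quotient.eq_zero_iff_mem.2 ha]
        exact P'.zero_mem
      · have hx0 : x = 0 := by
          obtain ⟨a, rfl⟩ := Ideal.Quotient.mk_surjective x
          exact Ideal.Quotient.eq_zero_iff_mem.2 (h ▸ hxP)
        obtain ⟨P, hP, -⟩ := Ideal.exists_minimalPrimes_le
          (show Ideal.span {π b} ≤ maximalIdeal B from (Ideal.span_singleton_le_iff_mem _).2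
            (IsLocalRing.map_maximalIdeal_of_surjective π Ideal.Quotient.mk_surjective ▸
              Ideal.mem_map_of_mem π hbm))
        exact hx P hP (hx0 ▸ P.zero_mem)
    exact hbQ _ (hP'.1.1.comap π) hcomap
  obtain ⟨P, hP, hPle⟩ := Ideal.exists_minimalPrimes_le
    ((Ideal.span_singleton_le_iff_mem _).2 hbP)
  rcases hPle.eq_or_lt with rfl | hlt'
  · exact hx P hP hxP
  · have := hP.1.1
    have hP0 : ⊥ < P := bot_lt_iff_ne_bot.2 fun h =>
      hb0 ((Submodule.eq_bot_iff _).1 h _ (hP.1.2 (Ideal.mem_span_singleton_self _)))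
    have h2 : P.height < 1 :=
      (Ideal.height_strict_mono_of_isPrime hlt').trans_le h1
    have h3 : (⊥ : Ideal B).height < P.height :=
      Ideal.height_strict_mono_of_isPrime hP0
    rw [Order.lt_one_iff] at h2
    rw [h2] at h3
    exact not_lt_zero h3

end Groth.Agent.H4LC
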