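import Groth.Agent.H4LC.Shift
import Mathlib.RingTheory.Flat.Equalizer

/-!
# Functoriality and base change for `cohQ`
-/

set_option autoImplicit false
set_option linter.unusedSectionVars false

universe u

open TensorProduct

namespace Groth.Agent.H4LC

section Proj

variable {R : Type u} [CommRing R] {A B C : Type u} [AddCommGroup A] [Module R A] [AddCommGroup B]
  [Module R B] [AddCommGroup C] [Module R C] (f : A →ₗ[R] B) (g : B →ₗ[R] C)

/-- The projection from cycles. -/
def cohπ : LinearMap.ker g →ₗ[R] cohQ f g := Submodule.mkQ _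

theorem cohπ_surjective : Function.Surjective (cohπ f g) := Submodule.mkQ_surjective _

theorem cohπ_eq_zero_iff (x : LinearMap.ker g) : cohπ f g x = 0 ↔ ∃ a, f a = x.1 :=
  Submodule.Quotient.mk_eq_zero _

end Proj

section Semilinear

variable {R S : Type u} [CommRing R] [CommRing S] {σ : R →+* S}
  {A B C : Type u} [AddCommGroup A] [Module R A] [AddCommGroup B] [Module R B] [AddCommGroup C]
  [Module R C] {A' B' C' : Type u} [AddCommGroup A'] [Module S A'] [AddCommGroup B'] [Module S B']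
  [AddCommGroup C'] [Module S C']
  {f : A →ₗ[R] B} {g : B →ₗ[R] C} {f' : A' →ₗ[S] B'} {g' : B' →ₗ[S] C'}
  (eA : A →ₛₗ[σ] A') (eB : B →ₛₗ[σ] B') (eC : C →ₛₗ[σ] C')

theorem exists_kerEquiv (hB : Function.Bijective eB) (hC : Function.Injective eC)
    (hg : ∀ b, eC (g b) = g' (eB b)) :
    ∃ φ : LinearMap.ker g ≃+ LinearMap.ker g', ∀ (r : R) x, φ (r • x) = σ r • φ x := by
  have hmem : ∀ x : LinearMap.ker g, eB x.1 ∈ LinearMap.ker g' := fun x => by
    rw [LinearMap.mem_ker, ← hg, LinearMap.mem_ker.1 x.2, map_zero]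
  let ψ : LinearMap.ker g →+ LinearMap.ker g' :=
    { toFun := fun x => ⟨eB x.1, hmem x⟩
      map_zero' := Subtype.ext (map_zero eB)
      map_add' := fun x y => Subtype.ext (map_add eB x.1 y.1) }
  refine ⟨AddEquiv.ofBijective ψ ⟨fun x y h => Subtype.ext (hB.1 (congrArg Subtype.val h)),
    fun y => ?_⟩, fun r x => Subtype.ext (map_smulₛₗ eB r x.1)⟩
  obtain ⟨b, hb⟩ := hB.2 y.1
  refine ⟨⟨b, hC ?_⟩, Subtype.ext hb⟩
  rw [hg, hb, map_zero]
  exact y.2

theorem exists_cohQEquiv (hA : Function.Surjective eA) (hB : Function.Bijective eB)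
    (hC : Function.Injective eC) (hf : ∀ a, eB (f a) = f' (eA a))
    (hg : ∀ b, eC (g b) = g' (eB b)) :
    ∃ φ : cohQ f g ≃+ cohQ f' g', ∀ (r : R) x, φ (r • x) = σ r • φ x := by
  obtain ⟨e, he⟩ : ∃ e : LinearMap.ker g →ₛₗ[σ] LinearMap.ker g',
      (∀ x, (e x).1 = eB x.1) ∧ Function.Surjective e := by
    refine ⟨{ toFun := fun x => ⟨eB x.1, by
                rw [LinearMap.mem_ker, ← hg, LinearMap.mem_ker.1 x.2, map_zero]⟩
              map_add' := fun x y => Subtype.ext (map_add eB x.1 y.1)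
              map_smul' := fun r x => Subtype.ext (map_smulₛₗ eB r x.1) },
      fun x => rfl, fun y => ?_⟩
    obtain ⟨b, hb⟩ := hB.2 y.1
    refine ⟨⟨b, hC ?_⟩, Subtype.ext hb⟩
    rw [hg, hb, map_zero]
    exact y.2
  let m := (LinearMap.range f).comap (LinearMap.ker g).subtype
  let m' := (LinearMap.range f').comap (LinearMap.ker g').subtype
  let L : cohQ f g →ₛₗ[σ] cohQ f' g' := m.liftQ (m'.mkQ.comp e) (by
    rintro x ⟨a, ha⟩
    rw [LinearMap.mem_ker, LinearMap.comp_apply, Submodule.mkQ_apply, Submodule.Quotient.mk_eq_zero]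
    refine ⟨eA a, ?_⟩
    rw [← hf, ha]
    exact (he.1 x).symm)
  have hL : Function.Bijective L := by
    refine ⟨?_, fun y => ?_⟩
    · rw [injective_iff_map_eq_zero]
      intro q hq
      obtain ⟨x, rfl⟩ := Submodule.Quotient.mk_surjective _ q
      obtain ⟨a', ha'⟩ := (Submodule.Quotient.mk_eq_zero m').1 hq
      obtain ⟨a, rfl⟩ := hA a'
      refine (Submodule.Quotient.mk_eq_zero m).2 ⟨a, hB.1 ?_⟩
      rw [hf, ha']
      exact he.1 x
    · obtain ⟨z, rfl⟩ := Submodule.Quotient.mk_surjective _ y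
      obtain ⟨x, rfl⟩ := he.2 z
      exact ⟨Submodule.Quotient.mk x, rfl⟩
  exact ⟨AddEquiv.ofBijective L.toAddMonoidHom hL, fun r x => map_smulₛₗ L r x⟩

end Semilinear

section BaseChange

variable {R : Type u} [CommRing R] (R' : Type u) [CommRing R'] [Algebra R R'] [Module.Flat R R']
  {A B C : Type u} [AddCommGroup A] [Module R A] [AddCommGroup B] [Module R B] [AddCommGroup C]
  [Module R C] {f : A →ₗ[R] B} {g : B →ₗ[R] C}

/-- `R' ⊗ ker g = ker (R' ⊗ g)`. -/
noncomputable def baseChangeKerEquiv (g : B →ₗ[R] C) :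
    R' ⊗[R] LinearMap.ker g ≃ₗ[R'] LinearMap.ker (g.baseChange R') :=
  LinearMap.tensorKerEquiv R' R' g

theorem baseChangeKerEquiv_val (g : B →ₗ[R] C) (x : R' ⊗[R] LinearMap.ker g) :
    (baseChangeKerEquiv R' g x).1 = (LinearMap.ker g).subtype.lTensor R' x :=
  LinearMap.tensorKer_coe R' R' g x

/-- Right exactness, in the shape used for cohomology. -/
theorem nonempty_baseChange_of_exact {K Q : Type u} [AddCommGroup K] [Module R K] [AddCommGroup Q]
    [Module R Q] {K' Q' : Type u} [AddCommGroup K'] [Module R' K'] [AddCommGroup Q'] [Module R' Q']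
    (c : A →ₗ[R] K) (q : K →ₗ[R] Q) (hex : Function.Exact c q) (hq : Function.Surjective q)
    (γ : R' ⊗[R] K ≃ₗ[R'] K') (q' : K' →ₗ[R'] Q') (hq' : Function.Surjective q')
    (h : ∀ y, q' y = 0 ↔ ∃ a, γ (c.baseChange R' a) = y) :
    Nonempty (R' ⊗[R] Q ≃ₗ[R'] Q') := by
  have hker : LinearMap.ker (q.baseChange R') = LinearMap.ker (q' ∘ₗ γ.toLinearMap) := by
    ext x
    have h1 : q.baseChange R' x = 0 ↔ ∃ a, c.baseChange R' a = x := lTensor_exact R' hex hq x
    simp only [LinearMap.mem_ker, LinearMap.comp_apply, LinearEquiv.coe_coe, h1, h,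
      γ.injective.eq_iff]
  exact ⟨((LinearMap.quotKerEquivOfSurjective (q.baseChange R')
    (LinearMap.lTensor_surjective R' hq)).symm.trans (Submodule.quotEquivOfEq _ _ hker)).trans
      ((q' ∘ₗ γ.toLinearMap).quotKerEquivOfSurjective (hq'.comp γ.surjective))⟩

/-- Flat base change commutes with cohomology. -/
theorem nonempty_baseChange_cohQ (hfg : g ∘ₗ f = 0) :
    Nonempty (R' ⊗[R] cohQ f g ≃ₗ[R'] cohQ (f.baseChange R') (g.baseChange R')) := by
  let c : A →ₗ[R] LinearMap.ker g := f.codRestrict _ (fun a => LinearMap.congr_fun hfg a)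
  refine nonempty_baseChange_of_exact R' (K' := LinearMap.ker (g.baseChange R'))
    (Q' := cohQ (f.baseChange R') (g.baseChange R')) c (cohπ f g) ?_ (cohπ_surjective f g)
    (baseChangeKerEquiv R' g) (cohπ (f.baseChange R') (g.baseChange R'))
    (cohπ_surjective _ _) ?_
  · intro x
    rw [cohπ_eq_zero_iff]
    exact ⟨fun ⟨a, ha⟩ => ⟨a, Subtype.ext ha⟩, fun ⟨a, ha⟩ => ⟨a, congrArg Subtype.val ha⟩⟩
  · intro y
    rw [cohπ_eq_zero_iff]
    have hval : ∀ a : R' ⊗[R] A,
        (baseChangeKerEquiv R' g (c.baseChange R' a)).1 = f.baseChange R' a := fun a => by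
      rw [baseChangeKerEquiv_val, LinearMap.baseChange_eq_ltensor, ← LinearMap.lTensor_comp_apply,
        show (LinearMap.ker g).subtype ∘ₗ c = f from rfl, LinearMap.baseChange_eq_ltensor]
    constructor
    · rintro ⟨a, ha⟩
      exact ⟨a, Subtype.ext ((hval a).trans ha)⟩
    · rintro ⟨a, rfl⟩
      exact ⟨a, (hval a).symm⟩

end BaseChange

end Groth.Agent.H4LC
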