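import Groth.Agent.H4LC.Transform
import Mathlib.RingTheory.Regular.RegularSequence

/-!
# Properties of the ideal transform
-/

set_option autoImplicit false
set_option linter.unusedSectionVars false

universe u

open CategoryTheory CategoryTheory.Limits Opposite CategoryTheory.Abelian

namespace Groth.Agent.H4LC

variable {R : Type u} [CommRing R] (I : Ideal R)

/-- The map on ideal transforms induced by a linear map. -/
noncomputable abbrev DTmap {M N : Type u} [AddCommGroup M] [Module R M] [AddCommGroup N]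
    [Module R N] (g : M →ₗ[R] N) : LocCoh.DT I M →ₗ[R] LocCoh.DT I N :=
  ((LocCoh.idealTransform I).map (ModuleCat.ofHom g)).hom

theorem DTmap_toDT {M N : Type u} [AddCommGroup M] [Module R M] [AddCommGroup N] [Module R N]
    (g : M →ₗ[R] N) (x : M) : DTmap I g (LocCoh.toDT I M x) = LocCoh.toDT I N (g x) := by
  rw [toDT_eq I M x 0, toDT_eq I N (g x) 0]
  refine (map_ιDT I (ModuleCat.ofHom g) 0 _).trans ?_
  exact congrArg _ (LinearMap.ext fun a => g.map_smul (a : R) x)

theorem DTmap_comp {L M N : Type u} [AddCommGroup L] [Module R L] [AddCommGroup M] [Module R M]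
    [AddCommGroup N] [Module R N] (f : L →ₗ[R] M) (g : M →ₗ[R] N) :
    DTmap I (g ∘ₗ f) = DTmap I g ∘ₗ DTmap I f :=
  (congrArg ModuleCat.Hom.hom ((LocCoh.idealTransform I).map_comp (ModuleCat.ofHom f)
    (ModuleCat.ofHom g))).trans rfl

variable [IsNoetherianRing R]

/-- A map from a finite module to a torsion module is killed by a power of `I`. -/
theorem exists_pow_smul_eq_zero {P N : Type u} [AddCommGroup P] [Module R P] [Module.Finite R P]
    [AddCommGroup N] [Module R N] (g : P →ₗ[R] N) (hg : ∀ p, g p ∈ DRing.torsionSub I N) :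
    ∃ k : ℕ, ∀ a ∈ I ^ k, ∀ p, a • g p = 0 := by
  classical
  obtain ⟨s, hs⟩ := Module.Finite.fg_top (R := R) (M := P)
  choose k hk using hg
  refine ⟨s.sup k, fun a ha p => ?_⟩
  have hp : p ∈ Submodule.span R (s : Set P) := hs ▸ Submodule.mem_top
  induction hp using Submodule.span_induction with
  | mem x hx => exact hk x a (Ideal.pow_le_pow_right (Finset.le_sup (Finset.mem_coe.1 hx)) ha)
  | zero => simp
  | add x y _ _ hx hy => rw [map_add, smul_add, hx, hy, add_zero]
  | smul r x _ hx => rw [map_smul, smul_comm, hx, smul_zero]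

/-- A linear map `I ^ n → M` with torsion values vanishes on a higher power. -/
theorem exists_restrict_eq_zero {n : ℕ} {M : Type u} [AddCommGroup M] [Module R M]
    (f : ↥(I ^ n : Ideal R) →ₗ[R] M) (hf : ∀ p, f p ∈ DRing.torsionSub I M) :
    ∃ m, ∃ h : n ≤ m, f ∘ₗ powIncl I h = 0 := by
  obtain ⟨k, hk⟩ := exists_pow_smul_eq_zero I f hf
  refine ⟨k + n, n.le_add_left k, LinearMap.ext fun x => ?_⟩
  obtain ⟨x, hx⟩ := x
  suffices ∀ hx' : x ∈ I ^ n, f ⟨x, hx'⟩ = 0 from this _
  have hx2 : x ∈ I ^ k * I ^ n := by rwa [← pow_add]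
  induction hx2 using Submodule.mul_induction_on' with
  | mem_mul_mem a ha b hb =>
    intro hx'
    have h2 : (⟨a * b, hx'⟩ : ↥(I ^ n : Ideal R)) = a • ⟨b, hb⟩ := Subtype.ext rfl
    rw [h2, map_smul, hk a ha]
  | add a ha b hb iha ihb =>
    intro hx'
    have hle : I ^ k * I ^ n ≤ I ^ n := Ideal.mul_le_right
    rw [show (⟨a + b, hx'⟩ : ↥(I ^ n : Ideal R)) = ⟨a, hle ha⟩ + ⟨b, hle hb⟩ from rfl, map_add,
      iha (by rwa [pow_add]) (hle ha), ihb (by rwa [pow_add]) (hle hb), add_zero]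

theorem subsingleton_DT {N : Type u} [AddCommGroup N] [Module R N]
    (hN : LocCoh.IsPowerTorsion I N) : Subsingleton (LocCoh.DT I N) := by
  refine subsingleton_of_forall_eq 0 fun z => ?_
  obtain ⟨n, f, rfl⟩ := exists_rep_DT I (ModuleCat.of R N) z
  exact (ιDT_eq_zero_iff I _ f).2 (exists_restrict_eq_zero I f fun p => hN (f p))

theorem isTorsion_of_ker {M M' : Type u} [AddCommGroup M] [Module R M] [AddCommGroup M']
    [Module R M'] {e : M →ₗ[R] M'} (hker : LinearMap.ker e ≤ DRing.torsionSub I M) :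
    LocCoh.IsPowerTorsion I (LinearMap.ker e) := fun x => by
  obtain ⟨n, hn⟩ := hker x.2
  exact ⟨n, fun a ha => Subtype.ext (hn a ha)⟩

theorem DTmap_injective {M M' : Type u} [AddCommGroup M] [Module R M] [AddCommGroup M']
    [Module R M'] (e : M →ₗ[R] M') (hker : LinearMap.ker e ≤ DRing.torsionSub I M) :
    Function.Injective (DTmap I e) := by
  rw [injective_iff_map_eq_zero]
  intro z hz
  obtain ⟨n, f, rfl⟩ := exists_rep_DT I (ModuleCat.of R M) z
  replace hz := (map_ιDT I (ModuleCat.ofHom e) n f).symm.trans hz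
  rw [ιDT_eq_zero_iff] at hz
  obtain ⟨m, hnm, hm⟩ := hz
  obtain ⟨k, hmk, hk⟩ := exists_restrict_eq_zero I (f ∘ₗ powIncl I hnm)
    (fun p => hker (LinearMap.congr_fun hm p))
  refine (ιDT_eq_zero_iff I _ f).2 ⟨k, hnm.trans hmk, LinearMap.ext fun x => ?_⟩
  exact LinearMap.congr_fun hk x

theorem DTmap_surjective_of_surjective {M M' : Type u} [AddCommGroup M] [Module R M]
    [AddCommGroup M'] [Module R M'] (e : M →ₗ[R] M') (he : Function.Surjective e)
    (hker : LinearMap.ker e ≤ DRing.torsionSub I M) :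
    Function.Surjective (DTmap I e) := by
  intro z
  obtain ⟨n, f, rfl⟩ := exists_rep_DT I (ModuleCat.of R M') z
  have hS := Groth.Agent.H4Depth.shortComplexOf_shortExact (LinearMap.ker e).subtype e
    Subtype.val_injective he (LinearMap.exact_subtype_ker_map _)
  have h0 : Subsingleton ((extColim (idealSys I) 1).obj (ModuleCat.of R (LinearMap.ker e))) := by
    have : Subsingleton ((extColim (quotSys I) 2).obj (ModuleCat.of R (LinearMap.ker e))) :=
      subsingleton_H_of_isPowerTorsion I 2 _ (isTorsion_of_ker I hker) two_pos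
    exact (shift_injective I (ModuleCat.of R (LinearMap.ker e)) 1 le_rfl).subsingleton
  let F : (idealSys I).obj (op n) ⟶ ModuleCat.of R M' := ModuleCat.ofHom f
  obtain ⟨m, hnm, hm⟩ := (ι_eq_zero_iff (idealSys I) 1 _
    ((Abelian.Ext.mk₀ F).comp hS.extClass (zero_add 1))).1 (@Subsingleton.elim _ h0 _ _)
  replace hm := (Abelian.Ext.comp_assoc (Abelian.Ext.mk₀ (tr (idealSys I) hnm))
    (Abelian.Ext.mk₀ F) hS.extClass (zero_add 0) (zero_add 1) (by omega)).trans hm
  obtain ⟨g, hg⟩ := Abelian.Ext.covariant_sequence_exact₃ _ hS _ (zero_add 1) hm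
  obtain ⟨g, rfl⟩ := (Abelian.Ext.mk₀_bijective _ _).2 g
  replace hg := (Abelian.Ext.mk₀_bijective _ _).1
    ((Abelian.Ext.mk₀_comp_mk₀ _ _).symm.trans
      (hg.trans (Abelian.Ext.mk₀_comp_mk₀ (tr (idealSys I) hnm) F)))
  refine ⟨ιDT I (ModuleCat.of R M) m g.hom, (map_ιDT I (ModuleCat.ofHom e) m _).trans ?_⟩
  rw [← ιDT_restrict I (ModuleCat.of R M') hnm f]
  exact congrArg _ (LinearMap.ext fun x => LinearMap.congr_fun (congrArg ModuleCat.Hom.hom hg) x)

theorem DTmap_surjective_of_injective {M M' : Type u} [AddCommGroup M] [Module R M]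
    [AddCommGroup M'] [Module R M'] (e : M →ₗ[R] M') (he : Function.Injective e)
    (hcoker : LocCoh.IsPowerTorsion I (M' ⧸ LinearMap.range e)) :
    Function.Surjective (DTmap I e) := by
  intro z
  obtain ⟨n, f, rfl⟩ := exists_rep_DT I (ModuleCat.of R M') z
  let q : ↥(I ^ n : Ideal R) →ₗ[R] M' ⧸ LinearMap.range e := (LinearMap.range e).mkQ ∘ₗ f
  obtain ⟨m, hnm, hm⟩ := exists_restrict_eq_zero I q (fun p => hcoker (q p))
  have hmem : ∀ x, (f ∘ₗ powIncl I hnm) x ∈ LinearMap.range e := fun x =>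
    (Submodule.Quotient.mk_eq_zero _).1 (LinearMap.congr_fun hm x)
  let g : ↥(I ^ m : Ideal R) →ₗ[R] M :=
    (LinearEquiv.ofInjective e he).symm.toLinearMap ∘ₗ (f ∘ₗ powIncl I hnm).codRestrict _ hmem
  refine ⟨ιDT I (ModuleCat.of R M) m g, (map_ιDT I (ModuleCat.ofHom e) m _).trans ?_⟩
  rw [← ιDT_restrict I (ModuleCat.of R M') hnm f]
  exact congrArg _ (LinearMap.ext fun x =>
    LinearEquiv.ofInjective_symm_apply (h := he) e _)

/-- A map with torsion kernel and cokernel induces a bijection on ideal transforms. -/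
theorem DTmap_bijective {M M' : Type u} [AddCommGroup M] [Module R M] [AddCommGroup M']
    [Module R M'] (e : M →ₗ[R] M') (hker : LinearMap.ker e ≤ DRing.torsionSub I M)
    (hcoker : LocCoh.IsPowerTorsion I (M' ⧸ LinearMap.range e)) :
    Function.Bijective (DTmap I e) := by
  refine ⟨DTmap_injective I e hker, ?_⟩
  have h : e = (LinearMap.range e).subtype ∘ₗ e.rangeRestrict := rfl
  rw [h, DTmap_comp]
  refine (DTmap_surjective_of_injective I _ Subtype.val_injective ?_).comp
    (DTmap_surjective_of_surjective I _ e.surjective_rangeRestrict ?_)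
  · rwa [Submodule.range_subtype]
  · rw [LinearMap.ker_rangeRestrict]; exact hker

variable (M : Type u) [AddCommGroup M] [Module R M]

theorem bijective_DTmap_toDT : Function.Bijective (DTmap I (LocCoh.toDT I M)) :=
  DTmap_bijective I _ (ker_toDT I M).le (isPowerTorsion_coker_toDT I M)

omit [IsNoetherianRing R] in
theorem toDT_DT_eq (z : LocCoh.DT I M) :
    LocCoh.toDT I (LocCoh.DT I M) z = DTmap I (LocCoh.toDT I M) z := by
  obtain ⟨n, f, rfl⟩ := exists_rep_DT I (ModuleCat.of R M) z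
  refine (toDT_eq I _ _ n).trans (Eq.trans ?_ (map_ιDT I (ModuleCat.ofHom (LocCoh.toDT I M)) n f).symm)
  exact congrArg _ (LinearMap.ext fun a => smul_eq_toDT I M n f a a.2)

theorem bijective_toDT_DT : Function.Bijective (LocCoh.toDT I (LocCoh.DT I M)) := by
  rw [show (⇑(LocCoh.toDT I (LocCoh.DT I M))) = ⇑(DTmap I (LocCoh.toDT I M)) from
    funext (toDT_DT_eq I M)]
  exact bijective_DTmap_toDT I M

theorem torsionSub_DT_eq_bot : DRing.torsionSub I (LocCoh.DT I M) = ⊥ := by
  rw [← ker_toDT, LinearMap.ker_eq_bot]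
  exact (bijective_toDT_DT I M).1

theorem subsingleton_H_one_DT : Subsingleton (LocCoh.H I 1 (LocCoh.DT I M)) := by
  have h : LinearMap.range (LocCoh.toDT I (LocCoh.DT I M)) = ⊤ :=
    LinearMap.range_eq_top.2 (bijective_toDT_DT I M).2
  have := (Submodule.Quotient.subsingleton_iff).2 h
  exact (cokerToDTEquiv I (LocCoh.DT I M)).symm.subsingleton

/-- Linear maps into a torsion-free module that agree after composing with a map with torsion
cokernel are equal. -/
theorem eq_of_comp_eq {M' K : Type u} [AddCommGroup M'] [Module R M'] [AddCommGroup K] [Module R K]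
    {e : M →ₗ[R] M'} (hcoker : LocCoh.IsPowerTorsion I (M' ⧸ LinearMap.range e))
    (hK : DRing.torsionSub I K = ⊥) {φ ψ : M' →ₗ[R] K} (h : φ ∘ₗ e = ψ ∘ₗ e) : φ = ψ := by
  refine LinearMap.ext fun x => ?_
  obtain ⟨n, hn⟩ := hcoker ((LinearMap.range e).mkQ x)
  have hx : φ x - ψ x ∈ DRing.torsionSub I K := by
    refine ⟨n, fun a ha => ?_⟩
    have h0 : a • x ∈ LinearMap.range e :=
      (Submodule.Quotient.mk_eq_zero _).1 (hn a ha)
    obtain ⟨y, hy⟩ := h0
    rw [smul_sub, ← map_smul, ← map_smul, ← hy, sub_eq_zero]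
    exact LinearMap.congr_fun h y
  rwa [hK, Submodule.mem_bot, sub_eq_zero] at hx

theorem existsUnique_factor {M' K : Type u} [AddCommGroup M'] [Module R M'] [AddCommGroup K]
    [Module R K] (e : M →ₗ[R] M') (hker : LinearMap.ker e ≤ DRing.torsionSub I M)
    (hcoker : LocCoh.IsPowerTorsion I (M' ⧸ LinearMap.range e)) (ψ : M →ₗ[R] K) :
    ∃! ψ' : M' →ₗ[R] LocCoh.DT I K, ψ' ∘ₗ e = LocCoh.toDT I K ∘ₗ ψ := by
  let E := LinearEquiv.ofBijective (DTmap I e) (DTmap_bijective I e hker hcoker)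
  refine ⟨DTmap I ψ ∘ₗ E.symm.toLinearMap ∘ₗ LocCoh.toDT I M', ?_, fun φ hφ => ?_⟩
  · refine LinearMap.ext fun x => ?_
    change DTmap I ψ (E.symm (LocCoh.toDT I M' (e x))) = LocCoh.toDT I K (ψ x)
    rw [show E.symm (LocCoh.toDT I M' (e x)) = LocCoh.toDT I M x from
      E.injective (by rw [E.apply_symm_apply]; exact (DTmap_toDT I e x).symm), DTmap_toDT]
  · refine eq_of_comp_eq I M hcoker (torsionSub_DT_eq_bot I K) (hφ.trans ?_)
    refine (LinearMap.ext fun x => ?_).symm
    change DTmap I ψ (E.symm (LocCoh.toDT I M' (e x))) = LocCoh.toDT I K (ψ x)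
    rw [show E.symm (LocCoh.toDT I M' (e x)) = LocCoh.toDT I M x from
      E.injective (by rw [E.apply_symm_apply]; exact (DTmap_toDT I e x).symm), DTmap_toDT]

end Groth.Agent.H4LC
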