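import Groth.Agent.H4LC.Acyclic
import Groth.Agent.H4LC.CohQ
import Groth.Agent.H4LC.Transform2

/-!
# Independence of the base ring
-/

set_option autoImplicit false
set_option linter.unusedSectionVars false
set_option linter.style.haveILetI false
set_option linter.unusedVariables false

universe u

open CategoryTheory

namespace Groth.Agent.H4LC

section Torsion

variable {R R' : Type u} [CommRing R] [CommRing R'] [Algebra R R'] {X : Type u} [AddCommGroup X]
  [Module R' X] [Module R X] [IsScalarTower R R' X]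

theorem mem_torsionSub_map_iff (I : Ideal R) (x : X) :
    x ∈ DRing.torsionSub (I.map (algebraMap R R')) X ↔ x ∈ DRing.torsionSub I X := by
  constructor
  · rintro ⟨n, hn⟩
    refine ⟨n, fun a ha => ?_⟩
    rw [← algebraMap_smul R' a x]
    exact hn _ (by rw [← Ideal.map_pow]; exact Ideal.mem_map_of_mem _ ha)
  · rintro ⟨n, hn⟩
    refine ⟨n, fun b hb => ?_⟩
    rw [← Ideal.map_pow, Ideal.map] at hb
    induction hb using Submodule.span_induction with
    | mem y hy =>
      obtain ⟨a, ha, rfl⟩ := hy
      rw [algebraMap_smul, hn a ha]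
    | zero => exact zero_smul _ _
    | add y z _ _ hy hz => rw [add_smul, hy, hz, add_zero]
    | smul r y _ hy => rw [smul_eq_mul, mul_smul, hy, smul_zero]

/-- The identity as a semilinear map. -/
def idSemilinear : X →ₛₗ[algebraMap R R'] X where
  toFun x := x
  map_add' _ _ := rfl
  map_smul' r x := (algebraMap_smul R' r x).symm

variable (I : Ideal R)

/-- `Γ_I = Γ_{IR'}` as a semilinear map. -/
def torsionSemilinear :
    DRing.torsionSub I X →ₛₗ[algebraMap R R'] DRing.torsionSub (I.map (algebraMap R R')) X where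
  toFun x := ⟨x.1, (mem_torsionSub_map_iff I x.1).2 x.2⟩
  map_add' _ _ := rfl
  map_smul' r x := Subtype.ext (algebraMap_smul R' r x.1).symm

theorem torsionSemilinear_bijective :
    Function.Bijective (torsionSemilinear (R' := R') (X := X) I) :=
  ⟨fun x y h => Subtype.ext (congrArg (fun z : DRing.torsionSub (I.map (algebraMap R R')) X => z.1) h),
    fun y => ⟨⟨y.1, (mem_torsionSub_map_iff I y.1).1 y.2⟩, rfl⟩⟩

end Torsion

variable {R : Type u} [CommRing R] [IsNoetherianRing R] (R' : Type u) [CommRing R']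
  [IsNoetherianRing R'] [Algebra R R'] (I : Ideal R) (M : Type u) [AddCommGroup M] [Module R' M]
  [Module R M] [IsScalarTower R R' M]

/-- `H^i_{IR'}(M) ≅ H^i_I(M)`. -/
theorem exists_H_map_equiv (i : ℕ) :
    ∃ φ : LocCoh.H (I.map (algebraMap R R')) i M ≃+ LocCoh.H I i M,
      ∀ (r : R) (x : LocCoh.H (I.map (algebraMap R R')) i M),
        φ (algebraMap R R' r • x) = r • φ x := by
  let J := injectiveResolution (ModuleCat.of R' M)
  letI hmod : ∀ n, Module R (resX M J n) := fun n =>
    Module.compHom (resX M J n) (algebraMap R R')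
  haveI htower : ∀ n, IsScalarTower R R' (resX M J n) := fun n =>
    IsScalarTower.of_algebraMap_smul fun _ _ => rfl
  let d : ∀ n, resX M J n →ₗ[R] resX M J (n + 1) := fun n => (resD M J n).restrictScalars R
  have hex : ∀ n, Function.Exact (d n) (d (n + 1)) := fun n => exact_resD M J n
  have hacy : ∀ n k, Subsingleton (LocCoh.H I (k + 1) (resX M J n)) := fun n k => by
    have := injective_resX M J n
    exact subsingleton_H_restrict_injective R' I _ (k + 1) k.succ_pos
  let e : M ≃ₗ[R] LinearMap.ker (d 0) :=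
    { toFun := fun x => ⟨(augEquiv M J x).1, (augEquiv M J x).2⟩
      map_add' := fun x y => Subtype.ext (congrArg Subtype.val (map_add (augEquiv M J) x y))
      map_smul' := fun r x => Subtype.ext ((congrArg Subtype.val
        ((congrArg (augEquiv M J) (algebraMap_smul R' r x).symm).trans
          (map_smul (augEquiv M J) (algebraMap R R' r) x))).trans (algebraMap_smul R' r _))
      invFun := fun y => (augEquiv M J).symm ⟨y.1, y.2⟩
      left_inv := fun x => (augEquiv M J).symm_apply_apply x
      right_inv := fun y => Subtype.ext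
        (congrArg Subtype.val ((augEquiv M J).apply_symm_apply ⟨y.1, y.2⟩)) }
  have eH : ∀ k, LocCoh.H I k M ≃ₗ[R] LocCoh.H I k (LinearMap.ker (d 0)) := fun k =>
    ((localCohomology I k).mapIso e.toModuleIso).toLinearEquiv
  obtain ⟨h0, hsucc⟩ := nonempty_H_equiv_resolution (I.map (algebraMap R R')) M J
  cases i with
  | zero =>
    obtain ⟨e'⟩ := h0
    obtain ⟨g⟩ := nonempty_H_zero_equiv I (resX M J) d 0
    obtain ⟨ψ, hψ⟩ := exists_kerEquiv (σ := algebraMap R R')
      (g := Γmap I (d 0)) (g' := Γmap (I.map (algebraMap R R')) (resD M J 0))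
      (torsionSemilinear I) (torsionSemilinear I) (torsionSemilinear_bijective I)
      (torsionSemilinear_bijective I).1 (fun _ => rfl)
    refine ⟨(e'.toAddEquiv.trans ψ.symm).trans ((eH 0).trans g).symm.toAddEquiv, fun r x => ?_⟩
    change ((eH 0).trans g).symm (ψ.symm (e' (algebraMap R R' r • x))) =
      r • ((eH 0).trans g).symm (ψ.symm (e' x))
    rw [map_smul e', show ψ.symm (algebraMap R R' r • e' x) = r • ψ.symm (e' x) from
      ψ.injective (by rw [hψ, ψ.apply_symm_apply, ψ.apply_symm_apply]), map_smul]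
  | succ n =>
    obtain ⟨e'⟩ := hsucc n
    obtain ⟨g⟩ := nonempty_H_succ_equiv I (resX M J) d hex hacy n
    obtain ⟨ψ, hψ⟩ := exists_cohQEquiv (σ := algebraMap R R')
      (f := Γmap I (d n)) (g := Γmap I (d (n + 1)))
      (f' := Γmap (I.map (algebraMap R R')) (resD M J n))
      (g' := Γmap (I.map (algebraMap R R')) (resD M J (n + 1)))
      (torsionSemilinear I) (torsionSemilinear I) (torsionSemilinear I)
      (torsionSemilinear_bijective I).2 (torsionSemilinear_bijective I)
      (torsionSemilinear_bijective I).1 (fun _ => rfl) (fun _ => rfl)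
    refine ⟨(e'.toAddEquiv.trans ψ.symm).trans ((eH (n + 1)).trans g).symm.toAddEquiv,
      fun r x => ?_⟩
    change ((eH (n + 1)).trans g).symm (ψ.symm (e' (algebraMap R R' r • x))) =
      r • ((eH (n + 1)).trans g).symm (ψ.symm (e' x))
    rw [map_smul e', show ψ.symm (algebraMap R R' r • e' x) = r • ψ.symm (e' x) from
      ψ.injective (by rw [hψ, ψ.apply_symm_apply, ψ.apply_symm_apply]), map_smul]

theorem subsingleton_H_map_iff (i : ℕ) :
    Subsingleton (LocCoh.H (I.map (algebraMap R R')) i M) ↔ Subsingleton (LocCoh.H I i M) := by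
  obtain ⟨φ, -⟩ := exists_H_map_equiv R' I M i
  exact φ.toEquiv.subsingleton_congr

/-- `D_{IR'}(M) ≅ D_I(M)`. -/
theorem exists_DT_map_equiv :
    ∃ ε : LocCoh.DT (I.map (algebraMap R R')) M ≃+ LocCoh.DT I M,
      (∀ (r : R) (x : LocCoh.DT (I.map (algebraMap R R')) M),
        ε (algebraMap R R' r • x) = r • ε x) ∧
      ∀ m : M, ε (LocCoh.toDT (I.map (algebraMap R R')) M m) = LocCoh.toDT I M m := by
  let Y := LocCoh.DT (I.map (algebraMap R R')) M
  letI : Module R Y := Module.compHom Y (algebraMap R R')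
  haveI : IsScalarTower R R' Y := IsScalarTower.of_algebraMap_smul fun _ _ => rfl
  let e : M →ₗ[R] Y := (LocCoh.toDT (I.map (algebraMap R R')) M).restrictScalars R
  have hker : LinearMap.ker e ≤ DRing.torsionSub I M := fun m hm =>
    (mem_torsionSub_map_iff (R' := R') I m).1 ((ker_toDT (I.map (algebraMap R R')) M).le hm)
  have hcoker : LocCoh.IsPowerTorsion I (Y ⧸ LinearMap.range e) := by
    intro x
    obtain ⟨y, rfl⟩ := Submodule.Quotient.mk_surjective _ x
    obtain ⟨n, hn⟩ := isPowerTorsion_coker_toDT (I.map (algebraMap R R')) M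
      (Submodule.Quotient.mk y)
    refine ⟨n, fun a ha => ?_⟩
    have h1 := hn (algebraMap R R' a) (by rw [← Ideal.map_pow]; exact Ideal.mem_map_of_mem _ ha)
    rw [← Submodule.Quotient.mk_smul, Submodule.Quotient.mk_eq_zero] at h1
    obtain ⟨w, hw⟩ := h1
    rw [← Submodule.Quotient.mk_smul, Submodule.Quotient.mk_eq_zero]
    exact ⟨w, hw⟩
  have hY : Function.Bijective (LocCoh.toDT I Y) := by
    constructor
    · rw [← LinearMap.ker_eq_bot, ker_toDT, eq_bot_iff]
      intro y hy
      have h1 := (mem_torsionSub_map_iff (R' := R') I y).2 hy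
      rwa [torsionSub_DT_eq_bot, Submodule.mem_bot] at h1
    · rw [← LinearMap.range_eq_top, ← Submodule.Quotient.subsingleton_iff]
      have : Subsingleton (LocCoh.H I 1 Y) :=
        (subsingleton_H_map_iff R' I Y 1).1 (subsingleton_H_one_DT (I.map (algebraMap R R')) M)
      exact (cokerToDTEquiv I Y).subsingleton
  let E₁ : Y ≃ₗ[R] LocCoh.DT I Y := LinearEquiv.ofBijective _ hY
  let E₂ : LocCoh.DT I M ≃ₗ[R] LocCoh.DT I Y :=
    LinearEquiv.ofBijective _ (DTmap_bijective I e hker hcoker)
  refine ⟨(E₁.trans E₂.symm).toAddEquiv, fun r x => ?_, fun m => ?_⟩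
  · exact map_smul (E₁.trans E₂.symm) r x
  · refine E₂.injective ?_
    change E₂ (E₂.symm (E₁ (e m))) = _
    rw [E₂.apply_symm_apply]
    exact (DTmap_toDT I e m).symm

end Groth.Agent.H4LC
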