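import Mathlib.CategoryTheory.Abelian.Ext
import Mathlib.CategoryTheory.Abelian.Projective.Ext
import Mathlib.Algebra.Category.ModuleCat.Ext.Basic
import Mathlib.Algebra.Category.ModuleCat.Projective
import Mathlib.Algebra.Homology.Opposite
import Mathlib.Algebra.Homology.ConcreteCategory

/-!
# Comparison of the left-derived `Ext` functor with `Abelian.Ext` for modules
-/

universe u

open CategoryTheory CategoryTheory.Limits Opposite

namespace Groth.Agent.H4LC

theorem square_inv {C : Type*} [Category C] {A B A' B' : C} (uL : A ≅ B) (uK : A' ≅ B')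
    (f : A ⟶ A') (g : B ⟶ B') (h : f ≫ uK.hom = uL.hom ≫ g) :
    uL.inv ≫ f = g ≫ uK.inv := by
  rw [Iso.inv_comp_eq, ← Category.assoc, Iso.eq_comp_inv, h]

theorem square_paste {C : Type*} [Category C] {A A' M M' B B' : C} {f : A ⟶ A'} {a : A ⟶ M}
    {a' : A' ⟶ M'} {m : M ⟶ M'} {u : M ⟶ B} {u' : M' ⟶ B'} {h : B ⟶ B'}
    (sq1 : f ≫ a' = a ≫ m) (sq2 : u ≫ h = m ≫ u') : f ≫ a' ≫ u' = (a ≫ u) ≫ h := by
  rw [Category.assoc, sq2, ← Category.assoc, sq1, Category.assoc]

theorem homologyUnop_hom_naturality {V : Type*} [Category V] [Abelian V] {ι : Type*}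
    {c : ComplexShape ι} {K L : HomologicalComplex Vᵒᵖ c} (φ : K ⟶ L) (i : ι) :
    HomologicalComplex.homologyMap ((HomologicalComplex.unopFunctor V c).map φ.op) i ≫
        (K.homologyUnop i).hom =
      (L.homologyUnop i).hom ≫ (HomologicalComplex.homologyMap φ i).unop := by
  apply Quiver.Hom.op_inj
  exact (HomologicalComplex.homologyOp_hom_naturality
    ((HomologicalComplex.unopFunctor V c).map φ.op) i).symm

theorem homologyUnop_inv_naturality {V : Type*} [Category V] [Abelian V] {ι : Type*}
    {c : ComplexShape ι} {K L : HomologicalComplex Vᵒᵖ c} (φ : K ⟶ L) (i : ι) :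
    (L.homologyUnop i).inv ≫
        HomologicalComplex.homologyMap ((HomologicalComplex.unopFunctor V c).map φ.op) i =
      (HomologicalComplex.homologyMap φ i).unop ≫ (K.homologyUnop i).inv := by
  exact square_inv _ _ _ _ (homologyUnop_hom_naturality φ i)

variable {R : Type u} [CommRing R]

/-- The `Hom` complex of a projective resolution into a module. -/
noncomputable abbrev homCx {X : ModuleCat.{u} R} (P : ProjectiveResolution X) (Y : ModuleCat.{u} R) :
    CochainComplex (ModuleCat.{u} R) ℕ :=
  P.complex.linearYonedaObj R Y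

/-- Precomposition with a lift, as a map of `Hom` complexes. -/
noncomputable def preMap {X X' : ModuleCat.{u} R} {P : ProjectiveResolution X}
    {P' : ProjectiveResolution X'} {g : X' ⟶ X} (φ : ProjectiveResolution.Hom P' P g)
    (Y : ModuleCat.{u} R) : homCx P Y ⟶ homCx P' Y :=
  (HomologicalComplex.unopFunctor _ _).map
    ((((linearYoneda R (ModuleCat.{u} R)).obj Y).rightOp.mapHomologicalComplex _).map φ.hom).op

/-- Postcomposition, as a map of `Hom` complexes. -/
noncomputable def postMap {X : ModuleCat.{u} R} (P : ProjectiveResolution X)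
    {Y Y' : ModuleCat.{u} R} (g : Y ⟶ Y') : homCx P Y ⟶ homCx P Y' :=
  (HomologicalComplex.unopFunctor _ _).map
    ((NatTrans.mapHomologicalComplex
      (NatTrans.rightOp ((linearYoneda R (ModuleCat.{u} R)).map g)) _).app P.complex).op

theorem isoExt_naturality_left {X X' : ModuleCat.{u} R} (g : X' ⟶ X)
    (P : ProjectiveResolution X) (P' : ProjectiveResolution X')
    (φ : ProjectiveResolution.Hom P' P g) (n : ℕ) (Y : ModuleCat.{u} R) :
    ((Ext R (ModuleCat.{u} R) n).map g.op).app Y ≫ (P'.isoExt n Y).hom =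
      (P.isoExt n Y).hom ≫ HomologicalComplex.homologyMap (preMap φ Y) n := by
  refine square_paste ?_ (homologyUnop_inv_naturality _ n)
  apply Quiver.Hom.op_inj
  exact ProjectiveResolution.isoLeftDerivedObj_inv_naturality g P' P φ.hom
    φ.hom_f_zero_comp_π_f_zero ((linearYoneda R (ModuleCat.{u} R)).obj Y).rightOp n

theorem isoExt_naturality_right {X : ModuleCat.{u} R} (P : ProjectiveResolution X)
    {Y Y' : ModuleCat.{u} R} (g : Y ⟶ Y') (n : ℕ) :
    ((Ext R (ModuleCat.{u} R) n).obj (op X)).map g ≫ (P.isoExt n Y').hom =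
      (P.isoExt n Y).hom ≫ HomologicalComplex.homologyMap (postMap P g) n := by
  refine square_paste ?_ (homologyUnop_inv_naturality _ n)
  apply Quiver.Hom.op_inj
  have : ((linearYoneda R (ModuleCat.{u} R)).obj Y).Additive := inferInstance
  have h := ProjectiveResolution.leftDerived_app_eq
    (F := ((linearYoneda R (ModuleCat.{u} R)).obj Y').rightOp)
    (G := ((linearYoneda R (ModuleCat.{u} R)).obj Y).rightOp)
    (NatTrans.rightOp ((linearYoneda R (ModuleCat.{u} R)).map g)) P n
  exact (Iso.inv_comp_eq _).2 h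

section Comparison

variable {X : ModuleCat.{u} R} (P : ProjectiveResolution X) {Y : ModuleCat.{u} R} {n : ℕ}

theorem homCx_d_apply (i j : ℕ) (f : P.complex.X i ⟶ Y) :
    ((homCx P Y).d i j).hom f = P.complex.d j i ≫ f := by
  rw [ChainComplex.linearYonedaObj_d]
  rfl

/-- A cocycle of the `Hom` complex, as a morphism. -/
noncomputable def cocycleHom (z : (homCx P Y).cycles n) : P.complex.X n ⟶ Y :=
  ((homCx P Y).iCycles n).hom z

theorem d_comp_cocycleHom (z : (homCx P Y).cycles n) :
    P.complex.d (n + 1) n ≫ cocycleHom P z = 0 := by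
  rw [← homCx_d_apply, cocycleHom, ← ModuleCat.comp_apply, HomologicalComplex.iCycles_d]
  rfl

theorem extMk_congr {f g : P.complex.X n ⟶ Y} (h : f = g) (hf : P.complex.d (n + 1) n ≫ f = 0) :
    P.extMk f (n + 1) rfl hf = P.extMk g (n + 1) rfl (h ▸ hf) := by
  subst h; rfl

theorem smul_extMk (r : R) (f : P.complex.X n ⟶ Y) (hf : P.complex.d (n + 1) n ≫ f = 0) :
    r • P.extMk f (n + 1) rfl hf =
      P.extMk (r • f) (n + 1) rfl (by rw [Linear.comp_smul, hf, smul_zero]) := by
  rw [Abelian.Ext.smul_eq_comp_mk₀, ProjectiveResolution.extMk_comp_mk₀]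
  exact extMk_congr P (by rw [Linear.comp_smul, Category.comp_id]) _

/-- The Ext class of a cocycle. -/
noncomputable def cyclesToExt :
    (homCx P Y).cycles n ⟶ ModuleCat.of R (Abelian.Ext X Y n) :=
  ModuleCat.ofHom
    { toFun := fun z => P.extMk (cocycleHom P z) (n + 1) rfl (d_comp_cocycleHom P z)
      map_add' := fun z w => by
        rw [ProjectiveResolution.add_extMk]
        exact extMk_congr P (map_add _ z w) _
      map_smul' := fun r z => by
        rw [RingHom.id_apply, smul_extMk]
        exact extMk_congr P (map_smul _ r z) _ }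

theorem extMk_zero_degree_eq_zero_iff (f : P.complex.X 0 ⟶ Y)
    (hf : P.complex.d 1 0 ≫ f = 0) : P.extMk f 1 rfl hf = 0 ↔ f = 0 := by
  constructor
  · intro h
    rw [← P.extEquivCohomologyClass.apply_eq_iff_eq, ProjectiveResolution.extEquivCohomologyClass_extMk,
      ProjectiveResolution.extEquivCohomologyClass_zero,
      CochainComplex.HomComplex.CohomologyClass.mk_eq_zero_iff,
      CochainComplex.HomComplex.Cocycle.toSingleMk_mem_coboundaries_iff _ _ _ _ _ 1 (by lia)] at h
    obtain ⟨g, hg⟩ := h
    have hz : IsZero (P.cochainComplex.X 1) :=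
      P.cochainComplex.isZero_of_isStrictlyLE 0 1 (by lia)
    rw [hz.eq_of_src g 0, comp_zero] at hg
    exact (cancel_epi (P.cochainComplexXIso (-0 : ℤ) 0 rfl).hom).1 (by simpa using hg.symm)
  · rintro rfl
    exact P.extMk_zero 1 rfl

theorem cocycleHom_toCycles (p : ℕ) (g : (homCx P Y).X p) :
    cocycleHom P (((homCx P Y).toCycles p n).hom g) = P.complex.d n p ≫ g :=
  (congrArg (fun a : (homCx P Y).X p ⟶ (homCx P Y).X n => a.hom g)
    ((homCx P Y).toCycles_i p n)).trans (homCx_d_apply P p n g)

theorem toCycles_cyclesToExt (p : ℕ) :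
    (homCx P Y).toCycles p n ≫ cyclesToExt P = 0 := by
  apply ModuleCat.hom_ext
  refine LinearMap.ext fun (g : P.complex.X p ⟶ Y) => ?_
  change P.extMk (cocycleHom P (((homCx P Y).toCycles p n).hom g)) (n + 1) rfl
    (d_comp_cocycleHom P _) = 0
  rw [extMk_congr P (cocycleHom_toCycles P p g)]
  by_cases hp : p + 1 = n
  · exact (P.extMk_eq_zero_iff _ _ rfl _ p hp).2 ⟨g, rfl⟩
  · have h0 : P.complex.d n p = 0 := P.complex.shape _ _ (by simpa [ComplexShape.down_Rel] using hp)
    rw [extMk_congr P (show P.complex.d n p ≫ g = 0 by rw [h0, zero_comp]), P.extMk_zero]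

/-- The comparison map from the homology of the `Hom` complex to `Ext`. -/
noncomputable def homologyToExt :
    (homCx P Y).homology n ⟶ ModuleCat.of R (Abelian.Ext X Y n) :=
  (CokernelCofork.IsColimit.desc' ((homCx P Y).homologyIsCokernel
    ((ComplexShape.up ℕ).prev n) n rfl) (cyclesToExt P) (toCycles_cyclesToExt P _)).1

@[reassoc]
theorem homologyπ_homologyToExt :
    (homCx P Y).homologyπ n ≫ homologyToExt P = cyclesToExt P (n := n) :=
  (CokernelCofork.IsColimit.desc' ((homCx P Y).homologyIsCokernel
    ((ComplexShape.up ℕ).prev n) n rfl) (cyclesToExt P) (toCycles_cyclesToExt P _)).2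

theorem homologyToExt_π (z : (homCx P Y).cycles n) :
    (homologyToExt P).hom (((homCx P Y).homologyπ n).hom z) =
      P.extMk (cocycleHom P z) (n + 1) rfl (d_comp_cocycleHom P z) := by
  rw [← ModuleCat.comp_apply, homologyπ_homologyToExt]
  rfl

theorem homologyToExt_bijective :
    Function.Bijective (homologyToExt P (Y := Y) (n := n)).hom := by
  constructor
  · rw [injective_iff_map_eq_zero]
    intro x hx
    obtain ⟨z, rfl⟩ := (ModuleCat.epi_iff_surjective ((homCx P Y).homologyπ n)).1 inferInstance x
    rw [homologyToExt_π] at hx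
    have hinj : Function.Injective ((homCx P Y).iCycles n).hom :=
      (ModuleCat.mono_iff_injective _).1 inferInstance
    cases n with
    | zero =>
      have h0 := (extMk_zero_degree_eq_zero_iff P _ _).1 hx
      have : z = 0 := hinj (by rw [map_zero]; exact h0)
      rw [this, map_zero]
    | succ p =>
      obtain ⟨g, hg⟩ := (P.extMk_eq_zero_iff _ _ rfl _ p rfl).1 hx
      have : z = ((homCx P Y).toCycles p (p + 1)).hom g := by
        apply hinj
        exact hg.symm.trans (cocycleHom_toCycles P p g).symm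
      rw [this]
      exact congrArg (fun a : (homCx P Y).X p ⟶ (homCx P Y).homology (p + 1) => a.hom g)
        ((homCx P Y).toCycles_comp_homologyπ p (p + 1))
  · intro e
    obtain ⟨f, hf, rfl⟩ := P.extMk_surjective e (n + 1) rfl
    let f' : (homCx P Y).X n := f
    let k : ModuleCat.of R R ⟶ (homCx P Y).X n :=
      ModuleCat.ofHom (LinearMap.toSpanSingleton R _ f')
    have hk : k ≫ (homCx P Y).d n (n + 1) = 0 := by
      apply ModuleCat.hom_ext
      refine LinearMap.ext fun r => ?_
      change ((homCx P Y).d n (n + 1)).hom (r • f') = 0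
      have h0 : ((homCx P Y).d n (n + 1)).hom f' = 0 := (homCx_d_apply P n (n + 1) f).trans hf
      rw [map_smul, h0]
      exact smul_zero (M := R) (show R from r)
    let z := ((homCx P Y).liftCycles k (n + 1) (CochainComplex.next ℕ n) hk).hom 1
    refine ⟨((homCx P Y).homologyπ n).hom z, ?_⟩
    rw [homologyToExt_π]
    refine extMk_congr P ?_ _
    rw [cocycleHom, ← ModuleCat.comp_apply, HomologicalComplex.liftCycles_i]
    exact one_smul R f

theorem cocycleHom_cyclesMap_preMap {X' : ModuleCat.{u} R} {P' : ProjectiveResolution X'}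
    {g : X' ⟶ X} (φ : ProjectiveResolution.Hom P' P g) (z : (homCx P Y).cycles n) :
    cocycleHom P' ((HomologicalComplex.cyclesMap (preMap φ Y) n).hom z) =
      φ.hom.f n ≫ cocycleHom P z := by
  rw [cocycleHom, ← ModuleCat.comp_apply, HomologicalComplex.cyclesMap_i]
  rfl

theorem homologyToExt_preMap {X' : ModuleCat.{u} R} {P' : ProjectiveResolution X'} {g : X' ⟶ X}
    (φ : ProjectiveResolution.Hom P' P g) (x : (homCx P Y).homology n) :
    (homologyToExt P').hom ((HomologicalComplex.homologyMap (preMap φ Y) n).hom x) =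
      (Abelian.Ext.mk₀ g).comp ((homologyToExt P).hom x) (zero_add n) := by
  obtain ⟨z, rfl⟩ := (ModuleCat.epi_iff_surjective ((homCx P Y).homologyπ n)).1 inferInstance x
  rw [show (HomologicalComplex.homologyMap (preMap φ Y) n).hom (((homCx P Y).homologyπ n).hom z) = _ from
    congrArg (fun a => a.hom z) (HomologicalComplex.homologyπ_naturality (preMap φ Y) n),
    ModuleCat.comp_apply, homologyToExt_π, homologyToExt_π]
  rw [ProjectiveResolution.mk₀_comp_extMk _ _ _ _ φ]
  exact extMk_congr P' (cocycleHom_cyclesMap_preMap P φ z) _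

theorem homologyToExt_postMap {Y' : ModuleCat.{u} R} (g : Y ⟶ Y') (x : (homCx P Y).homology n) :
    (homologyToExt P).hom ((HomologicalComplex.homologyMap (postMap P g) n).hom x) =
      ((homologyToExt P).hom x).comp (Abelian.Ext.mk₀ g) (add_zero n) := by
  obtain ⟨z, rfl⟩ := (ModuleCat.epi_iff_surjective ((homCx P Y).homologyπ n)).1 inferInstance x
  rw [show (HomologicalComplex.homologyMap (postMap P g) n).hom (((homCx P Y).homologyπ n).hom z) = _ from
    congrArg (fun a => a.hom z) (HomologicalComplex.homologyπ_naturality (postMap P g) n),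
    ModuleCat.comp_apply, homologyToExt_π, homologyToExt_π]
  rw [ProjectiveResolution.extMk_comp_mk₀]
  refine extMk_congr P ?_ _
  rw [cocycleHom, ← ModuleCat.comp_apply, HomologicalComplex.cyclesMap_i]
  rfl

end Comparison

/-- The left-derived `Ext` functor computes `Abelian.Ext`. -/
noncomputable def extEquiv (X Y : ModuleCat.{u} R) (n : ℕ) :
    ((Ext R (ModuleCat.{u} R) n).obj (op X)).obj Y ≃ₗ[R] Abelian.Ext X Y n :=
  ((projectiveResolution X).isoExt n Y).toLinearEquiv.trans
    (LinearEquiv.ofBijective (homologyToExt (projectiveResolution X)).hom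
      (homologyToExt_bijective _))

theorem extEquiv_apply (X Y : ModuleCat.{u} R) (n : ℕ)
    (x : ((Ext R (ModuleCat.{u} R) n).obj (op X)).obj Y) :
    extEquiv X Y n x = (homologyToExt (projectiveResolution X)).hom
      (((projectiveResolution X).isoExt n Y).hom.hom x) :=
  rfl

theorem extEquiv_naturality_left {X X' : ModuleCat.{u} R} (g : X' ⟶ X) (Y : ModuleCat.{u} R)
    (n : ℕ) (x : ((Ext R (ModuleCat.{u} R) n).obj (op X)).obj Y) :
    extEquiv X' Y n ((((Ext R (ModuleCat.{u} R) n).map g.op).app Y).hom x) =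
      (Abelian.Ext.mk₀ g).comp (extEquiv X Y n x) (zero_add n) := by
  let φ : ProjectiveResolution.Hom (projectiveResolution X') (projectiveResolution X) g :=
    { hom := ProjectiveResolution.lift g _ _
      hom_f_zero_comp_π_f_zero :=
        (ProjectiveResolution.lift_commutes_zero g _ _).trans (by rfl) }
  have h := isoExt_naturality_left g (projectiveResolution X) (projectiveResolution X') φ n Y
  rw [extEquiv_apply, extEquiv_apply]
  exact (congrArg _ (congrArg (fun a => a.hom x) h)).trans (homologyToExt_preMap _ φ _)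

theorem extEquiv_naturality_right (X : ModuleCat.{u} R) {Y Y' : ModuleCat.{u} R} (g : Y ⟶ Y')
    (n : ℕ) (x : ((Ext R (ModuleCat.{u} R) n).obj (op X)).obj Y) :
    extEquiv X Y' n ((((Ext R (ModuleCat.{u} R) n).obj (op X)).map g).hom x) =
      (extEquiv X Y n x).comp (Abelian.Ext.mk₀ g) (add_zero n) := by
  have h := isoExt_naturality_right (projectiveResolution X) g n
  rw [extEquiv_apply, extEquiv_apply]
  exact (congrArg _ (congrArg (fun a => a.hom x) h)).trans (homologyToExt_postMap _ g _)

end Groth.Agent.H4LC
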