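import Groth.Agent.H4LC.DualRes
import Groth.Agent.H4LC.ExtCompare
import Mathlib.Algebra.Category.ModuleCat.Ext.DimensionShifting

/-!
# The cohomology of a dual resolution is `Ext(M, S)`
-/

set_option autoImplicit false
set_option linter.unusedSectionVars false

universe u

open CategoryTheory

namespace Groth.Agent.H4LC

variable {S : Type u} [CommRing S]

section Connecting

variable {C : ShortComplex (ModuleCat.{u} S)} (hC : C.ShortExact) (Y : ModuleCat.{u} S)

/-- The linear connecting map `Ext^a(X₁, Y) → Ext^{a+1}(X₃, Y)`. -/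
noncomputable def δExt (a : ℕ) : Abelian.Ext C.X₁ Y a →ₗ[S] Abelian.Ext C.X₃ Y (a + 1) :=
  Abelian.Ext.precompOfLinear hC.extClass S Y (add_comm 1 a)

theorem δExt_surjective [Projective C.X₂] (a : ℕ) : Function.Surjective (δExt hC Y a) :=
  fun x => Abelian.Ext.contravariant_sequence_exact₃ hC Y x (Abelian.Ext.eq_zero_of_projective _)
    (add_comm 1 a)

theorem δExt_zero_eq_zero_iff (ψ : C.X₁ ⟶ Y) :
    δExt hC Y 0 (Abelian.Ext.mk₀ ψ) = 0 ↔ ∃ φ : C.X₂ ⟶ Y, C.f ≫ φ = ψ := by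
  constructor
  · intro h
    obtain ⟨x₂, hx₂⟩ := Abelian.Ext.contravariant_sequence_exact₁ hC Y (Abelian.Ext.mk₀ ψ)
      (add_comm 1 0) h
    obtain ⟨φ, rfl⟩ := (Abelian.Ext.mk₀_bijective C.X₂ Y).2 x₂
    rw [Abelian.Ext.mk₀_comp_mk₀] at hx₂
    exact ⟨φ, (Abelian.Ext.mk₀_bijective C.X₁ Y).1 hx₂⟩
  · rintro ⟨φ, rfl⟩
    show hC.extClass.comp (Abelian.Ext.mk₀ (C.f ≫ φ)) (add_comm 1 0) = 0
    rw [← Abelian.Ext.mk₀_comp_mk₀, hC.extClass_comp_assoc]

theorem δExt_bijective [Projective C.X₂] (a : ℕ) : Function.Bijective (δExt hC Y (a + 1)) := by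
  refine ⟨(injective_iff_map_eq_zero _).2 fun x hx => ?_, δExt_surjective hC Y _⟩
  obtain ⟨x₂, rfl⟩ := Abelian.Ext.contravariant_sequence_exact₁ hC Y x (add_comm 1 (a + 1)) hx
  rw [Abelian.Ext.eq_zero_of_projective x₂, Abelian.Ext.comp_zero]

end Connecting

namespace DualRes

variable {M : Type u} [AddCommGroup M] [Module S M] (P : DualRes S M)

/-- A functional on `M` as an element of `D 0`. -/
noncomputable def fromHom : (M →ₗ[S] S) →ₗ[S] P.D 0 :=
  (Module.evalEquiv S (P.D 0)).symm.toLinearMap ∘ₗ P.ε.lcomp S S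

theorem apply_fromHom (g : P.D 0 →ₗ[S] S) (ψ : M →ₗ[S] S) : g (P.fromHom ψ) = ψ (P.ε g) :=
  Module.apply_evalEquiv_symm_apply S (P.D 0) g _

theorem fromHom_injective : Function.Injective P.fromHom :=
  (Module.evalEquiv S (P.D 0)).symm.injective.comp
    (fun _ _ h => LinearMap.ext fun m => by
      obtain ⟨g, rfl⟩ := P.ε_surjective m
      exact LinearMap.congr_fun h g)

theorem range_fromHom : LinearMap.range P.fromHom = LinearMap.ker (P.d 0) := by
  refine le_antisymm ?_ fun x hx => ?_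
  · rintro _ ⟨ψ, rfl⟩
    refine LinearMap.mem_ker.2 ((Module.evalEquiv S (P.D 1)).injective (LinearMap.ext fun g => ?_))
    rw [map_zero, LinearMap.zero_apply]
    refine (P.apply_fromHom (g ∘ₗ P.d 0) ψ).trans ?_
    rw [(P.ε_ker _).2 ⟨g, rfl⟩, map_zero]
  · let ψ : M →ₗ[S] S := (LinearMap.ker P.ε).liftQ (Module.Dual.eval S (P.D 0) x)
        (fun f hf => by
          obtain ⟨g, rfl⟩ := (P.ε_ker f).1 hf
          show g (P.d 0 x) = 0
          rw [LinearMap.mem_ker.1 hx, map_zero]) ∘ₗ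
      (P.ε.quotKerEquivOfSurjective P.ε_surjective).symm.toLinearMap
    refine ⟨ψ, (Module.evalEquiv S (P.D 0)).injective (LinearMap.ext fun g => ?_)⟩
    refine (P.apply_fromHom g ψ).trans ?_
    have : (P.ε.quotKerEquivOfSurjective P.ε_surjective).symm (P.ε g) = Submodule.Quotient.mk g :=
      (LinearEquiv.symm_apply_eq _).2 rfl
    simp only [ψ, LinearMap.comp_apply, LinearEquiv.coe_coe, this, Submodule.liftQ_apply]
    rfl

/-- `Hom(M, S) ≅ ker (d 0)`. -/
noncomputable def homEquiv₀ : (M →ₗ[S] S) ≃ₗ[S] LinearMap.ker (P.d 0) :=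
  (LinearEquiv.ofInjective P.fromHom P.fromHom_injective).trans
    (LinearEquiv.ofEq _ _ P.range_fromHom)

theorem coe_homEquiv₀ (ψ : M →ₗ[S] S) : (P.homEquiv₀ ψ : P.D 0) = P.fromHom ψ := rfl

/-- The short exact sequence `0 → ker ε → F₀ → M → 0`. -/
noncomputable abbrev seq : ShortComplex (ModuleCat.{u} S) := P.ε.shortComplexKer

theorem seq_shortExact : P.seq.ShortExact := LinearMap.shortExact_shortComplexKer P.ε_surjective

instance : Projective P.seq.X₂ :=
  (IsProjective.iff_projective _).1 (inferInstanceAs (Module.Projective S (P.D 0 →ₗ[S] S)))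

/-- `Hom(M, S) ≅ Ext⁰(M, S)`. -/
noncomputable def extEquivHom :
    Abelian.Ext (ModuleCat.of S M) (ModuleCat.of S S) 0 ≃ₗ[S] (M →ₗ[S] S) :=
  Abelian.Ext.linearEquiv₀.trans ModuleCat.homLinearEquiv

theorem extEquivHom_symm_apply (ψ : M →ₗ[S] S) :
    (DualRes.extEquivHom (S := S) (M := M)).symm ψ = Abelian.Ext.mk₀ (ModuleCat.ofHom ψ) := rfl

/-- The class of a functional on the kernel of the augmentation. -/
noncomputable def homClass : (LinearMap.ker P.ε →ₗ[S] S) →ₗ[S]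
    Abelian.Ext (ModuleCat.of S M) (ModuleCat.of S S) 1 :=
  δExt P.seq_shortExact (ModuleCat.of S S) 0 ∘ₗ
    (DualRes.extEquivHom (S := S) (M := LinearMap.ker P.ε)).symm.toLinearMap

/-- The class of a cocycle in degree one. -/
noncomputable def classOne : LinearMap.ker (P.d 1) →ₗ[S]
    Abelian.Ext (ModuleCat.of S M) (ModuleCat.of S S) 1 :=
  P.homClass ∘ₗ
    (show LinearMap.ker (P.d 1) ≃ₗ[S] (LinearMap.ker P.ε →ₗ[S] S) from
      P.shift.homEquiv₀.symm).toLinearMap

theorem classOne_homEquiv₀ (ψ : LinearMap.ker P.ε →ₗ[S] S) :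
    P.classOne (P.shift.homEquiv₀ ψ) = P.homClass ψ :=
  congrArg P.homClass (P.shift.homEquiv₀.symm_apply_apply ψ)

theorem classOne_surjective : Function.Surjective P.classOne := by
  intro x
  obtain ⟨w, hw⟩ := δExt_surjective P.seq_shortExact (ModuleCat.of S S) 0 x
  obtain ⟨ψ, rfl⟩ := (DualRes.extEquivHom (S := S) (M := LinearMap.ker P.ε)).symm.surjective w
  exact ⟨P.shift.homEquiv₀ ψ, (P.classOne_homEquiv₀ ψ).trans hw⟩

theorem homClass_eq_zero_iff (ψ : LinearMap.ker P.ε →ₗ[S] S) :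
    P.homClass ψ = 0 ↔ ∃ x : P.D 0, P.d 0 x = P.shift.fromHom ψ := by
  refine (δExt_zero_eq_zero_iff P.seq_shortExact (ModuleCat.of S S) (ModuleCat.ofHom ψ)).trans
    ⟨?_, ?_⟩
  · rintro ⟨φ, hφ⟩
    obtain ⟨x, hx⟩ := (Module.evalEquiv S (P.D 0)).surjective φ.hom
    refine ⟨x, (Module.evalEquiv S (P.D 1)).injective (LinearMap.ext fun g => ?_)⟩
    refine Eq.trans ?_ (P.shift.apply_fromHom g ψ).symm
    refine Eq.trans ?_ (LinearMap.congr_fun (congrArg ModuleCat.Hom.hom hφ) (P.shift.ε g))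
    exact (LinearMap.congr_fun hx (g ∘ₗ P.d 0))
  · rintro ⟨x, hx⟩
    refine ⟨ModuleCat.ofHom (Module.Dual.eval S (P.D 0) x), ModuleCat.hom_ext
      (LinearMap.ext fun y => ?_)⟩
    obtain ⟨g, rfl⟩ := P.shift.ε_surjective y
    refine Eq.trans ?_ (P.shift.apply_fromHom g ψ)
    exact congrArg g hx

theorem ker_classOne : LinearMap.ker P.classOne =
    (P.Bd 1).comap (LinearMap.ker (P.d 1)).subtype := by
  refine SetLike.ext fun z => ?_
  obtain ⟨ψ, rfl⟩ := P.shift.homEquiv₀.surjective z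
  refine (LinearMap.mem_ker.trans (Iff.of_eq (congrArg (· = 0) (P.classOne_homEquiv₀ ψ)))).trans ?_
  exact P.homClass_eq_zero_iff ψ

/-- `E c ≅ Ext^c(M, S)`. -/
theorem nonempty_extEquiv : ∀ (c : ℕ) {M : Type u} [AddCommGroup M] [Module S M]
    (P : DualRes S M),
    Nonempty (Abelian.Ext (ModuleCat.of S M) (ModuleCat.of S S) c ≃ₗ[S] P.E c) := by
  intro c
  induction c with
  | zero =>
    intro M _ _ P
    refine ⟨(DualRes.extEquivHom.trans P.homEquiv₀).trans
      (Submodule.quotEquivOfEqBot _ ?_).symm⟩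
    exact le_bot_iff.1 fun z hz => Subtype.ext hz
  | succ c ih =>
    intro M _ _ P
    rcases c with _ | c
    · exact ⟨((Submodule.quotEquivOfEq _ _ P.ker_classOne.symm).trans
        (P.classOne.quotKerEquivOfSurjective P.classOne_surjective)).symm⟩
    · obtain ⟨e⟩ := ih P.shift
      exact ⟨(LinearEquiv.ofBijective _
        (δExt_bijective P.seq_shortExact (ModuleCat.of S S) c)).symm.trans
        (show _ ≃ₗ[S] P.E (c + 2) from e)⟩

theorem subsingleton_ext_iff (c : ℕ) :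
    Subsingleton (Abelian.Ext (ModuleCat.of S M) (ModuleCat.of S S) c) ↔ Subsingleton (P.E c) :=
  (nonempty_extEquiv c P).some.toEquiv.subsingleton_congr

end DualRes

end Groth.Agent.H4LC
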