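import Groth.Agent.H4LC.LocalDuality
import Groth.Agent.H4LC.DualExt
import Groth.Agent.H4Inj.Essential

/-!
# The local duality isomorphism over a Gorenstein local ring
-/

set_option autoImplicit false
set_option linter.unusedSectionVars false

universe u

open IsLocalRing CategoryTheory

namespace Groth.Agent.H4LC

/-- Two surjections with the same kernel have isomorphic targets. -/
theorem nonempty_equiv_of_ker_eq {R X Y Z : Type*} [CommRing R] [AddCommGroup X] [Module R X]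
    [AddCommGroup Y] [Module R Y] [AddCommGroup Z] [Module R Z] (a : X →ₗ[R] Y) (b : X →ₗ[R] Z)
    (ha : Function.Surjective a) (hb : Function.Surjective b)
    (h : LinearMap.ker a = LinearMap.ker b) : Nonempty (Y ≃ₗ[R] Z) :=
  ⟨(a.quotKerEquivOfSurjective ha).symm.trans
    ((Submodule.quotEquivOfEq _ _ h).trans (b.quotKerEquivOfSurjective hb))⟩

variable {A : Type u} [CommRing A] [LocCoh.IsGorensteinLocalRing A] {h : ℕ}
  (hA : ringKrullDim A = h)

local notation "𝔪" => maximalIdeal A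

include hA in
theorem exists_extend_hom {X Y : Type u} [AddCommGroup X] [Module A X] [AddCommGroup Y] [Module A Y]
    (i : X →ₗ[A] Y) (hi : Function.Injective i) (ψ : X →ₗ[A] LocCoh.H 𝔪 h A) :
    ∃ ψ' : Y →ₗ[A] LocCoh.H 𝔪 h A, ψ' ∘ₗ i = ψ :=
  Module.Injective.extension_property (inj := H4Goren.injective_H_top A h hA) A _ X Y i hi ψ

namespace DualRes

variable {M : Type u} [AddCommGroup M] [Module A M] (P : DualRes A M)

include hA in
theorem exists_factor (c : ℕ) {ψ : P.D c →ₗ[A] LocCoh.H 𝔪 h A}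
    (hψ : ∀ z ∈ LinearMap.ker (P.d c), ψ z = 0) :
    ∃ ψ' : P.D (c + 1) →ₗ[A] LocCoh.H 𝔪 h A, ψ' ∘ₗ P.d c = ψ := by
  obtain ⟨ψ', hψ'⟩ := exists_extend_hom hA ((LinearMap.ker (P.d c)).liftQ (P.d c) le_rfl)
    (LinearMap.ker_eq_bot.1 (Submodule.ker_liftQ_eq_bot _ _ _ le_rfl))
    ((LinearMap.ker (P.d c)).liftQ ψ fun z hz => hψ z hz)
  exact ⟨ψ', LinearMap.ext fun x => LinearMap.congr_fun hψ' (Submodule.Quotient.mk x)⟩

include hA in
theorem nonempty_equiv_top :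
    Nonempty (LocCoh.H 𝔪 h M ≃ₗ[A] (P.E 0 →ₗ[A] LocCoh.H 𝔪 h A)) := by
  let Φ : LocCoh.H 𝔪 h (Module.Dual A (P.D 0)) →ₗ[A]
      (LinearMap.ker (P.d 0) →ₗ[A] LocCoh.H 𝔪 h A) :=
    (LinearMap.ker (P.d 0)).subtype.lcomp A _ ∘ₗ θdual 𝔪 (P.D 0) h
  have hΦ : Function.Surjective Φ := fun ψ => by
    obtain ⟨ψ', rfl⟩ := exists_extend_hom hA (LinearMap.ker (P.d 0)).subtype
      (Submodule.injective_subtype _) ψ
    obtain ⟨w, rfl⟩ := (θdual_bijective 𝔪 (P.D 0) h).2 ψ'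
    exact ⟨w, rfl⟩
  have hker : LinearMap.ker (Hmap 𝔪 P.ε h) = LinearMap.ker Φ := by
    ext w
    constructor
    · intro hw
      obtain ⟨v, rfl⟩ := (P.exact_H_ε hA w).1 hw
      refine LinearMap.mem_ker.2 (LinearMap.ext fun z => ?_)
      refine (LinearMap.congr_fun (θdual_natural 𝔪 (P.D 0) (P.d 0) h v) z.1).trans ?_
      rw [LinearMap.comp_apply, LinearMap.mem_ker.1 z.2, map_zero]
      rfl
    · intro hw
      obtain ⟨ψ', hψ'⟩ := P.exists_factor hA 0 (ψ := θdual 𝔪 (P.D 0) h w)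
        fun z hz => LinearMap.congr_fun hw ⟨z, hz⟩
      obtain ⟨v, rfl⟩ := (θdual_bijective 𝔪 (P.D 1) h).2 ψ'
      rw [← θdual_natural] at hψ'
      exact (P.exact_H_ε hA w).2 ⟨v, (θdual_bijective 𝔪 (P.D 0) h).1 hψ'⟩
  obtain ⟨e⟩ := nonempty_equiv_of_ker_eq _ Φ (P.surjective_H_ε hA) hΦ hker
  exact ⟨e.trans (LinearEquiv.congrLeft (LocCoh.H 𝔪 h A) A
    (Submodule.quotEquivOfEqBot _ (le_bot_iff.1 fun z hz => Subtype.ext hz)).symm)⟩

include hA in
theorem nonempty_equiv_one (j : ℕ) (hj : j + 1 = h) :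
    Nonempty (LocCoh.H 𝔪 j M ≃ₗ[A] (P.E 1 →ₗ[A] LocCoh.H 𝔪 h A)) := by
  subst hj
  let N := LinearMap.ker (Hmap 𝔪 (P.d 0).dualMap (j + 1))
  let δ := δH 𝔪 (Submodule.injective_subtype _) P.ε_surjective P.exact_ε j
  have hδ : Function.Injective δ :=
    δH_injective 𝔪 (Submodule.injective_subtype _) P.ε_surjective P.exact_ε j
      (P.subsingleton_H_term hA 0 (by omega))
  have hcomp : ∀ w, Hmap 𝔪 (M := LinearMap.ker P.ε) (N := P.D 0 →ₗ[A] A)
      (LinearMap.ker P.ε).subtype (j + 1) (Hmap 𝔪 P.shift.ε (j + 1) w) =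
      Hmap 𝔪 (P.d 0).dualMap (j + 1) w := fun w => by
    rw [← LinearMap.comp_apply, ← Hmap_comp]; rfl
  have hmem : ∀ w : N, (Hmap 𝔪 P.shift.ε (j + 1) w.1) ∈ LinearMap.range δ := fun w =>
    ((exactH₁ 𝔪 (Submodule.injective_subtype _) P.ε_surjective P.exact_ε j _).1
      ((hcomp w.1).trans w.2))
  let Ψ₁ : N →ₗ[A] LocCoh.H 𝔪 j M :=
    (LinearEquiv.ofInjective δ hδ).symm.toLinearMap ∘ₗ
      (Hmap 𝔪 P.shift.ε (j + 1) ∘ₗ N.subtype).codRestrict (LinearMap.range δ) hmem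
  have hΨ₁ : Function.Surjective Ψ₁ := fun y => by
    obtain ⟨w, hw⟩ := P.shift.surjective_H_ε hA (δ y)
    refine ⟨⟨w, (hcomp w).symm.trans ?_⟩, hδ ?_⟩
    · rw [hw]
      exact (exactH₁ 𝔪 (Submodule.injective_subtype _) P.ε_surjective P.exact_ε j).apply_apply_eq_zero y
    · refine Eq.trans ?_ hw
      exact congrArg Subtype.val ((LinearEquiv.ofInjective δ hδ).apply_symm_apply _)
  have hker₁ : ∀ w : N, Ψ₁ w = 0 ↔ Hmap 𝔪 P.shift.ε (j + 1) w.1 = 0 := fun w => by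
    refine (LinearEquiv.map_eq_zero_iff (LinearEquiv.ofInjective δ hδ).symm).trans ?_
    exact ⟨fun e => congrArg Subtype.val e, fun e => Subtype.ext e⟩
  have hBd : ∀ w : N, (P.Bd 1).comap (LinearMap.ker (P.d 1)).subtype ≤
      LinearMap.ker (θdual 𝔪 (P.D 1) (j + 1) w.1 ∘ₗ (LinearMap.ker (P.d 1)).subtype) := by
    rintro w z ⟨x, hx⟩
    show θdual 𝔪 (P.D 1) (j + 1) w.1 z.1 = 0
    rw [show z.1 = P.d 0 x from hx.symm, ← LinearMap.comp_apply, ← θdual_natural,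
      LinearMap.mem_ker.1 w.2, map_zero, LinearMap.zero_apply]
  let Ψ₂ : N →ₗ[A] (P.E 1 →ₗ[A] LocCoh.H 𝔪 (j + 1) A) :=
    { toFun := fun w => Submodule.liftQ _ _ (hBd w)
      map_add' := fun v w => Submodule.linearMap_qext _ (LinearMap.ext fun z =>
        LinearMap.congr_fun (map_add (θdual 𝔪 (P.D 1) (j + 1)) v.1 w.1) z.1)
      map_smul' := fun r w => Submodule.linearMap_qext _ (LinearMap.ext fun z =>
        LinearMap.congr_fun (map_smul (θdual 𝔪 (P.D 1) (j + 1)) r w.1) z.1) }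
  have hΨ₂ : Function.Surjective Ψ₂ := fun χ => by
    obtain ⟨ψ, hψ⟩ := exists_extend_hom hA (LinearMap.ker (P.d 1)).subtype
      (Submodule.injective_subtype _) (χ ∘ₗ Submodule.mkQ _)
    obtain ⟨w, rfl⟩ := (θdual_bijective 𝔪 (P.D 1) (j + 1)).2 ψ
    refine ⟨⟨w, LinearMap.mem_ker.2 ((θdual_bijective 𝔪 (P.D 0) (j + 1)).1 ?_)⟩,
      Submodule.linearMap_qext _ (LinearMap.ext fun z => LinearMap.congr_fun hψ z)⟩
    rw [θdual_natural, map_zero]
    refine LinearMap.ext fun x => ?_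
    refine (LinearMap.congr_fun hψ ⟨P.d 0 x, P.d_d 0 x⟩).trans ?_
    refine Eq.trans (congrArg χ ((Submodule.Quotient.mk_eq_zero _).2 ?_)) (map_zero χ)
    exact Submodule.mem_comap.2 ⟨x, rfl⟩
  refine nonempty_equiv_of_ker_eq Ψ₁ Ψ₂ hΨ₁ hΨ₂ (SetLike.ext fun w => ?_)
  refine (LinearMap.mem_ker.trans (hker₁ w)).trans
    (Iff.trans ⟨fun hw => ?_, fun hw => ?_⟩ LinearMap.mem_ker.symm)
  · obtain ⟨v, hv⟩ := (P.shift.exact_H_ε hA w.1).1 hw
    refine Submodule.linearMap_qext _ (LinearMap.ext fun z => ?_)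
    show θdual 𝔪 (P.D 1) (j + 1) w.1 z.1 = 0
    rw [← hv]
    refine (LinearMap.congr_fun (θdual_natural 𝔪 (P.D 1) (P.d 1) (j + 1) v) z.1).trans ?_
    rw [LinearMap.comp_apply, LinearMap.mem_ker.1 z.2, map_zero]
  · obtain ⟨ψ', hψ'⟩ := P.exists_factor hA 1 (ψ := θdual 𝔪 (P.D 1) (j + 1) w.1)
      fun z hz => LinearMap.congr_fun hw (Submodule.Quotient.mk ⟨z, hz⟩)
    obtain ⟨v, rfl⟩ := (θdual_bijective 𝔪 (P.D 2) (j + 1)).2 ψ'
    rw [← θdual_natural] at hψ'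
    exact (P.shift.exact_H_ε hA w.1).2 ⟨v, (θdual_bijective 𝔪 (P.D 1) (j + 1)).1 hψ'⟩

include hA in
/-- Local duality: `H^j(M) ≅ Hom(E c, H^h(A))` for `j + c = h`. -/
theorem nonempty_equiv : ∀ (c : ℕ) {M : Type u} [AddCommGroup M] [Module A M] (P : DualRes A M)
    (j : ℕ), j + c = h → Nonempty (LocCoh.H 𝔪 j M ≃ₗ[A] (P.E c →ₗ[A] LocCoh.H 𝔪 h A)) := by
  intro c
  induction c with
  | zero =>
    intro M _ _ P j hj
    obtain rfl : j = h := hj
    exact P.nonempty_equiv_top hA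
  | succ c ih =>
    intro M _ _ P j hj
    rcases c with _ | c
    · exact P.nonempty_equiv_one hA j hj
    · obtain ⟨e⟩ := ih P.shift (j + 1) (by omega)
      exact ⟨(LinearEquiv.ofBijective
        (δH 𝔪 (Submodule.injective_subtype _) P.ε_surjective P.exact_ε j)
        ⟨δH_injective 𝔪 (Submodule.injective_subtype _) P.ε_surjective P.exact_ε j
          (P.subsingleton_H_term hA 0 (by omega)),
        δH_surjective 𝔪 (Submodule.injective_subtype _) P.ε_surjective P.exact_ε j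
          (P.subsingleton_H_term hA 0 (by omega))⟩).trans
        (show _ ≃ₗ[A] (P.E (c + 2) →ₗ[A] _) from e)⟩

end DualRes

include hA in
/-- Local duality with an arbitrary injective hull of the residue field. -/
theorem nonempty_localDuality {M : Type u} [AddCommGroup M] [Module A M] [Module.Finite A M]
    {E : Type u} [AddCommGroup E] [Module A E] (f : ResidueField A →ₗ[A] E)
    (hf : InjHull.IsInjectiveHull f) {j c : ℕ} (hjc : j + c = h) :
    Nonempty (LocCoh.H 𝔪 j M ≃ₗ[A]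
      (Abelian.Ext (ModuleCat.of A M) (ModuleCat.of A A) c →ₗ[A] E)) := by
  obtain ⟨P⟩ := nonempty_dualRes_of_finite (S := A) M
  obtain ⟨e⟩ := DualRes.nonempty_equiv hA c P j hjc
  obtain ⟨eE⟩ := DualRes.nonempty_extEquiv c P
  obtain ⟨g, hg⟩ := H4Goren.exists_isInjectiveHull_H_top A h hA
  obtain ⟨u, -⟩ := H4Inj.hull_unique hg hf
  exact ⟨e.trans (eE.symm.arrowCongr u)⟩

end Groth.Agent.H4LC
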