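import Groth.Agent.H4LC.DualRes
import Mathlib.Algebra.Module.LocalizedModule.Exact

/-!
# Localisation of dual resolutions
-/

set_option autoImplicit false
set_option linter.unusedSectionVars false

universe u

namespace Groth.Agent.H4LC

variable {S : Type u} [CommRing S] [IsNoetherianRing S] {M : Type u} [AddCommGroup M] [Module S M]
  (P : DualRes S M) (T : Submonoid S)

namespace DualRes

local notation "Sₜ" => Localization T

/-- The localised terms. -/
abbrev DT (c : ℕ) : Type u := LocalizedModule T (P.D c)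

/-- The localised differentials. -/
noncomputable abbrev dT (c : ℕ) : P.DT T c →ₗ[Sₜ] P.DT T (c + 1) := LocalizedModule.map T (P.d c)

theorem dT_mk (c : ℕ) (x : P.D c) :
    P.dT T c (LocalizedModule.mkLinearMap T _ x) = LocalizedModule.mkLinearMap T _ (P.d c x) :=
  LocalizedModule.map_mk T (P.d c) x 1

instance (c : ℕ) : Module.FinitePresentation S (P.D c) :=
  Module.finitePresentation_of_finite S _

/-- Localisation of functionals. -/
noncomputable def dualLoc (c : ℕ) :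
    (P.D c →ₗ[S] S) →ₗ[S] (P.DT T c →ₗ[Sₜ] Sₜ) :=
  IsLocalizedModule.mapExtendScalars T (LocalizedModule.mkLinearMap T (P.D c))
    (Algebra.linearMap S Sₜ) Sₜ

instance isLocalizedModule_dualLoc (c : ℕ) : IsLocalizedModule T (P.dualLoc T c) :=
  Module.FinitePresentation.isLocalizedModule_mapExtendScalars T _ _ _

theorem dualLoc_mk (c : ℕ) (h : P.D c →ₗ[S] S) (x : P.D c) :
    P.dualLoc T c h (LocalizedModule.mkLinearMap T _ x) = algebraMap S Sₜ (h x) :=
  IsLocalizedModule.map_apply T (LocalizedModule.mkLinearMap T (P.D c)) (Algebra.linearMap S Sₜ) h x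

theorem hom_ext {c : ℕ} {N : Type u} [AddCommGroup N] [Module S N] [Module Sₜ N]
    [IsScalarTower S Sₜ N] {f g : P.DT T c →ₗ[Sₜ] N}
    (h : ∀ x, f (LocalizedModule.mkLinearMap T _ x) = g (LocalizedModule.mkLinearMap T _ x)) :
    f = g := by
  refine LinearMap.ext fun z => ?_
  obtain ⟨⟨x, s⟩, hs⟩ := IsLocalizedModule.surj T (LocalizedModule.mkLinearMap T (P.D c)) z
  dsimp only at hs
  refine (IsUnit.smul_left_cancel (IsLocalization.map_units Sₜ s)).1 ?_
  rw [← map_smul, ← map_smul, algebraMap_smul, ← Submonoid.smul_def, hs]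
  exact h x

theorem dualLoc_comp (c : ℕ) (g : P.D (c + 1) →ₗ[S] S) :
    P.dualLoc T (c + 1) g ∘ₗ P.dT T c = P.dualLoc T c (g ∘ₗ P.d c) :=
  P.hom_ext T fun x => by
    rw [LinearMap.comp_apply, dT_mk, dualLoc_mk, dualLoc_mk, LinearMap.comp_apply]

/-- Division by an element of `T`. -/
theorem exists_smul_eq {N : Type u} [AddCommGroup N] [Module S N] [Module Sₜ N]
    [IsScalarTower S Sₜ N] (s : T) (y : N) : ∃ x : N, s • x = y := by
  refine ⟨(IsLocalization.map_units Sₜ s).unit⁻¹.1 • y, ?_⟩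
  rw [Submonoid.smul_def, ← algebraMap_smul Sₜ (s : S), smul_smul]
  rw [IsUnit.mul_val_inv, one_smul]

theorem smul_cancel {N : Type u} [AddCommGroup N] [Module S N] [Module Sₜ N]
    [IsScalarTower S Sₜ N] (s : T) {x y : N} (h : s • x = s • y) : x = y := by
  rw [Submonoid.smul_def, Submonoid.smul_def, ← algebraMap_smul Sₜ (s : S),
    ← algebraMap_smul Sₜ (s : S) y] at h
  exact (IsUnit.smul_left_cancel (IsLocalization.map_units Sₜ s)).1 h

/-- The localised augmentation. -/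
noncomputable def εT : (P.DT T 0 →ₗ[Sₜ] Sₜ) →ₗ[Sₜ] LocalizedModule T M :=
  LinearMap.extendScalarsOfIsLocalization T Sₜ
    (IsLocalizedModule.map T (P.dualLoc T 0) (LocalizedModule.mkLinearMap T M) P.ε)

theorem εT_dualLoc (f : P.D 0 →ₗ[S] S) :
    P.εT T (P.dualLoc T 0 f) = LocalizedModule.mkLinearMap T M (P.ε f) :=
  IsLocalizedModule.map_apply T (P.dualLoc T 0) (LocalizedModule.mkLinearMap T M) P.ε f

theorem exact_loc (c : ℕ) (f : P.DT T (c + 1) →ₗ[Sₜ] Sₜ) (hf : f ∘ₗ P.dT T c = 0) :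
    ∃ g : P.DT T (c + 2) →ₗ[Sₜ] Sₜ, g ∘ₗ P.dT T (c + 1) = f := by
  obtain ⟨⟨f₀, s⟩, hs⟩ := IsLocalizedModule.surj T (P.dualLoc T (c + 1)) f
  dsimp only at hs
  have h0 : P.dualLoc T c (f₀ ∘ₗ P.d c) = 0 := by
    rw [← dualLoc_comp, ← hs, Submonoid.smul_def, LinearMap.smul_comp, hf, smul_zero]
  obtain ⟨t, ht⟩ := (IsLocalizedModule.eq_zero_iff T (P.dualLoc T c)).1 h0
  obtain ⟨g₀, hg₀⟩ := P.exact c ((t : S) • f₀) (by rw [LinearMap.smul_comp]; exact ht)
  obtain ⟨g, hg⟩ := exists_smul_eq T (t * s) (P.dualLoc T (c + 2) g₀)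
  refine ⟨g, smul_cancel T (t * s) ?_⟩
  have h1 : P.dualLoc T (c + 2) g₀ ∘ₗ P.dT T (c + 1) = (t : S) • P.dualLoc T (c + 1) f₀ := by
    rw [dualLoc_comp, hg₀, map_smul]
  rw [← hg, ← hs] at h1
  rw [Submonoid.smul_def, ← LinearMap.smul_comp, ← Submonoid.smul_def, h1, mul_smul]
  rfl

theorem εT_surjective : Function.Surjective (P.εT T) :=
  IsLocalizedModule.map_surjective T (P.dualLoc T 0) (LocalizedModule.mkLinearMap T M) P.ε
    P.ε_surjective

theorem εT_eq_zero_iff (F : P.DT T 0 →ₗ[Sₜ] Sₜ) :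
    P.εT T F = 0 ↔ ∃ G : P.DT T 1 →ₗ[Sₜ] Sₜ, G ∘ₗ P.dT T 0 = F := by
  constructor
  · intro hF
    obtain ⟨⟨f, s⟩, hs⟩ := IsLocalizedModule.surj T (P.dualLoc T 0) F
    dsimp only at hs
    have h0 : LocalizedModule.mkLinearMap T M (P.ε f) = 0 := by
      rw [← εT_dualLoc, ← hs, Submonoid.smul_def, LinearMap.map_smul_of_tower, hF, smul_zero]
    obtain ⟨t, ht⟩ := (IsLocalizedModule.eq_zero_iff T (LocalizedModule.mkLinearMap T M)).1 h0
    obtain ⟨g₀, hg₀⟩ := (P.ε_ker ((t : S) • f)).1 (by rw [map_smul]; exact ht)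
    obtain ⟨G, hG⟩ := exists_smul_eq T (t * s) (P.dualLoc T 1 g₀)
    refine ⟨G, smul_cancel T (t * s) ?_⟩
    have h1 : P.dualLoc T 1 g₀ ∘ₗ P.dT T 0 = (t : S) • P.dualLoc T 0 f := by
      rw [dualLoc_comp, hg₀, map_smul]
    rw [← hG, ← hs] at h1
    rw [Submonoid.smul_def, ← LinearMap.smul_comp, ← Submonoid.smul_def, h1, mul_smul]
    rfl
  · rintro ⟨G, rfl⟩
    obtain ⟨⟨g, s⟩, hs⟩ := IsLocalizedModule.surj T (P.dualLoc T 1) G
    dsimp only at hs
    refine smul_cancel T s ?_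
    rw [Submonoid.smul_def, ← LinearMap.map_smul_of_tower, ← LinearMap.smul_comp,
      ← Submonoid.smul_def, hs, dualLoc_comp, εT_dualLoc, (P.ε_ker _).2 ⟨g, rfl⟩, map_zero,
      smul_zero]

/-- The localisation of a dual resolution. -/
noncomputable def loc : DualRes (Localization T) (LocalizedModule T M) where
  D c := ModuleCat.of Sₜ (P.DT T c)
  finite c := Module.Finite.of_isLocalizedModule T (LocalizedModule.mkLinearMap T (P.D c))
  projective c := Module.projective_of_isLocalizedModule T (LocalizedModule.mkLinearMap T (P.D c))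
  d c := P.dT T c
  d_d c x := by
    have : P.dT T (c + 1) ∘ₗ P.dT T c = 0 := P.hom_ext T fun x => by
      rw [LinearMap.comp_apply, dT_mk, dT_mk, P.d_d, map_zero, LinearMap.zero_apply]
    exact LinearMap.congr_fun this x
  exact := P.exact_loc T
  ε := P.εT T
  ε_surjective := P.εT_surjective T
  ε_ker := P.εT_eq_zero_iff T

/-- Vanishing of the cohomology of the localised complex. -/
theorem subsingleton_loc_E_iff (c : ℕ) :
    Subsingleton ((P.loc T).E c) ↔ ∀ z ∈ LinearMap.ker (P.d c), ∃ t : T, t • z ∈ P.Bd c := by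
  rw [subsingleton_E_iff]
  let mk := fun c => LocalizedModule.mkLinearMap T (P.D c)
  constructor
  · intro h z hz
    have h1 : mk c z ∈ (P.loc T).Bd c := h (show P.dT T c (mk c z) = 0 by
      rw [dT_mk, LinearMap.mem_ker.1 hz, map_zero])
    cases c with
    | zero =>
      obtain ⟨t, ht⟩ := (IsLocalizedModule.eq_zero_iff T (mk 0)).1 ((Submodule.mem_bot _).1 h1)
      exact ⟨t, by rw [Bd, Submodule.mem_bot]; exact ht⟩
    | succ c =>
      obtain ⟨w, hw⟩ := h1
      obtain ⟨⟨w₀, s⟩, hs⟩ := IsLocalizedModule.surj T (mk c) w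
      dsimp only at hs
      have h2 : mk (c + 1) (P.d c w₀) = mk (c + 1) ((s : S) • z) := by
        rw [← dT_mk, ← hs, Submonoid.smul_def, LinearMap.map_smul_of_tower, map_smul]
        exact congrArg ((s : S) • ·) hw
      obtain ⟨t, ht⟩ := (IsLocalizedModule.eq_iff_exists T (mk (c + 1))).1 h2
      exact ⟨t * s, t • w₀, by rw [mul_smul, Submonoid.smul_def s, ← ht, Submonoid.smul_def,
        Submonoid.smul_def, map_smul]⟩
  · intro h z (hz : P.dT T c z = 0)
    obtain ⟨⟨z₀, s⟩, hs⟩ := IsLocalizedModule.surj T (mk c) z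
    dsimp only at hs
    have h0 : mk (c + 1) (P.d c z₀) = 0 := by
      rw [← dT_mk, ← hs, Submonoid.smul_def, LinearMap.map_smul_of_tower, hz, smul_zero]
    obtain ⟨t, ht⟩ := (IsLocalizedModule.eq_zero_iff T (mk (c + 1))).1 h0
    obtain ⟨r, hr⟩ := h ((t : S) • z₀) (by rw [LinearMap.mem_ker, map_smul]; exact ht)
    have hu : IsUnit (algebraMap S Sₜ ((r * t * s : T) : S)) := IsLocalization.map_units Sₜ _
    refine (Submodule.smul_mem_iff_of_isUnit (x := z) ((P.loc T).Bd c) hu).1 ?_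
    have key : ∀ y : P.DT T c, s • y = mk c z₀ →
        algebraMap S Sₜ ((r * t * s : T) : S) • y = mk c ((r : S) • ((t : S) • z₀)) := by
      intro y hy
      rw [algebraMap_smul, Submonoid.coe_mul, Submonoid.coe_mul, mul_smul, ← Submonoid.smul_def s,
        hy, ← map_smul, mul_smul]
    refine (congrArg (· ∈ (P.loc T).Bd c) (key z hs)).mpr ?_
    cases c with
    | zero =>
      rw [Bd, Submodule.mem_bot] at hr
      rw [← Submonoid.smul_def r, hr, map_zero]
      exact zero_mem _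
    | succ c =>
      obtain ⟨w, hw⟩ := hr
      exact ⟨mk c w, by
        rw [← Submonoid.smul_def r, ← hw]
        exact P.dT_mk T c w⟩

theorem subsingleton_loc_atPrime_iff (c : ℕ) (p : PrimeSpectrum S) :
    Subsingleton ((P.loc p.asIdeal.primeCompl).E c) ↔ p ∉ Module.support S (P.E c) := by
  rw [subsingleton_loc_E_iff, notMem_support_E_iff]
  exact forall₂_congr fun z _ => ⟨fun ⟨t, ht⟩ => ⟨t.1, t.2, ht⟩, fun ⟨t, ht, h⟩ => ⟨⟨t, ht⟩, h⟩⟩

end DualRes

end Groth.Agent.H4LC
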