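import Groth.Agent.H4LC.Torsion
import Mathlib.RingTheory.Nakayama
import Mathlib.RingTheory.FiniteLength

/-!
# Finite length modules over a local ring are power torsion
-/

set_option autoImplicit false

universe u v

open IsLocalRing

namespace Groth.Agent.H4LC

theorem exists_pow_smul_top_eq_bot_of_isFiniteLength {R : Type u} [CommRing R] [IsLocalRing R]
    {M : Type v} [AddCommGroup M] [Module R M] (hM : IsFiniteLength R M) :
    ∃ n : ℕ, maximalIdeal R ^ n • (⊤ : Submodule R M) = ⊥ := by
  obtain ⟨_, _⟩ := isFiniteLength_iff_isNoetherian_isArtinian.1 hM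
  obtain ⟨n, hn⟩ := IsArtinian.monotone_stabilizes
    (R := R) (M := M) ⟨fun k => OrderDual.toDual (maximalIdeal R ^ k • (⊤ : Submodule R M)),
      fun a b hab => Submodule.smul_mono_left (Ideal.pow_le_pow_right hab)⟩
  refine ⟨n, Submodule.eq_bot_of_le_smul_of_le_jacobson_bot (maximalIdeal R) _
    (IsNoetherian.noetherian _) ?_ (IsLocalRing.maximalIdeal_le_jacobson _)⟩
  have h1 : maximalIdeal R ^ n • (⊤ : Submodule R M) = maximalIdeal R ^ (n + 1) • ⊤ :=
    hn (n + 1) n.le_succ
  conv_lhs => rw [h1, pow_succ', Submodule.mul_smul]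

theorem isPowerTorsion_of_isFiniteLength {R : Type u} [CommRing R] [IsLocalRing R]
    {M : Type v} [AddCommGroup M] [Module R M] (hM : IsFiniteLength R M) :
    LocCoh.IsPowerTorsion (maximalIdeal R) M := by
  obtain ⟨n, hn⟩ := exists_pow_smul_top_eq_bot_of_isFiniteLength hM
  exact fun x => ⟨n, fun a ha => by
    rw [← Submodule.mem_bot R, ← hn]
    exact Submodule.smul_mem_smul ha trivial⟩

end Groth.Agent.H4LC
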