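import Groth.Agent.H4LC.Cd

/-!
# Grothendieck vanishing
-/

set_option autoImplicit false
set_option linter.unusedSectionVars false

universe u

open CategoryTheory CategoryTheory.Limits Opposite

namespace Groth.Agent.H4LC

variable {R : Type u} [CommRing R] [IsNoetherianRing R] (I : Ideal R)

theorem withBot_lt_of_add_one_lt {a b : WithBot ℕ∞} {i : ℕ} (h : a + 1 ≤ b) (hb : b < (i + 1 : ℕ)) :
    a < (i : ℕ) := by
  induction a using WithBot.recBotCoe with
  | bot => exact WithBot.bot_lt_coe _
  | coe a =>
    have h' : ((a + 1 : ℕ∞) : WithBot ℕ∞) < ((i + 1 : ℕ) : ℕ∞) := lt_of_le_of_lt h hb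
    rw [WithBot.coe_lt_coe, Nat.cast_add, Nat.cast_one, ENat.add_lt_add_iff_right ENat.one_ne_top] at h'
    exact WithBot.coe_lt_coe.2 h'

/-- The support dimension drops when the generic point is removed. -/
theorem supportDim_add_one_le {p : PrimeSpectrum R} {f : R} (hf : f ∉ p.asIdeal) {N C : Type u}
    [AddCommGroup N] [Module R N] [AddCommGroup C] [Module R C]
    (hN : Module.support R N = {q | p ≤ q}) (hCN : Module.support R C ⊆ Module.support R N)
    (hCf : LocCoh.IsPowerTorsion (Ideal.span {f}) C) :
    Module.supportDim R C + 1 ≤ Module.supportDim R N := by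
  rcases isEmpty_or_nonempty (Module.support R C) with he | hne
  · rw [show Module.supportDim R C = ⊥ from Order.krullDim_eq_bot, WithBot.bot_add]
    exact bot_le
  rw [Module.supportDim, Module.supportDim, Order.krullDim_eq_iSup_length]
  have hp : p ∈ Module.support R N := by rw [hN]; exact le_refl p
  rw [show ((1 : WithBot ℕ∞)) = ((1 : ℕ∞) : WithBot ℕ∞) from rfl, ← WithBot.coe_add, ENat.iSup_add,
    WithBot.coe_iSup (OrderTop.bddAbove _)]
  refine iSup_le fun l => ?_
  let l' : LTSeries (Module.support R N) := l.map (fun q => ⟨q.1, hCN q.2⟩) (fun _ _ h => h)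
  have hlt : (⟨p, hp⟩ : Module.support R N) < l'.head := by
    have hq : p ≤ (l.head).1 := by
      have := hCN l.head.2
      rwa [hN] at this
    refine lt_of_le_of_ne hq fun e => ?_
    have e' : p = l.head.1 := congrArg Subtype.val e
    obtain ⟨c, hc⟩ := Module.mem_support_iff'.1 l.head.2
    obtain ⟨n, hn⟩ := hCf c
    exact hc (f ^ n) (fun hmem => hf (p.isPrime.mem_of_pow_mem n (e' ▸ hmem)))
      (hn _ (Ideal.pow_mem_pow (Ideal.mem_span_singleton_self f) n))
  have := Order.LTSeries.length_le_krullDim (l'.cons ⟨p, hp⟩ hlt)
  simp only [RelSeries.cons_length] at this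
  exact_mod_cast this

/-- Vanishing above the dimension of the support. -/
theorem subsingleton_H_of_supportDim_lt : ∀ (i : ℕ) (M : Type u) [AddCommGroup M] [Module R M],
    Module.supportDim R M < (i : WithBot ℕ∞) → Subsingleton (LocCoh.H I i M) := by
  intro i
  induction i with
  | zero =>
    intro M _ _ h
    rcases subsingleton_or_nontrivial M with hs | hn
    · exact subsingleton_H_of_subsingleton I M 0
    · exact absurd h (not_lt.2 (Order.krullDim_nonneg_iff.2
        (Module.nonempty_support_of_nontrivial.to_subtype)))
  | succ i ih =>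
    intro M _ _ hM
    suffices key : ∀ (N : Type u) [AddCommGroup N] [Module R N] (_ : Module.Finite R N),
        Module.supportDim R N < ((i + 1 : ℕ) : WithBot ℕ∞) →
          Subsingleton (LocCoh.H I (i + 1) N) from
      subsingleton_H_of_fg I (i + 1) M fun S hS => key S (Module.Finite.iff_fg.2 hS)
        (lt_of_le_of_lt (Module.supportDim_le_of_injective S.subtype S.injective_subtype) hM)
    clear hM
    intro N _ _ hfin
    induction hfin using IsNoetherianRing.induction_on_isQuotientEquivQuotientPrime R with
    | subsingleton N => exact fun _ => subsingleton_H_of_subsingleton I N _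
    | exact N₁ N₂ N₃ f g hf hg hfg h₁ h₃ =>
      intro h
      exact subsingleton_H_mid I hf hg hfg _
        (h₁ (lt_of_le_of_lt (Module.supportDim_le_of_injective f hf) h))
        (h₃ (lt_of_le_of_lt (Module.supportDim_le_of_surjective g hg) h))
    | quotient N p e =>
      intro h
      refine subsingleton_H_congr I e.symm _ ?_
      by_cases hIp : I ≤ p.asIdeal
      · refine subsingleton_H_of_isPowerTorsion I _ _ (fun m => ⟨1, fun a ha => ?_⟩) i.succ_pos
        rw [pow_one] at ha
        obtain ⟨r, rfl⟩ := Submodule.Quotient.mk_surjective _ m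
        rw [← Submodule.Quotient.mk_smul, Submodule.Quotient.mk_eq_zero, smul_eq_mul]
        exact Ideal.mul_mem_right _ _ (hIp ha)
      obtain ⟨f, hfI, hfp⟩ := SetLike.not_le_iff_exists.1 hIp
      let g := LocalizedModule.mkLinearMap (Submonoid.powers f) (R ⧸ p.asIdeal)
      have hg : Function.Injective g := by
        rw [injective_iff_map_eq_zero]
        intro m hm
        rw [LocalizedModule.mkLinearMap_apply, ← LocalizedModule.zero_mk 1, LocalizedModule.mk_eq]
          at hm
        obtain ⟨⟨_, k, rfl⟩, hk⟩ := hm
        obtain ⟨r, rfl⟩ := Submodule.Quotient.mk_surjective _ m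
        simp only [Submonoid.smul_def, one_smul, smul_zero] at hk
        rw [← Submodule.Quotient.mk_smul, Submodule.Quotient.mk_eq_zero, smul_eq_mul] at hk
        rw [Submodule.Quotient.mk_eq_zero]
        exact (p.isPrime.mem_or_mem hk).resolve_left fun hh => hfp (p.isPrime.mem_of_pow_mem k hh)
      have htor : LocCoh.IsPowerTorsion (Ideal.span {f})
          (LocalizedModule (Submonoid.powers f) (R ⧸ p.asIdeal) ⧸ LinearMap.range g) := by
        intro x
        obtain ⟨y, rfl⟩ := Submodule.Quotient.mk_surjective _ x
        induction y using LocalizedModule.induction_on with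
        | h m s =>
          obtain ⟨_, k, rfl⟩ := s
          refine ⟨k, fun a ha => ?_⟩
          rw [Ideal.span_singleton_pow, Ideal.mem_span_singleton'] at ha
          obtain ⟨c, rfl⟩ := ha
          rw [← Submodule.Quotient.mk_smul, Submodule.Quotient.mk_eq_zero]
          refine ⟨c • m, ?_⟩
          rw [LocalizedModule.mkLinearMap_apply, LocalizedModule.smul'_mk, LocalizedModule.mk_eq]
          exact ⟨1, by simp [Submonoid.smul_def, smul_smul, mul_comm]⟩
      have hsupp : Module.support R (R ⧸ p.asIdeal) = {q | p ≤ q} := by
        rw [Module.support_eq_zeroLocus, Ideal.annihilator_quotient]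
        exact Set.ext fun q => Iff.rfl
      have hsub : Module.support R
          (LocalizedModule (Submonoid.powers f) (R ⧸ p.asIdeal) ⧸ LinearMap.range g) ⊆
          Module.support R (R ⧸ p.asIdeal) := by
        intro q hq
        obtain ⟨x, hx⟩ := Module.mem_support_iff'.1 hq
        obtain ⟨y, rfl⟩ := Submodule.Quotient.mk_surjective _ x
        induction y using LocalizedModule.induction_on with
        | h m s =>
          refine Module.mem_support_iff'.2 ⟨m, fun r hr hrm => hx r hr ?_⟩
          rw [← Submodule.Quotient.mk_smul, LocalizedModule.smul'_mk, hrm, LocalizedModule.zero_mk]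
          rfl
      refine subsingleton_H_left I hg (LinearMap.range g).mkQ_surjective
        (LinearMap.exact_map_mkQ_range g) i (ih _ ?_)
        (subsingleton_H_of_bijective I hfI ((Module.End.isUnit_iff _).1
          (IsLocalizedModule.map_units g ⟨f, Submonoid.mem_powers f⟩)) _)
      exact withBot_lt_of_add_one_lt (supportDim_add_one_le hfp hsupp hsub htor)
        ((Module.supportDim_eq_of_equiv e).symm.trans_lt h)

theorem cdLE_of_ringKrullDim_le {d : ℕ} (hd : ringKrullDim R ≤ d) : LocCoh.CdLE R I d := by
  intro M _ _ i hi
  refine subsingleton_H_of_supportDim_lt I i M ?_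
  exact lt_of_le_of_lt (Module.supportDim_le_ringKrullDim R M |>.trans hd) (by exact_mod_cast hi)

end Groth.Agent.H4LC
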