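import Groth.Agent.H4LC.Artinian
import Groth.Agent.H4LC.CdDim
import Groth.Agent.H4Depth.CM
import Mathlib.RingTheory.KrullDimension.Regular
import Mathlib.RingTheory.LocalRing.Module

/-!
# Grothendieck non-vanishing
-/

set_option autoImplicit false
set_option linter.unusedSectionVars false

universe u

open IsLocalRing TensorProduct

namespace Groth.Agent.H4LC

variable {R : Type u} [CommRing R] [IsNoetherianRing R]

/-- An Artinian module is, up to a power of `m`, divisible by all elements outside finitely many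
primes different from `m`. -/
theorem exists_divisible_of_isArtinian (m : Ideal R) {T : Type u} [AddCommGroup T] [Module R T]
    [IsArtinian R T] (U : Submodule R T) :
    ∃ (Q : Finset (Ideal R)) (l : ℕ), (∀ q ∈ Q, q.IsPrime ∧ q ≠ m) ∧
      ∀ x, (∀ q ∈ Q, x ∉ q) → ∀ n : ℕ, ∀ a ∈ m ^ l, ∀ u ∈ U, ∃ v ∈ U, x ^ n • v = a • u := by
  classical
  induction U using (IsWellFounded.wf (α := Submodule R T) (r := (· < ·))).induction with
  | _ U ih =>
  by_cases hsec : ∀ x : R, (∀ u ∈ U, ∃ v ∈ U, x • v = u) ∨ ∃ k : ℕ, ∀ u ∈ U, x ^ k • u = 0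
  · by_cases hU : U = ⊥
    · subst hU
      exact ⟨∅, 0, by simp, fun x _ n a _ u hu => ⟨0, zero_mem _, by
        rw [(Submodule.mem_bot R).1 hu, smul_zero, smul_zero]⟩⟩
    let p : Ideal R := (Submodule.annihilator U).radical
    have hp : p.IsPrime := by
      refine ⟨fun h => hU ?_, fun {a b} hab => ?_⟩
      · obtain ⟨k, hk⟩ := (Ideal.eq_top_iff_one _).1 h
        rw [one_pow] at hk
        refine (Submodule.eq_bot_iff U).2 fun u hu => ?_
        simpa using Submodule.mem_annihilator.1 hk u hu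
      · rcases hsec a with ha | ⟨k, hk⟩
        · obtain ⟨k, hk⟩ := hab
          refine Or.inr ⟨k, Submodule.mem_annihilator.2 fun u hu => ?_⟩
          have : ∀ j : ℕ, ∀ u ∈ U, ∃ v ∈ U, a ^ j • v = u := fun j => by
            induction j with
            | zero => exact fun u hu => ⟨u, hu, by simp⟩
            | succ j ihj =>
              intro u hu
              obtain ⟨v, hv, rfl⟩ := ihj u hu
              obtain ⟨w, hw, rfl⟩ := ha v hv
              exact ⟨w, hw, by rw [pow_succ, mul_smul]⟩
          obtain ⟨v, hv, rfl⟩ := this k u hu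
          rw [smul_smul, ← mul_pow, mul_comm b a]
          exact Submodule.mem_annihilator.1 hk v hv
        · exact Or.inl ⟨k, Submodule.mem_annihilator.2 hk⟩
    by_cases hpm : p = m
    · obtain ⟨l, hl⟩ := Ideal.exists_radical_pow_le_of_fg (Submodule.annihilator U)
        (IsNoetherian.noetherian _)
      refine ⟨∅, l, by simp, fun x _ n a ha u hu => ⟨0, zero_mem _, ?_⟩⟩
      rw [smul_zero, Submodule.mem_annihilator.1 (hl (show a ∈ p ^ l from hpm ▸ ha)) u hu]
    · refine ⟨{p}, 0, fun q hq => by rw [Finset.mem_singleton.1 hq]; exact ⟨hp, hpm⟩,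
        fun x hx n a _ u hu => ?_⟩
      have hsurj : ∀ u ∈ U, ∃ v ∈ U, x • v = u := (hsec x).resolve_right fun ⟨k, hk⟩ =>
        hx p (Finset.mem_singleton_self p) ⟨k, Submodule.mem_annihilator.2 hk⟩
      have : ∀ j : ℕ, ∀ u ∈ U, ∃ v ∈ U, x ^ j • v = u := fun j => by
        induction j with
        | zero => exact fun u hu => ⟨u, hu, by simp⟩
        | succ j ihj =>
          intro u hu
          obtain ⟨v, hv, rfl⟩ := ihj u hu
          obtain ⟨w, hw, rfl⟩ := hsurj v hv
          exact ⟨w, hw, by rw [pow_succ, mul_smul]⟩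
      exact this n _ (U.smul_mem a hu)
  · obtain ⟨x₀, hns, hnn⟩ : ∃ x : R, (¬ ∀ u ∈ U, ∃ v ∈ U, x • v = u) ∧
        ¬ ∃ k : ℕ, ∀ u ∈ U, x ^ k • u = 0 := by simpa only [not_forall, not_or] using hsec
    let f : ℕ →o (Submodule R T)ᵒᵈ := ⟨fun k => OrderDual.toDual
      (U.map (x₀ ^ k • LinearMap.id : T →ₗ[R] T)), fun i j hij => by
        rintro _ ⟨u, hu, rfl⟩
        exact ⟨x₀ ^ (j - i) • u, U.smul_mem _ hu, by
          simp [smul_smul, ← pow_add, Nat.sub_add_cancel hij]⟩⟩
    obtain ⟨k, hk⟩ := monotone_stabilizes_iff_artinian.2 inferInstance f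
    let k' := k + 1
    let U₁ : Submodule R T := U.map (x₀ ^ k' • LinearMap.id : T →ₗ[R] T)
    let U₂ : Submodule R T := U ⊓ LinearMap.ker (x₀ ^ k' • LinearMap.id : T →ₗ[R] T)
    have h1 : U₁ < U := by
      refine lt_of_le_of_ne ?_ fun h => hns fun u hu => ?_
      · rintro _ ⟨u, hu, rfl⟩; exact U.smul_mem _ hu
      · rw [← h] at hu
        obtain ⟨w, hw, rfl⟩ := hu
        exact ⟨x₀ ^ k • w, U.smul_mem _ hw, by simp [k', smul_smul, pow_succ']⟩
    have h2 : U₂ < U := lt_of_le_of_ne inf_le_left fun h => hnn ⟨k', fun u hu => by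
      rw [← h] at hu; simpa using hu.2⟩
    obtain ⟨Q₁, l₁, hQ₁, hd₁⟩ := ih U₁ h1
    obtain ⟨Q₂, l₂, hQ₂, hd₂⟩ := ih U₂ h2
    refine ⟨Q₁ ∪ Q₂, max l₁ l₂, fun q hq => (Finset.mem_union.1 hq).elim (hQ₁ q) (hQ₂ q),
      fun x hx n a ha u hu => ?_⟩
    have hfk : U₁ = U.map (x₀ ^ (k' + k') • LinearMap.id : T →ₗ[R] T) :=
      (hk k' (k.le_succ)).symm.trans (hk (k' + k') (le_trans k.le_succ (Nat.le_add_right _ _)))
    obtain ⟨w, hw, hwu⟩ : x₀ ^ k' • u ∈ U.map (x₀ ^ (k' + k') • LinearMap.id : T →ₗ[R] T) :=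
      hfk ▸ (Submodule.mem_map_of_mem hu : (x₀ ^ k' • LinearMap.id : T →ₗ[R] T) u ∈ U₁)
    have hu₁ : x₀ ^ k' • w ∈ U₁ := Submodule.mem_map_of_mem
      (f := (x₀ ^ k' • LinearMap.id : T →ₗ[R] T)) hw
    have hu₂ : u - x₀ ^ k' • w ∈ U₂ := by
      refine ⟨sub_mem hu (U.smul_mem _ hw), ?_⟩
      simp only [LinearMap.smul_apply, LinearMap.id_apply] at hwu
      simp [smul_sub, smul_smul, ← pow_add, hwu]
    obtain ⟨v₁, hv₁, e₁⟩ := hd₁ x (fun q hq => hx q (Finset.mem_union_left _ hq)) n a
      (Ideal.pow_le_pow_right (le_max_left _ _) ha) _ hu₁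
    obtain ⟨v₂, hv₂, e₂⟩ := hd₂ x (fun q hq => hx q (Finset.mem_union_right _ hq)) n a
      (Ideal.pow_le_pow_right (le_max_right _ _) ha) _ hu₂
    exact ⟨v₁ + v₂, add_mem (h1.le hv₁) (h2.le hv₂), by
      rw [smul_add, e₁, e₂, ← smul_add, add_sub_cancel]⟩

/-- A nonzero map to `R ⧸ p` for `p` in the support. -/
theorem exists_map_quotient_ne_zero {M : Type u} [AddCommGroup M] [Module R M] [Module.Finite R M]
    {p : PrimeSpectrum R} (hp : p ∈ Module.support R M) :
    ∃ f : M →ₗ[R] R ⧸ p.asIdeal, f ≠ 0 := by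
  classical
  have := (Module.mem_support_iff_nontrivial_residueField_tensorProduct p).1 hp
  let K := p.asIdeal.ResidueField
  obtain ⟨z, hz⟩ := exists_ne (0 : K ⊗[R] M)
  obtain ⟨φ, hφ⟩ := Module.Projective.exists_dual_ne_zero K hz
  let g : M →ₗ[R] K := φ.restrictScalars R ∘ₗ TensorProduct.mk R K M 1
  have hg : g ≠ 0 := by
    intro h
    refine hφ ?_
    clear hφ hz
    induction z using TensorProduct.induction_on with
    | zero => exact map_zero φ
    | tmul a x =>
      rw [show a ⊗ₜ[R] x = a • (1 : K) ⊗ₜ[R] x by rw [smul_tmul', smul_eq_mul, mul_one], map_smul,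
        show φ ((1 : K) ⊗ₜ[R] x) = 0 from LinearMap.congr_fun h x, smul_zero]
    | add x y hx hy => rw [map_add, hx, hy, add_zero]
  obtain ⟨s, hs⟩ := Module.Finite.fg_top (R := R) (M := M)
  obtain ⟨b, hb⟩ := IsLocalization.exist_integer_multiples_of_finset
    (nonZeroDivisors (R ⧸ p.asIdeal)) (s.image g)
  obtain ⟨b', hb'⟩ := Ideal.Quotient.mk_surjective (b : R ⧸ p.asIdeal)
  let j : (R ⧸ p.asIdeal) →ₗ[R] K :=
    (IsScalarTower.toAlgHom R (R ⧸ p.asIdeal) K).toLinearMap
  have hj : Function.Injective j := IsFractionRing.injective (R ⧸ p.asIdeal) K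
  have hbK : algebraMap R K b' = algebraMap (R ⧸ p.asIdeal) K b.1 := by
    rw [IsScalarTower.algebraMap_apply R (R ⧸ p.asIdeal) K, Ideal.Quotient.algebraMap_eq, hb']
  have hmem : ∀ x, (b' • g) x ∈ LinearMap.range j := fun x => by
    have hx : x ∈ Submodule.span R (s : Set M) := hs ▸ Submodule.mem_top
    induction hx using Submodule.span_induction with
    | mem y hy =>
      obtain ⟨c, hc⟩ := hb (g y) (Finset.mem_image_of_mem _ hy)
      refine ⟨c, ?_⟩
      rw [LinearMap.smul_apply, Algebra.smul_def, hbK]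
      exact hc.trans (Algebra.smul_def _ _)
    | zero => rw [map_zero]; exact zero_mem _
    | add y z _ _ hy hz => rw [map_add]; exact add_mem hy hz
    | smul r y _ hy => rw [map_smul]; exact Submodule.smul_mem _ r hy
  let e := LinearEquiv.ofInjective j hj
  refine ⟨e.symm.toLinearMap ∘ₗ (b' • g).codRestrict _ hmem, fun h => hg (LinearMap.ext fun x => ?_)⟩
  have h1 := congrArg Subtype.val (congrArg e (LinearMap.congr_fun h x))
  simp only [LinearMap.comp_apply, LinearEquiv.coe_coe, LinearEquiv.apply_symm_apply,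
    LinearMap.zero_apply, map_zero, ZeroMemClass.coe_zero, LinearMap.codRestrict_apply,
    LinearMap.smul_apply, Algebra.smul_def, hbK, mul_eq_zero] at h1
  exact h1.resolve_left ((map_ne_zero_iff _ (IsFractionRing.injective _ K)).2
    (nonZeroDivisors.ne_zero b.2))

variable [IsLocalRing R]

theorem isPowerTorsion_of_supportDim_eq_zero {M : Type u} [AddCommGroup M] [Module R M]
    [Module.Finite R M] (h : Module.supportDim R M = 0) :
    LocCoh.IsPowerTorsion (maximalIdeal R) M := by
  have hs := support_of_supportDim_eq_zero R M h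
  have hle : maximalIdeal R ≤ (Module.annihilator R M).radical := by
    intro a ha
    rw [← PrimeSpectrum.vanishingIdeal_zeroLocus_eq_radical, ← Module.support_eq_zeroLocus, hs,
      PrimeSpectrum.mem_vanishingIdeal]
    intro q hq
    have : maximalIdeal R ≤ q.asIdeal := by
      simpa [PrimeSpectrum.mem_zeroLocus] using hq
    exact this ha
  obtain ⟨l, hl⟩ := Ideal.exists_pow_le_of_le_radical_of_fg hle (IsNoetherian.noetherian _)
  exact fun m => ⟨l, fun a ha => Module.mem_annihilator.1 (hl ha) m⟩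

theorem coe_lt_of_add_one_le {a b : WithBot ℕ∞} {d : ℕ} (h : a + 1 ≤ b) (hb : b ≤ (d : ℕ)) :
    a < (d : ℕ) :=
  withBot_lt_of_add_one_lt h (lt_of_le_of_lt hb (by exact_mod_cast Nat.lt_succ_self d))

/-- Top local cohomology is nonzero and, in positive dimension, killed by no power of `m`. -/
theorem nontrivial_H_supportDim : ∀ (d : ℕ) (M : Type u) [AddCommGroup M] [Module R M]
    [Module.Finite R M], Module.supportDim R M = d →
      Nontrivial (LocCoh.H (maximalIdeal R) d M) ∧
      (0 < d → ¬ ∃ k : ℕ, ∀ a ∈ maximalIdeal R ^ k, ∀ z : LocCoh.H (maximalIdeal R) d M,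
        a • z = 0) := by
  intro d
  induction d with
  | zero =>
    intro M _ _ _ hM
    refine ⟨?_, fun h => absurd h (lt_irrefl 0)⟩
    have : Nontrivial M := by
      rw [← not_subsingleton_iff_nontrivial]
      intro hs
      rw [Module.supportDim_eq_bot_of_subsingleton] at hM
      exact absurd hM WithBot.bot_ne_coe
    exact (zeroEquivOfTorsion (maximalIdeal R) (isPowerTorsion_of_supportDim_eq_zero hM)).symm.injective.nontrivial
  | succ d ih =>
    suffices key : ∀ (M : Type u) [AddCommGroup M] [Module R M] [Module.Finite R M],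
        Module.supportDim R M = ((d + 1 : ℕ) : WithBot ℕ∞) →
        ¬ ∃ k : ℕ, ∀ a ∈ maximalIdeal R ^ k,
          ∀ z : LocCoh.H (maximalIdeal R) (d + 1) M, a • z = 0 by
      intro M _ _ _ hM
      refine ⟨?_, fun _ => key M hM⟩
      by_contra h
      rw [not_nontrivial_iff_subsingleton] at h
      exact key M hM ⟨0, fun a _ z => Subsingleton.elim _ _⟩
    intro M _ _ _ hM
    rintro ⟨k, hk⟩
    -- a prime `p` in the support with `dim R/p = d + 1`
    have hne : Nonempty (Module.support R M) := by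
      by_contra hemp
      rw [not_nonempty_iff] at hemp
      rw [show Module.supportDim R M = ⊥ from Order.krullDim_eq_bot] at hM
      exact WithBot.bot_ne_coe hM
    obtain ⟨l, hl⟩ := Order.le_krullDim_iff.1 (hM.ge : _ ≤ Order.krullDim (Module.support R M))
    let p : PrimeSpectrum R := l.head.1
    have hp : p ∈ Module.support R M := l.head.2
    let A := R ⧸ p.asIdeal
    have hsupp : Module.support R A = {q | p ≤ q} := by
      rw [Module.support_eq_zeroLocus, Ideal.annihilator_quotient]
      exact Set.ext fun q => Iff.rfl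
    have hAd : Module.supportDim R A = ((d + 1 : ℕ) : WithBot ℕ∞) := by
      refine le_antisymm ?_ ?_
      · rw [← hM, Groth.Agent.H4Depth.supportDim_eq_ringKrullDim_quotient_of_support_eq
          (p := p.asIdeal) (by rw [hsupp]; exact Set.ext fun q => Iff.rfl)]
        exact Groth.Agent.H4Depth.ringKrullDim_quotient_le_supportDim hp
      · refine Order.le_krullDim_iff.2 ⟨⟨l.length, fun i => ⟨(l i).1, ?_⟩, fun i => l.step i⟩, hl⟩
        rw [hsupp]
        exact Subtype.coe_le_coe.2 (l.monotone (Fin.zero_le i))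
    -- `H^{d+1}(M) → H^{d+1}(A)` is surjective
    obtain ⟨f, hf⟩ := exists_map_quotient_ne_zero hp
    have hsurj : Function.Surjective (Hmap (maximalIdeal R) f (d + 1)) := by
      obtain ⟨y, hy⟩ : ∃ y, f y ≠ 0 := not_forall.1 fun h => hf (LinearMap.ext h)
      obtain ⟨r, hr⟩ := Submodule.Quotient.mk_surjective _ (f y)
      have hrp : r ∉ p.asIdeal := fun h => hy (hr.symm.trans ((Submodule.Quotient.mk_eq_zero _).2 h))
      have htor : LocCoh.IsPowerTorsion (Ideal.span {r}) (A ⧸ LinearMap.range f) := fun q => by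
        obtain ⟨q, rfl⟩ := Submodule.Quotient.mk_surjective _ q
        obtain ⟨c, rfl⟩ := Submodule.Quotient.mk_surjective _ q
        refine ⟨1, fun a ha => ?_⟩
        rw [pow_one, Ideal.mem_span_singleton'] at ha
        obtain ⟨e, rfl⟩ := ha
        rw [← Submodule.Quotient.mk_smul, Submodule.Quotient.mk_eq_zero]
        refine ⟨(e * c) • y, ?_⟩
        rw [map_smul, ← hr, ← Submodule.Quotient.mk_smul, ← Submodule.Quotient.mk_smul]
        exact congrArg _ (by simp only [smul_eq_mul]; ring)
      have hC : Module.supportDim R (A ⧸ LinearMap.range f) < ((d + 1 : ℕ) : WithBot ℕ∞) :=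
        coe_lt_of_add_one_le (supportDim_add_one_le hrp hsupp
          (Module.support_subset_of_surjective _ (LinearMap.range f).mkQ_surjective) htor) hAd.le
      have hK : Module.supportDim R (LinearMap.ker f) < ((d + 1 + 1 : ℕ) : WithBot ℕ∞) :=
        lt_of_le_of_lt ((Module.supportDim_le_of_injective _ (LinearMap.ker f).injective_subtype).trans
          hM.le) (by exact_mod_cast Nat.lt_succ_self (d + 1))
      have h : f = (LinearMap.range f).subtype ∘ₗ f.rangeRestrict := rfl
      rw [h, Hmap_comp, LinearMap.coe_comp]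
      refine Function.Surjective.comp (fun z => ?_) fun z => ?_
      · exact (exactH₂ _ (LinearMap.range f).injective_subtype (LinearMap.range f).mkQ_surjective
          (LinearMap.exact_subtype_mkQ _) (d + 1) z).1
          (@Subsingleton.elim _ (subsingleton_H_of_supportDim_lt _ _ _ hC) _ _)
      · exact (exactH₃ _ (LinearMap.ker f).injective_subtype f.surjective_rangeRestrict
          (LinearMap.exact_iff.2 (by rw [LinearMap.ker_rangeRestrict, Submodule.range_subtype]))
          (d + 1) z).1 (@Subsingleton.elim _ (subsingleton_H_of_supportDim_lt _ _ _ hK) _ _)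
    have hkA : ∀ a ∈ maximalIdeal R ^ k, ∀ z : LocCoh.H (maximalIdeal R) (d + 1) A, a • z = 0 :=
      fun a ha z => by
        obtain ⟨w, rfl⟩ := hsurj z
        rw [← map_smul, hk a ha w, map_zero]
    -- the choice of a parameter
    have hreg : ∀ x, x ∉ p.asIdeal → IsSMulRegular A x := fun x hx a b hab => by
      obtain ⟨a, rfl⟩ := Submodule.Quotient.mk_surjective _ a
      obtain ⟨b, rfl⟩ := Submodule.Quotient.mk_surjective _ b
      refine (Submodule.Quotient.eq _).2 ?_
      have h := (Submodule.Quotient.eq _).1 hab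
      rw [← smul_sub, smul_eq_mul] at h
      exact (p.isPrime.mem_or_mem h).resolve_left hx
    have hdim : ∀ x ∈ maximalIdeal R, x ∉ p.asIdeal →
        Module.supportDim R (QuotSMulTop x A) = (d : WithBot ℕ∞) := fun x hx hxp => by
      have hann : Module.annihilator R A ≠ ⊤ := by
        rw [Ideal.annihilator_quotient]; exact p.isPrime.ne_top
      have h := Module.supportDim_quotSMulTop_succ_eq_supportDim_mem_jacobson (hreg x hxp)
        (by rw [IsLocalRing.jacobson_eq_maximalIdeal _ hann]; exact hx)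
      refine Groth.Agent.H4Depth.withBot_add_one_cancel (h.trans (hAd.trans ?_))
      push_cast
      rfl
    have hpm : p.asIdeal ≠ maximalIdeal R := fun h => by
      have h1 : ringKrullDim A = 0 := by
        have : (p.asIdeal).IsMaximal := h ▸ maximalIdeal.isMaximal R
        exact ringKrullDim_eq_zero_of_isField (Ideal.Quotient.maximal_ideal_iff_isField_quotient _ |>.1 this)
      rw [Groth.Agent.H4Depth.supportDim_eq_ringKrullDim_quotient_of_support_eq
          (p := p.asIdeal) (by rw [hsupp]; exact Set.ext fun q => Iff.rfl), h1] at hAd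
      exact absurd hAd.symm (by exact_mod_cast (Nat.succ_ne_zero d))
    have := isArtinian_H (R := R) d A
    obtain ⟨Q, lQ, hQ, hdiv⟩ := exists_divisible_of_isArtinian (maximalIdeal R)
      (⊤ : Submodule R (LocCoh.H (maximalIdeal R) d A))
    obtain ⟨x, hxm, hxQ⟩ : ∃ x ∈ maximalIdeal R, ∀ q ∈ insert p.asIdeal Q, x ∉ q := by
      classical
      by_contra! h
      obtain ⟨q, hq, hle⟩ := (Ideal.subset_union_prime (f := id) (s := insert p.asIdeal Q) ⊤ ⊤
        (fun q hq _ _ => ((Finset.mem_insert.1 hq).elim (fun e => e ▸ p.isPrime)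
          fun hq => (hQ q hq).1))).1 (fun x hx => by
          obtain ⟨q, hq, hxq⟩ := h x hx
          exact Set.mem_iUnion₂.2 ⟨q, Finset.mem_coe.2 hq, hxq⟩)
      have hqP : q.IsPrime ∧ q ≠ maximalIdeal R :=
        (Finset.mem_insert.1 hq).elim (fun e => e ▸ ⟨p.isPrime, hpm⟩) (hQ q)
      exact hqP.2 (le_antisymm (le_maximalIdeal hqP.1.ne_top) hle)
    classical
    have hxp : x ∉ p.asIdeal := hxQ _ (Finset.mem_insert_self _ _)
    have hxkp : x ^ (k + 1) ∉ p.asIdeal := fun h => hxp (p.isPrime.mem_of_pow_mem _ h)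
    have hxkm : x ^ (k + 1) ∈ maximalIdeal R :=
      Ideal.pow_mem_of_mem _ hxm _ k.succ_pos
    let μ : A →ₗ[R] A := x ^ (k + 1) • LinearMap.id
    have hμ : Function.Injective μ := fun a b hab => hreg _ hxkp hab
    have hg := (LinearMap.range μ).mkQ_surjective
    have hex := LinearMap.exact_map_mkQ_range μ
    have hN : Module.supportDim R (A ⧸ LinearMap.range μ) = (d : WithBot ℕ∞) := by
      refine (Module.supportDim_eq_of_equiv ?_).trans (hdim _ hxkm hxkp)
      exact Submodule.quotEquivOfEq _ _ (by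
        rw [← Submodule.map_top]; rfl)
    -- `H^{d+1}(A) = 0`
    have hT : Subsingleton (LocCoh.H (maximalIdeal R) (d + 1) A) := by
      refine subsingleton_of_forall_eq 0 fun z => ?_
      have hN0 := subsingleton_H_of_supportDim_lt (maximalIdeal R) (d + 1)
        (A ⧸ LinearMap.range μ) (hN.trans_lt (by exact_mod_cast Nat.lt_succ_self d))
      obtain ⟨w, rfl⟩ := (exactH₂ _ hμ hg hex (d + 1) z).1 (Subsingleton.elim _ _)
      rw [Hmap_smul_id]
      exact hkA _ (Ideal.pow_le_pow_right k.le_succ (Ideal.pow_mem_pow hxm _)) w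
    have hs : Function.Surjective (Hmap (maximalIdeal R) (LinearMap.range μ).mkQ d) := fun z =>
      (exactH₃ _ hμ hg hex d z).1 (Subsingleton.elim _ _)
    obtain ⟨hnt, hpos⟩ := ih (A ⧸ LinearMap.range μ) hN
    rcases Nat.eq_zero_or_pos d with hd | hd
    · subst hd
      have h0 : Subsingleton (LocCoh.H (maximalIdeal R) 0 A) := by
        refine subsingleton_of_forall_eq 0 fun z => (zeroEquiv _ A).injective (Subtype.ext ?_)
        obtain ⟨n, hn⟩ := (zeroEquiv _ A z).2
        rw [map_zero, ZeroMemClass.coe_zero]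
        refine hreg (x ^ n) (fun h => hxp (p.isPrime.mem_of_pow_mem _ h)) ?_
        exact (hn _ (Ideal.pow_mem_pow hxm n)).trans (smul_zero _).symm
      exact not_nontrivial_iff_subsingleton.2 hs.subsingleton hnt
    · refine hpos hd ⟨lQ, fun a ha z => ?_⟩
      obtain ⟨w, rfl⟩ := hs z
      obtain ⟨v, -, hv⟩ := hdiv x (fun q hq => hxQ q (Finset.mem_insert_of_mem hq)) (k + 1) a ha w
        Submodule.mem_top
      rw [← map_smul, ← hv, ← Hmap_smul_id (maximalIdeal R) A (x ^ (k + 1)) d v]
      exact (exactH₂ _ hμ hg hex d).apply_apply_eq_zero v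

end Groth.Agent.H4LC
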