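import Groth.Agent.H4LC.Rees
import Groth.Agent.H4LC.DualIso
import Groth.Agent.H4LC.DualResLocal
import Groth.Agent.H4LC.FiniteLength
import Groth.Agent.H4LC.Nonvanishing
import Groth.Agent.H4Goren.Basic
import Groth.Agent.H4Depth.LocDepth
import Groth.Agent.H4Depth.CM
import Mathlib.RingTheory.TensorProduct.Quotient
import Mathlib.RingTheory.Localization.AtPrime.Basic

/-!
# Quotients of Gorenstein local rings: the module `Ext^c(B/J, B)`
-/

set_option autoImplicit false
set_option linter.unusedSectionVars false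
set_option linter.style.haveILetI false

universe u

open IsLocalRing CategoryTheory

namespace Groth.Agent.H4LC

namespace DualRes

variable {S : Type u} [CommRing S] {M : Type u} [AddCommGroup M] [Module S M]

/-- Transport along an isomorphism. -/
noncomputable def ofEquiv (P : DualRes S M) {N : Type u} [AddCommGroup N] [Module S N]
    (e : M ≃ₗ[S] N) : DualRes S N where
  D := P.D
  finite := P.finite
  projective := P.projective
  d := P.d
  d_d := P.d_d
  exact := P.exact
  ε := e.toLinearMap ∘ₗ P.ε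
  ε_surjective := e.surjective.comp P.ε_surjective
  ε_ker f := by
    rw [LinearMap.comp_apply, LinearEquiv.coe_coe, e.map_eq_zero_iff]
    exact P.ε_ker f

variable [IsNoetherianRing S]

/-- Killing cohomology localises. -/
theorem smul_mem_loc_Bd (P : DualRes S M) (T : Submonoid S) (c : ℕ) (b : S)
    (hb : ∀ z ∈ LinearMap.ker (P.d c), b • z ∈ P.Bd c) (z : P.DT T c)
    (hz : P.dT T c z = 0) : algebraMap S (Localization T) b • z ∈ (P.loc T).Bd c := by
  let mk := fun c => LocalizedModule.mkLinearMap T (P.D c)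
  obtain ⟨⟨z₀, s⟩, hs⟩ := IsLocalizedModule.surj T (mk c) z
  dsimp only at hs
  have h0 : mk (c + 1) (P.d c z₀) = 0 := by
    rw [← dT_mk, ← hs, Submonoid.smul_def, LinearMap.map_smul_of_tower, hz, smul_zero]
  obtain ⟨t, ht⟩ := (IsLocalizedModule.eq_zero_iff T (mk (c + 1))).1 h0
  have hr := hb ((t : S) • z₀) (by rw [LinearMap.mem_ker, map_smul]; exact ht)
  refine (Submodule.smul_mem_iff_of_isUnit (x := algebraMap S (Localization T) b • z)
    ((P.loc T).Bd c) (IsLocalization.map_units (Localization T) (t * s))).1 ?_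
  have key : ∀ y : P.DT T c, s • y = mk c z₀ →
      algebraMap S (Localization T) ((t * s : T) : S) • (algebraMap S (Localization T) b • y) =
        mk c (b • (t : S) • z₀) := by
    intro y hy
    rw [algebraMap_smul, algebraMap_smul, Submonoid.coe_mul, mul_smul, smul_comm (s : S) b,
      ← Submonoid.smul_def s, hy, smul_comm (t : S) b, ← map_smul, ← map_smul]
  refine (congrArg (· ∈ (P.loc T).Bd c) (key z hs)).mpr ?_
  cases c with
  | zero =>
    rw [Bd, Submodule.mem_bot] at hr
    rw [hr, map_zero]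
    exact zero_mem _
  | succ c =>
    obtain ⟨w, hw⟩ := hr
    exact ⟨mk c w, by rw [← hw]; exact P.dT_mk T c w⟩

end DualRes

/-- Localisations of a Gorenstein local ring are Gorenstein. -/
theorem isGorensteinLocalRing_localization (B : Type u) [CommRing B] [LocCoh.IsGorensteinLocalRing B]
    (p : Ideal B) [p.IsPrime] : LocCoh.IsGorensteinLocalRing (Localization.AtPrime p) := by
  obtain ⟨h, -, hh, -⟩ := H4Goren.depth_eq_ringKrullDim B
  obtain ⟨P⟩ := nonempty_dualRes_of_finite (S := B) (B ⧸ p)
  let A := Localization.AtPrime p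
  let e : LocalizedModule p.primeCompl (B ⧸ p) ≃ₗ[A] ResidueField A :=
    (LocalizedModule.equivTensorProduct p.primeCompl (B ⧸ p)).trans
      ((Algebra.TensorProduct.quotIdealMapEquivTensorQuot A p).symm.toLinearEquiv.trans
        (Submodule.quotEquivOfEq _ _ (Localization.AtPrime.map_eq_maximalIdeal (I := p))))
  refine (H4Goren.isGorensteinLocalRing_iff_ext A).2 ⟨h + 1, fun i hi => ?_⟩
  refine (((P.loc p.primeCompl).ofEquiv e).subsingleton_ext_iff i).2 ?_
  refine (P.subsingleton_loc_atPrime_iff i ⟨p, ‹_›⟩).2 ?_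
  have : Subsingleton (P.E i) := (DualRes.subsingleton_E_iff_H hh i P).2 fun j hj => by omega
  rw [Module.support_eq_empty]
  exact Set.notMem_empty _

theorem ringKrullDim_quotient_succ_le_of_lt {R : Type u} [CommRing R] {q Q : Ideal R} [q.IsPrime]
    (h : q < Q) : ringKrullDim (R ⧸ Q) + 1 ≤ ringKrullDim (R ⧸ q) := by
  obtain ⟨x, hxQ, hxq⟩ := SetLike.exists_of_lt h
  have hnz : Ideal.Quotient.mk q x ∈ nonZeroDivisors (R ⧸ q) :=
    mem_nonZeroDivisors_of_ne_zero fun h0 => hxq (Ideal.Quotient.eq_zero_iff_mem.1 h0)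
  refine le_trans (add_le_add_left ?_ 1) (ringKrullDim_quotient_succ_le_of_nonZeroDivisor hnz)
  refine ringKrullDim_le_of_surjective
    (Ideal.Quotient.lift (Ideal.span {Ideal.Quotient.mk q x}) (Ideal.Quotient.factor h.le) ?_)
    (Ideal.Quotient.lift_surjective_of_surjective _ _ (Ideal.Quotient.factor_surjective h.le))
  intro a ha
  obtain ⟨c, rfl⟩ := Ideal.mem_span_singleton'.1 ha
  rw [map_mul, show Ideal.Quotient.factor h.le (Ideal.Quotient.mk q x) = 0 from
    Ideal.Quotient.eq_zero_iff_mem.2 hxQ, mul_zero]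

theorem isPowerTorsion_of_support_subset {R : Type u} [CommRing R] [IsNoetherianRing R]
    [IsLocalRing R] {M : Type u} [AddCommGroup M] [Module R M] [Module.Finite R M]
    (h : Module.support R M ⊆ {⟨maximalIdeal R, inferInstance⟩}) :
    LocCoh.IsPowerTorsion (maximalIdeal R) M := by
  have hle : maximalIdeal R ≤ (Module.annihilator R M).radical := by
    intro a ha
    rw [← PrimeSpectrum.vanishingIdeal_zeroLocus_eq_radical, ← Module.support_eq_zeroLocus,
      PrimeSpectrum.mem_vanishingIdeal]
    intro q hq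
    rw [Set.mem_singleton_iff.1 (h hq)]
    exact ha
  obtain ⟨l, hl⟩ := Ideal.exists_pow_le_of_le_radical_of_fg hle (IsNoetherian.noetherian _)
  exact fun m => ⟨l, fun a ha => Module.mem_annihilator.1 (hl ha) m⟩

section Quotient

variable {B : Type u} [CommRing B] [LocCoh.IsGorensteinLocalRing B] {J : Ideal B} {r n c : ℕ}
  (hr : ringKrullDim B = r) (hn : ringKrullDim (B ⧸ J) = n) (hc : n + c = r)

include hr hn hc in
theorem exists_regular_sequence : ∃ rs : List B, rs.length = c ∧ (∀ x ∈ rs, x ∈ J) ∧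
    RingTheory.Sequence.IsWeaklyRegular B rs ∧
    LocCoh.depth B (B ⧸ Ideal.ofList rs • (⊤ : Submodule B B)) = n := by
  have hCM := (H4Goren.isCohenMacaulayLocalRing B).supportDim_eq_depth
  have hJ : J ≠ ⊤ := fun h => by
    subst h
    have : Subsingleton (B ⧸ (⊤ : Ideal B)) := Ideal.Quotient.subsingleton_iff.mpr rfl
    rw [ringKrullDim_eq_bot_of_subsingleton] at hn
    exact WithBot.bot_ne_coe hn
  have h0 := H4Depth.IsCM.supportDim_eq_add_idealDepth (M := B) hJ hCM
  rw [Module.supportDim_self_eq_ringKrullDim, hr, Module.supportDim_eq_of_equiv (Submodule.quotEquivOfEq _ _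
    (by rw [smul_eq_mul, Ideal.mul_top] : J • (⊤ : Submodule B B) = J)),
    Module.supportDim_quotient_eq_ringKrullDim, hn] at h0
  have hd : (c : ℕ∞) = LocCoh.idealDepth J B := by
    generalize LocCoh.idealDepth J B = x at h0 ⊢
    induction x with
    | top =>
      have h3 : ((r : ℕ∞) : WithBot ℕ∞) = (((n : ℕ∞) + ⊤ : ℕ∞) : WithBot ℕ∞) := h0
      rw [WithBot.coe_inj, add_top] at h3
      exact absurd h3 (ENat.natCast_ne_top r)
    | coe x =>
      have : r = n + x := by exact_mod_cast h0
      exact_mod_cast (show c = x by omega)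
  have hJB : J • (⊤ : Submodule B B) ≠ ⊤ := by rwa [smul_eq_mul, Ideal.mul_top]
  obtain ⟨rs, hlen, hmem, hreg⟩ :=
    H4Depth.exists_isWeaklyRegular_of_le_idealDepth hJB (n := c) hd.le
  refine ⟨rs, hlen, hmem, hreg, ?_⟩
  have h1 := H4Depth.idealDepth_quotient_ofList_add_length (I := maximalIdeal B)
    H4Depth.maximalIdeal_smul_top_ne_top rs hreg fun x hx => le_maximalIdeal hJ (hmem x hx)
  rw [Module.supportDim_self_eq_ringKrullDim, hr] at hCM
  have hdB : LocCoh.idealDepth (maximalIdeal B) B = (r : ℕ∞) := (WithBot.coe_injective hCM).symm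
  rw [hdB, hlen] at h1
  change LocCoh.idealDepth (maximalIdeal B) (B ⧸ Ideal.ofList rs • (⊤ : Submodule B B)) = n
  generalize LocCoh.idealDepth (maximalIdeal B) (B ⧸ Ideal.ofList rs • (⊤ : Submodule B B)) = x at h1 ⊢
  induction x with
  | top => simp at h1
  | coe x =>
    have : x + c = r := by exact_mod_cast h1
    exact_mod_cast (show x = n by omega)

include hr hn hc in
/-- The associated primes of `Ext^c(B/J, B)` have coheight `n`. -/
theorem of_mem_associatedPrimes_ext {Q : Ideal B}
    (hQ : Q ∈ associatedPrimes B (Abelian.Ext (ModuleCat.of B (B ⧸ J)) (ModuleCat.of B B) c)) :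
    J ≤ Q ∧ ringKrullDim (B ⧸ Q) = n := by
  obtain ⟨rs, hlen, hmem, hreg, hdepth⟩ := exists_regular_sequence hr hn hc
  have hann : ∀ x ∈ rs, x ∈ Module.annihilator B (B ⧸ J) := fun x hx => by
    rw [Ideal.annihilator_quotient]
    exact hmem x hx
  obtain ⟨-, ⟨e⟩⟩ := ext_rees (B ⧸ J) rs B hreg hann
  subst hlen
  rw [LinearEquiv.AssociatedPrimes.eq e] at hQ
  let ev : ((B ⧸ J) →ₗ[B] B ⧸ Ideal.ofList rs • (⊤ : Submodule B B)) →ₗ[B]
      B ⧸ Ideal.ofList rs • (⊤ : Submodule B B) := LinearMap.applyₗ (Ideal.Quotient.mk J 1)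
  have hev : Function.Injective ev := fun f g hfg => Submodule.linearMap_qext J
    (LinearMap.ext_ring hfg)
  have hQ' := associatedPrimes.subset_of_injective hev hQ
  have hJQ : J ≤ Q := by
    refine le_trans (fun b hb => ?_) (IsAssociatedPrime.annihilator_le hQ)
    refine Module.mem_annihilator.2 fun f => Subtype.ext (LinearMap.ext fun y => ?_)
    rw [Submodule.coe_smul, ZeroMemClass.coe_zero, LinearMap.smul_apply, ← map_smul,
      LinearMap.zero_apply]
    obtain ⟨y, rfl⟩ := Ideal.Quotient.mk_surjective y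
    rw [show b • Ideal.Quotient.mk J y = 0 from
      (Ideal.Quotient.eq_zero_iff_mem (I := J)).2 (J.mul_mem_right y hb), map_zero]
  refine ⟨hJQ, le_antisymm (le_trans (ringKrullDim_le_of_surjective
    (Ideal.Quotient.factor hJQ) (Ideal.Quotient.factor_surjective hJQ)) hn.le) ?_⟩
  have h := H4Depth.depth_le_ringKrullDim_quotient_of_mem_associatedPrimes hQ'
  rw [hdepth] at h
  exact_mod_cast h

include hr hn hc in
/-- An element killing `Ext^c(B/J, B)` lies in the components of `J` of coheight `n`. -/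
theorem exists_mul_mem_of_kills_ext {b : B}
    (hb : ∀ x : Abelian.Ext (ModuleCat.of B (B ⧸ J)) (ModuleCat.of B B) c, b • x = 0)
    {Q : Ideal B} [Q.IsPrime] (hQ : ringKrullDim (B ⧸ Q) = n) :
    ∃ t ∉ Q, t * b ∈ J := by
  let A := Localization.AtPrime Q
  haveI : LocCoh.IsGorensteinLocalRing A := isGorensteinLocalRing_localization B Q
  have hh : ringKrullDim A = c := by
    have hsupp : (⟨Q, ‹_›⟩ : PrimeSpectrum B) ∈ Module.support B B := by
      rw [Module.support_eq_zeroLocus, Module.annihilator_eq_bot.mpr inferInstance]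
      intro x hx
      rw [SetLike.mem_coe, Submodule.mem_bot] at hx
      rw [hx]
      exact Q.zero_mem
    have h1 := (H4Depth.IsCM.localization (M := B)
      (H4Goren.isCohenMacaulayLocalRing B).supportDim_eq_depth Q hsupp).2.1
    rw [Module.supportDim_self_eq_ringKrullDim, hr, hQ,
      Module.supportDim_eq_of_equiv ((LocalizedModule.equivTensorProduct Q.primeCompl B).trans
        (TensorProduct.AlgebraTensorModule.rid B A A)), Module.supportDim_self_eq_ringKrullDim] at h1
    obtain ⟨d, -, hd, -⟩ := H4Goren.depth_eq_ringKrullDim A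
    rw [hd] at h1 ⊢
    have : r = n + d := by exact_mod_cast h1
    exact_mod_cast (show d = c by omega)
  obtain ⟨P⟩ := nonempty_dualRes_of_finite (S := B) (B ⧸ J)
  obtain ⟨eX⟩ := DualRes.nonempty_extEquiv c P
  have hkill : ∀ z ∈ LinearMap.ker (P.d c), b • z ∈ P.Bd c := by
    intro z hz
    have h := congrArg eX (hb (eX.symm (Submodule.Quotient.mk ⟨z, hz⟩)))
    rw [map_smul, eX.apply_symm_apply, map_zero, ← Submodule.Quotient.mk_smul,
      Submodule.Quotient.mk_eq_zero] at h
    exact h
  let N := LocalizedModule Q.primeCompl (B ⧸ J)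
  have hsuppN : Module.support A N ⊆ {⟨maximalIdeal A, inferInstance⟩} := by
    intro q hq
    refine PrimeSpectrum.ext ?_
    by_contra hne
    have hq' := (H4Depth.mem_support_localizedModule_iff Q.primeCompl _
      (LocalizedModule.mkLinearMap _ (B ⧸ J)) q).mp hq
    have hlt : q.asIdeal < maximalIdeal A := lt_of_le_of_ne (le_maximalIdeal q.2.ne_top) hne
    rw [Module.support_eq_zeroLocus, Ideal.annihilator_quotient] at hq'
    have hle : q.asIdeal.comap (algebraMap B A) ≤ Q := fun x hx => by
      have := hlt.le hx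
      rwa [IsLocalization.AtPrime.to_map_mem_maximal_iff A Q x] at this
    have hne' : q.asIdeal.comap (algebraMap B A) ≠ Q := fun h => hne (by
      exact (IsLocalization.map_under Q.primeCompl A q.asIdeal).symm.trans
        ((congrArg (Ideal.map (algebraMap B A)) h).trans Localization.AtPrime.map_eq_maximalIdeal))
    have h1 : ringKrullDim (B ⧸ Q) + 1 ≤ ringKrullDim (B ⧸ q.asIdeal.comap (algebraMap B A)) :=
      ringKrullDim_quotient_succ_le_of_lt (lt_of_le_of_ne hle hne')
    have h2 : ringKrullDim (B ⧸ q.asIdeal.comap (algebraMap B A)) ≤ ringKrullDim (B ⧸ J) :=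
      ringKrullDim_le_of_surjective (Ideal.Quotient.factor hq') (Ideal.Quotient.factor_surjective hq')
    rw [hQ] at h1
    have h3 := h1.trans (h2.trans hn.le)
    exact absurd (show n + 1 ≤ n by exact_mod_cast h3) (by omega)
  have htor : LocCoh.IsPowerTorsion (maximalIdeal A) N := isPowerTorsion_of_support_subset hsuppN
  obtain ⟨e⟩ := DualRes.nonempty_equiv hh c (P.loc Q.primeCompl) 0 (zero_add c)
  let x₀ : LocCoh.H (maximalIdeal A) 0 N :=
    (zeroEquivOfTorsion _ htor).symm (LocalizedModule.mkLinearMap _ (B ⧸ J) (Ideal.Quotient.mk J 1))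
  have h0 : e (algebraMap B A b • x₀) = 0 := by
    rw [map_smul]
    refine Submodule.linearMap_qext _ (LinearMap.ext fun z => ?_)
    show algebraMap B A b • e x₀ (Submodule.Quotient.mk z) = 0
    rw [← map_smul, ← Submodule.Quotient.mk_smul, (Submodule.Quotient.mk_eq_zero _).2 ?_, map_zero]
    exact P.smul_mem_loc_Bd Q.primeCompl c b hkill z.1 z.2
  have h1 := congrArg (zeroEquivOfTorsion _ htor) ((LinearEquiv.map_eq_zero_iff e).1 h0)
  simp only [x₀, map_smul, LinearEquiv.apply_symm_apply, map_zero, algebraMap_smul] at h1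
  rw [← map_smul] at h1
  obtain ⟨t, ht⟩ := (IsLocalizedModule.eq_zero_iff Q.primeCompl
    (LocalizedModule.mkLinearMap Q.primeCompl (B ⧸ J))).1 h1
  refine ⟨t.1, t.2, Ideal.Quotient.eq_zero_iff_mem.1 ?_⟩
  refine Eq.trans ?_ ht
  show _ = Ideal.Quotient.mk J ((t : B) * (b * 1))
  rw [mul_one]

end Quotient

end Groth.Agent.H4LC
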