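import Groth.Agent.H4LC.Hiso
import Groth.Agent.H4LC.Transform2
import Groth.Agent.H4Matlis.Melkersson
import Groth.Agent.H4Matlis.Duality
import Groth.Agent.H4Depth.DepthLemmas

/-!
# Local cohomology at the maximal ideal is Artinian
-/

set_option autoImplicit false
set_option linter.unusedSectionVars false

universe u

open IsLocalRing

namespace Groth.Agent.H4LC

variable {R : Type u} [CommRing R] [IsNoetherianRing R]

theorem torsionSub_quotient_eq_bot (I : Ideal R) (M : Type u) [AddCommGroup M] [Module R M] :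
    DRing.torsionSub I (M ⧸ DRing.torsionSub I M) = ⊥ := by
  refine (Submodule.eq_bot_iff _).2 fun q hq => ?_
  obtain ⟨m, rfl⟩ := Submodule.Quotient.mk_surjective _ q
  obtain ⟨n, hn⟩ := hq
  let g : ↥(I ^ n : Ideal R) →ₗ[R] M :=
    LinearMap.toSpanSingleton R M m ∘ₗ Submodule.subtype _
  obtain ⟨k, hk⟩ := exists_pow_smul_eq_zero I g fun p =>
    (Submodule.Quotient.mk_eq_zero _).1 (hn p.1 p.2)
  refine (Submodule.Quotient.mk_eq_zero _).2 ⟨k + n, fun a ha => ?_⟩
  rw [pow_add] at ha
  induction ha using Submodule.mul_induction_on' with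
  | mem_mul_mem b hb c hc =>
    rw [mul_smul]
    exact hk b hb ⟨c, hc⟩
  | add b _ c _ hb hc => rw [add_smul, hb, hc, add_zero]

variable [IsLocalRing R]

theorem exists_regular_of_torsionSub_eq_bot {G : Type u} [AddCommGroup G] [Module R G]
    [Module.Finite R G] (hG : DRing.torsionSub (maximalIdeal R) G = ⊥) :
    ∃ x ∈ maximalIdeal R, IsSMulRegular G x := by
  by_contra! h
  obtain ⟨p, hp, hle⟩ := Groth.Agent.H4Depth.exists_associatedPrime_ge_of_no_regular
    (I := maximalIdeal R) (M := G) h
  have hp' : IsAssociatedPrime p G := hp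
  have hpm : p = maximalIdeal R :=
    le_antisymm (le_maximalIdeal hp'.isPrime.ne_top) hle
  obtain ⟨hpr, z, hz⟩ := isAssociatedPrime_iff.1 hp'
  have hzp : ∀ a ∈ p, a • z = 0 := fun a ha => by
    rw [hz, Submodule.mem_colon_singleton, Submodule.mem_bot] at ha
    exact ha
  have hz0 : z ∈ DRing.torsionSub (maximalIdeal R) G :=
    ⟨1, fun a ha => hzp a (hpm ▸ (pow_one (maximalIdeal R)) ▸ ha)⟩
  rw [hG, Submodule.mem_bot] at hz0
  refine hpr.ne_top ((Ideal.eq_top_iff_one p).2 ?_)
  rw [hz, hz0, Submodule.mem_colon_singleton, Submodule.mem_bot, smul_zero]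

theorem isArtinian_H : ∀ (i : ℕ) (M : Type u) [AddCommGroup M] [Module R M] [Module.Finite R M],
    IsArtinian R (LocCoh.H (maximalIdeal R) i M) := by
  intro i
  induction i with
  | zero =>
    intro M _ _ _
    have e := zeroEquiv (maximalIdeal R) M
    have : IsArtinian R (DRing.torsionSub (maximalIdeal R) M) := by
      rw [Groth.Agent.H4Matlis.isArtinian_iff]
      exact ⟨isPowerTorsion_torsionSub _ M, Module.Finite.of_restrictScalars_finite R _ _⟩
    exact isArtinian_of_linearEquiv e.symm
  | succ i ih =>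
    intro M _ _ _
    let T := DRing.torsionSub (maximalIdeal R) M
    have hbij := Hmap_bijective_of_surjective (maximalIdeal R) T.mkQ T.mkQ_surjective
      (by rw [Submodule.ker_mkQ]) i.succ_pos
    obtain ⟨x, hx, hreg⟩ := exists_regular_of_torsionSub_eq_bot
      (torsionSub_quotient_eq_bot (maximalIdeal R) M)
    let f : (M ⧸ T) →ₗ[R] (M ⧸ T) := x • LinearMap.id
    let g := (LinearMap.range f).mkQ
    have := ih ((M ⧸ T) ⧸ LinearMap.range f)
    have hex := exactH₁ (maximalIdeal R) (f := f) (g := g) (fun a b hab => hreg hab)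
      (LinearMap.range f).mkQ_surjective (LinearMap.exact_map_mkQ_range f) i
    let δ := δH (maximalIdeal R) (f := f) (g := g) (fun a b hab => hreg hab)
      (LinearMap.range f).mkQ_surjective (LinearMap.exact_map_mkQ_range f) i
    have hle : LocCoh.torsionBy (maximalIdeal R) (LocCoh.H (maximalIdeal R) (i + 1) (M ⧸ T)) ≤
        LinearMap.range δ := fun z hz => by
      refine (hex z).1 ?_
      rw [Hmap_smul_id]
      exact (Submodule.mem_torsionBySet_iff _ _).1 hz ⟨x, hx⟩
    have : IsArtinian R (LinearMap.range δ) := isArtinian_range δ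
    have hG : IsArtinian R (LocCoh.H (maximalIdeal R) (i + 1) (M ⧸ T)) :=
      Groth.Agent.H4Matlis.isArtinian_of_isArtinian_torsionBy
        (IsNoetherian.noetherian (maximalIdeal R)) (isPowerTorsion_H _ _ _)
        (isArtinian_of_injective (Submodule.inclusion hle) (Submodule.inclusion_injective hle))
    exact isArtinian_of_linearEquiv (LinearEquiv.ofBijective _ hbij).symm

end Groth.Agent.H4LC
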