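import Groth.Agent.H4LC.Derived
import Groth.Agent.H4Inj.Indecomposable

/-!
# Local cohomology of power-torsion modules
-/

set_option autoImplicit false

universe u

open CategoryTheory CategoryTheory.Limits Opposite CategoryTheory.Abelian

namespace Groth.Agent.H4LC

variable {R : Type u} [CommRing R] (I : Ideal R)

theorem torsionSub_eq_iSup (M : Type u) [AddCommGroup M] [Module R M] :
    DRing.torsionSub I M = ⨆ n : ℕ, Submodule.torsionBySet R M ((I ^ n : Ideal R) : Set R) := by
  have hdir : Directed (· ≤ ·) fun n : ℕ =>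
      Submodule.torsionBySet R M ((I ^ n : Ideal R) : Set R) :=
    Monotone.directed_le fun m n hmn =>
      Submodule.torsionBySet_le_torsionBySet_of_subset (Ideal.pow_le_pow_right hmn)
  ext x
  rw [Submodule.mem_iSup_of_directed _ hdir]
  simp only [Submodule.mem_torsionBySet_iff]
  exact ⟨fun ⟨n, hn⟩ => ⟨n, fun a => hn a a.2⟩, fun ⟨n, hn⟩ => ⟨n, fun a ha => hn ⟨a, ha⟩⟩⟩

theorem torsionSub_eq_top {M : Type u} [AddCommGroup M] [Module R M]
    (hM : LocCoh.IsPowerTorsion I M) : DRing.torsionSub I M = ⊤ :=
  eq_top_iff.2 fun x _ => hM x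

theorem isPowerTorsion_torsionSub (M : Type u) [AddCommGroup M] [Module R M] :
    LocCoh.IsPowerTorsion I (DRing.torsionSub I M) := fun x => by
  obtain ⟨n, hn⟩ := x.2
  exact ⟨n, fun a ha => Subtype.ext (hn a ha)⟩

theorem isPowerTorsion_quotient {M : Type u} [AddCommGroup M] [Module R M]
    (hM : LocCoh.IsPowerTorsion I M) (N : Submodule R M) : LocCoh.IsPowerTorsion I (M ⧸ N) := by
  intro x
  obtain ⟨y, rfl⟩ := N.mkQ_surjective x
  obtain ⟨n, hn⟩ := hM y
  exact ⟨n, fun a ha => by rw [← map_smul, hn a ha, map_zero]⟩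

section Noetherian

variable [IsNoetherianRing R]

theorem injective_torsionSub (E : Type u) [AddCommGroup E] [Module R E] (hE : Module.Injective R E) :
    Module.Injective R (DRing.torsionSub I E) :=
  Groth.Agent.H4Inj.injective_of_equiv
    (LinearEquiv.ofEq _ _ (torsionSub_eq_iSup I E))
    (Groth.Agent.H4Inj.injective_powerTorsion hE I)

/-- A torsion module embeds into a torsion injective module. -/
theorem exists_torsion_injective_embedding {N : Type u} [AddCommGroup N] [Module R N]
    (hN : LocCoh.IsPowerTorsion I N) :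
    ∃ (E : Type u) (_ : AddCommGroup E) (_ : Module R E) (f : N →ₗ[R] E),
      Function.Injective f ∧ Module.Injective R E ∧ LocCoh.IsPowerTorsion I E := by
  obtain ⟨E, _, _, f, hf, hE⟩ := Groth.Agent.H4Inj.exists_injective_embedding (R := R) N
  refine ⟨DRing.torsionSub I E, inferInstance, inferInstance,
    f.codRestrict _ (fun x => DRing.map_mem_torsionSub I f (hN x)),
    fun x y h => hf (congrArg Subtype.val h), injective_torsionSub I E hE,
    isPowerTorsion_torsionSub I E⟩

/-- `H^{i}_I` of a torsion module vanishes for `i > 0`. -/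
theorem subsingleton_H_of_isPowerTorsion : ∀ (i : ℕ) (N : Type u) [AddCommGroup N] [Module R N],
    LocCoh.IsPowerTorsion I N → 0 < i → Subsingleton (LocCoh.H I i N) := by
  intro i
  induction i with
  | zero => intro N _ _ _ h; exact absurd h (lt_irrefl 0)
  | succ k ih =>
    intro N _ _ hN _
    obtain ⟨E, _, _, f, hf, hE, hEt⟩ := exists_torsion_injective_embedding I hN
    have hg := (LinearMap.range f).mkQ_surjective
    have hfg := LinearMap.exact_map_mkQ_range f
    have hC : LocCoh.IsPowerTorsion I (E ⧸ LinearMap.range f) := isPowerTorsion_quotient I hEt _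
    refine subsingleton_of_forall_eq 0 fun z => ?_
    obtain ⟨w, rfl⟩ := δH_surjective I hf hg hfg k (subsingleton_H_of_injective I E k.succ_pos) z
    rcases Nat.eq_zero_or_pos k with rfl | hk
    · obtain ⟨e, he⟩ := hg (zeroEquiv I _ w : E ⧸ LinearMap.range f)
      obtain ⟨x, hx⟩ := (zeroEquiv I E).surjective ⟨e, hEt e⟩
      have hwx : Hmap I (LinearMap.range f).mkQ 0 x = w := by
        apply (zeroEquiv I _).injective
        apply Subtype.ext
        rw [zeroEquiv_naturality, hx]
        exact he
      rw [← hwx]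
      exact (exactH₃ I hf hg hfg 0 _).2 ⟨x, rfl⟩
    · rw [@Subsingleton.elim _ (ih (E ⧸ LinearMap.range f) hC hk) w 0, map_zero]

/-- For a torsion module, `H⁰_I(N) ≅ N`. -/
noncomputable def zeroEquivOfTorsion {N : Type u} [AddCommGroup N] [Module R N]
    (hN : LocCoh.IsPowerTorsion I N) : LocCoh.H I 0 N ≃ₗ[R] N :=
  (zeroEquiv I N).trans ((LinearEquiv.ofEq _ _ (torsionSub_eq_top I hN)).trans Submodule.topEquiv)

end Noetherian

end Groth.Agent.H4LC
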