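import Groth.Agent.H4LC.Torsion
import Mathlib.RingTheory.Regular.RegularSequence

/-!
# Invariance of local cohomology modulo torsion; regular sequences
-/

set_option autoImplicit false
set_option linter.unusedSectionVars false

universe u

open CategoryTheory CategoryTheory.Limits Opposite CategoryTheory.Abelian

namespace Groth.Agent.H4LC

variable {R : Type u} [CommRing R] (I : Ideal R)

theorem Hmap_smul_id (M : Type u) [AddCommGroup M] [Module R M] (r : R) (i : ℕ)
    (z : LocCoh.H I i M) : Hmap I (r • LinearMap.id : M →ₗ[R] M) i z = r • z := by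
  obtain ⟨n, x, rfl⟩ := exists_rep (quotSys I) i (ModuleCat.of R M) z
  refine (map_ι (quotSys I) i (ModuleCat.ofHom (r • LinearMap.id : M →ₗ[R] M)) n x).trans
    (Eq.trans ?_ (map_smul _ r x))
  refine congrArg _ ?_
  rw [show ModuleCat.ofHom (r • LinearMap.id : M →ₗ[R] M) = r • 𝟙 (ModuleCat.of R M) from rfl,
    Abelian.Ext.mk₀_smul, Abelian.Ext.comp_smul, Abelian.Ext.comp_mk₀_id]

theorem subsingleton_H_of_isRegular_pair_aux {M : Type u} [AddCommGroup M] [Module R M] {x : R}
    (hx : x ∈ I) (hreg : IsSMulRegular M x) (i : ℕ)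
    (h : ∀ j, j + 1 = i → Subsingleton (LocCoh.H I j (QuotSMulTop x M))) :
    Subsingleton (LocCoh.H I i M) := by
  have hinj : ∀ z : LocCoh.H I i M, x • z = 0 → z = 0 := by
    intro z hz
    let f : M →ₗ[R] M := x • LinearMap.id
    let g : M →ₗ[R] QuotSMulTop x M := Submodule.mkQ _
    have hf : Function.Injective f := fun a b hab => hreg hab
    have hfg : Function.Exact f g := by
      intro y
      rw [Submodule.mkQ_apply, Submodule.Quotient.mk_eq_zero,
        Submodule.mem_smul_pointwise_iff_exists]
      exact ⟨fun ⟨m, _, hm⟩ => ⟨m, hm⟩, fun ⟨m, hm⟩ => ⟨m, trivial, hm⟩⟩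
    rw [← Hmap_smul_id] at hz
    cases i with
    | zero =>
      exact Hmap_zero_injective I hf (Submodule.mkQ_surjective _) hfg (hz.trans (map_zero _).symm)
    | succ j =>
      obtain ⟨w, rfl⟩ := (exactH₁ I hf (Submodule.mkQ_surjective _) hfg j z).1 hz
      rw [@Subsingleton.elim _ (h j rfl) w 0, map_zero]
  refine subsingleton_of_forall_eq 0 fun z => ?_
  obtain ⟨n, hn⟩ := isPowerTorsion_H I i M z
  have hxz : x ^ n • z = 0 := hn _ (Ideal.pow_mem_pow hx n)
  induction n generalizing z with
  | zero => simpa using hxz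
  | succ k ih =>
    refine hinj z ?_
    refine ih (x • z) (fun a ha => ?_) (by rw [smul_smul, ← pow_succ]; exact hxz)
    rw [smul_smul]
    exact hn _ (by rw [pow_succ]; exact Ideal.mul_mem_mul ha hx)

/-- A weakly regular sequence in `I` forces vanishing below its length (no finiteness needed). -/
theorem subsingleton_H_of_isWeaklyRegular {M : Type u} [AddCommGroup M] [Module R M] {rs : List R}
    (hreg : RingTheory.Sequence.IsWeaklyRegular M rs) (hmem : ∀ r ∈ rs, r ∈ I) {i : ℕ}
    (hi : i < rs.length) : Subsingleton (LocCoh.H I i M) := by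
  induction rs generalizing M i with
  | nil => exact absurd hi (Nat.not_lt_zero i)
  | cons x xs ih =>
    rw [RingTheory.Sequence.isWeaklyRegular_cons_iff] at hreg
    refine subsingleton_H_of_isRegular_pair_aux I (hmem x List.mem_cons_self) hreg.1 i
      fun j hj => ?_
    exact ih hreg.2 (fun r hr => hmem r (List.mem_cons_of_mem x hr))
      (by simp only [List.length_cons] at hi; omega)

section Noetherian

variable [IsNoetherianRing R] {M M' : Type u} [AddCommGroup M] [Module R M] [AddCommGroup M']
  [Module R M'] (e : M →ₗ[R] M')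

theorem Hmap_bijective_of_surjective (he : Function.Surjective e)
    (hker : LinearMap.ker e ≤ DRing.torsionSub I M) {i : ℕ} (hi : 0 < i) :
    Function.Bijective (Hmap I e i) := by
  have hK : LocCoh.IsPowerTorsion I (LinearMap.ker e) := fun x => by
    obtain ⟨n, hn⟩ := hker x.2
    exact ⟨n, fun a ha => Subtype.ext (hn a ha)⟩
  have hinj := (LinearMap.ker e).injective_subtype
  have hex := LinearMap.exact_subtype_ker_map e
  refine ⟨?_, fun z => (exactH₃ I hinj he hex i z).1
    (@Subsingleton.elim _ (subsingleton_H_of_isPowerTorsion I (i + 1) _ hK i.succ_pos) _ _)⟩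
  rw [injective_iff_map_eq_zero]
  intro z hz
  obtain ⟨w, rfl⟩ := (exactH₂ I hinj he hex i z).1 hz
  rw [@Subsingleton.elim _ (subsingleton_H_of_isPowerTorsion I i _ hK hi) w 0, map_zero]

theorem Hmap_bijective_of_injective (he : Function.Injective e)
    (hcoker : LocCoh.IsPowerTorsion I (M' ⧸ LinearMap.range e)) {i : ℕ} (hi : 1 < i) :
    Function.Bijective (Hmap I e i) := by
  have hg := (LinearMap.range e).mkQ_surjective
  have hex := LinearMap.exact_map_mkQ_range e
  obtain ⟨j, rfl⟩ := Nat.exists_eq_add_one_of_ne_zero (Nat.ne_of_gt (lt_trans zero_lt_one hi))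
  refine ⟨?_, fun z => (exactH₂ I he hg hex (j + 1) z).1
    (@Subsingleton.elim _ (subsingleton_H_of_isPowerTorsion I (j + 1) _ hcoker j.succ_pos) _ _)⟩
  rw [injective_iff_map_eq_zero]
  intro z hz
  obtain ⟨w, rfl⟩ := (exactH₁ I he hg hex j z).1 hz
  rw [@Subsingleton.elim _ (subsingleton_H_of_isPowerTorsion I j _ hcoker (by omega)) w 0, map_zero]

/-- Torsion kernel and cokernel: iso in degrees above one. -/
theorem Hmap_bijective (hker : LinearMap.ker e ≤ DRing.torsionSub I M)
    (hcoker : LocCoh.IsPowerTorsion I (M' ⧸ LinearMap.range e)) {i : ℕ} (hi : 1 < i) :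
    Function.Bijective (Hmap I e i) := by
  have h : e = (LinearMap.range e).subtype ∘ₗ e.rangeRestrict := rfl
  rw [h, Hmap_comp]
  refine (Hmap_bijective_of_injective I _ Subtype.val_injective ?_ hi).comp
    (Hmap_bijective_of_surjective I _ e.surjective_rangeRestrict ?_ (lt_trans zero_lt_one hi))
  · rwa [Submodule.range_subtype]
  · rw [LinearMap.ker_rangeRestrict]; exact hker

end Noetherian

end Groth.Agent.H4LC
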