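import Groth.Agent.H4LC.CanonDuality
import Groth.Agent.H4LC.Nonvanishing
import Groth.Agent.H4LC.Hiso
import Groth.Agent.H4LC.Depth
import Groth.Agent.H4Depth.CM
import Groth.Agent.H4Depth.LocDepth
import Groth.Agent.H4Goren.Basic
import Mathlib.RingTheory.Regular.IsSMulRegular

/-!
# Canonical modules of Cohen–Macaulay local rings
-/

set_option autoImplicit false
set_option linter.unusedSectionVars false
set_option linter.overlappingInstances false

universe u

open IsLocalRing CategoryTheory InjHull RingTheory.Sequence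
open scoped Pointwise

namespace Groth.Agent.H4LC

variable {R : Type u} [CommRing R] [IsNoetherianRing R] [IsLocalRing R]
  {E : Type u} [AddCommGroup E] [Module R E] {f : ResidueField R →ₗ[R] E} (hf : IsInjectiveHull f)

local notation "𝔪" => maximalIdeal R

theorem nonempty_H_congr (I : Ideal R) {M N : Type u} [AddCommGroup M] [Module R M]
    [AddCommGroup N] [Module R N] (e : M ≃ₗ[R] N) (i : ℕ) :
    Nonempty (LocCoh.H I i M ≃ₗ[R] LocCoh.H I i N) :=
  ⟨LinearEquiv.ofLinearMap (Hmap I e.toLinearMap i) (Hmap I e.symm.toLinearMap i)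
    (by rw [← Hmap_comp, show e.toLinearMap ∘ₗ e.symm.toLinearMap = LinearMap.id from
      LinearMap.ext fun x => e.apply_symm_apply x, Hmap_id])
    (by rw [← Hmap_comp, show e.symm.toLinearMap ∘ₗ e.toLinearMap = LinearMap.id from
      LinearMap.ext fun x => e.symm_apply_apply x, Hmap_id])⟩

theorem nonempty_dual_congr {X Y H : Type u} [AddCommGroup X] [Module R X] [AddCommGroup Y]
    [Module R Y] [AddCommGroup H] [Module R H] (e : X ≃ₗ[R] Y) (eX : (X →ₗ[R] E) ≃ₗ[R] H) :
    Nonempty ((Y →ₗ[R] E) ≃ₗ[R] H) :=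
  ⟨(LinearEquiv.congrLeft E R e).symm.trans eX⟩

theorem isCM_congr {M N : Type u} [AddCommGroup M] [Module R M] [AddCommGroup N] [Module R N]
    (e : M ≃ₗ[R] N) (h : LocCoh.IsCohenMacaulayModule R M) : LocCoh.IsCohenMacaulayModule R N := by
  have h' : Module.supportDim R M = ((LocCoh.depth R M : ℕ∞) : WithBot ℕ∞) := h
  rw [Module.supportDim_eq_of_equiv e, H4Depth.depth_congr e] at h'
  exact h'

include hf in
theorem isSMulRegular_iff_dual {X : Type u} [AddCommGroup X] [Module R X] (a : R) :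
    IsSMulRegular X a ↔ ∀ χ : X →ₗ[R] E, ∃ χ' : X →ₗ[R] E, a • χ' = χ := by
  refine ⟨fun h χ => ?_, fun h x y hxy => H4Matlis.injective_applyₗ hf X (LinearMap.ext fun χ => ?_)⟩
  · obtain ⟨χ', hχ'⟩ := Module.Injective.extension_property (inj := hf.isInjective) R E _ _
      (a • (LinearMap.id : X →ₗ[R] X)) h χ
    refine ⟨χ', LinearMap.ext fun x => ?_⟩
    rw [LinearMap.smul_apply, ← map_smul]
    exact LinearMap.congr_fun hχ' x
  · obtain ⟨χ', rfl⟩ := h χ
    show (a • χ') x = (a • χ') y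
    rw [LinearMap.smul_apply, LinearMap.smul_apply, ← map_smul, ← map_smul]
    exact congrArg χ' hxy

theorem nonempty_dual_quotSMulTop {X H H' : Type u} [AddCommGroup X] [Module R X] [AddCommGroup H]
    [Module R H] [AddCommGroup H'] [Module R H'] (a : R) (eX : (X →ₗ[R] E) ≃ₗ[R] H)
    (δ : H' →ₗ[R] H) (hδ : Function.Injective δ) (hr : ∀ w, w ∈ LinearMap.range δ ↔ a • w = 0) :
    Nonempty ((QuotSMulTop a X →ₗ[R] E) ≃ₗ[R] H') := by
  let ψ : (QuotSMulTop a X →ₗ[R] E) →ₗ[R] H :=
    eX.toLinearMap ∘ₗ LinearMap.lcomp R E (a • (⊤ : Submodule R X)).mkQ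
  have hψ : Function.Injective ψ := fun p q h => Submodule.linearMap_qext _ (eX.injective h)
  have hψr : LinearMap.range ψ = LinearMap.range δ := by
    refine SetLike.ext fun w => ?_
    rw [hr]
    constructor
    · rintro ⟨p, rfl⟩
      rw [← map_smul, show a • p = 0 from LinearMap.ext fun q => ?_, map_zero]
      obtain ⟨x, rfl⟩ := Submodule.Quotient.mk_surjective _ q
      rw [LinearMap.smul_apply, ← map_smul, ← Submodule.Quotient.mk_smul,
        (Submodule.Quotient.mk_eq_zero _).2 (Submodule.smul_mem_pointwise_smul x a ⊤ trivial),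
        map_zero, LinearMap.zero_apply]
    · intro hw
      have h0 : a • eX.symm w = 0 := by rw [← map_smul, hw, map_zero]
      have hle : a • (⊤ : Submodule R X) ≤ LinearMap.ker (eX.symm w) := by
        intro x hx
        obtain ⟨y, -, rfl⟩ := (Submodule.mem_smul_pointwise_iff_exists x a ⊤).1 hx
        rw [LinearMap.mem_ker, map_smul, ← LinearMap.smul_apply, h0, LinearMap.zero_apply]
      refine ⟨(a • (⊤ : Submodule R X)).liftQ (eX.symm w) hle, ?_⟩
      show eX (((a • (⊤ : Submodule R X)).liftQ (eX.symm w) hle) ∘ₗ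
        (a • (⊤ : Submodule R X)).mkQ) = w
      rw [Submodule.liftQ_mkQ, LinearEquiv.apply_symm_apply]
  exact ⟨(LinearEquiv.ofInjective ψ hψ).trans
    ((LinearEquiv.ofEq _ _ hψr).trans (LinearEquiv.ofInjective δ hδ).symm)⟩

theorem exact_smul_mkQ {M : Type u} [AddCommGroup M] [Module R M] (a : R) :
    Function.Exact (a • (LinearMap.id : M →ₗ[R] M)) (a • (⊤ : Submodule R M)).mkQ := fun x =>
  (Submodule.Quotient.mk_eq_zero _).trans ((Submodule.mem_smul_pointwise_iff_exists x a ⊤).trans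
    ⟨fun ⟨y, _, hy⟩ => ⟨y, hy⟩, fun ⟨y, hy⟩ => ⟨y, trivial, hy⟩⟩)

section Step

variable {M Kq : Type u} [AddCommGroup M] [Module R M] [Module.Finite R M] [AddCommGroup Kq]
  [Module R Kq] {d : ℕ}

include hf in
/-- Passing to the quotient by a regular element. -/
theorem canon_pair_step (hM : LocCoh.IsCohenMacaulayModule R M) (hd : Module.supportDim R M = d)
    (eq : (Kq →ₗ[R] E) ≃ₗ[R] LocCoh.H 𝔪 d M) {a : R} (ha : a ∈ 𝔪) (hreg : IsSMulRegular M a) :
    IsSMulRegular Kq a ∧ ∃ d', d' + 1 = d ∧ LocCoh.IsCohenMacaulayModule R (QuotSMulTop a M) ∧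
      Module.supportDim R (QuotSMulTop a M) = d' ∧
      Nonempty ((QuotSMulTop a Kq →ₗ[R] E) ≃ₗ[R] LocCoh.H 𝔪 d' (QuotSMulTop a M)) := by
  have : Nontrivial M := H4Depth.IsCM.nontrivial hM
  have hQ := (H4Depth.isCM_quotSMulTop_iff ha hreg).2 hM
  have : Nontrivial (QuotSMulTop a M) := H4Depth.IsCM.nontrivial hQ
  obtain ⟨d', hd'⟩ := H4Depth.exists_nat_supportDim_eq (R := R) (M := QuotSMulTop a M)
  have hsucc := Module.supportDim_quotSMulTop_succ_eq_supportDim hreg ha
  rw [hd, hd'] at hsucc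
  obtain rfl : d' + 1 = d := by exact_mod_cast hsucc
  have hdep : (LocCoh.idealDepth 𝔪 M : ℕ∞) = ((d' + 1 : ℕ) : ℕ∞) := by
    have h : Module.supportDim R M = ((LocCoh.depth R M : ℕ∞) : WithBot ℕ∞) := hM
    rw [hd] at h
    exact (WithBot.coe_injective h).symm
  have hsur := Submodule.mkQ_surjective (a • (⊤ : Submodule R M))
  have hinj : Function.Injective (a • (LinearMap.id : M →ₗ[R] M)) := hreg
  let δ := δH 𝔪 hinj hsur (exact_smul_mkQ a) d'
  have hδ : Function.Injective δ := δH_injective 𝔪 hinj hsur (exact_smul_mkQ a) d'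
    (subsingleton_H_of_lt_idealDepth 𝔪 M (hdep ▸ by exact_mod_cast d'.lt_succ_self))
  have hr : ∀ w, w ∈ LinearMap.range δ ↔ a • w = 0 := fun w => by
    refine (exactH₁ 𝔪 hinj hsur (exact_smul_mkQ a) d' w).symm.trans ?_
    rw [Hmap_smul_id]
  refine ⟨(isSMulRegular_iff_dual hf a).2 fun χ => ?_, d', rfl, hQ, hd',
    nonempty_dual_quotSMulTop a eq δ hδ hr⟩
  have hsub : Subsingleton (LocCoh.H 𝔪 (d' + 1) (QuotSMulTop a M)) :=
    subsingleton_H_of_supportDim_lt _ _ _ (hd'.le.trans_lt (by exact_mod_cast d'.lt_succ_self))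
  obtain ⟨w, hw⟩ := (exactH₂ 𝔪 hinj hsur (exact_smul_mkQ a) (d' + 1) (eq χ)).1
    (@Subsingleton.elim _ hsub _ _)
  refine ⟨eq.symm w, eq.injective ?_⟩
  rw [map_smul, LinearEquiv.apply_symm_apply, ← hw, Hmap_smul_id]

include hf in
theorem isSMulRegular_of_canon_pair [Nontrivial M] (hM : LocCoh.IsCohenMacaulayModule R M)
    (hd : Module.supportDim R M = d)
    (eq : (Kq →ₗ[R] E) ≃ₗ[R] LocCoh.H 𝔪 d M) {a : R} (hreg : IsSMulRegular Kq a) :
    IsSMulRegular M a := by
  refine H4Depth.IsCM.isSMulRegular_of_supportDim_lt hM ?_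
  by_contra hlt
  rw [not_lt, hd] at hlt
  have hle : Module.supportDim R (QuotSMulTop a M) ≤ d :=
    (Module.supportDim_le_of_surjective _ (Submodule.mkQ_surjective _)).trans hd.le
  have heq : Module.supportDim R (QuotSMulTop a M) = d := le_antisymm hle hlt
  have : Nontrivial (QuotSMulTop a M) := by
    by_contra h
    rw [not_nontrivial_iff_subsingleton] at h
    rw [Module.supportDim_eq_bot_of_subsingleton] at heq
    exact WithBot.bot_ne_coe heq
  have hnt : Nontrivial (LocCoh.H 𝔪 d (QuotSMulTop a M)) :=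
    (nontrivial_H_supportDim d (QuotSMulTop a M) heq).1
  let π := (a • (⊤ : Submodule R M)).mkQ
  have hsur : Function.Surjective (Hmap 𝔪 π d) := fun z =>
    ((exactH₃ 𝔪 (Submodule.injective_subtype (LinearMap.ker π)) (Submodule.mkQ_surjective _)
      (LinearMap.exact_subtype_ker_map π) d z).1 (@Subsingleton.elim _
        (subsingleton_H_of_supportDim_lt _ _ _
          (((Module.supportDim_le_of_injective _ (Submodule.injective_subtype _)).trans hd.le).trans_lt
            (by exact_mod_cast d.lt_succ_self))) _ _))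
  refine not_subsingleton_iff_nontrivial.2 hnt (subsingleton_of_forall_eq 0 fun z => ?_)
  obtain ⟨w, rfl⟩ := hsur z
  obtain ⟨χ', hχ'⟩ := (isSMulRegular_iff_dual hf a).1 hreg (eq.symm w)
  rw [← eq.apply_symm_apply w, ← hχ', map_smul,
    show a • eq χ' = Hmap 𝔪 (a • (LinearMap.id : M →ₗ[R] M)) d (eq χ') by rw [Hmap_smul_id],
    ← LinearMap.comp_apply, ← Hmap_comp,
    show π ∘ₗ (a • LinearMap.id) = 0 from LinearMap.ext fun x =>
      (exact_smul_mkQ a).apply_apply_eq_zero x,
    show Hmap 𝔪 (0 : M →ₗ[R] _) d = HmapHom 𝔪 _ _ d 0 from rfl, map_zero, LinearMap.zero_apply]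

end Step

include hf in
/-- Regular sequences and canonical pairs. -/
theorem canon_pair_list : ∀ (as : List R), (∀ x ∈ as, x ∈ 𝔪) → ∀ (d : ℕ) (M Kq : Type u)
    [AddCommGroup M] [Module R M] [Module.Finite R M] [AddCommGroup Kq] [Module R Kq],
    LocCoh.IsCohenMacaulayModule R M → Module.supportDim R M = d →
    ((Kq →ₗ[R] E) ≃ₗ[R] LocCoh.H 𝔪 d M) →
    (IsWeaklyRegular M as ↔ IsWeaklyRegular Kq as) ∧
    (IsWeaklyRegular M as → ∃ d', d' + as.length = d ∧
      LocCoh.IsCohenMacaulayModule R (M ⧸ Ideal.ofList as • (⊤ : Submodule R M)) ∧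
      Module.supportDim R (M ⧸ Ideal.ofList as • (⊤ : Submodule R M)) = d' ∧
      Nonempty ((Kq ⧸ Ideal.ofList as • (⊤ : Submodule R Kq) →ₗ[R] E) ≃ₗ[R]
        LocCoh.H 𝔪 d' (M ⧸ Ideal.ofList as • (⊤ : Submodule R M)))) := by
  intro as
  induction as with
  | nil =>
    intro _ d M Kq _ _ _ _ _ hM hd eq
    refine ⟨by simp, fun _ => ⟨d, by simp, ?_⟩⟩
    let eM : (M ⧸ Ideal.ofList ([] : List R) • (⊤ : Submodule R M)) ≃ₗ[R] M :=
      Submodule.quotEquivOfEqBot _ (by simp)
    let eKq : (Kq ⧸ Ideal.ofList ([] : List R) • (⊤ : Submodule R Kq)) ≃ₗ[R] Kq :=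
      Submodule.quotEquivOfEqBot _ (by simp)
    obtain ⟨e1⟩ := nonempty_H_congr 𝔪 eM.symm d
    obtain ⟨e2⟩ := nonempty_dual_congr eKq.symm (eq.trans e1)
    exact ⟨isCM_congr eM.symm hM, (Module.supportDim_eq_of_equiv eM).trans hd, ⟨e2⟩⟩
  | cons a as ih =>
    intro hmem d M Kq _ _ _ _ _ hM hd eq
    have : Nontrivial M := H4Depth.IsCM.nontrivial hM
    have ha := hmem a (List.mem_cons_self)
    have hmem' : ∀ x ∈ as, x ∈ 𝔪 := fun x hx => hmem x (List.mem_cons_of_mem _ hx)
    refine ⟨?_, fun h => ?_⟩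
    · rw [isWeaklyRegular_cons_iff, isWeaklyRegular_cons_iff]
      constructor
      · rintro ⟨h1, h2⟩
        obtain ⟨hK, d', -, hQ, hd', ⟨eq'⟩⟩ := canon_pair_step hf hM hd eq ha h1
        exact ⟨hK, (ih hmem' d' _ _ hQ hd' eq').1.1 h2⟩
      · rintro ⟨h1, h2⟩
        have h1' := isSMulRegular_of_canon_pair hf hM hd eq h1
        obtain ⟨-, d', -, hQ, hd', ⟨eq'⟩⟩ := canon_pair_step hf hM hd eq ha h1'
        exact ⟨h1', (ih hmem' d' _ _ hQ hd' eq').1.2 h2⟩
    · obtain ⟨h1, h2⟩ := (isWeaklyRegular_cons_iff M a as).1 h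
      obtain ⟨-, d', hdd', hQ, hd', ⟨eq'⟩⟩ := canon_pair_step hf hM hd eq ha h1
      obtain ⟨d'', hlen, hQ', hd'', ⟨eq''⟩⟩ := (ih hmem' d' _ _ hQ hd' eq').2 h2
      let eM := Submodule.quotOfListConsSMulTopEquivQuotSMulTopInner M a as
      let eKq := Submodule.quotOfListConsSMulTopEquivQuotSMulTopInner Kq a as
      obtain ⟨e1⟩ := nonempty_H_congr 𝔪 eM.symm d''
      obtain ⟨e2⟩ := nonempty_dual_congr eKq.symm (eq''.trans e1)
      exact ⟨d'', by simp only [List.length_cons]; omega, isCM_congr eM.symm hQ',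
        (Module.supportDim_eq_of_equiv eM).trans hd'', ⟨e2⟩⟩

section Main

variable [LocCoh.IsCohenMacaulayLocalRing R] {n : ℕ} (hn : ringKrullDim R = n)
  {K : Type u} [AddCommGroup K] [Module R K] [Module.Finite R K]
  (eK : (K →ₗ[R] E) ≃ₗ[R] LocCoh.H (maximalIdeal R) n R)

include hn in
theorem depth_self_eq : LocCoh.idealDepth 𝔪 R = (n : ℕ∞) := by
  have h := LocCoh.IsCohenMacaulayLocalRing.supportDim_eq_depth (R := R)
  rw [Module.supportDim_self_eq_ringKrullDim, hn] at h
  exact (WithBot.coe_injective h).symm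

include hn in
theorem subsingleton_H_self_of_lt : ∀ j < n, Subsingleton (LocCoh.H 𝔪 j R) :=
  (le_idealDepth_iff_H 𝔪 R).1 (depth_self_eq hn).ge

include hn hf eK in
theorem isWeaklyRegular_iff_canon (as : List R) (has : ∀ a ∈ as, a ∈ 𝔪) :
    (IsWeaklyRegular R as ↔ IsWeaklyRegular K as) ∧
    (IsWeaklyRegular R as → ∃ d', d' + as.length = n ∧
      LocCoh.IsCohenMacaulayModule R (R ⧸ Ideal.ofList as • (⊤ : Submodule R R)) ∧
      Module.supportDim R (R ⧸ Ideal.ofList as • (⊤ : Submodule R R)) = d' ∧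
      Nonempty ((K ⧸ Ideal.ofList as • (⊤ : Submodule R K) →ₗ[R] E) ≃ₗ[R]
        LocCoh.H 𝔪 d' (R ⧸ Ideal.ofList as • (⊤ : Submodule R R)))) :=
  canon_pair_list hf as has n R K LocCoh.IsCohenMacaulayLocalRing.supportDim_eq_depth
    (by rw [Module.supportDim_self_eq_ringKrullDim, hn]) eK

include hn hf eK in
theorem nontrivial_canon : Nontrivial K := by
  have hnt : Nontrivial (LocCoh.H 𝔪 n R) :=
    (nontrivial_H_supportDim n R (by rw [Module.supportDim_self_eq_ringKrullDim, hn])).1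
  by_contra h
  rw [not_nontrivial_iff_subsingleton] at h
  have : Subsingleton (K →ₗ[R] E) := ⟨fun a b => LinearMap.ext fun x => by
    rw [Subsingleton.elim x 0, map_zero, map_zero]⟩
  exact not_subsingleton_iff_nontrivial.2 hnt eK.symm.toEquiv.subsingleton

include hn hf eK in
theorem depth_canon : Module.supportDim R K = n ∧ LocCoh.IsCohenMacaulayModule R K := by
  have := nontrivial_canon hf hn eK
  obtain ⟨rs, hlen, hmem, hreg⟩ := H4Depth.exists_isWeaklyRegular_of_le_idealDepth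
    (H4Depth.maximalIdeal_smul_top_ne_top (R := R) (M := R)) (n := n) (depth_self_eq hn).ge
  have h1 : (n : ℕ∞) ≤ LocCoh.depth R K :=
    hlen ▸ H4Depth.length_le_idealDepth ((isWeaklyRegular_iff_canon hf hn eK rs hmem).1.1 hreg) hmem
  have h2 : Module.supportDim R K ≤ n := (Module.supportDim_le_ringKrullDim R K).trans hn.le
  have h3 : ((n : ℕ∞) : WithBot ℕ∞) ≤ ((LocCoh.depth R K : ℕ∞) : WithBot ℕ∞) :=
    WithBot.coe_le_coe.2 h1
  exact ⟨le_antisymm h2 (h3.trans H4Depth.depth_le_supportDim),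
    H4Depth.isCohenMacaulayModule_iff.2 (h2.trans h3)⟩

include hn hf eK in
theorem eva_canon : H4Goren.EVA R K n := fun i hi =>
  (duality_CM hn hf eK (subsingleton_H_self_of_lt hn) i (ResidueField R)).2 hi

include hn hf eK in
theorem not_hasInjectiveDimensionLT_canon :
    ¬ HasInjectiveDimensionLT (ModuleCat.of R K) n := by
  intro h
  obtain ⟨e⟩ := (duality_CM hn hf eK (subsingleton_H_self_of_lt hn) n (ResidueField R)).1 0 (zero_add n)
  have hsub : Subsingleton (Abelian.Ext (ModuleCat.of R (ResidueField R)) (ModuleCat.of R K) n) :=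
    subsingleton_of_forall_eq 0 fun x => x.eq_zero_of_hasInjectiveDimensionLT n le_rfl
  have htor : DRing.torsionSub 𝔪 (ResidueField R) = ⊤ := torsionSub_eq_top 𝔪 fun x => ⟨1, fun a ha => by
    rw [pow_one] at ha
    obtain ⟨y, rfl⟩ := Ideal.Quotient.mk_surjective x
    exact Ideal.Quotient.eq_zero_iff_mem.2 (Ideal.mul_mem_right y _ ha)⟩
  let e0 : LocCoh.H 𝔪 0 (ResidueField R) ≃ₗ[R] ResidueField R :=
    (zeroEquiv 𝔪 (ResidueField R)).trans (LinearEquiv.ofTop _ htor)
  refine one_ne_zero (α := ResidueField R) ((e0.symm.trans e).injective (LinearMap.ext fun x => ?_))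
  rw [@Subsingleton.elim _ hsub x 0, map_zero, map_zero]

include hn hf eK in
/-- Endomorphisms of a canonical module modulo a regular sequence. -/
theorem hom_canon_quot : ∀ (k : ℕ) (rs : List R), rs.length + k = n → (∀ x ∈ rs, x ∈ 𝔪) →
    IsWeaklyRegular R rs →
    (∀ g : K →ₗ[R] K ⧸ Ideal.ofList rs • (⊤ : Submodule R K),
      ∃ r : R, g = r • (Ideal.ofList rs • (⊤ : Submodule R K)).mkQ) ∧
    (∀ r : R, (∀ x : K, r • x ∈ Ideal.ofList rs • (⊤ : Submodule R K)) → r ∈ Ideal.ofList rs) := by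
  intro k
  induction k with
  | zero =>
    intro rs hlen hmem hreg
    obtain ⟨d', hd', -, hdim, ⟨eq⟩⟩ := (isWeaklyRegular_iff_canon hf hn eK rs hmem).2 hreg
    obtain rfl : d' = 0 := by omega
    let I := Ideal.ofList rs
    have htor := isPowerTorsion_of_supportDim_eq_zero (by exact_mod_cast hdim)
    let e : (K ⧸ I • (⊤ : Submodule R K) →ₗ[R] E) ≃ₗ[R] R ⧸ I • (⊤ : Submodule R R) :=
      eq.trans ((zeroEquiv 𝔪 (R ⧸ I • (⊤ : Submodule R R))).trans
        (LinearEquiv.ofTop _ (torsionSub_eq_top 𝔪 htor)))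
    let χ0 := e.symm (Submodule.Quotient.mk (1 : R))
    have hgen : ∀ χ, ∃ s : R, χ = s • χ0 := fun χ => by
      obtain ⟨s, hs⟩ := Submodule.Quotient.mk_surjective _ (e χ)
      refine ⟨s, e.injective ?_⟩
      rw [map_smul, LinearEquiv.apply_symm_apply, ← hs, ← Submodule.Quotient.mk_smul,
        show s • (1 : R) = s from mul_one s]
    refine ⟨fun g => ?_, fun r hr => ?_⟩
    · have hle : I • (⊤ : Submodule R K) ≤ LinearMap.ker g := Submodule.smul_le.2 fun a ha x _ => by
        rw [LinearMap.mem_ker, map_smul]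
        obtain ⟨y, hy⟩ := Submodule.Quotient.mk_surjective _ (g x)
        rw [← hy, ← Submodule.Quotient.mk_smul, Submodule.Quotient.mk_eq_zero]
        exact Submodule.smul_mem_smul ha trivial
      obtain ⟨r, hr⟩ := hgen (χ0 ∘ₗ (I • (⊤ : Submodule R K)).liftQ g hle)
      refine ⟨r, LinearMap.ext fun x => H4Matlis.injective_applyₗ hf _ (LinearMap.ext fun χ => ?_)⟩
      obtain ⟨s, rfl⟩ := hgen χ
      show (s • χ0) (g x) = (s • χ0) ((r • (I • (⊤ : Submodule R K)).mkQ) x)
      rw [LinearMap.smul_apply, LinearMap.smul_apply, LinearMap.smul_apply, map_smul χ0]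
      congr 1
      exact LinearMap.congr_fun hr (Submodule.Quotient.mk x)
    · have h0 : r • χ0 = 0 := LinearMap.ext fun q => by
        obtain ⟨x, rfl⟩ := Submodule.Quotient.mk_surjective _ q
        rw [LinearMap.smul_apply, ← map_smul, ← Submodule.Quotient.mk_smul,
          (Submodule.Quotient.mk_eq_zero _).2 (hr x), map_zero, LinearMap.zero_apply]
      have h1 := congrArg e h0
      rw [map_smul, LinearEquiv.apply_symm_apply, map_zero, ← Submodule.Quotient.mk_smul,
        show r • (1 : R) = r from mul_one r, Submodule.Quotient.mk_eq_zero] at h1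
      rw [smul_eq_mul, Ideal.mul_top] at h1
      exact h1
  | succ k ih =>
    intro rs hlen hmem hreg
    obtain ⟨d', hd', hQ, hdim, -⟩ := (isWeaklyRegular_iff_canon hf hn eK rs hmem).2 hreg
    let I := Ideal.ofList rs
    have hdep : (1 : ℕ∞) ≤ LocCoh.idealDepth 𝔪 (R ⧸ I • (⊤ : Submodule R R)) := by
      have h : Module.supportDim R (R ⧸ I • (⊤ : Submodule R R)) =
        ((LocCoh.depth R (R ⧸ I • (⊤ : Submodule R R)) : ℕ∞) : WithBot ℕ∞) := hQ
      rw [hdim] at h
      rw [show LocCoh.idealDepth 𝔪 (R ⧸ I • (⊤ : Submodule R R)) = (d' : ℕ∞) from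
        (WithBot.coe_injective h).symm]
      exact_mod_cast (show 1 ≤ d' by omega)
    have : Nontrivial (R ⧸ I • (⊤ : Submodule R R)) := H4Depth.IsCM.nontrivial hQ
    obtain ⟨a, ha, hareg⟩ := (H4Depth.one_le_idealDepth_iff
      H4Depth.maximalIdeal_smul_top_ne_top).1 hdep
    have hmem' : ∀ x ∈ rs ++ [a], x ∈ 𝔪 := fun x hx => by
      rcases List.mem_append.1 hx with h | h
      · exact hmem x h
      · rwa [List.mem_singleton.1 h]
    have hreg' : IsWeaklyRegular R (rs ++ [a]) := by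
      rw [isWeaklyRegular_append_iff]
      exact ⟨hreg, (isWeaklyRegular_singleton_iff _ _).2 hareg⟩
    have haK : IsSMulRegular (K ⧸ I • (⊤ : Submodule R K)) a := by
      have h := (isWeaklyRegular_iff_canon hf hn eK _ hmem').1.1 hreg'
      rw [isWeaklyRegular_append_iff] at h
      exact (isWeaklyRegular_singleton_iff _ _).1 h.2
    obtain ⟨ih1, ih2⟩ := ih (rs ++ [a]) (by simp; omega) hmem' hreg'
    have hI' : Ideal.ofList (rs ++ [a]) = I ⊔ Ideal.span {a} := by
      rw [Ideal.ofList_append, Ideal.ofList_singleton]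
    have hsplit : ∀ x ∈ Ideal.ofList (rs ++ [a]) • (⊤ : Submodule R K),
        ∃ y : K, x - a • y ∈ I • (⊤ : Submodule R K) := fun x hx => by
      rw [hI', Submodule.sup_smul, Submodule.ideal_span_singleton_smul] at hx
      obtain ⟨u, hu, v, hv, rfl⟩ := Submodule.mem_sup.1 hx
      obtain ⟨y, -, rfl⟩ := (Submodule.mem_smul_pointwise_iff_exists v a ⊤).1 hv
      exact ⟨y, by rwa [add_sub_cancel_right]⟩
    let h : R →ₗ[R] (K →ₗ[R] K ⧸ I • (⊤ : Submodule R K)) :=
      LinearMap.toSpanSingleton R _ (I • (⊤ : Submodule R K)).mkQ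
    have hle' : I • (⊤ : Submodule R K) ≤ Ideal.ofList (rs ++ [a]) • (⊤ : Submodule R K) :=
      Submodule.smul_mono_left (hI' ▸ le_sup_left)
    refine ⟨fun g => ?_, fun r hr => ?_⟩
    · suffices H : (⊤ : Submodule R (K →ₗ[R] K ⧸ I • (⊤ : Submodule R K))) ≤ LinearMap.range h by
        obtain ⟨r, hr⟩ := H (trivial : g ∈ _)
        exact ⟨r, hr.symm⟩
      refine Submodule.le_of_le_smul_of_le_jacobson_bot (I := 𝔪) (Module.Finite.fg_top)
        (IsLocalRing.maximalIdeal_le_jacobson ⊥) fun g _ => ?_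
      obtain ⟨r, hr⟩ := ih1 (Submodule.factor hle' ∘ₗ g)
      have hker : ∀ x : K, (g - r • (I • (⊤ : Submodule R K)).mkQ) x ∈ LinearMap.range
          (a • (LinearMap.id : (K ⧸ I • (⊤ : Submodule R K)) →ₗ[R] _)) := fun x => by
        obtain ⟨w, hw⟩ := Submodule.Quotient.mk_surjective _
          ((g - r • (I • (⊤ : Submodule R K)).mkQ) x)
        have hw0 : Submodule.factor hle' (Submodule.Quotient.mk w) = 0 := by
          rw [hw, LinearMap.sub_apply, map_sub, LinearMap.smul_apply, map_smul]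
          exact sub_eq_zero.2 (LinearMap.congr_fun hr x)
        obtain ⟨y, hy⟩ := hsplit w ((Submodule.Quotient.mk_eq_zero _).1 hw0)
        refine ⟨Submodule.Quotient.mk y, ?_⟩
        rw [← hw, LinearMap.smul_apply, LinearMap.id_apply, ← Submodule.Quotient.mk_smul]
        exact ((Submodule.Quotient.eq _).2 hy).symm
      let g' : K →ₗ[R] K ⧸ I • (⊤ : Submodule R K) :=
        (LinearEquiv.ofInjective (a • (LinearMap.id : (K ⧸ I • (⊤ : Submodule R K)) →ₗ[R] _))
          haK).symm.toLinearMap ∘ₗ (g - r • (I • (⊤ : Submodule R K)).mkQ).codRestrict _ hker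
      have hg' : g = h r + a • g' := LinearMap.ext fun x => by
        have h3 := congrArg Subtype.val ((LinearEquiv.ofInjective
          (a • (LinearMap.id : (K ⧸ I • (⊤ : Submodule R K)) →ₗ[R] _)) haK).apply_symm_apply
            ((g - r • (I • (⊤ : Submodule R K)).mkQ).codRestrict _ hker x))
        change a • g' x = g x - r • Submodule.Quotient.mk x at h3
        rw [LinearMap.add_apply, LinearMap.smul_apply, h3, LinearMap.toSpanSingleton_apply,
          LinearMap.smul_apply]; exact (add_sub_cancel _ _).symm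
      rw [hg']
      exact Submodule.add_mem_sup ⟨r, rfl⟩ (Submodule.smul_mem_smul ha trivial)
    · have hJ : LinearMap.ker h ≤ I := by
        refine Submodule.le_of_le_smul_of_le_jacobson_bot (I := 𝔪) (IsNoetherian.noetherian _)
          (IsLocalRing.maximalIdeal_le_jacobson ⊥) fun r hr => ?_
        have hr' : ∀ x : K, r • x ∈ I • (⊤ : Submodule R K) := fun x =>
          (Submodule.Quotient.mk_eq_zero _).1 (LinearMap.congr_fun hr x)
        have h2 := ih2 r fun x => hle' (hr' x)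
        rw [hI', Submodule.mem_sup] at h2
        obtain ⟨i, hi, v, hv, rfl⟩ := h2
        obtain ⟨s, rfl⟩ := Ideal.mem_span_singleton'.1 hv
        refine Submodule.add_mem_sup hi ?_
        rw [mul_comm]
        refine Submodule.smul_mem_smul ha (LinearMap.ext fun x => haK ?_)
        show a • (s • Submodule.Quotient.mk x) = a • (0 : K ⧸ I • (⊤ : Submodule R K))
        rw [smul_zero, smul_smul, ← Submodule.Quotient.mk_smul, Submodule.Quotient.mk_eq_zero,
          show (a * s) • x = (i + s * a) • x - i • x by rw [add_smul, add_sub_cancel_left, mul_comm]]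
        exact Submodule.sub_mem _ (hr' x) (Submodule.smul_mem_smul hi trivial)
      refine hJ (LinearMap.ext fun x => ?_)
      rw [LinearMap.toSpanSingleton_apply, LinearMap.smul_apply, LinearMap.zero_apply]
      exact (Submodule.Quotient.mk_eq_zero _).2 (hr x)

end Main

end Groth.Agent.H4LC
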