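import Groth.Agent.H4LC.DT
import Mathlib.Algebra.Homology.DerivedCategory.Ext.EnoughProjectives

/-!
# Ideal transform versus local cohomology
-/

set_option autoImplicit false

universe u

open CategoryTheory CategoryTheory.Limits Opposite CategoryTheory.Abelian

namespace Groth.Agent.H4LC

variable {R : Type u} [CommRing R] (I : Ideal R)

/-- The system `n ↦ I ^ n`. -/
noncomputable abbrev idealSys : ℕᵒᵖ ⥤ ModuleCat.{u} R :=
  localCohomology.idealPowersDiagram I ⋙ LocCoh.idealModFunctor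

theorem extTransform_eq_extColim (i : ℕ) : LocCoh.extTransform I i = extColim (idealSys I) i := rfl

theorem powSeq_shortExact (n : ℕ) :
    (Groth.Agent.H4Depth.shortComplexOf (Submodule.subtype (I ^ n : Ideal R))
      (Submodule.mkQ (I ^ n : Ideal R)) (LinearMap.exact_subtype_mkQ _)).ShortExact :=
  Groth.Agent.H4Depth.shortComplexOf_shortExact _ _ Subtype.val_injective
    (Submodule.mkQ_surjective _) (LinearMap.exact_subtype_mkQ _)

/-- The class of `0 → I ^ n → R → R ⧸ I ^ n → 0`. -/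
noncomputable def powExtClass (n : ℕ) :
    Abelian.Ext ((quotSys I).obj (op n)) ((idealSys I).obj (op n)) 1 :=
  (powSeq_shortExact I n).extClass

theorem powExtClass_naturality {n m : ℕ} (h : n ≤ m) :
    (powExtClass I m).comp (Abelian.Ext.mk₀ (tr (idealSys I) h)) (add_zero 1) =
      (Abelian.Ext.mk₀ (tr (quotSys I) h)).comp (powExtClass I n) (zero_add 1) :=
  ShortComplex.ShortExact.extClass_naturality (powSeq_shortExact I m) (powSeq_shortExact I n)
    { τ₁ := tr (idealSys I) h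
      τ₂ := 𝟙 _
      τ₃ := tr (quotSys I) h
      comm₁₂ := rfl
      comm₂₃ := rfl }

theorem eq_zero_of_projective_mid {i : ℕ} {M : ModuleCat.{u} R}
    (x : Abelian.Ext (ModuleCat.of R R) M (i + 1)) : x = 0 :=
  x.eq_zero_of_projective

section Ext

variable (M : ModuleCat.{u} R) (i : ℕ)


/-- Precomposition with the class, at a finite stage. -/
noncomputable def shiftAux (n : ℕ) :
    Abelian.Ext ((idealSys I).obj (op n)) M i →ₗ[R] (extColim (quotSys I) (i + 1)).obj M where
  toFun x := ι (quotSys I) (i + 1) M n ((powExtClass I n).comp x (add_comm 1 i))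
  map_add' x y := by rw [Abelian.Ext.comp_add, map_add]
  map_smul' r x := by rw [Abelian.Ext.comp_smul, map_smul, RingHom.id_apply]

theorem shiftAux_tr {n m : ℕ} (h : n ≤ m) (x : Abelian.Ext ((idealSys I).obj (op n)) M i) :
    shiftAux I M i m ((Abelian.Ext.mk₀ (tr (idealSys I) h)).comp x (zero_add i)) =
      shiftAux I M i n x := by
  change ι (quotSys I) (i + 1) M m _ = ι (quotSys I) (i + 1) M n _
  rw [← Abelian.Ext.comp_assoc_of_second_deg_zero, powExtClass_naturality,
    Abelian.Ext.comp_assoc _ _ _ (zero_add 1) (add_comm 1 i) (by omega), ι_tr]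

/-- `colim Ext^i(I^n, M) → H^{i+1}_I(M)`. -/
noncomputable def shift : (extColim (idealSys I) i).obj M →ₗ[R] (extColim (quotSys I) (i + 1)).obj M :=
  lift (idealSys I) i M (shiftAux I M i) (shiftAux_tr I M i)

theorem shift_ι (n : ℕ) (x : Abelian.Ext ((idealSys I).obj (op n)) M i) :
    shift I M i (ι (idealSys I) i M n x) =
      ι (quotSys I) (i + 1) M n ((powExtClass I n).comp x (add_comm 1 i)) :=
  lift_ι (idealSys I) i M (shiftAux I M i) (shiftAux_tr I M i) n x

theorem exists_comp_powExtClass (n : ℕ) (y : Abelian.Ext ((quotSys I).obj (op n)) M (i + 1)) :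
    ∃ x : Abelian.Ext ((idealSys I).obj (op n)) M i,
      (powExtClass I n).comp x (add_comm 1 i) = y :=
  Abelian.Ext.contravariant_sequence_exact₃ (powSeq_shortExact I n) _ y
    (eq_zero_of_projective_mid _) (add_comm 1 i)

theorem shift_surjective : Function.Surjective (shift I M i) := fun z => by
  obtain ⟨n, y, rfl⟩ := exists_rep (quotSys I) (i + 1) M z
  obtain ⟨x, rfl⟩ := exists_comp_powExtClass I M i n y
  exact ⟨_, shift_ι I M i n x⟩

theorem powExtClass_comp_injective (hi : 1 ≤ i) (n : ℕ)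
    (x : Abelian.Ext ((idealSys I).obj (op n)) M i)
    (hx : (powExtClass I n).comp x (add_comm 1 i) = 0) : x = 0 := by
  obtain ⟨k, rfl⟩ := Nat.exists_eq_add_one_of_ne_zero (Nat.one_le_iff_ne_zero.1 hi)
  obtain ⟨z, rfl⟩ := Abelian.Ext.contravariant_sequence_exact₁ (powSeq_shortExact I n) _ x
    (add_comm 1 (k + 1)) hx
  rw [show z = 0 from eq_zero_of_projective_mid z, Abelian.Ext.comp_zero]
  rfl

theorem shift_injective (hi : 1 ≤ i) : Function.Injective (shift I M i) := by
  rw [injective_iff_map_eq_zero]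
  intro z hz
  obtain ⟨n, x, rfl⟩ := exists_rep (idealSys I) i M z
  rw [shift_ι, ι_eq_zero_iff] at hz
  obtain ⟨m, hnm, hm⟩ := hz
  rw [ι_eq_zero_iff]
  refine ⟨m, hnm, powExtClass_comp_injective I M i hi m _ ?_⟩
  rw [← Abelian.Ext.comp_assoc_of_second_deg_zero, powExtClass_naturality,
    Abelian.Ext.comp_assoc _ _ _ (zero_add 1) (add_comm 1 i) (by omega), hm]

theorem shift_naturality {N : ModuleCat.{u} R} (g : M ⟶ N) (z : (extColim (idealSys I) i).obj M) :
    shift I N i (((extColim (idealSys I) i).map g).hom z) =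
      ((extColim (quotSys I) (i + 1)).map g).hom (shift I M i z) := by
  obtain ⟨n, x, rfl⟩ := exists_rep (idealSys I) i M z
  rw [map_ι, shift_ι, shift_ι, map_ι, Abelian.Ext.comp_assoc_of_third_deg_zero]

end Ext

/-- `colim_n Ext^i(I^n, -) ≅ H^{i+1}_I` for `i ≥ 1`. -/
noncomputable def extTransformIso (i : ℕ) (hi : 1 ≤ i) :
    LocCoh.extTransform I i ≅ localCohomology I (i + 1) :=
  NatIso.ofComponents
    (fun M => (LinearEquiv.ofBijective (shift I M i)
      ⟨shift_injective I M i hi, shift_surjective I M i⟩).toModuleIso)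
    fun {M N} g => ModuleCat.hom_ext (LinearMap.ext fun z => shift_naturality I M i g z)

section Zero

variable (M : Type u) [AddCommGroup M] [Module R M]

/-- A linear map, as an `Ext^0` class. -/
noncomputable def mk0Hom (n : ℕ) :
    (↥(I ^ n : Ideal R) →ₗ[R] M) →ₗ[R]
      Abelian.Ext ((idealSys I).obj (op n)) (ModuleCat.of R M) 0 where
  toFun f := Abelian.Ext.mk₀ (ModuleCat.ofHom f)
  map_add' f g := (Abelian.Ext.mk₀_add (ModuleCat.ofHom f) (ModuleCat.ofHom g))
  map_smul' r f := (Abelian.Ext.mk₀_smul r (ModuleCat.ofHom f))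

/-- `Hom(I^n, M) → H^1_I(M)`. -/
noncomputable def toHOneAux (n : ℕ) :
    (↥(I ^ n : Ideal R) →ₗ[R] M) →ₗ[R] LocCoh.H I 1 M :=
  shiftAux I (ModuleCat.of R M) 0 n ∘ₗ mk0Hom I M n

theorem toHOneAux_restrict {n m : ℕ} (h : n ≤ m) (f : ↥(I ^ n : Ideal R) →ₗ[R] M) :
    toHOneAux I M m (f ∘ₗ powIncl I h) = toHOneAux I M n f := by
  refine Eq.trans ?_ (shiftAux_tr I (ModuleCat.of R M) 0 h
    (Abelian.Ext.mk₀ (ModuleCat.ofHom f)))
  refine congrArg (shiftAux I (ModuleCat.of R M) 0 m) ?_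
  exact (Abelian.Ext.mk₀_comp_mk₀ (tr (idealSys I) h) (ModuleCat.ofHom f)).symm

/-- `D_I(M) → H^1_I(M)`. -/
noncomputable def toHOne : LocCoh.DT I M →ₗ[R] LocCoh.H I 1 M :=
  liftDT I (ModuleCat.of R M) (toHOneAux I M) (toHOneAux_restrict I M)

theorem toHOne_ι (n : ℕ) (f : ↥(I ^ n : Ideal R) →ₗ[R] M) :
    toHOne I M (ιDT I (ModuleCat.of R M) n f) =
      ι (quotSys I) 1 (ModuleCat.of R M) n
        ((powExtClass I n).comp (Abelian.Ext.mk₀ (ModuleCat.ofHom f)) (add_zero 1)) :=
  liftDT_ι I (ModuleCat.of R M) (toHOneAux I M) (toHOneAux_restrict I M) n f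

theorem toHOne_surjective : Function.Surjective (toHOne I M) := fun z => by
  obtain ⟨n, y, rfl⟩ := exists_rep (quotSys I) 1 (ModuleCat.of R M) z
  obtain ⟨x, rfl⟩ := exists_comp_powExtClass I (ModuleCat.of R M) 0 n y
  obtain ⟨f, rfl⟩ := (Abelian.Ext.mk₀_bijective _ _).2 x
  exact ⟨_, toHOne_ι I M n f.hom⟩

theorem exists_toDT_eq (n : ℕ) (F : (idealSys I).obj (op n) ⟶ ModuleCat.of R M)
    (hz : ι (quotSys I) 1 (ModuleCat.of R M) n
      ((powExtClass I n).comp (Abelian.Ext.mk₀ F) (add_zero 1)) = 0) :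
    ∃ x, LocCoh.toDT I M x = ιDT I (ModuleCat.of R M) n F.hom := by
  rw [ι_eq_zero_iff] at hz
  obtain ⟨m, hnm, hm⟩ := hz
  rw [← Abelian.Ext.comp_assoc_of_third_deg_zero, ← powExtClass_naturality,
    Abelian.Ext.comp_assoc_of_third_deg_zero, Abelian.Ext.mk₀_comp_mk₀] at hm
  obtain ⟨g, hg⟩ := Abelian.Ext.contravariant_sequence_exact₁ (powSeq_shortExact I m) _ _
    (add_zero 1) hm
  obtain ⟨g, rfl⟩ := (Abelian.Ext.mk₀_bijective _ _).2 g
  rw [Abelian.Ext.mk₀_comp_mk₀] at hg
  have hfg := congrArg ModuleCat.Hom.hom ((Abelian.Ext.mk₀_bijective _ _).1 hg)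
  refine ⟨g.hom (1 : R), ?_⟩
  rw [toDT_eq I M _ m]
  refine Eq.trans (congrArg _ (LinearMap.ext fun a => ?_))
    (ιDT_restrict I (ModuleCat.of R M) hnm F.hom)
  refine Eq.trans ?_ (LinearMap.congr_fun hfg a)
  change (a : R) • g.hom (1 : R) = g.hom (a : R)
  exact (map_smul g.hom (a : R) (1 : R)).symm.trans (congrArg g.hom (mul_one (a : R)))

theorem comp_powExtClass_of_factor (n : ℕ) (g : ModuleCat.of R R ⟶ ModuleCat.of R M)
    (F : (idealSys I).obj (op n) ⟶ ModuleCat.of R M)
    (hF : F = (Groth.Agent.H4Depth.shortComplexOf (Submodule.subtype (I ^ n : Ideal R))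
      (Submodule.mkQ (I ^ n : Ideal R)) (LinearMap.exact_subtype_mkQ _)).f ≫ g) :
    ι (quotSys I) 1 (ModuleCat.of R M) n
      ((powExtClass I n).comp (Abelian.Ext.mk₀ F) (add_zero 1)) = 0 := by
  subst hF
  refine (congrArg (ι (quotSys I) 1 (ModuleCat.of R M) n) ?_).trans (map_zero _)
  refine (congrArg (fun w => (powExtClass I n).comp w (add_zero 1))
    (Abelian.Ext.mk₀_comp_mk₀ _ g).symm).trans ?_
  exact (powSeq_shortExact I n).extClass_comp_assoc _

theorem exact_toDT_toHOne : Function.Exact (LocCoh.toDT I M) (toHOne I M) := by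
  intro z
  constructor
  · intro hz
    obtain ⟨n, f, rfl⟩ := exists_rep_DT I (ModuleCat.of R M) z
    rw [toHOne_ι] at hz
    exact exists_toDT_eq I M n (ModuleCat.ofHom f) hz
  · rintro ⟨x, rfl⟩
    rw [toDT_eq I M x 0, toHOne_ι]
    exact comp_powExtClass_of_factor I M 0 (ModuleCat.ofHom (LinearMap.toSpanSingleton R M x)) _ rfl

/-- `coker η_M ≅ H^1_I(M)`. -/
noncomputable def cokerToDTEquiv :
    (LocCoh.DT I M ⧸ LinearMap.range (LocCoh.toDT I M)) ≃ₗ[R] LocCoh.H I 1 M :=
  (Submodule.quotEquivOfEq _ _ (exact_toDT_toHOne I M).linearMap_ker_eq.symm).trans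
    ((toHOne I M).quotKerEquivOfSurjective (toHOne_surjective I M))

end Zero

end Groth.Agent.H4LC
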