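import Groth.Agent.H4LC.LC
import Groth.Agent.H4LC.Transform

/-!
# Maps of inverse systems and the long exact sequence in the first variable
-/

set_option autoImplicit false
set_option linter.unusedSectionVars false

universe u

open CategoryTheory CategoryTheory.Limits Opposite CategoryTheory.Abelian

namespace Groth.Agent.H4LC

variable {R : Type u} [CommRing R] {G G' G'' : ℕᵒᵖ ⥤ ModuleCat.{u} R} (i : ℕ)

/-- The natural transformation induced by a map of systems. -/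
noncomputable abbrev preNat (α : G ⟶ G') : extColim G' i ⟶ extColim G i :=
  colimMap (Functor.whiskerRight (NatTrans.op α) (_root_.Ext R (ModuleCat.{u} R) i))

/-- Precomposition with a map of systems. -/
noncomputable abbrev pre (α : G ⟶ G') (M : ModuleCat.{u} R) :
    (extColim G' i).obj M →ₗ[R] (extColim G i).obj M :=
  ((preNat i α).app M).hom

theorem pre_ι (α : G ⟶ G') (M : ModuleCat.{u} R) (n : ℕ)
    (x : Abelian.Ext (G'.obj (op n)) M i) :
    pre i α M (ι G' i M n x) =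
      ι G i M n ((Abelian.Ext.mk₀ (α.app (op n))).comp x (zero_add i)) := by
  obtain ⟨y, rfl⟩ := (extEquiv (G'.obj (op n)) M i).surjective x
  rw [← extEquiv_naturality_left, ι_extEquiv, ι_extEquiv]
  exact congrArg (fun a : (G'.op ⋙ _root_.Ext R (ModuleCat.{u} R) i).obj (op (op n)) ⟶
    extColim G i => (NatTrans.app a M).hom y) (ι_colimMap _ (op (op n)))

theorem pre_comp (α : G ⟶ G') (β : G' ⟶ G'') (M : ModuleCat.{u} R) :
    pre i (α ≫ β) M = pre i α M ∘ₗ pre i β M :=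
  hom_ext G'' i M fun n x => by
    rw [LinearMap.comp_apply, pre_ι, pre_ι, pre_ι, NatTrans.comp_app,
      ← Abelian.Ext.mk₀_comp_mk₀_assoc]

theorem pre_id (M : ModuleCat.{u} R) : pre i (𝟙 G) M = LinearMap.id :=
  hom_ext G i M fun n x => by
    rw [pre_ι, LinearMap.id_apply, NatTrans.id_app, Abelian.Ext.mk₀_id_comp]

theorem pre_add (α β : G ⟶ G') (M : ModuleCat.{u} R) :
    pre i (α + β) M = pre i α M + pre i β M :=
  hom_ext G' i M fun n x => by
    rw [LinearMap.add_apply, pre_ι, pre_ι, pre_ι, NatTrans.app_add, Abelian.Ext.mk₀_add,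
      Abelian.Ext.add_comp, map_add]

theorem pre_neg (α : G ⟶ G') (M : ModuleCat.{u} R) : pre i (-α) M = -pre i α M := by
  have h := pre_add i α (-α) M
  rw [add_neg_cancel] at h
  have h0 : pre i (0 : G ⟶ G') M = 0 := hom_ext G' i M fun n x => by
    rw [pre_ι, LinearMap.zero_apply, show (0 : G ⟶ G').app (op n) = 0 from rfl,
      Abelian.Ext.mk₀_zero, Abelian.Ext.zero_comp, map_zero]
  exact eq_neg_of_add_eq_zero_right (h.symm.trans h0)

/-- Mutually cofinal systems have the same colimit. -/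
theorem pre_bijective (α : G ⟶ G') (M : ModuleCat.{u} R)
    (h : ∀ n, ∃ m, ∃ hm : n ≤ m, ∃ β : G'.obj (op m) ⟶ G.obj (op n),
      β ≫ α.app (op n) = tr G' hm ∧ α.app (op m) ≫ β = tr G hm) :
    Function.Bijective (pre i α M) := by
  constructor
  · rw [injective_iff_map_eq_zero]
    intro z hz
    obtain ⟨n, x, rfl⟩ := exists_rep G' i M z
    rw [pre_ι, ι_eq_zero_iff] at hz
    obtain ⟨m, hnm, hm⟩ := hz
    obtain ⟨k, hk, β, hβ, -⟩ := h m
    refine (ι_eq_zero_iff G' i M x).2 ⟨k, hnm.trans hk, ?_⟩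
    rw [← tr_comp G' hnm hk, ← hβ, Category.assoc,
      show α.app (op m) ≫ tr G' hnm = tr G hnm ≫ α.app (op n) from
        (α.naturality (homOfLE hnm).op).symm,
      ← Abelian.Ext.mk₀_comp_mk₀_assoc, ← Abelian.Ext.mk₀_comp_mk₀_assoc, hm,
      Abelian.Ext.comp_zero]
  · intro z
    obtain ⟨n, x, rfl⟩ := exists_rep G i M z
    obtain ⟨m, hm, β, -, hβ⟩ := h n
    refine ⟨ι G' i M m ((Abelian.Ext.mk₀ β).comp x (zero_add i)), ?_⟩
    rw [pre_ι, Abelian.Ext.mk₀_comp_mk₀_assoc, hβ, ι_tr]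

section LES

variable {G₁ G₂ G₃ : ℕᵒᵖ ⥤ ModuleCat.{u} R} (f : G₁ ⟶ G₂) (g : G₂ ⟶ G₃)
  (w : ∀ n, f.app (op n) ≫ g.app (op n) = 0)
  (hS : ∀ n, (ShortComplex.mk (f.app (op n)) (g.app (op n)) (w n)).ShortExact)
  (M : ModuleCat.{u} R)

/-- Composition with the class of the `n`-th sequence. -/
noncomputable def δPreAux (n : ℕ) :
    Abelian.Ext (G₁.obj (op n)) M i →ₗ[R] (extColim G₃ (i + 1)).obj M where
  toFun x := ι G₃ (i + 1) M n ((hS n).extClass.comp x (add_comm 1 i))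
  map_add' x y := by rw [Abelian.Ext.comp_add, map_add]
  map_smul' r x := by rw [Abelian.Ext.comp_smul, map_smul, RingHom.id_apply]

include hS in
theorem extClass_pre_naturality {n m : ℕ} (h : n ≤ m) :
    (hS m).extClass.comp (Abelian.Ext.mk₀ (tr G₁ h)) (add_zero 1) =
      (Abelian.Ext.mk₀ (tr G₃ h)).comp (hS n).extClass (zero_add 1) :=
  ShortComplex.ShortExact.extClass_naturality (hS m) (hS n)
    { τ₁ := tr G₁ h
      τ₂ := tr G₂ h
      τ₃ := tr G₃ h
      comm₁₂ := f.naturality (homOfLE h).op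
      comm₂₃ := g.naturality (homOfLE h).op }

theorem δPreAux_tr {n m : ℕ} (h : n ≤ m) (x : Abelian.Ext (G₁.obj (op n)) M i) :
    δPreAux i f g w hS M m ((Abelian.Ext.mk₀ (tr G₁ h)).comp x (zero_add i)) =
      δPreAux i f g w hS M n x := by
  change ι G₃ (i + 1) M m _ = ι G₃ (i + 1) M n _
  rw [← Abelian.Ext.comp_assoc_of_second_deg_zero, extClass_pre_naturality f g w hS,
    Abelian.Ext.comp_assoc _ _ _ (zero_add 1) (add_comm 1 i) (by omega), ι_tr]

/-- The connecting map in the first variable. -/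
noncomputable def δPre : (extColim G₁ i).obj M →ₗ[R] (extColim G₃ (i + 1)).obj M :=
  lift G₁ i M (δPreAux i f g w hS M) (δPreAux_tr i f g w hS M)

theorem δPre_ι (n : ℕ) (x : Abelian.Ext (G₁.obj (op n)) M i) :
    δPre i f g w hS M (ι G₁ i M n x) =
      ι G₃ (i + 1) M n ((hS n).extClass.comp x (add_comm 1 i)) :=
  lift_ι G₁ i M (δPreAux i f g w hS M) (δPreAux_tr i f g w hS M) n x

include hS in
theorem exactPre₂ : Function.Exact (pre i g M) (pre i f M) := by
  intro z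
  constructor
  · intro hz
    obtain ⟨n, x, rfl⟩ := exists_rep G₂ i M z
    rw [pre_ι, ι_eq_zero_iff] at hz
    obtain ⟨m, hnm, hz⟩ := hz
    rw [Abelian.Ext.mk₀_comp_mk₀_assoc, show tr G₁ hnm ≫ f.app (op n) = f.app (op m) ≫ tr G₂ hnm
      from f.naturality (homOfLE hnm).op, ← Abelian.Ext.mk₀_comp_mk₀_assoc] at hz
    obtain ⟨y, hy⟩ := Abelian.Ext.contravariant_sequence_exact₂ (hS m) _ _ hz
    exact ⟨ι G₃ i M m y, by rw [pre_ι]; exact (congrArg _ hy).trans (ι_tr G₂ i M hnm x)⟩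
  · rintro ⟨y, rfl⟩
    obtain ⟨n, x, rfl⟩ := exists_rep G₃ i M y
    rw [pre_ι, pre_ι, Abelian.Ext.mk₀_comp_mk₀_assoc, w, Abelian.Ext.mk₀_zero,
      Abelian.Ext.zero_comp, map_zero]

theorem exactPre₁ : Function.Exact (pre i f M) (δPre i f g w hS M) := by
  intro z
  constructor
  · intro hz
    obtain ⟨n, x, rfl⟩ := exists_rep G₁ i M z
    rw [δPre_ι, ι_eq_zero_iff] at hz
    obtain ⟨m, hnm, hz⟩ := hz
    replace hz := (Abelian.Ext.comp_assoc _ _ x (zero_add 1) (add_comm 1 i) (by omega)).trans hz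
    rw [← extClass_pre_naturality f g w hS, Abelian.Ext.comp_assoc_of_second_deg_zero] at hz
    obtain ⟨y, hy⟩ := Abelian.Ext.contravariant_sequence_exact₁ (hS m) _ _ (add_comm 1 i) hz
    exact ⟨ι G₂ i M m y, by rw [pre_ι]; exact (congrArg _ hy).trans (ι_tr G₁ i M hnm x)⟩
  · rintro ⟨y, rfl⟩
    obtain ⟨n, x, rfl⟩ := exists_rep G₂ i M y
    rw [pre_ι, δPre_ι]
    exact (congrArg _ ((hS n).extClass_comp_assoc x)).trans (map_zero _)

theorem exactPre₃ : Function.Exact (δPre i f g w hS M) (pre (i + 1) g M) := by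
  intro z
  constructor
  · intro hz
    obtain ⟨n, x, rfl⟩ := exists_rep G₃ (i + 1) M z
    rw [pre_ι, ι_eq_zero_iff] at hz
    obtain ⟨m, hnm, hz⟩ := hz
    rw [Abelian.Ext.mk₀_comp_mk₀_assoc, show tr G₂ hnm ≫ g.app (op n) = g.app (op m) ≫ tr G₃ hnm
      from g.naturality (homOfLE hnm).op, ← Abelian.Ext.mk₀_comp_mk₀_assoc] at hz
    obtain ⟨y, hy⟩ := Abelian.Ext.contravariant_sequence_exact₃ (hS m) _ _ hz (add_comm 1 i)
    exact ⟨ι G₁ i M m y, by rw [δPre_ι]; exact (congrArg _ hy).trans (ι_tr G₃ (i + 1) M hnm x)⟩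
  · rintro ⟨y, rfl⟩
    obtain ⟨n, x, rfl⟩ := exists_rep G₁ i M y
    rw [δPre_ι, pre_ι]
    exact (congrArg _ ((hS n).comp_extClass_assoc x _)).trans (map_zero _)

include hS in
theorem pre_zero_injective : Function.Injective (pre 0 g M) := by
  rw [injective_iff_map_eq_zero]
  intro z hz
  obtain ⟨n, x, rfl⟩ := exists_rep G₃ 0 M z
  rw [pre_ι, ι_eq_zero_iff] at hz
  obtain ⟨m, hnm, hz⟩ := hz
  rw [Abelian.Ext.mk₀_comp_mk₀_assoc, show tr G₂ hnm ≫ g.app (op n) = g.app (op m) ≫ tr G₃ hnm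
    from g.naturality (homOfLE hnm).op, ← Abelian.Ext.mk₀_comp_mk₀_assoc] at hz
  have : Epi (g.app (op m)) := (hS m).epi_g
  refine (ι_eq_zero_iff G₃ 0 M x).2 ⟨m, hnm,
    Abelian.Ext.precomp_mk₀_injective_of_epi M (g.app (op m)) ?_⟩
  rw [map_zero]
  exact hz

end LES

end Groth.Agent.H4LC
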