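import Groth.Agent.H4LC.Annihilation
import Groth.Prelude.Def_W4bk5brsh7111920

/-!
# The finiteness dimension is at most the adjusted depth
-/

set_option autoImplicit false
set_option linter.unusedSectionVars false

universe u

open CategoryTheory CategoryTheory.Limits Opposite IsLocalRing
open scoped TensorProduct Pointwise

namespace Groth.Agent.H4LC

section QuotSMulTop

variable {R : Type u} [CommRing R] (P : Ideal R) [P.IsPrime] (y : R) (M : Type u) [AddCommGroup M]
  [Module R M]

/-- Localisation commutes with `M ↦ M / y M`. -/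
noncomputable def quotSMulTopLocalizationEquiv :
    LocalizedModule P.primeCompl (QuotSMulTop y M) ≃ₗ[Localization.AtPrime P]
      QuotSMulTop (algebraMap R (Localization.AtPrime P) y) (LocalizedModule P.primeCompl M) :=
  LocalizedModule.equivTensorProduct P.primeCompl _ ≪≫ₗ
    (QuotSMulTop.algebraMapTensorEquivTensorQuotSMulTop y M (Localization.AtPrime P)).symm ≪≫ₗ
    QuotSMulTop.congr _ (IsLocalizedModule.isBaseChange P.primeCompl (Localization.AtPrime P)
      (LocalizedModule.mkLinearMap P.primeCompl M)).equiv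

theorem localizedModule_map_bijective_of_torsion {N : Type u} [AddCommGroup N] [Module R N]
    (g : M →ₗ[R] N) (hg : Function.Surjective g)
    (hker : ∀ x, g x = 0 → ∃ c ∈ P.primeCompl, c • x = 0) :
    Function.Bijective (LocalizedModule.map P.primeCompl g) := by
  refine ⟨?_, LocalizedModule.map_surjective P.primeCompl g hg⟩
  rw [injective_iff_map_eq_zero]
  intro x hx
  induction x using LocalizedModule.induction_on with
  | h m s =>
    rw [LocalizedModule.map_mk, ← LocalizedModule.zero_mk 1, LocalizedModule.mk_eq] at hx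
    obtain ⟨u, hu⟩ := hx
    simp only [Submonoid.smul_def, one_smul, smul_zero] at hu
    obtain ⟨c, hc, hcm⟩ := hker ((u : R) • m) (by rw [map_smul]; exact hu)
    rw [← LocalizedModule.zero_mk s, LocalizedModule.mk_eq]
    refine ⟨⟨c, hc⟩ * u, ?_⟩
    simp only [Submonoid.smul_def, smul_zero, mul_smul]
    rw [smul_comm (u : R), smul_comm c (s : R), hcm, smul_zero]

end QuotSMulTop

theorem isLocalization_atPrime_atPrime {R : Type u} [CommRing R] (q : Ideal R) [q.IsPrime]
    (p : Ideal R) [p.IsPrime] (P : Ideal (Localization.AtPrime q)) [P.IsPrime]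
    (h : P.comap (algebraMap R (Localization.AtPrime q)) = p) :
    IsLocalization.AtPrime (Localization.AtPrime P) p := by
  subst h
  exact IsLocalization.isLocalization_isLocalization_atPrime_isLocalization
    (R := R) q.primeCompl (T := Localization.AtPrime P) P

variable {A : Type u} [CommRing A] [IsNoetherianRing A] [IsLocalRing A]

/-- The degree zero step: an associated prime covered by the maximal ideal. -/
theorem not_powKills_of_associatedPrime {N : Type u} [AddCommGroup N] [Module A N]
    [Module.Finite A N] {Q : Ideal A} (hQ : Q ∈ associatedPrimes A N) {b : A}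
    (hbQ : b ∉ Q) (hb : b ∈ maximalIdeal A)
    (hcov : ∀ Q' : Ideal A, Q'.IsPrime → Q < Q' → Q' = maximalIdeal A) :
    ¬ PowKills b (maximalIdeal A) 1 N := by
  intro hk
  have hQp : Q.IsPrime := hQ.isPrime
  obtain ⟨-, v, hv⟩ := isAssociatedPrime_iff.mp hQ
  have hQv : ∀ a, a ∈ Q ↔ a • v = 0 := fun a => by
    rw [hv, Submodule.mem_colon_singleton, Submodule.mem_bot]
  have hrad : (Q ⊔ Ideal.span {b}).radical = (maximalIdeal A).radical := by
    rw [(maximalIdeal.isMaximal A).isPrime.radical]
    refine le_antisymm ((maximalIdeal.isMaximal A).isPrime.radical_le_iff.2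
      (sup_le (le_maximalIdeal hQp.ne_top) ((Ideal.span_singleton_le_iff_mem _).2 hb))) ?_
    rw [Ideal.radical_eq_sInf]
    refine le_sInf fun P hP => (hcov P hP.2 ?_).ge
    exact lt_of_le_of_ne (le_sup_left.trans hP.1) fun h =>
      hbQ (h ▸ hP.1 (Submodule.mem_sup_right (Ideal.mem_span_singleton_self b)))
  obtain ⟨k, hk⟩ := hk.of_radical_eq hrad.symm
  let V := LocalizedModule (Submonoid.powers b) N
  let l := LocalizedModule.mkLinearMap (Submonoid.powers b) N
  obtain ⟨E⟩ := nonempty_coker_equiv_ker (b := b) (le_sup_left : Q ≤ _) rfl N 0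
  let L := ((localCohomology Q 0).map (locHom b N)).hom
  have hL : Function.Surjective L := by
    intro z
    let e : V ≃ₗ[A] V := LinearEquiv.ofBijective (b • LinearMap.id)
      ((Module.End.isUnit_iff _).1 (IsLocalizedModule.map_units l ⟨b, Submonoid.mem_powers b⟩))
    have hb' : ∀ (n : ℕ) (z : LocCoh.H Q 0 V), ∃ w, b ^ n • w = z := by
      intro n
      induction n with
      | zero => exact fun z => ⟨z, by rw [pow_zero, one_smul]⟩
      | succ n ih =>
        intro z
        have h1 : Hmap Q ((b • LinearMap.id : V →ₗ[A] V) ∘ₗ e.symm.toLinearMap) 0 z = z := by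
          rw [show (b • LinearMap.id : V →ₗ[A] V) ∘ₗ e.symm.toLinearMap = LinearMap.id from
            LinearMap.ext fun m => e.apply_symm_apply m, Hmap_id]
          rfl
        rw [Hmap_comp, LinearMap.comp_apply, Hmap_smul_id] at h1
        obtain ⟨w, hw⟩ := ih (Hmap Q e.symm.toLinearMap 0 z)
        exact ⟨w, by rw [pow_succ', mul_smul, hw, h1]⟩
    obtain ⟨w, rfl⟩ := hb' k z
    have : b ^ k • w ∈ LinearMap.range L :=
      (Submodule.Quotient.mk_eq_zero _).1 (E.injective (Subtype.ext (by
        rw [Submodule.Quotient.mk_smul, map_smul, map_zero]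
        exact hk _)))
    exact this
  have hlift : ∀ x : V, (∀ a ∈ Q, a • x = 0) → x ∈ LinearMap.range l := by
    intro x hx
    obtain ⟨z, hz⟩ := (zeroEquiv Q V).surjective ⟨x, 1, by simpa using hx⟩
    obtain ⟨y, rfl⟩ := hL z
    refine ⟨(zeroEquiv Q N y).1, ?_⟩
    refine (zeroEquiv_naturality Q l y).symm.trans ?_
    exact congrArg Subtype.val hz
  let x : ℕ → V := fun n => LocalizedModule.mk v ⟨b ^ n, Submonoid.pow_mem _ (Submonoid.mem_powers b) n⟩
  have hxQ : ∀ n, ∀ a ∈ Q, a • x n = 0 := fun n a ha => by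
    rw [LocalizedModule.smul'_mk, (hQv a).1 ha, LocalizedModule.zero_mk]
  have hxs : ∀ n, x n = b • x (n + 1) := fun n => by
    rw [LocalizedModule.smul'_mk, LocalizedModule.mk_eq]
    exact ⟨1, by simp [Submonoid.smul_def, smul_smul, pow_succ]⟩
  have hN : IsNoetherian A (LinearMap.range l) := isNoetherian_of_fg_of_noetherian _
    (by rw [← Submodule.map_top]; exact Module.Finite.fg_top.map l)
  let g : ℕ →o Submodule A (LinearMap.range l) :=
    ⟨fun n => Submodule.span A {⟨x n, hlift _ (hxQ n)⟩}, monotone_nat_of_le_succ fun n => by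
      rw [Submodule.span_singleton_le_iff_mem, Submodule.mem_span_singleton]
      exact ⟨b, Subtype.ext (hxs n).symm⟩⟩
  obtain ⟨n, hn⟩ := monotone_stabilizes_iff_noetherian.2 hN g
  have hmem : (⟨x (n + 1), hlift _ (hxQ _)⟩ : LinearMap.range l) ∈ g n :=
    (hn (n + 1) n.le_succ).symm ▸ Submodule.mem_span_singleton_self _
  obtain ⟨r, hr⟩ := Submodule.mem_span_singleton.1 hmem
  have hr' : r • x n = x (n + 1) := congrArg Subtype.val hr
  rw [hxs n, smul_smul] at hr'
  have hu : IsUnit (1 - r * b) := by
    refine (IsLocalRing.isUnit_or_isUnit_one_sub_self (r * b)).resolve_left fun h => ?_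
    exact (mem_maximalIdeal _).1 (Ideal.mul_mem_left _ r hb) h
  have hx0 : x (n + 1) = 0 := by
    rw [← hu.smul_eq_zero, sub_smul, one_smul, hr', sub_self]
  change LocalizedModule.mk v _ = 0 at hx0
  rw [← LocalizedModule.zero_mk 1, LocalizedModule.mk_eq] at hx0
  obtain ⟨⟨_, j, rfl⟩, hj⟩ := hx0
  simp only [Submonoid.smul_def, one_smul, smul_zero] at hj
  exact hbQ (hQp.mem_of_pow_mem j ((hQv _).2 hj))

/-- The step across a prime covered by the maximal ideal. -/
theorem lt_depth_of_powKills {Q : Ideal A} [Q.IsPrime] {b : A} (hbQ : b ∉ Q)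
    (hb : b ∈ maximalIdeal A) (hcov : ∀ Q' : Ideal A, Q'.IsPrime → Q < Q' → Q' = maximalIdeal A) :
    ∀ (j : ℕ) (N : Type u) [AddCommGroup N] [Module A N] [Module.Finite A N],
      LocCoh.depth (Localization.AtPrime Q) (LocalizedModule Q.primeCompl N) = j →
      ¬ ∀ i ≤ j + 1, PowKills b (maximalIdeal A) i N := by
  intro j
  induction j with
  | zero =>
    intro N _ _ _ hd hk
    have : Nontrivial (LocalizedModule Q.primeCompl N) := by
      by_contra hnt
      rw [not_nontrivial_iff_subsingleton] at hnt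
      exact ENat.top_ne_natCast 0 ((Groth.Agent.H4Depth.idealDepth_eq_top (Subsingleton.elim _ _)).symm.trans hd)
    exact not_powKills_of_associatedPrime
      ((Groth.Agent.H1CAlg.depth_localization_eq_zero_iff Q).1 hd) hbQ hb hcov (hk 1 le_rfl)
  | succ j ih =>
    intro N _ _ _ hd hk
    let T := DRing.torsionSub (maximalIdeal A) N
    have hT : LocCoh.IsPowerTorsion (maximalIdeal A) T := isPowerTorsion_torsionSub _ N
    have hbij := localizedModule_map_bijective_of_torsion Q N T.mkQ T.mkQ_surjective fun x hx => by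
      obtain ⟨n, hn⟩ := (Submodule.Quotient.mk_eq_zero _).1 hx
      exact ⟨b ^ n, fun h => hbQ (‹Q.IsPrime›.mem_of_pow_mem n h), hn _ (Ideal.pow_mem_pow hb n)⟩
    have hd' : LocCoh.depth (Localization.AtPrime Q) (LocalizedModule Q.primeCompl (N ⧸ T)) =
        ((j + 1 : ℕ) : ℕ∞) :=
      (Groth.Agent.H4Depth.depth_congr (LinearEquiv.ofBijective _ hbij)).symm.trans hd
    have hT0 : DRing.torsionSub (maximalIdeal A) (N ⧸ T) = ⊥ :=
      torsionSub_quotient_eq_bot (maximalIdeal A) N
    have hk' : ∀ i ≤ j + 1 + 1, PowKills b (maximalIdeal A) i (N ⧸ T) := by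
      intro i hi
      cases i with
      | zero =>
        refine ⟨0, fun z => ?_⟩
        have hz : zeroEquiv (maximalIdeal A) (N ⧸ T) z = 0 := Subtype.ext
          ((Submodule.mem_bot A).1 (hT0 ▸ (zeroEquiv (maximalIdeal A) (N ⧸ T) z).2))
        rw [pow_zero, one_smul]
        exact (LinearEquiv.map_eq_zero_iff _).1 hz
      | succ i =>
        obtain ⟨k, hkk⟩ := hk (i + 1) hi
        refine ⟨k, fun z => ?_⟩
        obtain ⟨w, rfl⟩ : ∃ w, Hmap (maximalIdeal A) T.mkQ (i + 1) w = z :=
          (exactH₃ (maximalIdeal A) T.injective_subtype T.mkQ_surjective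
            (LinearMap.exact_subtype_mkQ T) (i + 1) z).1
            (@Subsingleton.elim _ (subsingleton_H_of_isPowerTorsion (maximalIdeal A) (i + 1 + 1) T hT
              (Nat.succ_pos _)) _ _)
        rw [← map_smul, hkk, map_zero]
    have hnt : Nontrivial (LocalizedModule Q.primeCompl (N ⧸ T)) := by
      by_contra hnt
      rw [not_nontrivial_iff_subsingleton] at hnt
      exact ENat.top_ne_natCast _
        ((Groth.Agent.H4Depth.idealDepth_eq_top (Subsingleton.elim _ _)).symm.trans hd')
    obtain ⟨y, hyQ, hy⟩ : ∃ y ∈ Q, IsSMulRegular (N ⧸ T) y := by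
      by_contra h
      push Not at h
      obtain ⟨P, hP, hQP⟩ := Groth.Agent.H4Depth.exists_associatedPrime_ge_of_no_regular h
      rcases hQP.eq_or_lt with rfl | hlt
      · rw [(Groth.Agent.H1CAlg.depth_localization_eq_zero_iff Q).2 hP] at hd'
        exact absurd hd'.symm (by simp)
      · obtain rfl := hcov P hP.isPrime hlt
        obtain ⟨-, v, hv⟩ := isAssociatedPrime_iff.mp hP
        have hv0 : v ∈ DRing.torsionSub (maximalIdeal A) (N ⧸ T) := ⟨1, fun a ha => by
          rw [pow_one, hv, Submodule.mem_colon_singleton, Submodule.mem_bot] at ha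
          exact ha⟩
        rw [hT0, Submodule.mem_bot] at hv0
        exact hP.isPrime.ne_top (by rw [hv, hv0]; simp)
    refine ih (QuotSMulTop y (N ⧸ T)) ?_ fun i hi => ?_
    · have hy' : IsSMulRegular (LocalizedModule Q.primeCompl (N ⧸ T))
          (algebraMap A (Localization.AtPrime Q) y) :=
        hy.of_isLocalizedModule (Localization.AtPrime Q) Q.primeCompl
          (LocalizedModule.mkLinearMap Q.primeCompl (N ⧸ T))
      have h1 := Groth.Agent.H4Depth.idealDepth_quotSMulTop_add_one
        (M := LocalizedModule Q.primeCompl (N ⧸ T))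
        ((IsLocalization.AtPrime.to_map_mem_maximal_iff (Localization.AtPrime Q) Q y).2 hyQ) hy'
      rw [show LocCoh.idealDepth (maximalIdeal (Localization.AtPrime Q))
        (LocalizedModule Q.primeCompl (N ⧸ T)) = ((j + 1 : ℕ) : ℕ∞) from hd',
        ← show _ = LocCoh.idealDepth (maximalIdeal (Localization.AtPrime Q))
          (QuotSMulTop (algebraMap A (Localization.AtPrime Q) y) (LocalizedModule Q.primeCompl (N ⧸ T)))
          from Groth.Agent.H4Depth.depth_congr (quotSMulTopLocalizationEquiv Q y (N ⧸ T))] at h1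
      push_cast at h1
      exact WithTop.add_right_cancel ENat.one_ne_top h1
    · obtain ⟨k, hkk⟩ := hk' i (by omega)
      obtain ⟨l, hll⟩ := hk' (i + 1) (by omega)
      refine ⟨k + l, fun z => ?_⟩
      let f : (N ⧸ T) →ₗ[A] (N ⧸ T) := DistribSMul.toLinearMap A (N ⧸ T) y
      let q := (y • (⊤ : Submodule A (N ⧸ T))).mkQ
      have hfg : Function.Exact f q := fun x => by
        simp only [q, Submodule.mkQ_apply, Submodule.Quotient.mk_eq_zero]
        exact ⟨fun ⟨w, _, hw⟩ => ⟨w, hw⟩, fun ⟨w, hw⟩ => ⟨w, Submodule.mem_top, hw⟩⟩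
      obtain ⟨w, hw⟩ : ∃ w, Hmap (maximalIdeal A) q i w = b ^ l • z :=
        (exactH₃ (maximalIdeal A) (f := f) hy (Submodule.mkQ_surjective _) hfg i _).1
          (by rw [map_smul, hll])
      rw [pow_add, mul_smul, ← hw, ← map_smul, hkk, map_zero]

/-- The local bound. -/
theorem natCast_le_depth_localization_add_dim (N : Type u) [AddCommGroup N] [Module A N]
    [Module.Finite A N] (P : Ideal A) [P.IsPrime] {b : A} (hb : b ∉ P) (f : ℕ)
    (hk : ∀ i < f, PowKills b (maximalIdeal A) i N) :
    (f : WithBot ℕ∞) ≤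
      ((LocCoh.depth (Localization.AtPrime P) (LocalizedModule P.primeCompl N) : ℕ∞) : WithBot ℕ∞) +
        ringKrullDim (A ⧸ P) := by
  rcases subsingleton_or_nontrivial (LocalizedModule P.primeCompl N) with hs | hP
  · rw [show LocCoh.depth (Localization.AtPrime P) (LocalizedModule P.primeCompl N) = ⊤ from
      Groth.Agent.H4Depth.idealDepth_eq_top (Subsingleton.elim _ _)]
    have := Ideal.Quotient.nontrivial_iff.mpr ‹P.IsPrime›.ne_top
    calc (f : WithBot ℕ∞) ≤ ((⊤ : ℕ∞) : WithBot ℕ∞) + 0 := by
          rw [add_zero]; exact WithBot.coe_le_coe.2 le_top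
      _ ≤ _ := by gcongr; exact ringKrullDim_nonneg_of_nontrivial
  have hN : Nontrivial N := by
    by_contra hnt
    rw [not_nontrivial_iff_subsingleton] at hnt
    exact not_subsingleton_iff_nontrivial.2 hP (LocalizedModule.subsingleton_iff.2 fun m =>
      ⟨1, P.primeCompl.one_mem, Subsingleton.elim _ _⟩)
  by_contra hlt
  rw [not_le] at hlt
  -- an element of the maximal ideal outside `P` with the same property, if `P` is not maximal
  by_cases hPm : P = maximalIdeal A
  · have hu : IsUnit b := by
      by_contra h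
      exact hb (hPm ▸ (mem_maximalIdeal b).2 h)
    obtain ⟨d, hd⟩ := ENat.ne_top_iff_exists.mp (Groth.Agent.H4Depth.idealDepth_ne_top
      (Groth.Agent.H4Depth.maximalIdeal_smul_top_ne_top (R := A) (M := N)))
    have h1 := depth_le_depth_localization_add_dim (M := N) P hP
    rw [show LocCoh.depth A N = LocCoh.idealDepth (maximalIdeal A) N from rfl, ← hd] at h1
    have hdf : d < f := by exact_mod_cast lt_of_le_of_lt h1 hlt
    obtain ⟨k, hk⟩ := hk d hdf
    refine not_subsingleton_iff_nontrivial.2 (nontrivial_H_idealDepth _ N hd.symm)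
      (subsingleton_of_forall_eq 0 fun z => ?_)
    exact (hu.pow k).smul_eq_zero.1 (hk z)
  · have hlt' : P < maximalIdeal A := lt_of_le_of_ne (le_maximalIdeal ‹P.IsPrime›.ne_top) hPm
    obtain ⟨c, hcm, hcP, hkc⟩ : ∃ c ∈ maximalIdeal A, c ∉ P ∧
        ∀ i < f, PowKills c (maximalIdeal A) i N := by
      by_cases hbm : b ∈ maximalIdeal A
      · exact ⟨b, hbm, hb, hk⟩
      · obtain ⟨c, hc, hcP⟩ := SetLike.exists_of_lt hlt'
        refine ⟨c, hc, hcP, fun i hi => ?_⟩
        obtain ⟨k, hk⟩ := hk i hi
        have hu : IsUnit b := by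
          by_contra h
          exact hbm ((mem_maximalIdeal b).2 h)
        exact ⟨0, fun z => by rw [pow_zero, one_smul]; exact (hu.pow k).smul_eq_zero.1 (hk z)⟩
    obtain ⟨Q, hQ, hPQ, hcQ, hcov⟩ := exists_covered_prime_notMem hcP hcm
    let AQ := Localization.AtPrime Q
    let NQ := LocalizedModule Q.primeCompl N
    let PQ := P.map (algebraMap A AQ)
    have hPQp : PQ.IsPrime := IsLocalization.isPrime_of_isPrime_disjoint Q.primeCompl AQ P ‹_›
      (Set.disjoint_left.2 fun x hx hxP => hx (hPQ hxP))
    have hloc : IsLocalization.AtPrime (Localization.AtPrime PQ) P := by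
      exact isLocalization_atPrime_atPrime Q P PQ
        (IsLocalization.under_map_of_isPrime_disjoint Q.primeCompl AQ ‹_›
          (Set.disjoint_left.2 fun x hx hxP => hx (hPQ hxP)))
    let g : N →ₗ[A] LocalizedModule PQ.primeCompl NQ :=
      (LocalizedModule.mkLinearMap PQ.primeCompl NQ).restrictScalars A ∘ₗ
        LocalizedModule.mkLinearMap Q.primeCompl N
    have hdepth : LocCoh.depth (Localization.AtPrime PQ) (LocalizedModule PQ.primeCompl NQ) =
        LocCoh.depth (Localization.AtPrime P) (LocalizedModule P.primeCompl N) :=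
      depth_eq_of_isBaseChange (Localization.AtPrime PQ) P (LocalizedModule PQ.primeCompl NQ) g
        (IsBaseChange.comp (IsLocalizedModule.isBaseChange Q.primeCompl AQ _)
          (IsLocalizedModule.isBaseChange PQ.primeCompl (Localization.AtPrime PQ) _))
    have hQnt : Nontrivial (LocalizedModule PQ.primeCompl NQ) := by
      by_contra hnt
      rw [not_nontrivial_iff_subsingleton] at hnt
      have h0 := hdepth.symm.trans (Groth.Agent.H4Depth.idealDepth_eq_top (Subsingleton.elim _ _))
      rw [h0] at hlt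
      have := Ideal.Quotient.nontrivial_iff.mpr ‹P.IsPrime›.ne_top
      refine not_le.2 hlt ?_
      calc (f : WithBot ℕ∞) ≤ ((⊤ : ℕ∞) : WithBot ℕ∞) + 0 := by
            rw [add_zero]; exact WithBot.coe_le_coe.2 le_top
        _ ≤ _ := by gcongr; exact ringKrullDim_nonneg_of_nontrivial
    have : Nontrivial NQ := by
      by_contra hnt
      rw [not_nontrivial_iff_subsingleton] at hnt
      exact not_subsingleton_iff_nontrivial.2 hQnt (LocalizedModule.subsingleton_iff.2 fun m =>
        ⟨1, PQ.primeCompl.one_mem, Subsingleton.elim _ _⟩)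
    have hB := depth_le_depth_localization_add_dim (M := NQ) PQ hQnt
    rw [hdepth] at hB
    have hdimle := ringKrullDim_localization_quotient_le_height hPQ
    have hQlt : Q < maximalIdeal A :=
      lt_of_le_of_ne (le_maximalIdeal hQ.ne_top) fun h => hcQ (h ▸ hcm)
    have hp1 : (Q.map (Ideal.Quotient.mk P)).IsPrime :=
      Ideal.map_isPrime_of_surjective Ideal.Quotient.mk_surjective (by rw [Ideal.mk_ker]; exact hPQ)
    have hp2 : ((maximalIdeal A).map (Ideal.Quotient.mk P)).IsPrime :=
      Ideal.map_isPrime_of_surjective Ideal.Quotient.mk_surjective (by rw [Ideal.mk_ker]; exact hlt'.le)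
    have hstep : (Q.map (Ideal.Quotient.mk P)).height + 1 ≤
        ((maximalIdeal A).map (Ideal.Quotient.mk P)).height := by
      refine Ideal.height_add_one_le_of_lt_of_isPrime (lt_of_le_of_ne (Ideal.map_mono hQlt.le) fun h => ?_)
      have h' := congrArg (Ideal.comap (Ideal.Quotient.mk P)) h
      rw [Ideal.comap_map_of_surjective _ Ideal.Quotient.mk_surjective,
        Ideal.comap_map_of_surjective _ Ideal.Quotient.mk_surjective, ← RingHom.ker_eq_comap_bot,
        Ideal.mk_ker, sup_eq_left.2 hPQ, sup_eq_left.2 hlt'.le] at h'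
      exact hQlt.ne h'
    obtain ⟨d, hd⟩ := ENat.ne_top_iff_exists.mp (Groth.Agent.H4Depth.idealDepth_ne_top
      (Groth.Agent.H4Depth.maximalIdeal_smul_top_ne_top (R := AQ) (M := NQ)))
    refine lt_depth_of_powKills hcQ hcm hcov d N hd.symm fun i hi => hkc i ?_
    rw [show LocCoh.depth AQ NQ = LocCoh.idealDepth (maximalIdeal AQ) NQ from rfl, ← hd] at hB
    have hm : (((maximalIdeal A).map (Ideal.Quotient.mk P)).height : WithBot ℕ∞) ≤ ringKrullDim (A ⧸ P) :=
      Ideal.height_le_ringKrullDim_of_ne_top hp2.ne_top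
    have key : ((d + 1 : ℕ) : WithBot ℕ∞) < f := by
      refine lt_of_le_of_lt ?_ hlt
      push_cast
      refine (add_le_add_left hB 1).trans ?_
      rw [add_assoc]
      gcongr
      refine le_trans ?_ hm
      refine (add_le_add_left hdimle 1).trans ?_
      exact_mod_cast hstep
    exact lt_of_le_of_lt hi (by exact_mod_cast key)

/-- Half of Faltings' annihilator theorem. -/
theorem finDimRel_le_minAdjDepth {R : Type u} [CommRing R] [IsNoetherianRing R] (a b : Ideal R)
    (M : Type u) [AddCommGroup M] [Module R M] [Module.Finite R M] :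
    LocCoh.finDimRel a b M ≤ LocCoh.minAdjDepth a b M := by
  refine le_iInf₂ fun p hp => ENat.forall_natCast_le_iff_le.1 fun f hf => ?_
  unfold LocCoh.adjDepth
  rw [Ideal.height_eq_inf_minimalPrimes]
  by_cases hne : ((a ⊔ p.asIdeal).map (Ideal.Quotient.mk p.asIdeal)).minimalPrimes = ∅
  · simp [hne]
  obtain ⟨q₀, hq₀, hmin⟩ := (Ideal.finite_minimalPrimes_of_isNoetherianRing (R ⧸ p.asIdeal)
    ((a ⊔ p.asIdeal).map (Ideal.Quotient.mk p.asIdeal))).exists_minimalFor Ideal.height _
    (Set.nonempty_iff_ne_empty.2 hne)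
  have hle : q₀.height ≤
      ⨅ Q ∈ ((a ⊔ p.asIdeal).map (Ideal.Quotient.mk p.asIdeal)).minimalPrimes, Q.height :=
    le_iInf₂ fun (Q : Ideal (R ⧸ p.asIdeal)) hQ =>
      (le_total q₀.height Q.height).elim id fun h => hmin hQ h
  refine le_trans (b := LocCoh.depth (Localization.AtPrime p.asIdeal)
    (LocalizedModule p.asIdeal.primeCompl M) + q₀.height) ?_ (add_le_add le_rfl hle)
  obtain ⟨β, hβ, hβp⟩ := SetLike.not_le_iff_exists.1 hp
  let q := q₀.comap (Ideal.Quotient.mk p.asIdeal)
  have hq₀p := hq₀.1.1
  have hqp : q.IsPrime := hq₀p.comap _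
  have hpq : p.asIdeal ≤ q := fun x hx => by
    rw [Ideal.mem_comap, Ideal.Quotient.eq_zero_iff_mem.2 hx]
    exact q₀.zero_mem
  have haq : a ≤ q := fun x hx => hq₀.1.2 (Ideal.mem_map_of_mem _ (Submodule.mem_sup_left hx))
  let A := Localization.AtPrime q
  let N := LocalizedModule q.primeCompl M
  have hkR : ∀ i < f, PowKills β a i M := by
    intro i hi
    have hb : b ≤ (Module.annihilator R (LocCoh.H a i M)).radical := by
      by_contra hb
      have h1 : LocCoh.finDimRel a b M ≤ i := iInf₂_le i hb
      exact absurd (hf.trans h1) (not_le.2 (by exact_mod_cast hi))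
    obtain ⟨k, hk⟩ := hb hβ
    exact ⟨k, fun z => Module.mem_annihilator.1 hk z⟩
  have hkA : ∀ i < f, PowKills (algebraMap R A β) (maximalIdeal A) i N :=
    powKills_of_le ((Ideal.map_mono haq).trans Localization.AtPrime.map_eq_maximalIdeal.le)
      fun i hi => powKills_localization q.primeCompl (hkR i hi)
  let P := p.asIdeal.map (algebraMap R A)
  have hdisj : Disjoint (q.primeCompl : Set R) p.asIdeal :=
    Set.disjoint_left.2 fun x hx hxP => hx (hpq hxP)
  have hPp : P.IsPrime := IsLocalization.isPrime_of_isPrime_disjoint q.primeCompl A _ p.2 hdisj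
  have hcomap : P.comap (algebraMap R A) = p.asIdeal :=
    IsLocalization.under_map_of_isPrime_disjoint q.primeCompl A p.2 hdisj
  have hβP : algebraMap R A β ∉ P := fun h => hβp (hcomap ▸ Ideal.mem_comap.2 h)
  have h := natCast_le_depth_localization_add_dim N P hβP f hkA
  have hloc : IsLocalization.AtPrime (Localization.AtPrime P) p.asIdeal := by
    exact isLocalization_atPrime_atPrime q p.asIdeal P hcomap
  rw [depth_eq_of_isBaseChange (Localization.AtPrime P) p.asIdeal (LocalizedModule P.primeCompl N)
    ((LocalizedModule.mkLinearMap P.primeCompl N).restrictScalars R ∘ₗ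
      LocalizedModule.mkLinearMap q.primeCompl M)
    (IsBaseChange.comp (IsLocalizedModule.isBaseChange q.primeCompl A _)
      (IsLocalizedModule.isBaseChange P.primeCompl (Localization.AtPrime P) _))] at h
  have hd := ringKrullDim_localization_quotient_le_height hpq
  rw [Ideal.map_comap_of_surjective _ Ideal.Quotient.mk_surjective] at hd
  rw [← WithBot.coe_le_coe, WithBot.coe_add]
  exact le_trans h (add_le_add_right hd _)

end Groth.Agent.H4LC
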