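import Groth.Agent.H4LC.FaltingsImage
import Groth.Agent.H4LC.AnnihilatorBound
import Groth.Agent.H4LC.Artinian
import Groth.Agent.H4LC.CdDim

/-!
# Consequences of the finiteness theorem
-/

set_option autoImplicit false
set_option linter.unusedSectionVars false

universe u

open CategoryTheory IsLocalRing

namespace Groth.Agent.H4LC

theorem height_map_mk_eq_Ici {R : Type u} [CommRing R] {p q : PrimeSpectrum R} (hpq : p ≤ q) :
    (q.asIdeal.map (Ideal.Quotient.mk p.asIdeal)).height = Order.height (⟨q, hpq⟩ : Set.Ici p) := by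
  have hQ : (q.asIdeal.map (Ideal.Quotient.mk p.asIdeal)).IsPrime :=
    Ideal.isPrime_map_quotientMk_of_isPrime hpq
  rw [show (q.asIdeal.map (Ideal.Quotient.mk p.asIdeal)).height = Order.height
    (⟨_, hQ⟩ : PrimeSpectrum (R ⧸ p.asIdeal)) from PrimeSpectrum.height_eq_orderHeight ⟨_, hQ⟩]
  let f : PrimeSpectrum (R ⧸ p.asIdeal) → Set.Ici p := fun x =>
    ⟨PrimeSpectrum.comap (Ideal.Quotient.mk p.asIdeal) x, by
      change p.asIdeal ≤ Ideal.comap _ _
      conv_lhs => rw [← Ideal.mk_ker (I := p.asIdeal)]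
      exact Ideal.comap_mono bot_le⟩
  have hle : ∀ {x y : PrimeSpectrum (R ⧸ p.asIdeal)}, f x ≤ f y ↔ x ≤ y := fun {x y} =>
    Ideal.comap_le_comap_iff_of_surjective _ Ideal.Quotient.mk_surjective _ _
  have hf : Function.Bijective f := by
    refine ⟨fun x y h => le_antisymm (hle.1 h.le) (hle.1 h.ge), fun y => ?_⟩
    refine ⟨⟨_, Ideal.isPrime_map_quotientMk_of_isPrime (show p.asIdeal ≤ y.1.asIdeal from y.2)⟩,
      Subtype.ext (PrimeSpectrum.ext ?_)⟩
    change Ideal.comap _ (Ideal.map _ _) = _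
    rw [Ideal.comap_map_of_surjective' _ Ideal.Quotient.mk_surjective, Ideal.mk_ker,
      sup_eq_left.2 (show p.asIdeal ≤ y.1.asIdeal from y.2)]
  refine ((Order.height_orderIso ({ toEquiv := Equiv.ofBijective f hf, map_rel_iff' := hle } :
    PrimeSpectrum (R ⧸ p.asIdeal) ≃o Set.Ici p) ⟨_, hQ⟩).symm).trans ?_
  congr 1
  refine Subtype.ext (PrimeSpectrum.ext ?_)
  change Ideal.comap _ (Ideal.map _ _) = _
  rw [Ideal.comap_map_of_surjective' _ Ideal.Quotient.mk_surjective, Ideal.mk_ker, sup_eq_left.2 hpq]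

theorem height_sup_map_mk_le_relCodim {R : Type u} [CommRing R] (I : Ideal R) (p : PrimeSpectrum R) :
    ((I ⊔ p.asIdeal).map (Ideal.Quotient.mk p.asIdeal)).height ≤ SGA2.relCodim I p :=
  le_iInf fun q => (height_map_mk_eq_Ici q.2.1) ▸ Ideal.height_mono (Ideal.map_mono (sup_le q.2.2 q.2.1))

theorem exists_relCodim_attained {R : Type u} [CommRing R] {I : Ideal R} {p : PrimeSpectrum R}
    {c : ℕ} (hc : SGA2.relCodim I p = c) :
    ∃ q, ∃ hpq : p ≤ q, I ≤ q.asIdeal ∧ Order.height (⟨q, hpq⟩ : Set.Ici p) = c := by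
  rw [SGA2.relCodim] at hc
  rcases isEmpty_or_nonempty {q : PrimeSpectrum R // p ≤ q ∧ I ≤ q.asIdeal} with he | hne
  · rw [iInf_of_empty] at hc
    exact absurd hc (ENat.top_ne_natCast c)
  obtain ⟨⟨q, hpq, hIq⟩, hq⟩ := csInf_mem (Set.range_nonempty
    fun q : {q : PrimeSpectrum R // p ≤ q ∧ I ≤ q.asIdeal} => Order.height (⟨q.1, q.2.1⟩ : Set.Ici p))
  exact ⟨q, hpq, hIq, hq.trans hc⟩

theorem exists_covBy_of_relCodim_eq_one {R : Type u} [CommRing R] {I : Ideal R}
    {p : PrimeSpectrum R} (hp : ¬ I ≤ p.asIdeal) (hc : SGA2.relCodim I p = 1) :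
    ∃ q, I ≤ q.asIdeal ∧ p ⋖ q := by
  obtain ⟨q, hpq, hIq, hq⟩ := exists_relCodim_attained (c := 1) (by exact_mod_cast hc)
  refine ⟨q, hIq, lt_of_le_of_ne hpq fun h => hp (h ▸ hIq), fun r h1 h2 => ?_⟩
  have e1 : (1 : ℕ∞) ≤ Order.height (⟨r, h1.le⟩ : Set.Ici p) :=
    le_trans (le_add_self) (Order.height_add_one_le
      (show (⟨p, Set.self_mem_Ici⟩ : Set.Ici p) < ⟨r, h1.le⟩ from h1))
  have e2 := Order.height_add_one_le (show (⟨r, h1.le⟩ : Set.Ici p) < ⟨q, hpq⟩ from h2)
  rw [hq] at e2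
  have h3 := (add_le_add_left e1 1).trans e2
  norm_cast at h3

theorem relCodim_maximalIdeal {R : Type u} [CommRing R] [IsLocalRing R] (p : PrimeSpectrum R) :
    ((SGA2.relCodim (maximalIdeal R) p : ℕ∞) : WithBot ℕ∞) = ringKrullDim (R ⧸ p.asIdeal) := by
  have hpm : p ≤ ⟨maximalIdeal R, inferInstance⟩ := le_maximalIdeal p.2.ne_top
  have : IsLocalRing (R ⧸ p.asIdeal) := .of_surjective' _ Ideal.Quotient.mk_surjective
  rw [← maximalIdeal_height_eq_ringKrullDim,
    ← IsLocalRing.map_maximalIdeal_of_surjective _ (Ideal.Quotient.mk_surjective (I := p.asIdeal)),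
    height_map_mk_eq_Ici hpm]
  refine congrArg WithBot.some (le_antisymm
    (iInf_le (fun x : {x : PrimeSpectrum R // p ≤ x ∧ maximalIdeal R ≤ x.asIdeal} =>
      Order.height (⟨x.1, x.2.1⟩ : Set.Ici p)) ⟨⟨maximalIdeal R, inferInstance⟩, hpm, le_refl (maximalIdeal R)⟩)
    (le_iInf ?_))
  rintro ⟨q, hpq, hq⟩
  obtain rfl : q = ⟨maximalIdeal R, inferInstance⟩ :=
    PrimeSpectrum.ext ((maximalIdeal.isMaximal R).eq_of_le q.2.ne_top hq).symm
  exact le_rfl

theorem natCast_le_depth_iff {R : Type u} [CommRing R] [IsNoetherianRing R] (M : Type u)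
    [AddCommGroup M] [Module R M] [Module.Finite R M] (p : PrimeSpectrum R) (n : ℕ) :
    (n : ℕ∞) ≤ LocCoh.depth (Localization.AtPrime p.asIdeal) (LocalizedModule p.asIdeal.primeCompl M) ↔
      ∀ j < n, LocVanish (R := R) M p j :=
  le_idealDepth_iff_H _ _

theorem exists_pow_smul_eq_zero_of_finite {R : Type u} [CommRing R] (I : Ideal R) {H : Type u}
    [AddCommGroup H] [Module R H] [Module.Finite R H] (ht : LocCoh.IsPowerTorsion I H) {y : R}
    (hy : y ∈ I) : ∃ N : ℕ, ∀ z : H, y ^ N • z = 0 := by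
  obtain ⟨n, v, hv⟩ := Module.Finite.exists_fin (R := R) (M := H)
  choose e he using fun i : Fin n => ht (v i)
  refine ⟨∑ i, e i, fun z => ?_⟩
  have hz : z ∈ Submodule.span R (Set.range v) := hv ▸ Submodule.mem_top
  induction hz using Submodule.span_induction with
  | mem w hw =>
    obtain ⟨i, rfl⟩ := hw
    exact he i _ (Ideal.pow_le_pow_right (Finset.single_le_sum (fun _ _ => Nat.zero_le _)
      (Finset.mem_univ i)) (Ideal.pow_mem_pow hy _))
  | zero => exact smul_zero _
  | add a b _ _ ha hb => rw [smul_add, ha, hb, add_zero]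
  | smul t a _ ha => rw [smul_comm, ha, smul_zero]

/-- Finiteness up to degree `n` bounds depths. -/
theorem le_depth_add_height_of_finite {R : Type u} [CommRing R] [IsNoetherianRing R] (I : Ideal R)
    (M : Type u) [AddCommGroup M] [Module R M] [Module.Finite R M] (n : ℕ)
    (h : ∀ i ≤ n, Module.Finite R (LocCoh.H I i M)) (p : PrimeSpectrum R) (hp : ¬ I ≤ p.asIdeal) :
    ((n + 1 : ℕ) : ℕ∞) ≤ LocCoh.adjDepth I M p := by
  refine le_trans ?_ ((finDimRel_le_minAdjDepth I I M).trans
    (iInf₂_le (f := fun p (_ : ¬ I ≤ p.asIdeal) => LocCoh.adjDepth I M p) p hp))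
  refine le_iInf₂ fun i hi => ?_
  by_contra hlt
  rw [not_le, Nat.cast_lt] at hlt
  refine hi fun y hy => ?_
  have := h i (by omega)
  obtain ⟨N, hN⟩ := exists_pow_smul_eq_zero_of_finite I (isPowerTorsion_H I i M) hy
  exact ⟨N, Module.mem_annihilator.2 hN⟩

theorem depth_eq_zero_of_minimal {R : Type u} [CommRing R] [IsNoetherianRing R] (M : Type u)
    [AddCommGroup M] [Module R M] [Module.Finite R M] {p : PrimeSpectrum R}
    (hp : p.asIdeal ∈ (Module.annihilator R M).minimalPrimes) :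
    LocCoh.depth (Localization.AtPrime p.asIdeal) (LocalizedModule p.asIdeal.primeCompl M) = 0 := by
  let A := Localization.AtPrime p.asIdeal
  let N := LocalizedModule p.asIdeal.primeCompl M
  have hne : Nontrivial N := Module.mem_support_iff.1 (by rw [Module.support_eq_zeroLocus]; exact hp.1.2)
  obtain ⟨P, hP⟩ := associatedPrimes.nonempty A N
  have hPm : maximalIdeal A ≤ P := by
    have hPp := hP.isPrime
    have hle : P.comap (algebraMap R A) ≤ p.asIdeal := by
      conv_rhs => rw [← Localization.AtPrime.under_maximalIdeal (I := p.asIdeal)]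
      exact Ideal.comap_mono (le_maximalIdeal hPp.ne_top)
    have hann : Module.annihilator R M ≤ P.comap (algebraMap R A) := by
      intro r hr
      refine (hP.annihilator_le) (Submodule.mem_annihilator.2 fun x _ => ?_)
      induction x using LocalizedModule.induction_on with
      | h m s =>
        rw [algebraMap_smul, LocalizedModule.smul'_mk, Module.mem_annihilator.1 hr,
          LocalizedModule.zero_mk]
    have heq : P.comap (algebraMap R A) = p.asIdeal :=
      le_antisymm hle (hp.2 ⟨hPp.comap _, hann⟩ hle)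
    rw [← Localization.AtPrime.map_eq_maximalIdeal (I := p.asIdeal)]
    exact (Ideal.map_mono heq.ge).trans Ideal.map_comap_le
  exact (H4Depth.idealDepth_eq_zero_iff_exists_associatedPrime
    (H4Depth.maximalIdeal_smul_top_ne_top (R := A) (M := N))).2 ⟨P, hP, hPm⟩

section Regular

variable {S R : Type u} [CommRing S] [CommRing R] [Algebra S R]
  (hπ : Function.Surjective (algebraMap S R)) (M : Type u) [AddCommGroup M] [Module R M]
  [Module S M] [IsScalarTower S R M] [IsNoetherianRing R] [Module.Finite R M]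

include hπ in
/-- The Cohen–Macaulay case: chains above a minimal prime of the support bound depths. -/
theorem natCast_le_depth_of_isCohenMacaulay [IsRegularRing S] {I : Ideal R} {n : ℕ}
    {p q : PrimeSpectrum R} (hp : ¬ I ≤ p.asIdeal) (hq : I ≤ q.asIdeal) (hcov : p ⋖ q)
    (hCM : Subsingleton (LocalizedModule p.asIdeal.primeCompl M) ∨
      LocCoh.IsCohenMacaulayModule (Localization.AtPrime p.asIdeal)
        (LocalizedModule p.asIdeal.primeCompl M))
    (h : ∀ p₀ : PrimeSpectrum R, ¬ I ≤ p₀.asIdeal →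
      p₀.asIdeal ∈ (Module.annihilator R M).minimalPrimes → (n : ℕ∞) < SGA2.relCodim I p₀) :
    (n : ℕ∞) ≤ LocCoh.depth (Localization.AtPrime p.asIdeal)
      (LocalizedModule p.asIdeal.primeCompl M) := by
  rcases hCM with hs | hCM
  · exact (natCast_le_depth_iff M p n).2 fun j _ => subsingleton_H_of_subsingleton _ _ _
  by_cases hne : p ∈ Module.support R M
  swap
  · have := Module.notMem_support_iff.1 hne
    exact (natCast_le_depth_iff M p n).2 fun j _ => subsingleton_H_of_subsingleton _ _ _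
  obtain ⟨P₀, hP₀, hP₀p⟩ := Ideal.exists_minimalPrimes_le (Module.annihilator_le_of_mem_support hne)
  let p₀ : PrimeSpectrum R := ⟨P₀, hP₀.1.1⟩
  have hp₀p : p₀ ≤ p := hP₀p
  have hp₀q : p₀ ≤ q := hp₀p.trans hcov.1.le
  have hlt : (n : ℕ∞) < Order.height (⟨q, hp₀q⟩ : Set.Ici p₀) :=
    (h p₀ (fun hh => hp (hh.trans hP₀p)) hP₀).trans_le
      (iInf_le (fun x : {x : PrimeSpectrum R // p₀ ≤ x ∧ I ≤ x.asIdeal} =>
        Order.height (⟨x.1, x.2.1⟩ : Set.Ici p₀)) ⟨q, hp₀q, hq⟩)
  have hle : (n : ℕ∞) ≤ Order.height (⟨p, hp₀p⟩ : Set.Ici p₀) := by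
    have e1 := height_add_height_Ici (S := S) (p := PrimeSpectrum.comap (algebraMap S R) p₀)
      (q := PrimeSpectrum.comap (algebraMap S R) q) (Ideal.comap_mono hp₀q)
    have e2 := height_add_height_Ici (S := S) (p := PrimeSpectrum.comap (algebraMap S R) p₀)
      (q := PrimeSpectrum.comap (algebraMap S R) p) (Ideal.comap_mono hp₀p)
    rw [← height_Ici_comap hπ hp₀q, height_eq_succ_of_covBy ((covBy_comap_iff hπ).2 hcov), ← e2,
      ← height_Ici_comap hπ hp₀p, add_assoc] at e1
    rw [ENat.add_right_injective_of_ne_top Ideal.height_ne_top_of_isPrime e1] at hlt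
    exact Order.le_of_lt_add_one hlt
  refine hle.trans (WithBot.coe_le_coe.1 (le_of_le_of_eq ?_ hCM))
  rw [Order.height_eq_iSup_last_eq, WithBot.coe_iSup (OrderTop.bddAbove _)]
  refine iSup_le fun s => ?_
  by_cases hs : s.last = ⟨p, hp₀p⟩
  swap
  · rw [iSup_neg hs]
    have := Module.mem_support_iff.1 hne
    exact Order.krullDim_nonneg_iff.2 Module.nonempty_support_of_nontrivial.to_subtype
  rw [iSup_pos hs]
  let e := IsLocalization.AtPrime.primeSpectrumOrderIso (Localization.AtPrime p.asIdeal) p.asIdeal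
  have hmem : ∀ x : Set.Ici p₀, x.1 ≤ p → ∀ hx : x.1 ≤ p, e.symm ⟨x.1, hx⟩ ∈
      Module.support (Localization.AtPrime p.asIdeal) (LocalizedModule p.asIdeal.primeCompl M) := by
    intro x _ hx
    rw [H4Depth.mem_support_localizedModule_iff p.asIdeal.primeCompl _
      (LocalizedModule.mkLinearMap p.asIdeal.primeCompl M)]
    have : (e (e.symm ⟨x.1, hx⟩)).1 = x.1 := congrArg Subtype.val (e.apply_symm_apply _)
    rw [show PrimeSpectrum.comap (algebraMap R (Localization.AtPrime p.asIdeal)) (e.symm ⟨x.1, hx⟩) =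
      x.1 from this]
    refine Module.mem_support_mono (show p₀ ≤ x.1 from x.2) ?_
    rw [Module.support_eq_zeroLocus]
    exact hP₀.1.2
  have hbd : ∀ k, (s k).1 ≤ p := fun k => by
    have hk : s k ≤ s.last := s.monotone (Fin.le_last k)
    rw [hs] at hk
    exact hk
  let s' : LTSeries (Module.support (Localization.AtPrime p.asIdeal)
      (LocalizedModule p.asIdeal.primeCompl M)) :=
    LTSeries.mk s.length (fun k => ⟨e.symm ⟨(s k).1, hbd k⟩, hmem _ (hbd k) (hbd k)⟩) fun a b hab =>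
      e.symm.strictMono (show (⟨(s a).1, hbd a⟩ : Set.Iic p) < ⟨(s b).1, hbd b⟩ from s.strictMono hab)
  exact Order.LTSeries.length_le_krullDim s'

include hπ in
/-- Finite length forces vanishing below. -/
theorem locVanish_of_finite_H [IsRegularLocalRing S] [IsLocalRing R] (i : ℕ)
    (hfin : Module.Finite R (LocCoh.H (maximalIdeal R) i M)) {p : PrimeSpectrum R}
    (hp : p.asIdeal ≠ maximalIdeal R) {e j : ℕ} (he : ringKrullDim (R ⧸ p.asIdeal) = e)
    (hij : j + e = i) : LocVanish (R := R) M p j := by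
  have := H05EGA4.isRegularRing_of_isRegularLocalRing S
  have := finite_scalar hπ M
  have hG := H4Goren.isGorensteinLocalRing_of_isRegularLocalRing S
  have := H4Goren.isCohenMacaulayLocalRing S
  rw [← locVanish_comap_iff hπ M p j]
  let P := PrimeSpectrum.comap (algebraMap S R) p
  obtain ⟨d, hd⟩ := H4Depth.exists_nat_ringKrullDim_eq (R := S)
  obtain ⟨h₀, hh₀⟩ := H05EGA4.exists_nat_height_eq P.asIdeal
  have hsum : h₀ + e = d := by
    have hf := H05EGA4.height_add_dim_eq_of_isCohenMacaulay S P.asIdeal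
    have hq : ringKrullDim (S ⧸ P.asIdeal) = (e : ℕ) := by
      rw [← he]
      let g : S →+* R ⧸ p.asIdeal := (Ideal.Quotient.mk p.asIdeal).comp (algebraMap S R)
      have hg : Function.Surjective g := Ideal.Quotient.mk_surjective.comp hπ
      have hker : RingHom.ker g = P.asIdeal := by
        rw [← RingHom.comap_ker, Ideal.mk_ker]
        rfl
      exact ringKrullDim_eq_of_ringEquiv
        ((Ideal.quotEquivOfEq hker.symm).trans (RingHom.quotientKerEquivOfSurjective hg))
    rw [hh₀, hq, hd] at hf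
    exact_mod_cast hf
  by_cases hjh : j ≤ h₀
  swap
  · refine subsingleton_H_of_supportDim_lt _ j _ ((Module.supportDim_le_ringKrullDim _ _).trans_lt ?_)
    rw [IsLocalization.AtPrime.ringKrullDim_eq_height P.asIdeal (Localization.AtPrime P.asIdeal), hh₀]
    exact_mod_cast not_le.1 hjh
  obtain ⟨cc, hcc⟩ := Nat.exists_eq_add_of_le hjh
  obtain ⟨D, _⟩ := nonempty_dualRes (S := S) M
  refine (notMem_support_E_iff_H D cc P).1 ?_ j (by rw [hh₀, hcc])
  rw [D.notMem_support_E_iff]
  obtain ⟨y, hym, hyp⟩ := SetLike.not_le_iff_exists.1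
    (fun hh => hp ((maximalIdeal.isMaximal R).eq_of_le p.2.ne_top hh).symm)
  obtain ⟨y', rfl⟩ := hπ y
  obtain ⟨N, hN⟩ := exists_pow_smul_eq_zero_of_finite (maximalIdeal R)
    (isPowerTorsion_H (maximalIdeal R) i M) hym
  have hkey := exists_H_map_equiv R (maximalIdeal S) M i
  rw [IsLocalRing.map_maximalIdeal_of_surjective (algebraMap S R) hπ] at hkey
  obtain ⟨φ, hφ⟩ := hkey
  intro z hz
  refine ⟨y' ^ N, fun hh => hyp (Ideal.mem_comap.1 (P.2.mem_of_pow_mem N hh)),
    D.smul_mem_Bd_of_smul_H hd cc (y' ^ N) i (by omega) (fun w => ?_) z hz⟩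
  obtain ⟨w, rfl⟩ := φ.surjective w
  rw [← hφ, map_pow, hN, map_zero]

end Regular

end Groth.Agent.H4LC
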