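import Groth.Agent.H4LC.Basic
import Mathlib.Algebra.Homology.DerivedCategory.Ext.ExactSequences
import Mathlib.Algebra.Homology.DerivedCategory.Ext.EnoughInjectives

/-!
# Long exact sequences for colimits of `Ext`
-/

set_option autoImplicit false

universe u

open CategoryTheory CategoryTheory.Limits Opposite CategoryTheory.Abelian

namespace Groth.Agent.H4LC

variable {R : Type u} [CommRing R] (G : ℕᵒᵖ ⥤ ModuleCat.{u} R)

/-- Postcomposition with a class, at a finite stage. -/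
noncomputable def postcompAux {M N : ModuleCat.{u} R} {a : ℕ} (e : Abelian.Ext M N a) {i j : ℕ}
    (h : i + a = j) (n : ℕ) : Abelian.Ext (G.obj (op n)) M i →ₗ[R] (extColim G j).obj N where
  toFun x := ι G j N n (x.comp e h)
  map_add' x y := by rw [Abelian.Ext.add_comp, map_add]
  map_smul' r x := by rw [Abelian.Ext.smul_comp, map_smul, RingHom.id_apply]

theorem postcompAux_tr {M N : ModuleCat.{u} R} {a : ℕ} (e : Abelian.Ext M N a) {i j : ℕ}
    (h : i + a = j) {n m : ℕ} (hnm : n ≤ m) (x : Abelian.Ext (G.obj (op n)) M i) :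
    postcompAux G e h m ((Abelian.Ext.mk₀ (tr G hnm)).comp x (zero_add i)) =
      postcompAux G e h n x :=
  (congrArg (ι G j N m) (Abelian.Ext.comp_assoc _ x e (zero_add i) h (by lia))).trans
    (ι_tr G j N hnm (x.comp e h))

/-- Postcomposition with a class `e ∈ Ext^a(M, N)` on the colimit. -/
noncomputable def postcomp {M N : ModuleCat.{u} R} {a : ℕ} (e : Abelian.Ext M N a) {i j : ℕ}
    (h : i + a = j) : (extColim G i).obj M →ₗ[R] (extColim G j).obj N :=
  lift G i M (postcompAux G e h) (postcompAux_tr G e h)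

theorem postcomp_ι {M N : ModuleCat.{u} R} {a : ℕ} (e : Abelian.Ext M N a) {i j : ℕ}
    (h : i + a = j) (n : ℕ) (x : Abelian.Ext (G.obj (op n)) M i) :
    postcomp G e h (ι G i M n x) = ι G j N n (x.comp e h) :=
  lift_ι G i M (postcompAux G e h) (postcompAux_tr G e h) n x

theorem map_eq_postcomp {M N : ModuleCat.{u} R} (f : M ⟶ N) (i : ℕ) :
    ((extColim G i).map f).hom = postcomp G (Abelian.Ext.mk₀ f) (add_zero i) :=
  hom_ext G i M fun n x => (map_ι G i f n x).trans (postcomp_ι G _ _ n x).symm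

variable {S : ShortComplex (ModuleCat.{u} R)} (hS : S.ShortExact)

/-- The connecting map. -/
noncomputable def δ (i j : ℕ) (h : i + 1 = j) :
    (extColim G i).obj S.X₃ →ₗ[R] (extColim G j).obj S.X₁ :=
  postcomp G hS.extClass h

theorem δ_ι (i j : ℕ) (h : i + 1 = j) (n : ℕ) (x : Abelian.Ext (G.obj (op n)) S.X₃ i) :
    δ G hS i j h (ι G i S.X₃ n x) = ι G j S.X₁ n (x.comp hS.extClass h) :=
  postcomp_ι G _ _ n x

include hS in
theorem exact₂ (i : ℕ) :
    Function.Exact ((extColim G i).map S.f).hom ((extColim G i).map S.g).hom := by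
  intro z
  constructor
  · intro hz
    obtain ⟨n, x, rfl⟩ := exists_rep G i S.X₂ z
    rw [map_ι, ι_eq_zero_iff] at hz
    obtain ⟨m, hnm, hz⟩ := hz
    rw [← Abelian.Ext.comp_assoc_of_third_deg_zero] at hz
    obtain ⟨x₁, hx₁⟩ := Abelian.Ext.covariant_sequence_exact₂ _ hS _ hz
    exact ⟨ι G i S.X₁ m x₁, by rw [map_ι, hx₁, ι_tr]⟩
  · rintro ⟨w, rfl⟩
    obtain ⟨n, x, rfl⟩ := exists_rep G i S.X₁ w
    rw [map_ι, map_ι, Abelian.Ext.comp_assoc_of_second_deg_zero, Abelian.Ext.mk₀_comp_mk₀,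
      S.zero, Abelian.Ext.mk₀_zero, Abelian.Ext.comp_zero, map_zero]

theorem exact₃ (i j : ℕ) (h : i + 1 = j) :
    Function.Exact ((extColim G i).map S.g).hom (δ G hS i j h) := by
  intro z
  constructor
  · intro hz
    obtain ⟨n, x, rfl⟩ := exists_rep G i S.X₃ z
    rw [δ_ι, ι_eq_zero_iff] at hz
    obtain ⟨m, hnm, hz⟩ := hz
    rw [← Abelian.Ext.comp_assoc _ _ _ (zero_add i) h (by lia)] at hz
    obtain ⟨x₂, hx₂⟩ := Abelian.Ext.covariant_sequence_exact₃ _ hS _ h hz
    exact ⟨ι G i S.X₂ m x₂, by rw [map_ι, hx₂, ι_tr]⟩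
  · rintro ⟨w, rfl⟩
    obtain ⟨n, x, rfl⟩ := exists_rep G i S.X₂ w
    rw [map_ι, δ_ι, Abelian.Ext.comp_assoc _ _ _ (add_zero i) (zero_add 1) (by lia),
      hS.comp_extClass, Abelian.Ext.comp_zero, map_zero]

theorem exact₁ (i j : ℕ) (h : i + 1 = j) :
    Function.Exact (δ G hS i j h) ((extColim G j).map S.f).hom := by
  intro z
  constructor
  · intro hz
    obtain ⟨n, x, rfl⟩ := exists_rep G j S.X₁ z
    rw [map_ι, ι_eq_zero_iff] at hz
    obtain ⟨m, hnm, hz⟩ := hz
    rw [← Abelian.Ext.comp_assoc_of_third_deg_zero] at hz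
    obtain ⟨x₃, hx₃⟩ := Abelian.Ext.covariant_sequence_exact₁ _ hS _ hz h
    exact ⟨ι G i S.X₃ m x₃, by rw [δ_ι, hx₃, ι_tr]⟩
  · rintro ⟨w, rfl⟩
    obtain ⟨n, x, rfl⟩ := exists_rep G i S.X₃ w
    rw [δ_ι, map_ι, Abelian.Ext.comp_assoc_of_third_deg_zero, hS.extClass_comp,
      Abelian.Ext.comp_zero, map_zero]

include hS in
theorem map_f_zero_injective : Function.Injective ((extColim G 0).map S.f).hom := by
  rw [injective_iff_map_eq_zero]
  intro z hz
  obtain ⟨n, x, rfl⟩ := exists_rep G 0 S.X₁ z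
  rw [map_ι, ι_eq_zero_iff] at hz
  obtain ⟨m, hnm, hz⟩ := hz
  rw [← Abelian.Ext.comp_assoc_of_third_deg_zero] at hz
  rw [ι_eq_zero_iff]
  refine ⟨m, hnm, ?_⟩
  have := hS.mono_f
  generalize (Abelian.Ext.mk₀ (tr G hnm)).comp x (zero_add 0) = y at hz ⊢
  obtain ⟨f, rfl⟩ := (Abelian.Ext.mk₀_bijective _ _).2 y
  rw [Abelian.Ext.mk₀_comp_mk₀, ← Abelian.Ext.mk₀_zero] at hz
  have hf := (Abelian.Ext.mk₀_bijective _ _).1 hz
  rw [show f = 0 from (cancel_mono S.f).1 (hf.trans zero_comp.symm), Abelian.Ext.mk₀_zero]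

theorem subsingleton_of_injective (I : ModuleCat.{u} R) [Injective I] {i : ℕ} (hi : 0 < i) :
    Subsingleton ((extColim G i).obj I) := by
  obtain ⟨k, rfl⟩ := Nat.exists_eq_add_one_of_ne_zero hi.ne'
  exact subsingleton_extColim G _ I fun n₀ =>
    ⟨n₀, le_rfl, subsingleton_of_forall_eq 0 fun x => x.eq_zero_of_injective⟩

include hS in
theorem subsingleton_mid (i : ℕ) (h1 : Subsingleton ((extColim G i).obj S.X₁))
    (h3 : Subsingleton ((extColim G i).obj S.X₃)) : Subsingleton ((extColim G i).obj S.X₂) := by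
  refine subsingleton_of_forall_eq 0 fun z => ?_
  obtain ⟨w, rfl⟩ := (exact₂ G hS i z).1 (Subsingleton.elim _ _)
  rw [Subsingleton.elim w 0, map_zero]

include hS in
theorem subsingleton_left (i j : ℕ) (h : i + 1 = j) (h3 : Subsingleton ((extColim G i).obj S.X₃))
    (h2 : Subsingleton ((extColim G j).obj S.X₂)) : Subsingleton ((extColim G j).obj S.X₁) := by
  refine subsingleton_of_forall_eq 0 fun z => ?_
  obtain ⟨w, rfl⟩ := (exact₁ G hS i j h z).1 (Subsingleton.elim _ _)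
  rw [Subsingleton.elim w 0, map_zero]

include hS in
theorem subsingleton_right (i j : ℕ) (h : i + 1 = j) (h2 : Subsingleton ((extColim G i).obj S.X₂))
    (h1 : Subsingleton ((extColim G j).obj S.X₁)) : Subsingleton ((extColim G i).obj S.X₃) := by
  refine subsingleton_of_forall_eq 0 fun z => ?_
  obtain ⟨w, rfl⟩ := (exact₃ G hS i j h z).1 (Subsingleton.elim _ _)
  rw [Subsingleton.elim w 0, map_zero]

end Groth.Agent.H4LC
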