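import Groth.Prelude.Def_Wider
import Groth.Prelude.Def_DRing3
import Groth.Agent.H4LC.LES
import Groth.Agent.H4Depth.ExtBasic

/-!
# Local cohomology: element-wise interface, degree zero, long exact sequence
-/

set_option autoImplicit false

universe u

open CategoryTheory CategoryTheory.Limits Opposite CategoryTheory.Abelian

namespace Groth.Agent.H4LC

variable {R : Type u} [CommRing R] (I : Ideal R) (i : ℕ)

/-- The system `n ↦ R ⧸ I ^ n`. -/
noncomputable abbrev quotSys : ℕᵒᵖ ⥤ ModuleCat.{u} R :=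
  localCohomology.ringModIdeals (localCohomology.idealPowersDiagram I)

theorem localCohomology_eq_extColim : localCohomology I i = extColim (quotSys I) i := rfl

/-- The class of `1` in `R ⧸ I ^ n`. -/
noncomputable def oneCls (n : ℕ) : (quotSys I).obj (op n) :=
  (Submodule.Quotient.mk 1 : R ⧸ I ^ n)

theorem exists_eq_smul_oneCls {n : ℕ} (x : (quotSys I).obj (op n)) :
    ∃ r : R, x = r • oneCls I n := by
  obtain ⟨r, rfl⟩ := Submodule.Quotient.mk_surjective (I ^ n) x
  refine ⟨r, ?_⟩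
  change Submodule.Quotient.mk r = r • (Submodule.Quotient.mk 1 : R ⧸ I ^ n)
  rw [← Submodule.Quotient.mk_smul, smul_eq_mul, mul_one]

/-- The morphism `R ⧸ I ^ n ⟶ M` given by an element killed by `I ^ n`. -/
noncomputable def quotHom {n : ℕ} {M : ModuleCat.{u} R} (m : M) (hm : ∀ a ∈ I ^ n, a • m = 0) :
    (quotSys I).obj (op n) ⟶ M :=
  ModuleCat.ofHom (Submodule.liftQ (I ^ n) (LinearMap.toSpanSingleton R M m)
    (fun a ha => by simpa using hm a ha))

theorem quotHom_one {n : ℕ} {M : ModuleCat.{u} R} (m : M) (hm : ∀ a ∈ I ^ n, a • m = 0) :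
    (quotHom I m hm).hom (oneCls I _) = m :=
  one_smul R m

theorem quot_hom_ext {n : ℕ} {M : ModuleCat.{u} R} {f g : (quotSys I).obj (op n) ⟶ M}
    (h : f.hom (oneCls I _) = g.hom (oneCls I _)) : f = g := by
  apply ModuleCat.hom_ext
  refine LinearMap.ext fun x => ?_
  obtain ⟨r, rfl⟩ := exists_eq_smul_oneCls I x
  rw [map_smul, map_smul, h]

theorem apply_one_killed {n : ℕ} {M : ModuleCat.{u} R} (f : (quotSys I).obj (op n) ⟶ M) :
    ∀ a ∈ I ^ n, a • f.hom (oneCls I _) = 0 := by
  intro a ha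
  have h : a • oneCls I n = 0 := by
    change a • (Submodule.Quotient.mk 1 : R ⧸ I ^ n) = 0
    rw [← Submodule.Quotient.mk_smul, Submodule.Quotient.mk_eq_zero, smul_eq_mul, mul_one]
    exact ha
  rw [← map_smul, h, map_zero]

theorem tr_one {n m : ℕ} (h : n ≤ m) :
    (tr (quotSys I) h).hom (oneCls I m) = oneCls I n := rfl

/-- `I ^ n` kills `R ⧸ I ^ n`. -/
theorem mem_annihilator_quotSys {n : ℕ} {a : R} (ha : a ∈ I ^ n) :
    a ∈ Module.annihilator R ((quotSys I).obj (op n)) := by
  rw [Module.mem_annihilator]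
  intro x
  induction x using Submodule.Quotient.induction_on with
  | _ r =>
    change Submodule.Quotient.mk (a * r) = (0 : R ⧸ I ^ n)
    rw [Submodule.Quotient.mk_eq_zero]
    exact Ideal.mul_mem_right _ _ ha

theorem isPowerTorsion_H (M : Type u) [AddCommGroup M] [Module R M] :
    LocCoh.IsPowerTorsion I (LocCoh.H I i M) := by
  intro z
  obtain ⟨n, x, rfl⟩ := exists_rep (quotSys I) i (ModuleCat.of R M) z
  refine ⟨n, fun a ha => ?_⟩
  exact (map_smul _ a x).symm.trans ((congrArg _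
    (Groth.Agent.H4Depth.ext_smul_eq_zero_of_mem_annihilator_left
      (mem_annihilator_quotSys I ha) x)).trans (map_zero _))

section DegreeZero

variable (M : ModuleCat.{u} R)

/-- Evaluation at `1`. -/
noncomputable def evalOne (n : ℕ) :
    Abelian.Ext ((quotSys I).obj (op n)) M 0 →ₗ[R] DRing.torsionSub I M where
  toFun x := ⟨(Abelian.Ext.addEquiv₀ x).hom (oneCls I _), n, apply_one_killed I _⟩
  map_add' x y := by
    apply Subtype.ext
    change (Abelian.Ext.addEquiv₀ (x + y)).hom _ = _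
    rw [map_add]
    rfl
  map_smul' r x := by
    obtain ⟨f, rfl⟩ := (Abelian.Ext.mk₀_bijective _ _).2 x
    apply Subtype.ext
    change (Abelian.Ext.addEquiv₀ (r • Abelian.Ext.mk₀ f)).hom _ =
      r • (Abelian.Ext.addEquiv₀ (Abelian.Ext.mk₀ f)).hom _
    rw [← Abelian.Ext.mk₀_smul, show ∀ g : (quotSys I).obj (op n) ⟶ M,
      Abelian.Ext.addEquiv₀ (Abelian.Ext.mk₀ g) = g from
        fun g => Abelian.Ext.addEquiv₀.apply_symm_apply g,
      show ∀ g : (quotSys I).obj (op n) ⟶ M,
      Abelian.Ext.addEquiv₀ (Abelian.Ext.mk₀ g) = g from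
        fun g => Abelian.Ext.addEquiv₀.apply_symm_apply g]
    rfl

theorem evalOne_mk₀ {n : ℕ} (f : (quotSys I).obj (op n) ⟶ M) :
    (evalOne I M n (Abelian.Ext.mk₀ f) : M) = f.hom (oneCls I n) :=
  congrArg (fun g : (quotSys I).obj (op n) ⟶ M => g.hom (oneCls I n))
    (Abelian.Ext.addEquiv₀.apply_symm_apply f)

theorem evalOne_tr {n m : ℕ} (h : n ≤ m) (x : Abelian.Ext ((quotSys I).obj (op n)) M 0) :
    evalOne I M m ((Abelian.Ext.mk₀ (tr (quotSys I) h)).comp x (zero_add 0)) = evalOne I M n x := by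
  obtain ⟨f, rfl⟩ := (Abelian.Ext.mk₀_bijective _ _).2 x
  apply Subtype.ext
  rw [Abelian.Ext.mk₀_comp_mk₀, evalOne_mk₀, evalOne_mk₀, ModuleCat.comp_apply]
  rfl

/-- `H⁰_I(M) → Γ_I(M)`. -/
noncomputable def toTorsion : (extColim (quotSys I) 0).obj M →ₗ[R] DRing.torsionSub I M :=
  lift (quotSys I) 0 M (evalOne I M) (evalOne_tr I M)

theorem toTorsion_ι (n : ℕ) (x : Abelian.Ext ((quotSys I).obj (op n)) M 0) :
    toTorsion I M (ι (quotSys I) 0 M n x) = evalOne I M n x :=
  lift_ι (quotSys I) 0 M (evalOne I M) (evalOne_tr I M) n x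

theorem toTorsion_bijective : Function.Bijective (toTorsion I M) := by
  constructor
  · rw [injective_iff_map_eq_zero]
    intro z hz
    obtain ⟨n, x, rfl⟩ := exists_rep (quotSys I) 0 M z
    rw [toTorsion_ι] at hz
    obtain ⟨f, rfl⟩ := (Abelian.Ext.mk₀_bijective _ _).2 x
    have h0 := congrArg Subtype.val hz
    rw [evalOne_mk₀] at h0
    rw [quot_hom_ext I (g := 0) (h0.trans (by simp)), Abelian.Ext.mk₀_zero, map_zero]
  · rintro ⟨m, n, hm⟩
    refine ⟨ι (quotSys I) 0 M n (Abelian.Ext.mk₀ (quotHom I m hm)), Subtype.ext ?_⟩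
    rw [toTorsion_ι, evalOne_mk₀]
    exact quotHom_one I m hm

theorem toTorsion_naturality {N : ModuleCat.{u} R} (f : M ⟶ N)
    (z : (extColim (quotSys I) 0).obj M) :
    (toTorsion I N (((extColim (quotSys I) 0).map f).hom z) : N) = f.hom (toTorsion I M z) := by
  obtain ⟨n, x, rfl⟩ := exists_rep (quotSys I) 0 M z
  rw [map_ι, toTorsion_ι, toTorsion_ι]
  obtain ⟨g, rfl⟩ := (Abelian.Ext.mk₀_bijective _ _).2 x
  rw [Abelian.Ext.mk₀_comp_mk₀, evalOne_mk₀, evalOne_mk₀, ModuleCat.comp_apply]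

end DegreeZero

/-- `H⁰_I(M) ≅ Γ_I(M)`. -/
noncomputable def zeroEquiv (M : Type u) [AddCommGroup M] [Module R M] :
    LocCoh.H I 0 M ≃ₗ[R] DRing.torsionSub I M :=
  LinearEquiv.ofBijective (toTorsion I (ModuleCat.of R M)) (toTorsion_bijective I _)

theorem subsingleton_H_of_injective (E : Type u) [AddCommGroup E] [Module R E]
    [Module.Injective R E] {i : ℕ} (hi : 0 < i) : Subsingleton (LocCoh.H I i E) := by
  have := Module.injective_object_of_injective_module R E
  exact subsingleton_of_injective (quotSys I) (ModuleCat.of R E) hi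

section Unbundled

variable {L M N : Type u} [AddCommGroup L] [Module R L] [AddCommGroup M] [Module R M]
  [AddCommGroup N] [Module R N]

/-- The map on local cohomology induced by a linear map. -/
noncomputable abbrev Hmap (f : M →ₗ[R] N) (i : ℕ) : LocCoh.H I i M →ₗ[R] LocCoh.H I i N :=
  ((localCohomology I i).map (ModuleCat.ofHom f)).hom

theorem Hmap_comp (f : L →ₗ[R] M) (g : M →ₗ[R] N) (i : ℕ) :
    Hmap I (g ∘ₗ f) i = Hmap I g i ∘ₗ Hmap I f i :=
  (congrArg ModuleCat.Hom.hom ((localCohomology I i).map_comp (ModuleCat.ofHom f)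
    (ModuleCat.ofHom g))).trans rfl

theorem Hmap_id (i : ℕ) : Hmap I (LinearMap.id : M →ₗ[R] M) i = LinearMap.id :=
  congrArg ModuleCat.Hom.hom ((localCohomology I i).map_id (ModuleCat.of R M))

variable {f : L →ₗ[R] M} {g : M →ₗ[R] N} (hf : Function.Injective f) (hg : Function.Surjective g)
  (hfg : Function.Exact f g)

/-- The connecting map on local cohomology. -/
noncomputable def δH (i : ℕ) : LocCoh.H I i N →ₗ[R] LocCoh.H I (i + 1) L :=
  δ (quotSys I) (Groth.Agent.H4Depth.shortComplexOf_shortExact f g hf hg hfg) i (i + 1) rfl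

include hf hg hfg in
theorem exactH₂ (i : ℕ) : Function.Exact (Hmap I f i) (Hmap I g i) :=
  exact₂ (quotSys I) (Groth.Agent.H4Depth.shortComplexOf_shortExact f g hf hg hfg) i

theorem exactH₃ (i : ℕ) : Function.Exact (Hmap I g i) (δH I hf hg hfg i) :=
  exact₃ (quotSys I) (Groth.Agent.H4Depth.shortComplexOf_shortExact f g hf hg hfg) i (i + 1) rfl

theorem exactH₁ (i : ℕ) : Function.Exact (δH I hf hg hfg i) (Hmap I f (i + 1)) :=
  exact₁ (quotSys I) (Groth.Agent.H4Depth.shortComplexOf_shortExact f g hf hg hfg) i (i + 1) rfl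

include hf hg hfg in
theorem Hmap_zero_injective : Function.Injective (Hmap I f 0) :=
  map_f_zero_injective (quotSys I) (Groth.Agent.H4Depth.shortComplexOf_shortExact f g hf hg hfg)

include hf hg hfg in
theorem subsingleton_H_mid (i : ℕ) (h1 : Subsingleton (LocCoh.H I i L))
    (h3 : Subsingleton (LocCoh.H I i N)) : Subsingleton (LocCoh.H I i M) :=
  subsingleton_mid (quotSys I) (Groth.Agent.H4Depth.shortComplexOf_shortExact f g hf hg hfg) i h1 h3

include hf hg hfg in
theorem subsingleton_H_left (i : ℕ) (h3 : Subsingleton (LocCoh.H I i N))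
    (h2 : Subsingleton (LocCoh.H I (i + 1) M)) : Subsingleton (LocCoh.H I (i + 1) L) :=
  subsingleton_left (quotSys I) (Groth.Agent.H4Depth.shortComplexOf_shortExact f g hf hg hfg)
    i (i + 1) rfl h3 h2

include hf hg hfg in
theorem subsingleton_H_right (i : ℕ) (h2 : Subsingleton (LocCoh.H I i M))
    (h1 : Subsingleton (LocCoh.H I (i + 1) L)) : Subsingleton (LocCoh.H I i N) :=
  subsingleton_right (quotSys I) (Groth.Agent.H4Depth.shortComplexOf_shortExact f g hf hg hfg)
    i (i + 1) rfl h2 h1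

theorem δH_surjective (i : ℕ) (h : Subsingleton (LocCoh.H I (i + 1) M)) :
    Function.Surjective (δH I hf hg hfg i) := fun z =>
  (exactH₁ I hf hg hfg i z).1 (Subsingleton.elim _ _)

theorem δH_injective (i : ℕ) (h : Subsingleton (LocCoh.H I i M)) :
    Function.Injective (δH I hf hg hfg i) := by
  rw [injective_iff_map_eq_zero]
  intro z hz
  obtain ⟨w, rfl⟩ := (exactH₃ I hf hg hfg i z).1 hz
  rw [Subsingleton.elim w 0, map_zero]

theorem zeroEquiv_naturality (f : M →ₗ[R] N) (x : LocCoh.H I 0 M) :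
    (zeroEquiv I N (Hmap I f 0 x) : N) = f (zeroEquiv I M x) :=
  toTorsion_naturality I (ModuleCat.of R M) (ModuleCat.ofHom f) x

end Unbundled

theorem subsingleton_H_of_ext (M : Type u) [AddCommGroup M] [Module R M]
    (h : ∀ n₀, ∃ n, n₀ ≤ n ∧
      Subsingleton (Abelian.Ext (ModuleCat.of R (R ⧸ I ^ n)) (ModuleCat.of R M) i)) :
    Subsingleton (LocCoh.H I i M) :=
  subsingleton_extColim (quotSys I) i (ModuleCat.of R M) h

end Groth.Agent.H4LC
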