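import Groth.Agent.H4LC.FlatBaseChange
import Groth.Agent.H4LC.LC
import Groth.Agent.H4Inj.Essential
import Groth.Agent.H4Matlis.Hull
import Groth.Agent.H02CA.AdicSmooth
import Mathlib.RingTheory.AdicCompletion.LocalRing
import Mathlib.RingTheory.AdicCompletion.AsTensorProduct
import Mathlib.RingTheory.AdicCompletion.Noetherian
import Mathlib.RingTheory.Flat.FaithfullyFlat.Algebra

/-!
# Transfer to the completion: torsion modules, injective hulls, Matlis duals

`S` is a flat local `A`-algebra with `m_A S = m_S` and dense image, e.g. the completion of `A`.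
-/

set_option autoImplicit false
set_option linter.unusedSectionVars false

universe u

open IsLocalRing TensorProduct InjHull

namespace Groth.Agent.H4LC

/-- `S` behaves like the completion of `A`. -/
structure IsComplLike (A S : Type u) [CommRing A] [IsLocalRing A] [CommRing S] [IsLocalRing S]
    [Algebra A S] : Prop where
  flat : Module.Flat A S
  map_max : (maximalIdeal A).map (algebraMap A S) = maximalIdeal S
  dense : ∀ (n : ℕ) (s : S), ∃ a : A, s - algebraMap A S a ∈ maximalIdeal S ^ n

variable {A S : Type u} [CommRing A] [IsLocalRing A] [CommRing S] [IsLocalRing S] [Algebra A S]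

theorem isComplLike_adicCompletion [IsNoetherianRing A] :
    IsComplLike A (AdicCompletion (maximalIdeal A) A) := by
  have h1 := (AdicCompletion.maximalIdeal_eq_map (R := A)).symm
  refine ⟨AdicCompletion.flat_of_isNoetherian _, h1, fun n s => ?_⟩
  obtain ⟨a, ha⟩ := H02CA.AdicSmooth.exists_sub_algebraMap_mem (maximalIdeal A)
    (maximalIdeal A).fg_of_isNoetherianRing n s
  refine ⟨a, ?_⟩
  rwa [Ideal.map_pow, h1] at ha

theorem nonempty_baseChange_H_of_eq [IsNoetherianRing A] [IsNoetherianRing S] [Module.Flat A S]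
    (I : Ideal A) (J : Ideal S) (hJ : I.map (algebraMap A S) = J) (M : Type u) [AddCommGroup M]
    [Module A M] (i : ℕ) :
    Nonempty (S ⊗[A] LocCoh.H I i M ≃ₗ[S] LocCoh.H J i (S ⊗[A] M)) := by
  subst hJ
  exact nonempty_baseChange_H S I M i

namespace IsComplLike

variable (h : IsComplLike A S)

include h in
theorem algebraMap_mem {a : A} (ha : a ∈ maximalIdeal A) : algebraMap A S a ∈ maximalIdeal S :=
  h.map_max ▸ Ideal.mem_map_of_mem _ ha

include h in
theorem isLocalHom : IsLocalHom (algebraMap A S) := by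
  refine ⟨fun a ha => ?_⟩
  by_contra hna
  exact (h.algebraMap_mem ((mem_maximalIdeal a).2 hna)) ha

include h in
theorem residue_surjective (y : ResidueField S) : ∃ a : A, residue S (algebraMap A S a) = y := by
  obtain ⟨s, rfl⟩ := IsLocalRing.residue_surjective (R := S) y
  obtain ⟨a, ha⟩ := h.dense 1 s
  rw [pow_one] at ha
  exact ⟨a, (Ideal.Quotient.eq.2 ha).symm⟩

section Torsion

variable {X : Type u} [AddCommGroup X] [Module A X]

include h in
theorem tmul_killed {n : ℕ} {x : X} (hx : ∀ a ∈ maximalIdeal A ^ n, a • x = 0) {s : S}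
    (hs : s ∈ maximalIdeal S ^ n) : s ⊗ₜ[A] x = 0 := by
  rw [← h.map_max, ← Ideal.map_pow] at hs
  induction hs using Submodule.span_induction with
  | mem y hy =>
    obtain ⟨a, ha, rfl⟩ := hy
    rw [Algebra.algebraMap_eq_smul_one, TensorProduct.smul_tmul, hx a ha, tmul_zero]
  | zero => rw [zero_tmul]
  | add y z _ _ hy hz => rw [add_tmul, hy, hz, add_zero]
  | smul r y _ hy => rw [← TensorProduct.smul_tmul', hy, smul_zero]

include h in
theorem one_tmul_bijective (hX : LocCoh.IsPowerTorsion (maximalIdeal A) X) :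
    Function.Bijective (TensorProduct.mk A S X 1) := by
  have := h.flat
  have := h.isLocalHom
  have : Module.FaithfullyFlat A S := Module.FaithfullyFlat.of_flat_of_isLocalHom
  refine ⟨Module.FaithfullyFlat.tensorProduct_mk_injective X, fun t => ?_⟩
  induction t using TensorProduct.induction_on with
  | zero => exact ⟨0, map_zero _⟩
  | add u v hu hv =>
    obtain ⟨x, rfl⟩ := hu
    obtain ⟨y, rfl⟩ := hv
    exact ⟨x + y, map_add _ _ _⟩
  | tmul s x =>
    obtain ⟨n, hn⟩ := hX x
    obtain ⟨a, ha⟩ := h.dense n s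
    refine ⟨a • x, ?_⟩
    rw [TensorProduct.mk_apply, ← TensorProduct.smul_tmul, ← Algebra.algebraMap_eq_smul_one,
      ← sub_eq_zero, ← sub_tmul, ← neg_sub, neg_tmul, h.tmul_killed hn ha, neg_zero]

/-- A torsion module is isomorphic to its base change. -/
noncomputable def torsionEquiv (hX : LocCoh.IsPowerTorsion (maximalIdeal A) X) : X ≃ₗ[A] S ⊗[A] X :=
  LinearEquiv.ofBijective (TensorProduct.mk A S X 1) (h.one_tmul_bijective hX)

end Torsion

section SModules

variable {X : Type u} [AddCommGroup X] [Module S X] [Module A X] [IsScalarTower A S X]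
  {Y : Type u} [AddCommGroup Y] [Module S Y] [Module A Y] [IsScalarTower A S Y]

include h in
theorem isPowerTorsion_iff :
    LocCoh.IsPowerTorsion (maximalIdeal A) X ↔ LocCoh.IsPowerTorsion (maximalIdeal S) X := by
  refine forall_congr' fun x => exists_congr fun n => ⟨fun hx s hs => ?_, fun hx a ha => ?_⟩
  · rw [← h.map_max, ← Ideal.map_pow] at hs
    induction hs using Submodule.span_induction with
    | mem y hy =>
      obtain ⟨a, ha, rfl⟩ := hy
      rw [algebraMap_smul, hx a ha]
    | zero => exact zero_smul _ _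
    | add y z _ _ hy hz => rw [add_smul, hy, hz, add_zero]
    | smul r y _ hy => rw [smul_eq_mul, mul_smul, hy, smul_zero]
  · rw [← algebraMap_smul S a x]
    exact hx _ (by rw [← h.map_max, ← Ideal.map_pow]; exact Ideal.mem_map_of_mem _ ha)

include h in
theorem exists_smul_eq (hX : LocCoh.IsPowerTorsion (maximalIdeal S) X) (s : S) (x : X) :
    ∃ a : A, s • x = a • x := by
  obtain ⟨n, hn⟩ := hX x
  obtain ⟨a, ha⟩ := h.dense n s
  refine ⟨a, ?_⟩
  rw [← algebraMap_smul S a x, ← sub_eq_zero, ← sub_smul, hn _ ha]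

include h in
theorem map_smul_of_torsion (hX : LocCoh.IsPowerTorsion (maximalIdeal S) X) (f : X →ₗ[A] Y) (s : S)
    (x : X) : f (s • x) = s • f x := by
  obtain ⟨n, hn⟩ := hX x
  obtain ⟨a, ha⟩ := h.dense n s
  have hy : ∀ b ∈ maximalIdeal A ^ n, b • f x = 0 := fun b hb => by
    rw [← map_smul, ← algebraMap_smul S b x,
      hn _ (by rw [← h.map_max, ← Ideal.map_pow]; exact Ideal.mem_map_of_mem _ hb), map_zero]
  have h1 : s • x = a • x := by rw [← algebraMap_smul S a x, ← sub_eq_zero, ← sub_smul, hn _ ha]
  have h2 : s • f x = a • f x := by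
    rw [← algebraMap_smul S a (f x), ← sub_eq_zero, ← sub_smul]
    rw [← h.map_max, ← Ideal.map_pow] at ha
    generalize s - algebraMap A S a = d at ha ⊢
    induction ha using Submodule.span_induction with
    | mem y hy' =>
      obtain ⟨b, hb, rfl⟩ := hy'
      rw [algebraMap_smul, hy b hb]
    | zero => exact zero_smul _ _
    | add y z _ _ hy hz => rw [add_smul, hy, hz, add_zero]
    | smul r y _ hy => rw [smul_eq_mul, mul_smul, hy, smul_zero]
  rw [h1, map_smul, h2]

/-- An `A`-linear equivalence of torsion `S`-modules is `S`-linear. -/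
noncomputable def equivOfTorsion (hX : LocCoh.IsPowerTorsion (maximalIdeal S) X) (e : X ≃ₗ[A] Y) :
    X ≃ₗ[S] Y :=
  { e with map_smul' := fun s x => h.map_smul_of_torsion hX e.toLinearMap s x }

end SModules

theorem trans_semilinear {X Z : Type u} [AddCommGroup X] [Module A X] [AddCommGroup Z] [Module S Z]
    (t : X ≃ₗ[A] S ⊗[A] X) (e : S ⊗[A] X ≃ₗ[S] Z) (a : A) (z : X) :
    e (t (a • z)) = algebraMap A S a • e (t z) := by
  rw [map_smul, ← map_smul e, algebraMap_smul]

include h in
/-- `H^i_m(M) ≅ H^i(S ⊗ M)`, semilinearly. -/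
theorem exists_H_equiv [IsNoetherianRing A] [IsNoetherianRing S] (M : Type u) [AddCommGroup M]
    [Module A M] (i : ℕ) :
    ∃ e : LocCoh.H (maximalIdeal A) i M ≃+ LocCoh.H (maximalIdeal S) i (S ⊗[A] M),
      ∀ (a : A) z, e (a • z) = algebraMap A S a • e z := by
  have := h.flat
  obtain ⟨e⟩ : Nonempty (S ⊗[A] LocCoh.H (maximalIdeal A) i M ≃ₗ[S]
      LocCoh.H (maximalIdeal S) i (S ⊗[A] M)) :=
    nonempty_baseChange_H_of_eq (maximalIdeal A) (maximalIdeal S) h.map_max M i
  exact ⟨(h.torsionEquiv (isPowerTorsion_H (maximalIdeal A) i M)).toAddEquiv.trans e.toAddEquiv,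
    fun a z => trans_semilinear (h.torsionEquiv (isPowerTorsion_H (maximalIdeal A) i M)) e a z⟩

section Hull

variable [IsNoetherianRing A] [IsNoetherianRing S]
variable {E : Type u} [AddCommGroup E] [Module A E] {f : ResidueField A →ₗ[A] E}

include h in
theorem injective_restrict {E' : Type u} [AddCommGroup E'] [Module S E'] [Module A E']
    [IsScalarTower A S E'] (hE : Module.Injective S E') : Module.Injective A E' := by
  have := h.flat
  refine Module.Baer.injective fun I g => ?_
  obtain ⟨G, hG⟩ := Module.Injective.extension_property (inj := hE) S E' (S ⊗[A] I) (S ⊗[A] A)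
    (I.subtype.baseChange S) (Module.Flat.lTensor_preserves_injective_linearMap _ I.injective_subtype)
    (LinearMap.liftBaseChange S g)
  refine ⟨G.restrictScalars A ∘ₗ TensorProduct.mk A S A 1, fun x hx => ?_⟩
  refine (LinearMap.congr_fun hG (1 ⊗ₜ[A] (⟨x, hx⟩ : I))).trans ?_
  rw [LinearMap.liftBaseChange_tmul, one_smul]

include h in
/-- The hull of the residue field of `S` restricts to the one of `A`. -/
theorem exists_hull (hf : IsInjectiveHull f) :
    ∃ (E' : Type u) (_ : AddCommGroup E') (_ : Module S E') (_ : Module A E')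
      (_ : IsScalarTower A S E') (f' : ResidueField S →ₗ[S] E'),
      IsInjectiveHull f' ∧ Nonempty (E ≃ₗ[A] E') := by
  obtain ⟨E', _, _, f', hf'⟩ := H4Inj.exists_isInjectiveHull (R := S) (ResidueField S)
  let mA : Module A E' := Module.compHom E' (algebraMap A S)
  have ht : IsScalarTower A S E' := IsScalarTower.of_algebraMap_smul fun a x => rfl
  refine ⟨E', inferInstance, inferInstance, mA, ht, f', hf', ?_⟩
  have htor : LocCoh.IsPowerTorsion (maximalIdeal S) E' := H4Matlis.isPowerTorsion hf'
  let g : ResidueField A →ₗ[A] E' :=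
    (maximalIdeal A).liftQ (LinearMap.toSpanSingleton A E' (f' 1)) fun a ha => by
      show a • f' 1 = 0
      rw [← algebraMap_smul S a (f' 1), ← map_smul, Algebra.smul_def, mul_one]
      have h0 : algebraMap S (ResidueField S) (algebraMap A S a) = 0 :=
        (residue_eq_zero_iff _).2 (h.algebraMap_mem ha)
      rw [h0, map_zero]
  have hg : ∀ a : A, g (residue A a) = f' (residue S (algebraMap A S a)) := fun a => by
    show a • f' 1 = _
    rw [← algebraMap_smul S a (f' 1), ← map_smul, Algebra.smul_def, mul_one]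
    rfl
  have hgi : Function.Injective g := by
    rw [injective_iff_map_eq_zero]
    intro y hy
    obtain ⟨a, rfl⟩ := IsLocalRing.residue_surjective (R := A) y
    have h1 := hf'.injective ((hg a).symm.trans (hy.trans (map_zero f').symm))
    rw [residue_eq_zero_iff] at h1 ⊢
    by_contra hna
    exact notMem_maximalIdeal.2 ((notMem_maximalIdeal.1 hna).map (algebraMap A S)) h1
  have hgH : IsInjectiveHull g := by
    refine ⟨H4Inj.isEssentialInj_of_forall hgi fun x hx => ?_, h.injective_restrict hf'.isInjective⟩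
    obtain ⟨s, ⟨y, hy⟩, hs⟩ := H4Inj.exists_smul_mem_range hf'.toIsEssentialInj hx
    obtain ⟨a, ha⟩ := h.exists_smul_eq htor s x
    obtain ⟨b, rfl⟩ := h.residue_surjective y
    exact ⟨a, ⟨residue A b, by rw [hg, hy, ha]⟩, ha ▸ hs⟩
  obtain ⟨e, -⟩ := H4Inj.hull_unique hf hgH
  exact ⟨e⟩

end Hull

end IsComplLike

end Groth.Agent.H4LC
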