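import Groth.Agent.H4LC.Cd

/-!
# Subadditivity of cohomological dimension; testing on the ring
-/

set_option autoImplicit false
set_option linter.unusedSectionVars false

universe u

open CategoryTheory CategoryTheory.Limits Opposite

namespace Groth.Agent.H4LC

variable {R : Type u} [CommRing R]

theorem subsingleton_H_pi_fin (I : Ideal R) (i : ℕ) (h : Subsingleton (LocCoh.H I i R)) :
    ∀ n : ℕ, Subsingleton (LocCoh.H I i (Fin n → R))
  | 0 => subsingleton_H_of_subsingleton I _ i
  | n + 1 => by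
    let f : R →ₗ[R] (Fin (n + 1) → R) := LinearMap.single R (fun _ => R) 0
    let g : (Fin (n + 1) → R) →ₗ[R] (Fin n → R) := LinearMap.funLeft R R Fin.succ
    refine subsingleton_H_mid I (f := f) (g := g) (fun x y hxy => by simpa [f] using congrFun hxy 0)
      (LinearMap.funLeft_surjective_of_injective R R _ (Fin.succ_injective n)) (fun v => ?_) i h
      (subsingleton_H_pi_fin I i h n)
    constructor
    · intro hv
      refine ⟨v 0, funext (Fin.cases (by simp [f]) fun j => ?_)⟩
      have : v j.succ = 0 := congrFun hv j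
      simp [f, this, Fin.succ_ne_zero]
    · rintro ⟨r, rfl⟩
      exact funext fun j => by simp [f, g, LinearMap.funLeft_apply, Fin.succ_ne_zero]

theorem cdLE_of_subsingleton_self [IsNoetherianRing R] (I : Ideal R) (d : ℕ)
    (h : ∀ i : ℕ, d < i → Subsingleton (LocCoh.H I i R)) : LocCoh.CdLE R I d := by
  obtain ⟨s, hs⟩ := IsNoetherian.noetherian I
  suffices key : ∀ (k : ℕ) (i : ℕ), d < i → s.card + 1 ≤ i + k →
      ∀ (M : Type u) [AddCommGroup M] [Module R M], Subsingleton (LocCoh.H I i M) from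
    fun M _ _ i hi => key (s.card + 1) i hi (Nat.le_add_left _ _) M
  intro k
  induction k with
  | zero =>
    intro i _ hk M _ _
    rw [← hs]
    exact cdLE_span_finset s M i (by omega)
  | succ k ih =>
    intro i hi hk M _ _
    refine subsingleton_H_of_fg I i M fun S hS => ?_
    have : Module.Finite R S := Module.Finite.iff_fg.2 hS
    obtain ⟨n, g, hg⟩ := Module.Finite.exists_fin' R S
    exact subsingleton_H_right I (LinearMap.ker g).injective_subtype hg
      (LinearMap.exact_subtype_ker_map g) i (subsingleton_H_pi_fin I i (h i hi) n)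
      (ih (i + 1) (by omega) (by omega) _)

theorem torsionSub_sup (I J : Ideal R) {X : Type u} [AddCommGroup X] [Module R X] (x : X) :
    x ∈ DRing.torsionSub (I ⊔ J) X ↔
      ∃ h : x ∈ DRing.torsionSub J X, (⟨x, h⟩ : DRing.torsionSub J X) ∈
        DRing.torsionSub I (DRing.torsionSub J X) := by
  constructor
  · rintro ⟨n, hn⟩
    exact ⟨⟨n, fun a ha => hn a (Ideal.pow_right_mono le_sup_right n ha)⟩,
      n, fun a ha => Subtype.ext (hn a (Ideal.pow_right_mono le_sup_left n ha))⟩
  · rintro ⟨⟨m, hm⟩, n, hn⟩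
    refine ⟨n + m, fun a ha => ?_⟩
    obtain ⟨b, hb, c, hc, rfl⟩ := Submodule.mem_sup.1 (Ideal.sup_pow_add_le_pow_sup_pow ha)
    rw [add_smul, show b • x = 0 from congrArg Subtype.val (hn b hb), hm c hc, add_zero]

variable [IsNoetherianRing R] (I J : Ideal R) {a b : ℕ}

/-- `cd(I + J) ≤ cd I + cd J`. -/
theorem cdLE_sup (hI : LocCoh.CdLE R I a) (hJ : LocCoh.CdLE R J b) :
    LocCoh.CdLE R (I ⊔ J) (a + b) := by
  intro M _ _ i hi
  let X := injectiveResolution (ModuleCat.of R M)
  let d : ∀ n, DRing.torsionSub J (X.cocomplex.X n) →ₗ[R]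
      DRing.torsionSub J (X.cocomplex.X (n + 1)) := fun n => ((gammaCx J X).d n (n + 1)).hom
  have hd : ∀ n w, d (n + 1) (d n w) = 0 := fun n w =>
    congrArg (fun φ : (gammaCx J X).X n ⟶ (gammaCx J X).X (n + 2) => φ.hom w)
      ((gammaCx J X).d_comp_d n (n + 1) (n + 2))
  have hinjK : ∀ n, Module.Injective R (DRing.torsionSub J (X.cocomplex.X n)) := fun n =>
    injective_torsionSub J _ ((Module.injective_iff_injective_object R _).mpr (X.injective n))
  have hK : ∀ (n m : ℕ), Subsingleton (LocCoh.H I (m + 1) (DRing.torsionSub J (X.cocomplex.X n))) :=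
    fun n m => by
      have := hinjK n
      exact subsingleton_H_of_injective I _ m.succ_pos
  have hex : ∀ n, b ≤ n → ∀ y, d (n + 1) y = 0 → ∃ w, d n w = y := fun n hn => by
    have h1 : (gammaCx J X).ExactAt (n + 1) := by
      rw [HomologicalComplex.exactAt_iff_isZero_homology, ModuleCat.isZero_iff_subsingleton]
      exact @Function.Injective.subsingleton _ _ _ (homologyToH_bijective J X (n + 1)).1
        (hJ M (n + 1) (by omega))
    rw [HomologicalComplex.exactAt_iff' _ n (n + 1) (n + 2) (by simp) (by simp [add_assoc]),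
      ShortComplex.moduleCat_exact_iff] at h1
    exact h1
  let Z := fun n => LinearMap.ker (d n)
  let p : ∀ n, DRing.torsionSub J (X.cocomplex.X n) →ₗ[R] Z (n + 1) := fun n =>
    (d n).codRestrict (Z (n + 1)) (hd n)
  have hp : ∀ n, b ≤ n → Function.Surjective (p n) := fun n hn y => by
    obtain ⟨w, hw⟩ := hex n hn y.1 y.2
    exact ⟨w, Subtype.ext hw⟩
  have hpex : ∀ n, Function.Exact (Z n).subtype (p n) := fun n =>
    LinearMap.exact_iff.2 (by rw [Submodule.range_subtype]; exact LinearMap.ker_codRestrict _ _ _)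
  have shift : ∀ m k, b + m + k + 1 ≤ i → a + 1 + (i - b) ≤ i - b + (k + 1) + m →
      Subsingleton (LocCoh.H I (k + 1) (Z (b + m))) := by
    intro m
    induction m with
    | zero => intro k h1 h2; exact hI _ (k + 1) (by omega)
    | succ m ih =>
      intro k h1 h2
      exact @Function.Injective.subsingleton _ _ _
        (δH_injective I (Z (b + m)).injective_subtype (hp (b + m) (by omega)) (hpex (b + m)) (k + 1)
          (hK (b + m) k)) (ih (k + 1) (by omega) (by omega))
  obtain ⟨j, rfl⟩ : ∃ j, i = b + j + 1 := ⟨i - b - 1, by omega⟩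
  have h0 : Subsingleton (LocCoh.H I 1 (Z (b + j))) := shift j 0 (by omega) (by omega)
  refine @Function.Surjective.subsingleton _ _ _ ?_ (homologyToH_bijective (I ⊔ J) X (b + j + 1)).2
  rw [← ModuleCat.isZero_iff_subsingleton, ← HomologicalComplex.exactAt_iff_isZero_homology,
    HomologicalComplex.exactAt_iff' _ (b + j) (b + j + 1) (b + j + 2) (by simp) (by simp [add_assoc]),
    ShortComplex.moduleCat_exact_iff]
  intro y hy
  obtain ⟨hyJ, hyI⟩ := (torsionSub_sup I J _).1 (Subtype.prop (y : DRing.torsionSub (I ⊔ J) _))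
  let y' : Z (b + j + 1) := ⟨⟨Subtype.val (y : DRing.torsionSub (I ⊔ J) _), hyJ⟩,
    Subtype.ext (congrArg (fun z : DRing.torsionSub (I ⊔ J) (X.cocomplex.X (b + j + 2)) => z.1) hy)⟩
  have hy' : y' ∈ DRing.torsionSub I (Z (b + j + 1)) := by
    obtain ⟨n, hn⟩ := hyI
    exact ⟨n, fun c hc => Subtype.ext (hn c hc)⟩
  obtain ⟨w, hw⟩ := (exactH₃ I (Z (b + j)).injective_subtype (hp (b + j) (by omega)) (hpex (b + j))
    0 ((zeroEquiv I _).symm ⟨y', hy'⟩)).1 (Subsingleton.elim _ _)
  have hwval : p (b + j) (zeroEquiv I _ w).1 = y' := by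
    rw [← zeroEquiv_naturality, hw, LinearEquiv.apply_symm_apply]
  let v := (zeroEquiv I _ w).1
  have hv : v.1 ∈ DRing.torsionSub (I ⊔ J) (X.cocomplex.X (b + j)) :=
    (torsionSub_sup I J _).2 ⟨v.2, (zeroEquiv I _ w).2⟩
  exact ⟨(⟨v.1, hv⟩ : DRing.torsionSub (I ⊔ J) _), Subtype.ext
    (congrArg (fun z : Z (b + j + 1) => (z.1).1) hwval)⟩

end Groth.Agent.H4LC
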