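import Groth.Agent.H4LC.ChangeRings
import Groth.Agent.H4LC.CdAdd
import Mathlib.RingTheory.Flat.FaithfullyFlat.Basic
import Mathlib.RingTheory.Localization.BaseChange
import Mathlib.LinearAlgebra.TensorProduct.Pi

/-!
# Flat base change
-/

set_option autoImplicit false
set_option linter.unusedSectionVars false

universe u

open CategoryTheory TensorProduct

namespace Groth.Agent.H4LC

variable {R : Type u} [CommRing R] (R' : Type u) [CommRing R'] [Algebra R R'] [Module.Flat R R']
  (I : Ideal R)

section Gamma

variable [IsNoetherianRing R] (M : Type u) [AddCommGroup M] [Module R M]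

theorem range_baseChange_subtype :
    LinearMap.range ((DRing.torsionSub I M).subtype.baseChange R') =
      DRing.torsionSub (I.map (algebraMap R R')) (R' ⊗[R] M) := by
  classical
  apply le_antisymm
  · rintro _ ⟨z, rfl⟩
    induction z using TensorProduct.induction_on with
    | zero => rw [map_zero]; exact zero_mem _
    | tmul a x =>
      refine (mem_torsionSub_map_iff (R' := R') I _).2 ?_
      obtain ⟨n, hn⟩ := x.2
      refine ⟨n, fun c hc => ?_⟩
      rw [LinearMap.baseChange_tmul, ← TensorProduct.tmul_smul, Submodule.subtype_apply, hn c hc,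
        TensorProduct.tmul_zero]
    | add x y hx hy => rw [map_add]; exact add_mem hx hy
  · intro z hz
    obtain ⟨n, hn⟩ := (mem_torsionSub_map_iff (R' := R') I z).1 hz
    obtain ⟨s, hs⟩ := IsNoetherian.noetherian (I ^ n)
    let φ : M →ₗ[R] ({a // a ∈ s} → M) :=
      LinearMap.pi fun a => a.1 • (LinearMap.id : M →ₗ[R] M)
    let k := LinearMap.ker φ
    have hk : k ≤ DRing.torsionSub I M := fun m hm => by
      refine ⟨n, fun a ha => ?_⟩
      rw [← hs] at ha
      induction ha using Submodule.span_induction with
      | mem y hy => exact congrFun (LinearMap.mem_ker.1 hm) ⟨y, hy⟩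
      | zero => exact zero_smul _ _
      | add y w _ _ hy hw => rw [add_smul, hy, hw, add_zero]
      | smul r y _ hy => rw [smul_eq_mul, mul_smul, hy, smul_zero]
    have hφ : φ.lTensor R' z = 0 := by
      apply (TensorProduct.piRight R R R' fun _ : {a // a ∈ s} => M).injective
      rw [map_zero]
      funext a
      have key : ∀ w : R' ⊗[R] M,
          TensorProduct.piRight R R R' (fun _ : {a // a ∈ s} => M) (φ.lTensor R' w) a = a.1 • w := by
        intro w
        induction w using TensorProduct.induction_on with
        | zero => simp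
        | tmul b m => simp [φ]
        | add x y hx hy => simp only [map_add, Pi.add_apply, hx, hy, smul_add]
      rw [key]
      exact hn a.1 (hs ▸ Submodule.subset_span a.2)
    obtain ⟨w, rfl⟩ := ((Module.Flat.lTensor_exact R' (LinearMap.exact_subtype_ker_map φ)) z).1 hφ
    refine ⟨(Submodule.inclusion hk).baseChange R' w, ?_⟩
    rw [← LinearMap.comp_apply, ← LinearMap.baseChange_comp, Submodule.subtype_comp_inclusion]
    rfl

theorem injective_baseChange_subtype :
    Function.Injective ((DRing.torsionSub I M).subtype.baseChange R') :=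
  Module.Flat.lTensor_preserves_injective_linearMap _ (DRing.torsionSub I M).injective_subtype

/-- `R' ⊗ Γ_I(M) = Γ_{IR'}(R' ⊗ M)`. -/
noncomputable def gammaBaseChange :
    R' ⊗[R] DRing.torsionSub I M ≃ₗ[R'] DRing.torsionSub (I.map (algebraMap R R')) (R' ⊗[R] M) :=
  (LinearEquiv.ofInjective _ (injective_baseChange_subtype R' I M)).trans
    (LinearEquiv.ofEq _ _ (range_baseChange_subtype R' I M))

theorem gammaBaseChange_natural {N : Type u} [AddCommGroup N] [Module R N] (f : M →ₗ[R] N)
    (x : R' ⊗[R] DRing.torsionSub I M) :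
    gammaBaseChange R' I N ((Γmap I f).baseChange R' x) =
      Γmap (I.map (algebraMap R R')) (f.baseChange R') (gammaBaseChange R' I M x) := by
  apply Subtype.ext
  change (DRing.torsionSub I N).subtype.baseChange R' ((Γmap I f).baseChange R' x) =
    f.baseChange R' ((DRing.torsionSub I M).subtype.baseChange R' x)
  rw [← LinearMap.comp_apply, ← LinearMap.baseChange_comp, ← LinearMap.comp_apply,
    ← LinearMap.baseChange_comp]
  rfl

end Gamma

variable [IsNoetherianRing R] [IsNoetherianRing R'] (M : Type u) [AddCommGroup M] [Module R M]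

/-- `R' ⊗ H^i_I(M) ≅ H^i_{IR'}(R' ⊗ M)`. -/
theorem nonempty_baseChange_H (i : ℕ) :
    Nonempty (R' ⊗[R] LocCoh.H I i M ≃ₗ[R']
      LocCoh.H (I.map (algebraMap R R')) i (R' ⊗[R] M)) := by
  let J := injectiveResolution (ModuleCat.of R M)
  let d : ∀ n, R' ⊗[R] resX M J n →ₗ[R'] R' ⊗[R] resX M J (n + 1) := fun n =>
    (resD M J n).baseChange R'
  have hex : ∀ n, Function.Exact (d n) (d (n + 1)) := fun n =>
    Module.Flat.lTensor_exact R' (exact_resD M J n)
  have hacy : ∀ n k, Subsingleton
      (LocCoh.H (I.map (algebraMap R R')) (k + 1) (R' ⊗[R] resX M J n)) := fun n k => by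
    have := injective_resX M J n
    exact subsingleton_H_tensor_injective R' I _ (k + 1) k.succ_pos
  let e : R' ⊗[R] M ≃ₗ[R'] LinearMap.ker (d 0) :=
    ((augEquiv M J).baseChange R R').trans (baseChangeKerEquiv R' (resD M J 0))
  have eH : ∀ k, LocCoh.H (I.map (algebraMap R R')) k (R' ⊗[R] M) ≃ₗ[R']
      LocCoh.H (I.map (algebraMap R R')) k (LinearMap.ker (d 0)) := fun k =>
    ((localCohomology _ k).mapIso e.toModuleIso).toLinearEquiv
  obtain ⟨h0, hsucc⟩ := nonempty_H_equiv_resolution I M J
  have γ := fun n => gammaBaseChange R' I (resX M J n)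
  cases i with
  | zero =>
    obtain ⟨e'⟩ := h0
    obtain ⟨g⟩ := nonempty_H_zero_equiv (I.map (algebraMap R R')) _ d 0
    obtain ⟨ψ, hψ⟩ := exists_kerEquiv (σ := RingHom.id R')
      (g := (Γmap I (resD M J 0)).baseChange R')
      (g' := Γmap (I.map (algebraMap R R')) (d 0))
      (gammaBaseChange R' I _).toLinearMap (gammaBaseChange R' I _).toLinearMap
      (gammaBaseChange R' I _).bijective (gammaBaseChange R' I _).injective
      (fun b => gammaBaseChange_natural R' I _ (resD M J 0) b)
    exact ⟨((e'.baseChange R R').trans (baseChangeKerEquiv R' (Γmap I (resD M J 0)))).trans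
      ((({ ψ with map_smul' := hψ } : LinearMap.ker ((Γmap I (resD M J 0)).baseChange R') ≃ₗ[R']
        LinearMap.ker (Γmap (I.map (algebraMap R R')) (d 0)))).trans ((eH 0).trans g).symm)⟩
  | succ n =>
    obtain ⟨e'⟩ := hsucc n
    obtain ⟨g⟩ := nonempty_H_succ_equiv (I.map (algebraMap R R')) _ d hex hacy n
    obtain ⟨b⟩ := nonempty_baseChange_cohQ R' (f := Γmap I (resD M J n))
      (g := Γmap I (resD M J (n + 1)))
      (LinearMap.ext fun x => Subtype.ext ((exact_resD M J n).apply_apply_eq_zero x.1))
    obtain ⟨ψ, hψ⟩ := exists_cohQEquiv (σ := RingHom.id R')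
      (f := (Γmap I (resD M J n)).baseChange R') (g := (Γmap I (resD M J (n + 1))).baseChange R')
      (f' := Γmap (I.map (algebraMap R R')) (d n))
      (g' := Γmap (I.map (algebraMap R R')) (d (n + 1)))
      (gammaBaseChange R' I _).toLinearMap (gammaBaseChange R' I _).toLinearMap
      (gammaBaseChange R' I _).toLinearMap (gammaBaseChange R' I _).surjective
      (gammaBaseChange R' I _).bijective (gammaBaseChange R' I _).injective
      (fun a => gammaBaseChange_natural R' I _ (resD M J n) a)
      (fun a => gammaBaseChange_natural R' I _ (resD M J (n + 1)) a)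
    exact ⟨((e'.baseChange R R').trans b).trans
      ((({ ψ with map_smul' := hψ } : cohQ ((Γmap I (resD M J n)).baseChange R')
          ((Γmap I (resD M J (n + 1))).baseChange R') ≃ₗ[R']
        cohQ (Γmap (I.map (algebraMap R R')) (d n))
          (Γmap (I.map (algebraMap R R')) (d (n + 1))))).trans ((eH (n + 1)).trans g).symm)⟩

variable {R'}

/-- Localisation. -/
theorem nonempty_localization_H (S : Submonoid R) (i : ℕ) :
    Nonempty (LocalizedModule S (LocCoh.H I i M) ≃ₗ[Localization S]
      LocCoh.H (I.map (algebraMap R (Localization S))) i (LocalizedModule S M)) := by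
  have : IsNoetherianRing (Localization S) := IsLocalization.isNoetherianRing S _ inferInstance
  obtain ⟨e⟩ := nonempty_baseChange_H (Localization S) I M i
  exact ⟨((LocalizedModule.equivTensorProduct S _).trans e).trans
    ((localCohomology _ i).mapIso
      (LocalizedModule.equivTensorProduct S M).symm.toModuleIso).toLinearEquiv⟩

end Groth.Agent.H4LC
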