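import Groth.Agent.H4LC.Nonvanishing
import Groth.Agent.H4LC.FlatBaseChange
import Groth.Agent.H4LC.Depth
import Groth.Agent.H4Depth.LocDepth
import Mathlib.RingTheory.Ideal.Height

/-!
# Radical invariance; non-vanishing at the height
-/

set_option autoImplicit false
set_option linter.unusedSectionVars false

universe u

open IsLocalRing

namespace Groth.Agent.H4LC

variable {R : Type u} [CommRing R] [IsNoetherianRing R]

theorem torsionSub_eq_of_radical_eq {I J : Ideal R} (h : I.radical = J.radical)
    (X : Type u) [AddCommGroup X] [Module R X] :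
    DRing.torsionSub I X = DRing.torsionSub J X := by
  have key : ∀ {A B : Ideal R}, A ≤ B.radical → DRing.torsionSub B X ≤ DRing.torsionSub A X := by
    intro A B hAB x hx
    obtain ⟨n, hn⟩ := hx
    obtain ⟨l, hl⟩ := Ideal.exists_pow_le_of_le_radical_of_fg hAB (IsNoetherian.noetherian A)
    refine ⟨l * n, fun a ha => hn a ?_⟩
    rw [pow_mul] at ha
    exact Ideal.pow_right_mono hl n ha
  exact le_antisymm (key (Ideal.le_radical.trans h.ge)) (key (Ideal.le_radical.trans h.le))

/-- Local cohomology only depends on the radical of the ideal. -/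
theorem nonempty_H_equiv_of_radical_eq {I J : Ideal R} (h : I.radical = J.radical)
    (M : Type u) [AddCommGroup M] [Module R M] (i : ℕ) :
    Nonempty (LocCoh.H I i M ≃ₗ[R] LocCoh.H J i M) := by
  let X := CategoryTheory.injectiveResolution (ModuleCat.of R M)
  obtain ⟨h0, hs⟩ := nonempty_H_equiv_resolution I M X
  obtain ⟨h0', hs'⟩ := nonempty_H_equiv_resolution J M X
  let γ : ∀ n, DRing.torsionSub I (resX M X n) ≃ₗ[R] DRing.torsionSub J (resX M X n) := fun n =>
    LinearEquiv.ofEq _ _ (torsionSub_eq_of_radical_eq h _)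
  cases i with
  | zero =>
    obtain ⟨e⟩ := h0
    obtain ⟨e'⟩ := h0'
    obtain ⟨ψ, hψ⟩ := exists_kerEquiv (σ := RingHom.id R)
      (g := Γmap I (resD M X 0)) (g' := Γmap J (resD M X 0))
      (γ 0).toLinearMap (γ 1).toLinearMap (γ 0).bijective (γ 1).injective (fun _ => rfl)
    exact ⟨e.trans ((({ ψ with map_smul' := hψ } : LinearMap.ker (Γmap I (resD M X 0)) ≃ₗ[R]
      LinearMap.ker (Γmap J (resD M X 0)))).trans e'.symm)⟩
  | succ n =>
    obtain ⟨e⟩ := hs n
    obtain ⟨e'⟩ := hs' n
    obtain ⟨ψ, hψ⟩ := exists_cohQEquiv (σ := RingHom.id R)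
      (f := Γmap I (resD M X n)) (g := Γmap I (resD M X (n + 1)))
      (f' := Γmap J (resD M X n)) (g' := Γmap J (resD M X (n + 1)))
      (γ n).toLinearMap (γ (n + 1)).toLinearMap (γ (n + 1 + 1)).toLinearMap
      (γ n).surjective (γ (n + 1)).bijective (γ (n + 1 + 1)).injective (fun _ => rfl) (fun _ => rfl)
    exact ⟨e.trans ((({ ψ with map_smul' := hψ } :
      cohQ (Γmap I (resD M X n)) (Γmap I (resD M X (n + 1))) ≃ₗ[R]
      cohQ (Γmap J (resD M X n)) (Γmap J (resD M X (n + 1))))).trans e'.symm)⟩

theorem nontrivial_H_ringKrullDim [IsLocalRing R] (d : ℕ) (hd : ringKrullDim R = d) :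
    Nontrivial (LocCoh.H (maximalIdeal R) d R) :=
  (nontrivial_H_supportDim d R (Module.supportDim_self_eq_ringKrullDim (R := R) |>.trans hd)).1

/-- `H^{ht p}_I(R) ≠ 0` for a minimal prime `p` of `I`. -/
theorem nontrivial_H_of_mem_minimalPrimes {I p : Ideal R} (hp : p ∈ I.minimalPrimes) {h : ℕ}
    (hh : p.height = h) : Nontrivial (LocCoh.H I h R) := by
  have hpp : p.IsPrime := hp.1.1
  let S := Localization.AtPrime p
  have : IsNoetherianRing S := IsLocalization.isNoetherianRing p.primeCompl _ inferInstance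
  rw [← not_subsingleton_iff_nontrivial]
  intro hs
  have hd : ringKrullDim S = (h : WithBot ℕ∞) := by
    rw [IsLocalization.AtPrime.ringKrullDim_eq_height p, hh]
    rfl
  have hrad : (I.map (algebraMap R S)).radical = (maximalIdeal S).radical := by
    rw [(maximalIdeal.isMaximal S).isPrime.radical]
    refine le_antisymm ?_ ?_
    · refine Ideal.IsPrime.radical_le_iff (maximalIdeal.isMaximal S).isPrime |>.2 ?_
      exact (Ideal.map_mono hp.1.2).trans (le_of_eq (Localization.AtPrime.map_eq_maximalIdeal))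
    · rw [Ideal.radical_eq_sInf]
      refine le_sInf fun q hq => ?_
      have hqp : q.IsPrime := hq.2
      have hdisj := (IsLocalization.isPrime_iff_isPrime_disjoint p.primeCompl S q).1 hqp
      have hle : p ≤ q.comap (algebraMap R S) := hp.2 ⟨hdisj.1, (Ideal.le_comap_map).trans
        (Ideal.comap_mono hq.1)⟩ (fun a ha => by
          by_contra hap
          exact Set.disjoint_left.1 hdisj.2 hap ha)
      rw [← Localization.AtPrime.map_eq_maximalIdeal (I := p)]
      exact (Ideal.map_mono hle).trans Ideal.map_comap_le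
  obtain ⟨e⟩ := nonempty_localization_H I R p.primeCompl h
  obtain ⟨e'⟩ := nonempty_H_equiv_of_radical_eq hrad S h
  have hloc : Subsingleton (LocalizedModule p.primeCompl (LocCoh.H I h R)) := by
    refine subsingleton_of_forall_eq 0 fun z => ?_
    induction z using LocalizedModule.induction_on with
    | h m s => rw [Subsingleton.elim m 0, LocalizedModule.zero_mk]
  have h1 : Subsingleton (LocCoh.H (I.map (algebraMap R S)) h (LocalizedModule p.primeCompl R)) :=
    e.toEquiv.subsingleton_congr.1 hloc
  have e₀ : LocalizedModule p.primeCompl R ≃ₗ[S] S :=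
    ((LocalizedModule.equivTensorProduct p.primeCompl R).trans
      (TensorProduct.AlgebraTensorModule.rid R S S))
  have h2 := e'.toEquiv.subsingleton_congr.1 (subsingleton_H_congr _ e₀ h h1)
  exact not_subsingleton_iff_nontrivial.2 (nontrivial_H_ringKrullDim h hd) h2

theorem nontrivial_H_height (I : Ideal R) (_hI : I ≠ ⊤) (h : ℕ) (hh : I.height = h) :
    Nontrivial (LocCoh.H I h R) := by
  obtain ⟨p, hp, hph⟩ : ∃ p ∈ I.minimalPrimes, p.height = h := by
    rw [Ideal.height_eq_inf_minimalPrimes, ENat.iInf_eq_natCast_iff] at hh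
    obtain ⟨⟨p, hp⟩, -⟩ := hh
    rw [ENat.iInf_eq_natCast_iff] at hp
    obtain ⟨⟨hpI, hpe⟩, -⟩ := hp
    exact ⟨p, hpI, hpe⟩
  exact nontrivial_H_of_mem_minimalPrimes hp hph

variable [IsLocalRing R] {M : Type u} [AddCommGroup M] [Module R M] [Module.Finite R M]

theorem existsUnique_nontrivial_H_iff [Nontrivial M] :
    (∃! i : ℕ, Nontrivial (LocCoh.H (maximalIdeal R) i M)) ↔ LocCoh.IsCohenMacaulayModule R M := by
  obtain ⟨n, hn⟩ := Groth.Agent.H4Depth.exists_nat_supportDim_eq (R := R) (M := M)
  have hdn := (nontrivial_H_supportDim n M hn).1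
  have hle := Groth.Agent.H4Depth.depth_le_supportDim (R := R) (M := M)
  rw [hn] at hle
  change ((LocCoh.idealDepth (maximalIdeal R) M : ℕ∞) : WithBot ℕ∞) ≤ _ at hle
  obtain ⟨e, he⟩ : ∃ e : ℕ, LocCoh.idealDepth (maximalIdeal R) M = e := by
    cases h : LocCoh.idealDepth (maximalIdeal R) M with
    | top => rw [h] at hle; exact absurd (WithBot.coe_le_coe.1 hle) (not_le.2 (ENat.natCast_lt_top n))
    | coe e => exact ⟨e, rfl⟩
  rw [he] at hle
  have hen : e ≤ n := by exact_mod_cast hle
  have hde := nontrivial_H_idealDepth _ M he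
  rw [Groth.Agent.H4Depth.isCohenMacaulayModule_iff, hn,
    show LocCoh.depth R M = LocCoh.idealDepth (maximalIdeal R) M from rfl, he]
  constructor
  · rintro ⟨i, -, hu⟩
    rw [show n = e from (hu n hdn).trans (hu e hde).symm]
    rfl
  · intro h
    have hne : n ≤ e := by exact_mod_cast h
    obtain rfl : n = e := le_antisymm hne hen
    refine ⟨n, hdn, fun i hi => ?_⟩
    by_contra hin
    rcases lt_or_gt_of_ne hin with hlt | hgt
    · exact not_subsingleton_iff_nontrivial.2 hi
        (subsingleton_H_of_lt_idealDepth _ M (by rw [he]; exact_mod_cast hlt))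
    · exact not_subsingleton_iff_nontrivial.2 hi
        (subsingleton_H_of_supportDim_lt _ i M (by rw [hn]; exact_mod_cast hgt))

end Groth.Agent.H4LC
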