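import Groth.Agent.H4LC.SupportChange
import Mathlib.Algebra.BigOperators.Fin
import Mathlib.Algebra.CharP.Lemmas

/-!
# Classes `[m / (a_1 ⋯ a_r)^t]` in the top local cohomology of `r` elements
-/

set_option autoImplicit false
set_option linter.unusedSectionVars false

universe u

open CategoryTheory CategoryTheory.Limits Opposite IsLocalRing

namespace Groth.Agent.H4LC

variable {R : Type u} [CommRing R] [IsNoetherianRing R]

theorem cdLE_span_range {r : ℕ} (a : Fin r → R) : LocCoh.CdLE R (Ideal.span (Set.range a)) r := by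
  classical
  intro M _ _ i hi
  have h := cdLE_span_finset (Finset.univ.image a)
  rw [Finset.coe_image, Finset.coe_univ, Set.image_univ] at h
  exact h M i (lt_of_le_of_lt (Finset.card_image_le.trans (by simp)) hi)

/-- The data carried by the classes of the top local cohomology. -/
structure TopClasses {r : ℕ} (a : Fin r → R) (J : Ideal R) (M : Type u) [AddCommGroup M]
    [Module R M] where
  /-- `m ↦ [m / (∏ a)^t]`. -/
  cls : ℕ → M →ₗ[R] LocCoh.H J r M
  exists_eq : ∀ z, ∃ t m, cls t m = z
  killed : ∀ t i m, cls t (a i ^ t • m) = 0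
  compat : ∀ t m, cls (t + 1) ((∏ i, a i) • m) = cls t m

namespace TopClasses

variable {r : ℕ} {a : Fin r → R} {J : Ideal R} {M : Type u} [AddCommGroup M] [Module R M]
  (Φ : TopClasses a J M)

theorem compat_add (t k : ℕ) (m : M) : Φ.cls (t + k) ((∏ i, a i) ^ k • m) = Φ.cls t m := by
  induction k generalizing m with
  | zero => rw [pow_zero, one_smul, add_zero]
  | succ k ih => rw [pow_succ', mul_smul, ← add_assoc, Φ.compat, ih]

theorem killed_span (t : ℕ) {c : R} (hc : c ∈ Ideal.span (Set.range fun i => a i ^ t)) (m : M) :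
    Φ.cls t (c • m) = 0 := by
  induction hc using Submodule.span_induction with
  | mem x hx => obtain ⟨i, rfl⟩ := hx; exact Φ.killed t i m
  | zero => rw [zero_smul, map_zero]
  | add x y _ _ hx hy => rw [add_smul, map_add, hx, hy, add_zero]
  | smul s x _ hx => rw [smul_eq_mul, mul_smul, map_smul, hx, smul_zero]

end TopClasses

theorem exists_topClasses (M : Type u) [AddCommGroup M] [Module R M] :
    ∀ (r : ℕ) (a : Fin r → R) (J : Ideal R), J = Ideal.span (Set.range a) →
      Nonempty (TopClasses a J M) := by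
  intro r
  induction r with
  | zero =>
    intro a J hJ
    have htop : ∀ m : M, m ∈ DRing.torsionSub J M := fun m => ⟨1, fun x hx => by
      rw [pow_one, hJ, Set.range_eq_empty, Ideal.span_empty, Ideal.mem_bot] at hx
      rw [hx, zero_smul]⟩
    refine ⟨⟨fun _ => (zeroEquiv J M).symm.toLinearMap ∘ₗ (LinearMap.id.codRestrict _ htop),
      fun z => ⟨0, (zeroEquiv J M z : M), ?_⟩, fun _ i => i.elim0, fun t m => by simp⟩⟩
    exact (congrArg _ (Subtype.ext rfl)).trans ((zeroEquiv J M).symm_apply_apply z)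
  | succ r ih =>
    intro a J' hJ'
    let b := a (Fin.last r)
    let a' := Fin.init a
    let J := Ideal.span (Set.range a')
    obtain rfl : J' = J ⊔ Ideal.span {b} := by
      rw [hJ', ← Ideal.span_union]
      congr 1
      ext x
      simp only [Set.mem_range, Set.mem_union, Set.mem_singleton_iff, Fin.exists_fin_succ']
      exact or_congr Iff.rfl eq_comm
    obtain ⟨Φ⟩ := ih a' J rfl
    let N := LocalizedModule (Submonoid.powers b) M
    let e : N ≃ₗ[R] N := LinearEquiv.ofBijective (b • LinearMap.id)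
      ((Module.End.isUnit_iff _).1 (IsLocalizedModule.map_units
        (LocalizedModule.mkLinearMap (Submonoid.powers b) M) ⟨b, Submonoid.mem_powers b⟩))
    let u : LocCoh.H J r N →ₗ[R] LocCoh.H J r N := Hmap J e.symm.toLinearMap r
    have hu : ∀ z, b • u z = z := fun z => by
      have h1 : Hmap J ((b • LinearMap.id : N →ₗ[R] N) ∘ₗ e.symm.toLinearMap) r z = z := by
        rw [show (b • LinearMap.id : N →ₗ[R] N) ∘ₗ e.symm.toLinearMap = LinearMap.id from
          LinearMap.ext fun m => e.apply_symm_apply m, Hmap_id]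
        rfl
      rw [Hmap_comp, LinearMap.comp_apply, Hmap_smul_id] at h1
      exact h1
    have hu' : ∀ (k : ℕ) (z), (u ^ k) (b ^ k • z) = z := fun k => by
      induction k with
      | zero => simp
      | succ k ih =>
        intro z
        rw [pow_succ u, pow_succ' b, Module.End.mul_apply, mul_smul, map_smul u, hu]
        exact ih z
    obtain ⟨E⟩ := nonempty_coker_equiv_ker (b := b) (le_sup_left : J ≤ _) rfl M r
    let L := ((localCohomology J r).map (locHom b M)).hom
    let δ : LocCoh.H J r N →ₗ[R] LocCoh.H (J ⊔ Ideal.span {b}) (r + 1) M :=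
      (LinearMap.ker _).subtype ∘ₗ E.toLinearMap ∘ₗ (LinearMap.range L).mkQ
    have hδ : Function.Surjective δ := fun w => by
      have hw : w ∈ LinearMap.ker ((Dual2.HmapOfLE (le_sup_left : J ≤ J ⊔ Ideal.span {b}) (r + 1)).app
          (ModuleCat.of R M)).hom :=
        @Subsingleton.elim _ (cdLE_span_range a' M (r + 1) r.lt_succ_self) _ _
      obtain ⟨q, hq⟩ := E.surjective ⟨w, hw⟩
      obtain ⟨z, rfl⟩ := Submodule.Quotient.mk_surjective _ q
      exact ⟨z, congrArg Subtype.val hq⟩
    have hδL : ∀ y, δ (L y) = 0 := fun y => by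
      simp only [δ, LinearMap.comp_apply]
      rw [show (LinearMap.range L).mkQ (L y) = 0 from
        (Submodule.Quotient.mk_eq_zero _).2 ⟨y, rfl⟩, map_zero, map_zero]
    have hrange : ∀ z, ∃ k : ℕ, b ^ k • z ∈ LinearMap.range L := fun z => by
      obtain ⟨n, hn⟩ := isPowerTorsion_H (J ⊔ Ideal.span {b}) (r + 1) M (δ z)
      refine ⟨n, (Submodule.Quotient.mk_eq_zero _).1 ?_⟩
      apply E.injective
      apply Subtype.ext
      rw [Submodule.Quotient.mk_smul, map_smul, map_zero]
      exact hn _ (Ideal.pow_mem_pow (Submodule.mem_sup_right (Ideal.mem_span_singleton_self b)) n)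
    refine ⟨⟨fun t => δ ∘ₗ (u ^ t) ∘ₗ L ∘ₗ Φ.cls t, fun w => ?_, fun t i m => ?_, fun t m => ?_⟩⟩
    · obtain ⟨z, rfl⟩ := hδ w
      obtain ⟨k, y, hy⟩ := hrange z
      obtain ⟨t, m, rfl⟩ := Φ.exists_eq y
      refine ⟨t + k, (∏ i, a' i) ^ k • b ^ t • m, congrArg δ ?_⟩
      change (u ^ (t + k)) (L (Φ.cls (t + k) ((∏ i, a' i) ^ k • b ^ t • m))) = z
      rw [Φ.compat_add, map_smul (Φ.cls t), map_smul L, hy, smul_smul, ← pow_add]
      exact hu' _ z
    · change δ ((u ^ t) (L (Φ.cls t (a i ^ t • m)))) = 0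
      induction i using Fin.lastCases with
      | last =>
        rw [map_smul (Φ.cls t), map_smul L, hu']
        exact hδL _
      | cast i => rw [show a i.castSucc = a' i from rfl, Φ.killed, map_zero, map_zero, map_zero]
    · change δ ((u ^ (t + 1)) (L (Φ.cls (t + 1) ((∏ i, a i) • m)))) = δ ((u ^ t) (L (Φ.cls t m)))
      rw [Fin.prod_univ_castSucc, mul_smul]
      change δ ((u ^ (t + 1)) (L (Φ.cls (t + 1) ((∏ i, a' i) • b • m)))) = _
      rw [Φ.compat, map_smul (Φ.cls t), map_smul L, pow_succ u, Module.End.mul_apply, map_smul u, hu]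

/-- If some `(∏ a)^k` lies in `(a^{k+1})` in characteristic `p`, the top local cohomology is zero. -/
theorem subsingleton_H_of_prod_pow_mem (p : ℕ) [Fact p.Prime] [CharP R p] {r : ℕ} (a : Fin r → R)
    (k : ℕ) (h : (∏ i, a i) ^ k ∈ Ideal.span (Set.range fun i => a i ^ (k + 1))) :
    Subsingleton (LocCoh.H (Ideal.span (Set.range a)) r R) := by
  obtain ⟨Φ⟩ := exists_topClasses R r a _ rfl
  refine subsingleton_of_forall_eq 0 fun z => ?_
  obtain ⟨t, m, rfl⟩ := Φ.exists_eq z
  have hp := (Fact.out : p.Prime).one_lt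
  have htq : t ≤ p ^ t := (t.lt_pow_self hp).le
  have hf : ((∏ i, a i) ^ k) ^ p ^ t ∈
      Ideal.span (Set.range fun i => a i ^ ((k + 1) * p ^ t)) := by
    have h' := Ideal.mem_map_of_mem (iterateFrobenius R p t) h
    rw [iterateFrobenius_def, Ideal.map_span, ← Set.range_comp] at h'
    simpa only [Function.comp_def, iterateFrobenius_def, ← pow_mul] using h'
  rw [← Φ.compat_add t (p ^ t - t) m, Nat.add_sub_cancel' htq,
    ← Φ.compat_add (p ^ t) (k * p ^ t), show p ^ t + k * p ^ t = (k + 1) * p ^ t by ring, pow_mul]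
  exact Φ.killed_span _ hf _

/-- Hochster's monomial conjecture in characteristic `p`. -/
theorem prod_pow_notMem_span [IsLocalRing R] (p : ℕ) [Fact p.Prime] [CharP R p] (n : ℕ)
    (hdim : ringKrullDim R = n) (a : Fin n → R)
    (hsop : (Ideal.span (Set.range a)).radical = maximalIdeal R) (k : ℕ) :
    (∏ i, a i) ^ k ∉ Ideal.span (Set.range fun i => a i ^ (k + 1)) := by
  intro h
  obtain ⟨e⟩ := nonempty_H_equiv_of_radical_eq
    (hsop.trans (maximalIdeal.isMaximal R).isPrime.radical.symm) R n
  exact not_subsingleton_iff_nontrivial.2 (nontrivial_H_ringKrullDim n hdim)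
    (e.toEquiv.subsingleton_congr.1 (subsingleton_H_of_prod_pow_mem p a k h))

end Groth.Agent.H4LC
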