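import Groth.Agent.H4LC.GenVanish
import Groth.Agent.H4LC.Annihilation
import Groth.Agent.H4LC.Depth

/-!
# The annihilator and finiteness theorems over regular rings
-/

set_option autoImplicit false
set_option linter.unusedSectionVars false

universe u

open CategoryTheory IsLocalRing

namespace Groth.Agent.H4LC

/-- `H^j` of the localisation at a prime, with support in the maximal ideal, vanishes. -/
def LocVanish {R : Type u} [CommRing R] (M : Type u) [AddCommGroup M] [Module R M]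
    (p : PrimeSpectrum R) (j : ℕ) : Prop :=
  Subsingleton (LocCoh.H (maximalIdeal (Localization.AtPrime p.asIdeal)) j
    (LocalizedModule p.asIdeal.primeCompl M))

theorem height_add_height_map_mk_le {R : Type u} [CommRing R] {p q : PrimeSpectrum R} (hpq : p ≤ q) :
    p.asIdeal.height + (q.asIdeal.map (Ideal.Quotient.mk p.asIdeal)).height ≤ q.asIdeal.height := by
  have hQ : (q.asIdeal.map (Ideal.Quotient.mk p.asIdeal)).IsPrime :=
    Ideal.isPrime_map_quotientMk_of_isPrime hpq
  rw [show (q.asIdeal.map (Ideal.Quotient.mk p.asIdeal)).height = Order.height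
    (⟨_, hQ⟩ : PrimeSpectrum (R ⧸ p.asIdeal)) from PrimeSpectrum.height_eq_orderHeight ⟨_, hQ⟩,
    Order.height_eq_iSup_last_eq, ENat.add_iSup]
  refine iSup_le fun s => ?_
  by_cases hs : s.last = ⟨_, hQ⟩
  swap
  · rw [iSup_neg hs, bot_eq_zero, add_zero]
    exact Ideal.height_mono hpq
  rw [iSup_pos hs]
  have hmono := RingHom.strictMono_comap_of_surjective (Ideal.Quotient.mk_surjective (I := p.asIdeal))
  have key : ∀ i : ℕ, ∀ hi : i < s.length + 1,
      p.asIdeal.height + (i : ℕ∞) ≤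
        (PrimeSpectrum.comap (Ideal.Quotient.mk p.asIdeal) (s ⟨i, hi⟩)).asIdeal.height := by
    intro i
    induction i with
    | zero =>
      intro hi
      rw [Nat.cast_zero, add_zero]
      refine Ideal.height_mono ?_
      conv_lhs => rw [← Ideal.mk_ker (I := p.asIdeal)]
      exact Ideal.comap_mono bot_le
    | succ i ih =>
      intro hi
      rw [Nat.cast_add, Nat.cast_one, ← add_assoc]
      rcases eq_or_ne (p.asIdeal.height + (i : ℕ∞)) ⊤ with h | h
      · have h2 := (top_le_iff.1 (h ▸ ih (by omega)))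
        rw [h, top_add, ← h2]
        exact Ideal.height_mono (hmono (s.strictMono (show (⟨i, by omega⟩ : Fin (s.length + 1)) <
          ⟨i + 1, hi⟩ by simp [Fin.lt_def]))).le
      · have hlt : (PrimeSpectrum.comap (Ideal.Quotient.mk p.asIdeal) (s ⟨i, by omega⟩)).asIdeal <
            (PrimeSpectrum.comap (Ideal.Quotient.mk p.asIdeal) (s ⟨i + 1, hi⟩)).asIdeal :=
          hmono (s.strictMono (by simp [Fin.lt_def]))
        rcases eq_or_ne ((PrimeSpectrum.comap (Ideal.Quotient.mk p.asIdeal)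
            (s ⟨i, by omega⟩)).asIdeal.height) ⊤ with h' | h'
        · exact le_top.trans (h' ▸ Ideal.height_mono hlt.le)
        have : (PrimeSpectrum.comap (Ideal.Quotient.mk p.asIdeal)
            (s ⟨i, by omega⟩)).asIdeal.FiniteHeight := ⟨Or.inr h'⟩
        exact Order.add_one_le_of_lt ((ih _).trans_lt (Ideal.height_strict_mono_of_isPrime hlt))
  refine (key s.length (by omega)).trans (le_of_eq ?_)
  congr 1
  rw [show s ⟨s.length, _⟩ = (⟨_, hQ⟩ : PrimeSpectrum (R ⧸ p.asIdeal)) from hs]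
  show Ideal.comap _ (Ideal.map _ _) = _
  rw [Ideal.comap_map_of_surjective' _ Ideal.Quotient.mk_surjective, Ideal.mk_ker,
    sup_eq_left.mpr hpq]

theorem exists_covBy_notMem {R : Type u} [CommRing R] [IsNoetherianRing R] {p q : PrimeSpectrum R}
    (hpq : p ≤ q) {b : R} (hbp : b ∉ p.asIdeal) (hbq : b ∈ q.asIdeal) :
    ∃ r, p ≤ r ∧ b ∉ r.asIdeal ∧ r ⋖ q := by
  let Rq := Localization.AtPrime q.asIdeal
  have hdisj : Disjoint (q.asIdeal.primeCompl : Set R) p.asIdeal :=
    Set.disjoint_left.2 fun z hz hzp => hz (hpq hzp)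
  have hP := IsLocalization.isPrime_of_isPrime_disjoint q.asIdeal.primeCompl Rq p.asIdeal p.2 hdisj
  have hc := IsLocalization.under_map_of_isPrime_disjoint q.asIdeal.primeCompl Rq p.2 hdisj
  obtain ⟨Q, hQ, hPQ, hbQ, hmax⟩ := exists_covered_prime_notMem
    (p := p.asIdeal.map (algebraMap R Rq)) (b := algebraMap R Rq b)
    (fun h => hbp (hc ▸ Ideal.mem_comap.2 h))
    (Localization.AtPrime.map_eq_maximalIdeal (I := q.asIdeal) ▸ Ideal.mem_map_of_mem _ hbq)
  let e := IsLocalization.AtPrime.primeSpectrumOrderIso Rq q.asIdeal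
  have hrest : (e ⟨maximalIdeal Rq, inferInstance⟩).1 = q :=
    PrimeSpectrum.ext (Localization.AtPrime.under_maximalIdeal (I := q.asIdeal))
  refine ⟨(e ⟨Q, hQ⟩).1, fun x hx => ?_, fun h => hbQ h, ?_, fun t ht1 ht2 => ?_⟩
  · exact hPQ (Ideal.mem_map_of_mem _ hx)
  · refine lt_of_le_of_ne (e ⟨Q, hQ⟩).2 fun h => hbQ ?_
    rw [← h] at hbq
    exact hbq
  · obtain ⟨⟨T, hT⟩, hTe⟩ := e.surjective ⟨t, ht2.le⟩
    have h1 : (e ⟨T, hT⟩).1 = t := congrArg Subtype.val hTe
    have hlt : (⟨Q, hQ⟩ : PrimeSpectrum Rq) < ⟨T, hT⟩ :=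
      e.lt_iff_lt.1 (show (e ⟨Q, hQ⟩).1 < (e ⟨T, hT⟩).1 by rw [h1]; exact ht1)
    have hTm : (⟨T, hT⟩ : PrimeSpectrum Rq) = ⟨maximalIdeal Rq, inferInstance⟩ :=
      PrimeSpectrum.ext (hmax T hT hlt)
    rw [hTm, hrest] at h1
    exact ht2.ne h1.symm

variable {S : Type u} [CommRing S] [IsRegularRing S] (M : Type u) [AddCommGroup M] [Module S M]
  [Module.Finite S M] (a : Ideal S) (i : ℕ)

theorem exists_not_locVanish {M : Type u} [AddCommGroup M] [Module S M] (P : DualRes S M) {c : ℕ}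
    {p : PrimeSpectrum S} (hp : p ∈ Module.support S (P.E c)) :
    ∃ j : ℕ, ((j + c : ℕ) : ℕ∞) = p.asIdeal.height ∧ ¬ LocVanish M p j := by
  by_contra h
  push Not at h
  exact (notMem_support_E_iff_H P c p).2 h hp

/-- Finiteness theorem over a regular ring. -/
theorem finite_H_of_regular
    (h : ∀ p q : PrimeSpectrum S, ¬ a ≤ p.asIdeal → a ≤ q.asIdeal → p ⋖ q →
      ∀ j, j + 1 = i → LocVanish M p j) :
    Module.Finite S (LocCoh.H a i M) := by
  obtain ⟨P, _⟩ := nonempty_dualRes (S := S) M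
  refine P.finite_H a (injectiveResolution _) i fun c => fg_map_homZ _ a (i + c) ?_
  intro p hp hap q hpq haq hq
  obtain ⟨b, hba, hbp⟩ := SetLike.not_le_iff_exists.1 hap
  obtain ⟨r, hpr, hbr, hcov⟩ := exists_covBy_notMem hpq hbp (haq hba)
  obtain ⟨j, hj, hne⟩ := exists_not_locVanish P (Module.mem_support_mono hpr hp)
  refine hne (h r q (fun har => hbr (har hba)) haq hcov j ?_)
  rw [height_eq_succ_of_covBy hcov, ← hj] at hq
  norm_cast at hq
  omega

/-- Annihilator theorem over a regular ring. -/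
theorem exists_pow_smul_H_eq_zero_of_regular (β : S) {f : ℕ} (hi : i < f)
    (h : ∀ p q : PrimeSpectrum S, β ∉ p.asIdeal → p ≤ q → a ≤ q.asIdeal → ∀ j, ¬ LocVanish M p j →
      (f : ℕ∞) ≤ (j : ℕ∞) + (q.asIdeal.map (Ideal.Quotient.mk p.asIdeal)).height) :
    ∃ K : ℕ, ∀ z : LocCoh.H a i M, β ^ K • z = 0 := by
  obtain ⟨P, _⟩ := nonempty_dualRes (S := S) M
  refine P.exists_pow_smul_H_eq_zero a (injectiveResolution _) i β fun c =>
    exists_pow_smul_mem_homB _ a (i + c) β fun p hp hβ q hpq haq hq => ?_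
  obtain ⟨j, hj, hne⟩ := exists_not_locVanish P hp
  have h1 : ((f + c : ℕ) : ℕ∞) ≤ q.asIdeal.height := by
    refine le_trans ?_ (height_add_height_map_mk_le hpq)
    rw [← hj, Nat.cast_add, Nat.cast_add, add_right_comm]
    exact add_le_add_left (h p q hβ hpq haq j hne) _
  rw [hq, Nat.cast_le] at h1
  omega

/-- In a regular ring heights add along specialisations. -/
theorem height_add_height_Ici {p q : PrimeSpectrum S} (hpq : p ≤ q) :
    p.asIdeal.height + Order.height (⟨q, hpq⟩ : Set.Ici p) = q.asIdeal.height := by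
  refine le_antisymm ?_ ?_
  · rw [Order.height_eq_iSup_last_eq, ENat.add_iSup]
    refine iSup_le fun s => ?_
    by_cases hs : s.last = ⟨q, hpq⟩
    swap
    · rw [iSup_neg hs, bot_eq_zero, add_zero]
      exact Ideal.height_mono hpq
    rw [iSup_pos hs]
    have key : ∀ n : ℕ, ∀ hn : n < s.length + 1,
        p.asIdeal.height + (n : ℕ∞) ≤ (s ⟨n, hn⟩).1.asIdeal.height := by
      intro n
      induction n with
      | zero => intro hn; rw [Nat.cast_zero, add_zero]; exact Ideal.height_mono (s ⟨0, hn⟩).2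
      | succ n ih =>
        intro hn
        rw [Nat.cast_add, Nat.cast_one, ← add_assoc]
        exact Order.add_one_le_of_lt ((ih (by omega)).trans_lt (Ideal.height_strict_mono_of_isPrime
          (show (s ⟨n, by omega⟩).1.asIdeal < (s ⟨n + 1, hn⟩).1.asIdeal from
            s.strictMono (by simp [Fin.lt_def]))))
    refine (key s.length (by omega)).trans (le_of_eq ?_)
    rw [show s ⟨s.length, _⟩ = (⟨q, hpq⟩ : Set.Ici p) from hs]
  · obtain ⟨a₀, ha₀⟩ := H05EGA4.exists_nat_height_eq p.asIdeal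
    obtain ⟨b₀, hb₀⟩ := H05EGA4.exists_nat_height_eq q.asIdeal
    have hab : a₀ ≤ b₀ := by exact_mod_cast ha₀ ▸ hb₀ ▸ Ideal.height_mono (I := p.asIdeal) hpq
    suffices key : ∀ n : ℕ, ∀ r, ∀ hpr : p ≤ r, r.asIdeal.height = ((a₀ + n : ℕ) : ℕ∞) →
        (n : ℕ∞) ≤ Order.height (⟨r, hpr⟩ : Set.Ici p) by
      obtain ⟨n, rfl⟩ := Nat.exists_eq_add_of_le hab
      rw [ha₀, hb₀, Nat.cast_add]
      exact add_le_add le_rfl (key n q hpq hb₀)
    intro n
    induction n with
    | zero => intro r hpr _; simp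
    | succ n ih =>
      intro r hpr hr
      obtain ⟨t, hpt, htr, ht⟩ := exists_between_height_eq (k := a₀ + n) hpr
        (ha₀ ▸ by exact_mod_cast Nat.le_add_right a₀ n) (hr ▸ by exact_mod_cast Nat.le_succ (a₀ + n))
      have hlt : t < r := lt_of_le_of_ne htr fun e => by
        rw [e, hr] at ht
        norm_cast at ht
        omega
      rw [Nat.cast_add, Nat.cast_one]
      exact (add_le_add_left (ih t hpt ht) 1).trans
        (Order.height_add_one_le (show (⟨t, hpt⟩ : Set.Ici p) < ⟨r, hpr⟩ from hlt))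

/-- The codimension one case of the vanishing hypothesis implies the general one. -/
theorem locVanish_of_codim_one
    (h : ∀ r q : PrimeSpectrum S, ¬ a ≤ r.asIdeal → a ≤ q.asIdeal → r ⋖ q →
      ∀ j, j + 1 = i → LocVanish M r j)
    {p q : PrimeSpectrum S} (hap : ¬ a ≤ p.asIdeal) (hpq : p ≤ q) (haq : a ≤ q.asIdeal) {c j : ℕ}
    (hc : Order.height (⟨q, hpq⟩ : Set.Ici p) = c) (hij : j + c = i) : LocVanish M p j := by
  obtain ⟨P, _⟩ := nonempty_dualRes (S := S) M
  obtain ⟨h₀, hh₀⟩ := H05EGA4.exists_nat_height_eq p.asIdeal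
  by_cases hjh : j ≤ h₀
  swap
  · refine subsingleton_H_of_supportDim_lt _ j _ ((Module.supportDim_le_ringKrullDim _ _).trans_lt ?_)
    rw [IsLocalization.AtPrime.ringKrullDim_eq_height p.asIdeal (Localization.AtPrime p.asIdeal), hh₀]
    exact_mod_cast not_le.1 hjh
  obtain ⟨cc, hcc⟩ := Nat.exists_eq_add_of_le hjh
  refine (notMem_support_E_iff_H P cc p).1 (fun hp => ?_) j (by rw [hh₀, hcc])
  obtain ⟨b, hba, hbp⟩ := SetLike.not_le_iff_exists.1 hap
  obtain ⟨r, hpr, hbr, hcov⟩ := exists_covBy_notMem hpq hbp (haq hba)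
  obtain ⟨j', hj', hne⟩ := exists_not_locVanish P (Module.mem_support_mono hpr hp)
  refine hne (h r q (fun har => hbr (har hba)) haq hcov j' ?_)
  have hq := height_add_height_Ici hpq
  rw [hc, height_eq_succ_of_covBy hcov, ← hj', hh₀] at hq
  norm_cast at hq
  omega

end Groth.Agent.H4LC
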