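import Groth.Agent.H05EGA4.Regular
import Mathlib.RingTheory.Spectrum.Prime.FreeLocus

/-!
# Finite modules over a regular ring have finite projective dimension
-/

set_option autoImplicit false

universe u

open CategoryTheory

namespace Groth.Agent.H4LC

variable {A : Type u} [CommRing A] [IsNoetherianRing A]

/-- The primes at which `M` has projective dimension `≤ n`. -/
def pdLocus (M : Type u) [AddCommGroup M] [Module A M] (n : ℕ) : Set (PrimeSpectrum A) :=
  {p | HasProjectiveDimensionLE ((ModuleCat.of A M).localizedModule p.asIdeal.primeCompl) n}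

theorem pdLocus_zero_eq (M : Type u) [AddCommGroup M] [Module A M] [Module.Finite A M] :
    pdLocus M 0 = Module.freeLocus A M := by
  ext p
  have hinst : IsLocalizedModule p.asIdeal.primeCompl
      ((ModuleCat.of A M).localizedModuleMkLinearMap p.asIdeal.primeCompl) :=
    ModuleCat.localizedModule_isLocalizedModule _ _
  rw [@Module.mem_freeLocus_of_isLocalization A M _ _ _ p (Localization.AtPrime p.asIdeal) _ _ _ _ _ _
    ((ModuleCat.of A M).localizedModuleMkLinearMap p.asIdeal.primeCompl) hinst]
  simp only [pdLocus, Set.mem_ofPred_eq, HasProjectiveDimensionLE, zero_add,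
    ← projective_iff_hasProjectiveDimensionLT_one]
  refine ⟨fun h => ?_, fun h => ?_⟩
  · have := (IsProjective.iff_projective _).2 h
    have : Module.Finite (Localization.AtPrime p.asIdeal)
        ((ModuleCat.of A M).localizedModule p.asIdeal.primeCompl) :=
      Module.Finite.of_isLocalizedModule p.asIdeal.primeCompl
        ((ModuleCat.of A M).localizedModuleMkLinearMap p.asIdeal.primeCompl)
    exact Module.free_of_flat_of_isLocalRing
  · exact (IsProjective.iff_projective _).1 (@Module.Projective.of_free _ _ _ _ _ h)

theorem isOpen_pdLocus : ∀ (n : ℕ) (M : Type u) [AddCommGroup M] [Module A M] [Module.Finite A M],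
    IsOpen (pdLocus (A := A) M n) := by
  intro n
  induction n with
  | zero =>
    intro M _ _ _
    have := Module.finitePresentation_of_finite A M
    rw [pdLocus_zero_eq]
    exact Module.isOpen_freeLocus
  | succ n ih =>
    intro M _ _ _
    obtain ⟨m, f, hf⟩ := Module.Finite.exists_fin' A M
    let T := f.shortComplexKer
    have hT := LinearMap.shortExact_shortComplexKer hf
    have hP := ModuleCat.projective_of_categoryTheory_projective T.X₂
    have : pdLocus (A := A) M (n + 1) = pdLocus (A := A) (LinearMap.ker f) n := by
      ext p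
      have hproj : Projective (T.map (ModuleCat.localizedModuleFunctor p.asIdeal.primeCompl)).X₂ :=
        (ModuleCat.localizedModuleFunctor.{u} p.asIdeal.primeCompl).projective_obj_of_projective hP
      exact ((hT.map_of_exact (ModuleCat.localizedModuleFunctor p.asIdeal.primeCompl))
        ).hasProjectiveDimensionLT_X₃_iff n hproj
    rw [this]
    exact ih _

theorem exists_projectiveDimension_bound {A : Type u} [CommRing A] [IsRegularRing A] (M : Type u)
    [AddCommGroup M] [Module A M] [Module.Finite A M] :
    ∃ d : ℕ, HasProjectiveDimensionLE (ModuleCat.of A M) d := by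
  have hcov : (⋃ n, pdLocus (A := A) M n) = Set.univ := by
    refine Set.eq_univ_of_forall fun p => Set.mem_iUnion.2 ?_
    have := isRegularRing_iff.1 (inferInstance : IsRegularRing A) p.asIdeal
    obtain ⟨d, -, hk⟩ := H05EGA4.exists_pd_residueField (Localization.AtPrime p.asIdeal)
    exact ⟨d, H05EGA4.hasProjectiveDimensionLT_of_residueField d hk _⟩
  have hmono : Monotone (pdLocus (A := A) M) := monotone_nat_of_le_succ fun n p (hp :
      HasProjectiveDimensionLE _ n) => hasProjectiveDimensionLT_of_ge _ (n + 1) (n + 1 + 1) (by omega)
  obtain ⟨d, hd⟩ := (CompactSpace.isCompact_univ (X := PrimeSpectrum A)).elim_directed_cover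
    (pdLocus M) (fun n => isOpen_pdLocus n M) hcov.ge hmono.directed_le
  exact ⟨d, (ModuleCat.hasProjectiveDimensionLE_iff_forall_maximalSpectrum d (ModuleCat.of A M)).2
    fun m => hd (Set.mem_univ (⟨m.asIdeal, m.isMaximal.isPrime⟩ : PrimeSpectrum A))⟩

end Groth.Agent.H4LC
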