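import Groth.Agent.H4LC.Transform2
import Groth.Agent.H4LC.CdAdd
import Groth.Agent.H4LC.Hiso
import Mathlib.Algebra.Homology.ShortComplex.ExactFunctor

/-!
# Exactness of the ideal transform
-/

set_option autoImplicit false
set_option linter.unusedSectionVars false

universe u

open CategoryTheory CategoryTheory.Limits Opposite

namespace Groth.Agent.H4LC

variable {R : Type u} [CommRing R] [IsNoetherianRing R] (I : Ideal R)

theorem toHOne_naturality {M N : Type u} [AddCommGroup M] [Module R M] [AddCommGroup N]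
    [Module R N] (g : M →ₗ[R] N) (z : LocCoh.DT I M) :
    toHOne I N (DTmap I g z) = Hmap I g 1 (toHOne I M z) := by
  obtain ⟨n, f, rfl⟩ := exists_rep_DT I (ModuleCat.of R M) z
  rw [toHOne_ι]
  refine (congrArg (toHOne I N) (map_ιDT I (ModuleCat.ofHom g) n f)).trans ?_
  rw [toHOne_ι]
  refine Eq.trans ?_ (map_ι (quotSys I) 1 (ModuleCat.ofHom g) n _).symm
  rw [Abelian.Ext.comp_assoc_of_third_deg_zero]
  exact congrArg _ (congrArg (fun e => (powExtClass I n).comp e (add_zero 1))
    (Abelian.Ext.mk₀_comp_mk₀ (ModuleCat.ofHom f : (idealSys I).obj (op n) ⟶ ModuleCat.of R M)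
      (ModuleCat.ofHom g)).symm)

theorem Hmap_add {M N : Type u} [AddCommGroup M] [Module R M] [AddCommGroup N] [Module R N]
    (f g : M →ₗ[R] N) (i : ℕ) (z : LocCoh.H I i M) :
    Hmap I (f + g) i z = Hmap I f i z + Hmap I g i z := by
  obtain ⟨n, x, rfl⟩ := exists_rep (quotSys I) i (ModuleCat.of R M) z
  refine (map_ι (quotSys I) i (ModuleCat.ofHom (f + g)) n x).trans ?_
  rw [show ModuleCat.ofHom (f + g) = ModuleCat.ofHom f + ModuleCat.ofHom g from rfl,
    Abelian.Ext.mk₀_add, Abelian.Ext.comp_add, map_add]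
  exact congrArg₂ (· + ·) (map_ι (quotSys I) i (ModuleCat.ofHom f) n x).symm
    (map_ι (quotSys I) i (ModuleCat.ofHom g) n x).symm

theorem exact_DTmap {L M N : Type u} [AddCommGroup L] [Module R L] [AddCommGroup M] [Module R M]
    [AddCommGroup N] [Module R N] {f : L →ₗ[R] M} {g : M →ₗ[R] N} (hf : Function.Injective f)
    (hfg : Function.Exact f g) : Function.Exact (DTmap I f) (DTmap I g) := by
  intro z
  obtain ⟨n, φ, rfl⟩ := exists_rep_DT I (ModuleCat.of R M) z
  constructor
  · intro hz
    replace hz := (map_ιDT I (ModuleCat.ofHom g) n φ).symm.trans hz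
    obtain ⟨m, hnm, hm⟩ := (ιDT_eq_zero_iff I _ _).1 hz
    have hmem : ∀ x, (φ ∘ₗ powIncl I hnm) x ∈ LinearMap.range f := fun x =>
      (hfg _).1 (LinearMap.congr_fun hm x)
    refine ⟨ιDT I (ModuleCat.of R L) m ((LinearEquiv.ofInjective f hf).symm.toLinearMap ∘ₗ
      (φ ∘ₗ powIncl I hnm).codRestrict _ hmem), (map_ιDT I (ModuleCat.ofHom f) m _).trans ?_⟩
    rw [← ιDT_restrict I (ModuleCat.of R M) hnm φ]
    exact congrArg _ (LinearMap.ext fun x => LinearEquiv.ofInjective_symm_apply (h := hf) f _)
  · rintro ⟨w, hw⟩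
    rw [← hw, ← LinearMap.comp_apply, ← DTmap_comp,
      show g ∘ₗ f = 0 from LinearMap.ext hfg.apply_apply_eq_zero]
    exact LinearMap.congr_fun (congrArg ModuleCat.Hom.hom ((LocCoh.idealTransform I).map_zero
      (ModuleCat.of R L) (ModuleCat.of R N))) w

theorem DTmap_injective_of_injective {L M : Type u} [AddCommGroup L] [Module R L] [AddCommGroup M]
    [Module R M] {f : L →ₗ[R] M} (hf : Function.Injective f) : Function.Injective (DTmap I f) :=
  DTmap_injective I f fun x hx => by
    rw [LinearMap.mem_ker] at hx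
    rw [hf (hx.trans (map_zero f).symm)]
    exact zero_mem _

/-- Surjectivity when the obstruction group vanishes. -/
theorem DTmap_surjective_of_H_two {M M' : Type u} [AddCommGroup M] [Module R M]
    [AddCommGroup M'] [Module R M'] (e : M →ₗ[R] M') (he : Function.Surjective e)
    (hker : Subsingleton (LocCoh.H I 2 (LinearMap.ker e))) :
    Function.Surjective (DTmap I e) := by
  intro z
  obtain ⟨n, f, rfl⟩ := exists_rep_DT I (ModuleCat.of R M') z
  have hS := Groth.Agent.H4Depth.shortComplexOf_shortExact (LinearMap.ker e).subtype e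
    Subtype.val_injective he (LinearMap.exact_subtype_ker_map _)
  have h0 : Subsingleton ((extColim (idealSys I) 1).obj (ModuleCat.of R (LinearMap.ker e))) := by
    exact @Function.Injective.subsingleton _ _ _
      (shift_injective I (ModuleCat.of R (LinearMap.ker e)) 1 le_rfl) hker
  let F : (idealSys I).obj (op n) ⟶ ModuleCat.of R M' := ModuleCat.ofHom f
  obtain ⟨m, hnm, hm⟩ := (ι_eq_zero_iff (idealSys I) 1 _
    ((Abelian.Ext.mk₀ F).comp hS.extClass (zero_add 1))).1 (@Subsingleton.elim _ h0 _ _)
  replace hm := (Abelian.Ext.comp_assoc (Abelian.Ext.mk₀ (tr (idealSys I) hnm))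
    (Abelian.Ext.mk₀ F) hS.extClass (zero_add 0) (zero_add 1) (by omega)).trans hm
  obtain ⟨g, hg⟩ := Abelian.Ext.covariant_sequence_exact₃ _ hS _ (zero_add 1) hm
  obtain ⟨g, rfl⟩ := (Abelian.Ext.mk₀_bijective _ _).2 g
  replace hg := (Abelian.Ext.mk₀_bijective _ _).1
    ((Abelian.Ext.mk₀_comp_mk₀ _ _).symm.trans
      (hg.trans (Abelian.Ext.mk₀_comp_mk₀ (tr (idealSys I) hnm) F)))
  refine ⟨ιDT I (ModuleCat.of R M) m g.hom, (map_ιDT I (ModuleCat.ofHom e) m _).trans ?_⟩
  rw [← ιDT_restrict I (ModuleCat.of R M') hnm f]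
  exact congrArg _ (LinearMap.ext fun x => LinearMap.congr_fun (congrArg ModuleCat.Hom.hom hg) x)

theorem exact_idealTransform_of_cdLE (h : LocCoh.CdLE R I 1) :
    PreservesFiniteLimits (LocCoh.idealTransform I) ∧
      PreservesFiniteColimits (LocCoh.idealTransform I) := by
  refine ((Functor.exact_tfae (LocCoh.idealTransform I)).out 0 3).1 fun S hS => ?_
  have hinj : Function.Injective S.f.hom := (ModuleCat.mono_iff_injective _).1 hS.mono_f
  have hsurj : Function.Surjective S.g.hom := (ModuleCat.epi_iff_surjective _).1 hS.epi_g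
  have hex : Function.Exact S.f.hom S.g.hom :=
    (ShortComplex.ShortExact.moduleCat_exact_iff_function_exact S).1 hS.exact
  have : Mono (S.map (LocCoh.idealTransform I)).f :=
    (ModuleCat.mono_iff_injective _).2 (DTmap_injective_of_injective I hinj)
  have : Epi (S.map (LocCoh.idealTransform I)).g :=
    (ModuleCat.epi_iff_surjective _).2
      (DTmap_surjective_of_H_two I S.g.hom hsurj (h _ 2 Nat.one_lt_two))
  exact ⟨(ShortComplex.ShortExact.moduleCat_exact_iff_function_exact _).2 (exact_DTmap I hinj hex)⟩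

theorem DTmap_surjective_of_exact [PreservesFiniteColimits (LocCoh.idealTransform I)]
    {M N : Type u} [AddCommGroup M] [Module R M] [AddCommGroup N] [Module R N] {g : M →ₗ[R] N}
    (hg : Function.Surjective g) : Function.Surjective (DTmap I g) := by
  have : Epi (ModuleCat.ofHom g) := (ModuleCat.epi_iff_surjective _).2 hg
  exact (ModuleCat.epi_iff_surjective ((LocCoh.idealTransform I).map (ModuleCat.ofHom g))).1
    inferInstance

theorem cdLE_one_of_exact [PreservesFiniteColimits (LocCoh.idealTransform I)] :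
    LocCoh.CdLE R I 1 := by
  suffices key : ∀ k (M : Type u) [AddCommGroup M] [Module R M],
      Subsingleton (LocCoh.H I (k + 2) M) from fun M _ _ i hi => by
    obtain ⟨k, rfl⟩ := Nat.exists_eq_add_of_le hi
    rw [add_comm]
    exact key k M
  intro k
  induction k with
  | zero =>
    intro M _ _
    let E : ModuleCat.{u} R := Injective.under (ModuleCat.of R M)
    let j : M →ₗ[R] E := (Injective.ι (ModuleCat.of R M)).hom
    have hj : Function.Injective j := (ModuleCat.mono_iff_injective _).1 inferInstance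
    have hE : Module.Injective R E :=
      (Module.injective_iff_injective_object R _).mpr (Injective.injective_under (ModuleCat.of R M))
    have hq := (LinearMap.range j).mkQ_surjective
    have hex := LinearMap.exact_map_mkQ_range j
    have h1 : Subsingleton (LocCoh.H I 1 (E ⧸ LinearMap.range j)) := by
      refine subsingleton_of_forall_eq 0 fun z => ?_
      obtain ⟨y, rfl⟩ := toHOne_surjective I _ z
      obtain ⟨w, rfl⟩ := DTmap_surjective_of_exact I hq y
      rw [toHOne_naturality, @Subsingleton.elim _ (subsingleton_H_of_injective I E one_pos)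
        (toHOne I E w) 0, map_zero]
    exact (δH_surjective I hj hq hex 1 (subsingleton_H_of_injective I E two_pos)).subsingleton
  | succ k ih =>
    intro M _ _
    let E : ModuleCat.{u} R := Injective.under (ModuleCat.of R M)
    let j : M →ₗ[R] E := (Injective.ι (ModuleCat.of R M)).hom
    have hj : Function.Injective j := (ModuleCat.mono_iff_injective _).1 inferInstance
    have hE : Module.Injective R E :=
      (Module.injective_iff_injective_object R _).mpr (Injective.injective_under (ModuleCat.of R M))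
    have := ih (E ⧸ LinearMap.range j)
    exact (δH_surjective I hj (LinearMap.range j).mkQ_surjective (LinearMap.exact_map_mkQ_range j)
      (k + 2) (subsingleton_H_of_injective I E (by omega))).subsingleton

theorem exact_iff_cdLE_one :
    (PreservesFiniteLimits (LocCoh.idealTransform I) ∧
      PreservesFiniteColimits (LocCoh.idealTransform I)) ↔ LocCoh.CdLE R I 1 :=
  ⟨fun h => by have := h.2; exact cdLE_one_of_exact I, exact_idealTransform_of_cdLE I⟩

theorem smul_top_DT_eq_top_of_exact [PreservesFiniteColimits (LocCoh.idealTransform I)] :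
    I • (⊤ : Submodule R (LocCoh.DT I R)) = ⊤ := by
  classical
  obtain ⟨k, a, ha⟩ : ∃ (k : ℕ) (a : Fin k → R), Ideal.span (Set.range a) = I := by
    obtain ⟨k, a, ha⟩ := Submodule.fg_iff_exists_fin_generating_family.1 (IsNoetherian.noetherian I)
    exact ⟨k, a, ha⟩
  have hamem : ∀ j, a j ∈ I := fun j => ha ▸ Ideal.subset_span ⟨j, rfl⟩
  let g : (Fin k → R) →ₗ[R] I :=
    (Fintype.linearCombination R a).codRestrict I fun c => by
      rw [Fintype.linearCombination_apply]
      exact sum_mem fun j _ => I.mul_mem_left _ (hamem j)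
  have hg : Function.Surjective g := fun x => by
    have hx : (x : R) ∈ Submodule.span R (Set.range a) := by
      rw [← Ideal.span, ha]; exact x.2
    obtain ⟨c, hc⟩ := (Submodule.mem_span_range_iff_exists_fun R).1 hx
    exact ⟨c, Subtype.ext ((Fintype.linearCombination_apply R a c).trans hc)⟩
  have htor : LocCoh.IsPowerTorsion I (R ⧸ LinearMap.range (Submodule.subtype I)) := fun x =>
    ⟨1, fun b hb => by
      obtain ⟨r, rfl⟩ := Submodule.Quotient.mk_surjective _ x
      rw [← Submodule.Quotient.mk_smul, Submodule.Quotient.mk_eq_zero, Submodule.range_subtype]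
      rw [pow_one] at hb
      exact Ideal.mul_mem_right _ _ hb⟩
  have hbij := DTmap_bijective I (Submodule.subtype I) (by rw [Submodule.ker_subtype]; exact bot_le)
    htor
  refine eq_top_iff.2 fun y _ => ?_
  obtain ⟨w, rfl⟩ := hbij.2 y
  obtain ⟨z, rfl⟩ := DTmap_surjective_of_exact I hg w
  rw [← LinearMap.comp_apply, ← DTmap_comp]
  have hcomp : (Submodule.subtype I) ∘ₗ g = Fintype.linearCombination R a :=
    LinearMap.subtype_comp_codRestrict _ _ _
  rw [hcomp, show Fintype.linearCombination R a =
      ∑ j, a j • (LinearMap.proj j : (Fin k → R) →ₗ[R] R) from LinearMap.ext fun c => by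
    simp [Fintype.linearCombination_apply, LinearMap.sum_apply, mul_comm]]
  have hsum : ∀ s : Finset (Fin k), DTmap I (∑ j ∈ s, a j • (LinearMap.proj j :
      (Fin k → R) →ₗ[R] R)) z ∈ I • (⊤ : Submodule R (LocCoh.DT I R)) := by
    intro s
    obtain ⟨n, φ, rfl⟩ := exists_rep_DT I (ModuleCat.of R (Fin k → R)) z
    induction s using Finset.induction with
    | empty =>
      rw [Finset.sum_empty, DTmap, show ModuleCat.ofHom (0 : (Fin k → R) →ₗ[R] R) = 0 from rfl,
        Functor.map_zero]
      exact zero_mem _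
    | insert j s hj ih =>
      rw [Finset.sum_insert hj]
      have := congrArg (fun φ => ModuleCat.Hom.hom φ) ((LocCoh.idealTransform I).map_add
        (f := ModuleCat.ofHom (a j • (LinearMap.proj j : (Fin k → R) →ₗ[R] R)))
        (g := ModuleCat.ofHom (∑ i ∈ s, a i • (LinearMap.proj i : (Fin k → R) →ₗ[R] R))))
      refine (congrArg (fun ψ => ψ (ιDT I (ModuleCat.of R (Fin k → R)) n φ)) this).symm ▸
        add_mem ?_ ih
      refine (map_ιDT I _ n φ).symm ▸ ?_
      change ιDT I (ModuleCat.of R R) n (a j • ((LinearMap.proj j) ∘ₗ φ)) ∈ _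
      rw [map_smul]
      exact Submodule.smul_mem_smul (hamem j) Submodule.mem_top
  exact hsum Finset.univ

theorem cdLE_one_of_smul_top (h : I • (⊤ : Submodule R (LocCoh.DT I R)) = ⊤) :
    LocCoh.CdLE R I 1 := by
  refine cdLE_of_subsingleton_self I 1 fun i hi => ?_
  have hbij := Hmap_bijective I (LocCoh.toDT I R) (ker_toDT I R).le
    (isPowerTorsion_coker_toDT I R) hi
  suffices Subsingleton (LocCoh.H I i (LocCoh.DT I R)) from hbij.1.subsingleton
  -- `id` is an `I`-combination of endomorphisms
  obtain ⟨e₁, he₁, -⟩ := existsUnique_factor I R (LocCoh.toDT I R) (ker_toDT I R).le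
    (isPowerTorsion_coker_toDT I R) (LinearMap.id : R →ₗ[R] R)
  have hext : ∀ φ ψ : LocCoh.DT I R →ₗ[R] LocCoh.DT I R,
      φ (LocCoh.toDT I R 1) = ψ (LocCoh.toDT I R 1) → φ = ψ := fun φ ψ hφψ =>
    eq_of_comp_eq I R (isPowerTorsion_coker_toDT I R) (torsionSub_DT_eq_bot I R)
      (LinearMap.ext_ring hφψ)
  have hsurj : ∀ y, ∃ φ : LocCoh.DT I R →ₗ[R] LocCoh.DT I R, φ (LocCoh.toDT I R 1) = y := by
    intro y
    let E := LinearEquiv.ofBijective _ (bijective_toDT_DT I R)
    obtain ⟨φ, hφ, -⟩ := existsUnique_factor I R (LocCoh.toDT I R) (ker_toDT I R).le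
      (isPowerTorsion_coker_toDT I R) (LinearMap.toSpanSingleton R (LocCoh.DT I R) y)
    refine ⟨E.symm.toLinearMap ∘ₗ φ, ?_⟩
    change E.symm (φ (LocCoh.toDT I R 1)) = y
    rw [show φ (LocCoh.toDT I R 1) = LocCoh.toDT I (LocCoh.DT I R) y from
      (LinearMap.congr_fun hφ 1).trans (by simp)]
    exact E.symm_apply_apply y
  refine subsingleton_of_forall_eq 0 fun z => ?_
  obtain ⟨n, hn⟩ := isPowerTorsion_H I i (LocCoh.DT I R) z
  clear hbij
  induction n generalizing z with
  | zero =>
    have h1 := hn 1 (by rw [pow_zero, Ideal.one_eq_top]; exact Submodule.mem_top)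
    rwa [one_smul] at h1
  | succ n ih =>
    have key : ∀ y ∈ I • (⊤ : Submodule R (LocCoh.DT I R)),
        ∀ φ : LocCoh.DT I R →ₗ[R] LocCoh.DT I R, φ (LocCoh.toDT I R 1) = y →
          Hmap I φ i z = 0 := by
      intro y hy
      refine Submodule.smul_induction_on hy (fun b hb w _ => ?_) (fun u v hu hv => ?_)
      · intro φ hφ
        obtain ⟨ψ, hψ⟩ := hsurj w
        rw [hext φ ((b • LinearMap.id : LocCoh.DT I R →ₗ[R] LocCoh.DT I R) ∘ₗ ψ)
          (by rw [hφ, LinearMap.comp_apply, hψ]; rfl), Hmap_comp, LinearMap.comp_apply,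
          Hmap_smul_id, ← map_smul]
        refine (congrArg _ (ih (b • z) fun a ha => ?_)).trans (map_zero _)
        rw [smul_smul]
        exact hn _ (by rw [pow_succ]; exact Ideal.mul_mem_mul ha hb)
      · intro φ hφ
        obtain ⟨φu, hφu⟩ := hsurj u
        obtain ⟨φv, hφv⟩ := hsurj v
        rw [hext φ (φu + φv) (by rw [hφ, LinearMap.add_apply, hφu, hφv])]
        rw [Hmap_add, hu φu hφu, hv φv hφv, add_zero]
    have := key (LocCoh.toDT I R 1) (by rw [h]; exact Submodule.mem_top) LinearMap.id rfl
    rwa [Hmap_id] at this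

end Groth.Agent.H4LC
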