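import Groth.Agent.H4LC.DualRes
import Groth.Agent.H4LC.TransformExact
import Groth.Agent.H4LC.Hiso
import Groth.Agent.H4Goren.Hull

/-!
# Local duality over a Gorenstein local ring, in terms of dual resolutions
-/

set_option autoImplicit false
set_option linter.unusedSectionVars false

universe u

open IsLocalRing

namespace Groth.Agent.H4LC

section General

variable {R : Type u} [CommRing R] [IsNoetherianRing R] (I : Ideal R)

theorem Hmap_smul {M N : Type u} [AddCommGroup M] [Module R M] [AddCommGroup N] [Module R N]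
    (f : M →ₗ[R] N) (r : R) (i : ℕ) (z : LocCoh.H I i M) :
    Hmap I (r • f) i z = r • Hmap I f i z := by
  rw [show r • f = f ∘ₗ (r • LinearMap.id) from LinearMap.ext fun x => (map_smul f r x).symm,
    Hmap_comp, LinearMap.comp_apply, Hmap_smul_id, map_smul]

/-- The functorial map, linear in the linear map. -/
noncomputable def HmapHom (M N : Type u) [AddCommGroup M] [Module R M] [AddCommGroup N]
    [Module R N] (i : ℕ) : (M →ₗ[R] N) →ₗ[R] LocCoh.H I i M →ₗ[R] LocCoh.H I i N where
  toFun f := Hmap I f i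
  map_add' f g := LinearMap.ext (Hmap_add I f g i)
  map_smul' r f := LinearMap.ext (Hmap_smul I f r i)

theorem exists_dual_basis (D : Type u) [AddCommGroup D] [Module R D] [Module.Finite R D]
    [Module.Projective R D] : ∃ (n : ℕ) (x : Fin n → D) (φ : Fin n → D →ₗ[R] R),
      ∀ y : D, ∑ i, φ i y • x i = y := by
  obtain ⟨n, f, hf⟩ := Module.Finite.exists_fin' R D
  obtain ⟨g, hg⟩ := Module.projective_lifting_property f LinearMap.id hf
  refine ⟨n, fun i => f (Pi.single i 1), fun i => LinearMap.proj i ∘ₗ g, fun y => ?_⟩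
  refine Eq.trans ?_ (LinearMap.congr_fun hg y)
  rw [LinearMap.comp_apply]
  conv_rhs => rw [pi_eq_sum_univ' (g y), map_sum]
  simp

variable (D : Type u) [AddCommGroup D] [Module R D]

/-- `H^h(D^*) → Hom(D, H^h(R))`. -/
noncomputable def θdual (h : ℕ) :
    LocCoh.H I h (Module.Dual R D) →ₗ[R] D →ₗ[R] LocCoh.H I h R :=
  ((HmapHom I (Module.Dual R D) R h).comp (Module.Dual.eval R D)).flip

theorem θdual_apply (h : ℕ) (z : LocCoh.H I h (Module.Dual R D)) (x : D) :
    θdual I D h z x = Hmap I (Module.Dual.eval R D x) h z := rfl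

theorem θdual_natural {D' : Type u} [AddCommGroup D'] [Module R D'] (d : D →ₗ[R] D') (h : ℕ)
    (z : LocCoh.H I h (Module.Dual R D')) :
    θdual I D h (Hmap I d.dualMap h z) = θdual I D' h z ∘ₗ d := by
  refine LinearMap.ext fun x => ?_
  rw [θdual_apply, LinearMap.comp_apply, θdual_apply, ← LinearMap.comp_apply, ← Hmap_comp]
  rfl

variable [Module.Finite R D] [Module.Projective R D]

theorem eq_sum_Hmap (h : ℕ) {n : ℕ} {x : Fin n → D} {φ : Fin n → D →ₗ[R] R}
    (hb : ∀ y, ∑ i, φ i y • x i = y) (z : LocCoh.H I h (Module.Dual R D)) :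
    ∑ i, Hmap I (LinearMap.toSpanSingleton R _ (φ i)) h
      (Hmap I (Module.Dual.eval R D (x i)) h z) = z := by
  have hid : (LinearMap.id : Module.Dual R D →ₗ[R] Module.Dual R D) =
      ∑ i, LinearMap.toSpanSingleton R _ (φ i) ∘ₗ Module.Dual.eval R D (x i) := by
    refine LinearMap.ext fun f => LinearMap.ext fun y => ?_
    conv_lhs => rw [LinearMap.id_apply, ← hb y, map_sum]
    simp [mul_comm]
  conv_rhs => rw [← LinearMap.id_apply (R := R) z, ← Hmap_id I h,
    show Hmap I LinearMap.id h = HmapHom I _ _ h LinearMap.id from rfl, hid, map_sum,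
    LinearMap.sum_apply]
  exact Finset.sum_congr rfl fun i _ =>
    (LinearMap.congr_fun (Hmap_comp I (Module.Dual.eval R D (x i))
      (LinearMap.toSpanSingleton R _ (φ i)) h) z).symm

theorem subsingleton_H_dual (j : ℕ) (hj : Subsingleton (LocCoh.H I j R)) :
    Subsingleton (LocCoh.H I j (Module.Dual R D)) := by
  obtain ⟨n, x, φ, hb⟩ := exists_dual_basis (R := R) D
  refine subsingleton_of_forall_eq 0 fun z => ?_
  rw [← eq_sum_Hmap I D j hb z]
  exact Finset.sum_eq_zero fun i _ => by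
    rw [@Subsingleton.elim _ hj (Hmap I (Module.Dual.eval R D (x i)) j z) 0, map_zero]

theorem θdual_bijective (h : ℕ) : Function.Bijective (θdual I D h) := by
  obtain ⟨n, x, φ, hb⟩ := exists_dual_basis (R := R) D
  constructor
  · rw [injective_iff_map_eq_zero]
    intro z hz
    rw [← eq_sum_Hmap I D h hb z]
    refine Finset.sum_eq_zero fun i _ => ?_
    rw [← θdual_apply, hz, LinearMap.zero_apply, map_zero]
  · intro ψ
    refine ⟨∑ i, Hmap I (LinearMap.toSpanSingleton R _ (φ i)) h (ψ (x i)),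
      LinearMap.ext fun y => ?_⟩
    rw [map_sum, LinearMap.sum_apply]
    conv_rhs => rw [← hb y, map_sum]
    refine Finset.sum_congr rfl fun i _ => ?_
    rw [θdual_apply, ← LinearMap.comp_apply, ← Hmap_comp, map_smul ψ]
    rw [show Module.Dual.eval R D y ∘ₗ LinearMap.toSpanSingleton R _ (φ i) =
      φ i y • LinearMap.id from LinearMap.ext_ring (by simp), Hmap_smul_id]

end General

variable {A : Type u} [CommRing A] [LocCoh.IsGorensteinLocalRing A] {h : ℕ}
  (hA : ringKrullDim A = h)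

local notation "𝔪" => maximalIdeal A

include hA in
theorem subsingleton_H_above (X : Type u) [AddCommGroup X] [Module A X] :
    Subsingleton (LocCoh.H 𝔪 (h + 1) X) :=
  subsingleton_H_of_supportDim_lt _ _ X
    (((Module.supportDim_le_ringKrullDim A X).trans hA.le).trans_lt (by exact_mod_cast h.lt_succ_self))

include hA in
theorem eq_zero_of_forall_hom {X : Type u} [AddCommGroup X] [Module A X] (x : X)
    (hx : ∀ ψ : X →ₗ[A] LocCoh.H 𝔪 h A, ψ x = 0) : x = 0 := by
  by_contra hne
  obtain ⟨g, hg⟩ := H4Goren.exists_isInjectiveHull_H_top A h hA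
  have hle : LinearMap.ker (LinearMap.toSpanSingleton A X x) ≤ 𝔪 := by
    refine le_maximalIdeal fun htop => hne ?_
    simpa using LinearMap.mem_ker.1 (htop.ge (Submodule.mem_top (x := (1 : A))))
  let μ := LinearMap.toSpanSingleton A X x
  let q : (A ⧸ LinearMap.ker μ) →ₗ[A] LocCoh.H 𝔪 h A :=
    g ∘ₗ Submodule.liftQ _ (Algebra.linearMap A (ResidueField A)) (hle.trans fun a ha =>
      (residue_eq_zero_iff a).2 ha)
  obtain ⟨ψ, hψ⟩ := Module.Injective.extension_property (inj := H4Goren.injective_H_top A h hA)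
    A _ (A ⧸ LinearMap.ker μ) X ((LinearMap.ker μ).liftQ μ le_rfl)
    (LinearMap.ker_eq_bot.1 (Submodule.ker_liftQ_eq_bot _ _ _ le_rfl)) q
  have h1 := LinearMap.congr_fun hψ (Submodule.Quotient.mk 1)
  simp only [LinearMap.comp_apply, Submodule.liftQ_apply, μ, LinearMap.toSpanSingleton_apply,
    one_smul, hx] at h1
  have h2 : g 1 = 0 := by
    refine Eq.trans ?_ h1.symm
    simp only [q, LinearMap.comp_apply, Submodule.liftQ_apply]
    exact congrArg g (map_one (algebraMap A (ResidueField A))).symm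
  exact one_ne_zero (hg.injective (h2.trans (map_zero g).symm))

namespace DualRes

variable {M : Type u} [AddCommGroup M] [Module A M] (P : DualRes A M)

theorem exact_ε : Function.Exact (LinearMap.ker P.ε).subtype P.ε :=
  LinearMap.exact_subtype_ker_map P.ε

include hA in
theorem surjective_H_ε : Function.Surjective (Hmap 𝔪 P.ε h) := fun z =>
  ((exactH₃ 𝔪 (Submodule.injective_subtype _) P.ε_surjective P.exact_ε h z).1
    (@Subsingleton.elim _ (subsingleton_H_above hA _) _ _))

include hA in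
theorem exact_H_ε : Function.Exact (Hmap 𝔪 (P.d 0).dualMap h) (Hmap 𝔪 P.ε h) := by
  intro z
  constructor
  · intro hz
    obtain ⟨w, rfl⟩ :=
      (exactH₂ 𝔪 (Submodule.injective_subtype _) P.ε_surjective P.exact_ε h z).1 hz
    obtain ⟨v, rfl⟩ := P.shift.surjective_H_ε hA w
    exact ⟨v, by rw [← LinearMap.comp_apply, ← Hmap_comp]; rfl⟩
  · rintro ⟨v, rfl⟩
    rw [← LinearMap.comp_apply, ← Hmap_comp,
      show P.ε ∘ₗ (P.d 0).dualMap = (0 : A) • (0 : _ →ₗ[A] M) from
        LinearMap.ext fun g => ((P.ε_ker _).2 ⟨g, rfl⟩).trans (smul_zero _).symm,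
      Hmap_smul, zero_smul]

include hA in
theorem subsingleton_H_term (c : ℕ) {j : ℕ} (hj : j ≠ h) :
    Subsingleton (LocCoh.H 𝔪 j (P.D c →ₗ[A] A)) :=
  subsingleton_H_dual 𝔪 (P.D c) j (H4Goren.subsingleton_H_of_ne A hA hj)

include hA in
theorem exists_hom_comp_iff (c : ℕ) :
    (∀ ψ : P.D c →ₗ[A] LocCoh.H 𝔪 h A, (∀ z ∈ P.Bd c, ψ z = 0) →
      ∃ ψ' : P.D (c + 1) →ₗ[A] LocCoh.H 𝔪 h A, ψ' ∘ₗ P.d c = ψ) ↔ Subsingleton (P.E c) := by
  rw [subsingleton_E_iff]
  constructor
  · intro H z hz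
    rw [← Submodule.Quotient.mk_eq_zero (P.Bd c)]
    refine eq_zero_of_forall_hom hA _ fun ψ => ?_
    obtain ⟨ψ', hψ'⟩ := H (ψ ∘ₗ (P.Bd c).mkQ) fun w hw => by
      rw [LinearMap.comp_apply, Submodule.mkQ_apply, (Submodule.Quotient.mk_eq_zero _).2 hw, map_zero]
    have := LinearMap.congr_fun hψ' z
    rw [LinearMap.comp_apply, LinearMap.mem_ker.1 hz, map_zero] at this
    exact this.symm
  · intro H ψ hψ
    obtain ⟨ψ', hψ'⟩ := Module.Injective.extension_property (inj := H4Goren.injective_H_top A h hA)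
      A _ (P.D c ⧸ LinearMap.ker (P.d c)) (P.D (c + 1)) ((LinearMap.ker (P.d c)).liftQ (P.d c) le_rfl)
      (LinearMap.ker_eq_bot.1 (Submodule.ker_liftQ_eq_bot _ _ _ le_rfl))
      ((LinearMap.ker (P.d c)).liftQ ψ fun z hz => hψ z (H hz))
    exact ⟨ψ', LinearMap.ext fun x => LinearMap.congr_fun hψ' (Submodule.Quotient.mk x)⟩

include hA in
theorem subsingleton_H_top_iff : Subsingleton (LocCoh.H 𝔪 h M) ↔ Subsingleton (P.E 0) := by
  rw [← P.exists_hom_comp_iff hA 0]
  constructor
  · intro hs ψ _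
    obtain ⟨z, rfl⟩ := (θdual_bijective 𝔪 (P.D 0) h).2 ψ
    obtain ⟨w, rfl⟩ := (P.exact_H_ε hA z).1 (Subsingleton.elim _ _)
    exact ⟨θdual 𝔪 (P.D 1) h w, (θdual_natural 𝔪 (P.D 0) (P.d 0) h w).symm⟩
  · intro H
    refine subsingleton_of_forall_eq 0 fun y => ?_
    obtain ⟨z, rfl⟩ := P.surjective_H_ε hA y
    obtain ⟨ψ, hψ⟩ := H (θdual 𝔪 (P.D 0) h z) fun w hw => by
      rw [(Submodule.mem_bot _).1 hw, map_zero]
    obtain ⟨w, rfl⟩ := (θdual_bijective 𝔪 (P.D 1) h).2 ψ
    rw [← θdual_natural] at hψ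
    exact (P.exact_H_ε hA z).2 ⟨w, (θdual_bijective 𝔪 (P.D 0) h).1 hψ⟩

include hA in
theorem injective_H_subtype_iff :
    Function.Injective (Hmap 𝔪 (M := LinearMap.ker P.ε) (N := P.D 0 →ₗ[A] A)
      (LinearMap.ker P.ε).subtype h) ↔ Subsingleton (P.E 1) := by
  rw [← P.exists_hom_comp_iff hA 1]
  have hcomp : ∀ w, Hmap 𝔪 (M := LinearMap.ker P.ε) (N := P.D 0 →ₗ[A] A)
      (LinearMap.ker P.ε).subtype h (Hmap 𝔪 P.shift.ε h w) =
      Hmap 𝔪 (P.d 0).dualMap h w := fun w => by
    rw [← LinearMap.comp_apply, ← Hmap_comp]; rfl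
  constructor
  · intro hinj ψ hψ
    obtain ⟨z, rfl⟩ := (θdual_bijective 𝔪 (P.D 1) h).2 ψ
    have h0 : Hmap 𝔪 (P.d 0).dualMap h z = 0 := by
      refine (θdual_bijective 𝔪 (P.D 0) h).1 ?_
      rw [θdual_natural, map_zero]
      exact LinearMap.ext fun x => hψ _ ⟨x, rfl⟩
    rw [← hcomp] at h0
    obtain ⟨w, hw⟩ := (P.shift.exact_H_ε hA z).1 (hinj (h0.trans (map_zero _).symm))
    refine ⟨θdual 𝔪 (P.D 2) h w, ?_⟩
    rw [← θdual_natural]
    exact congrArg (θdual 𝔪 (P.D 1) h) hw
  · intro H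
    rw [injective_iff_map_eq_zero]
    intro y hy
    obtain ⟨z, rfl⟩ := P.shift.surjective_H_ε hA y
    rw [hcomp] at hy
    obtain ⟨ψ, hψ⟩ := H (θdual 𝔪 (P.D 1) h z) fun w hw => by
      obtain ⟨x, rfl⟩ := hw
      rw [← LinearMap.comp_apply, ← θdual_natural, hy, map_zero, LinearMap.zero_apply]
    obtain ⟨w, rfl⟩ := (θdual_bijective 𝔪 (P.D 2) h).2 ψ
    rw [← θdual_natural] at hψ
    exact (P.shift.exact_H_ε hA z).2 ⟨w, (θdual_bijective 𝔪 (P.D 1) h).1 hψ⟩

include hA in
theorem subsingleton_E_iff_H : ∀ (c : ℕ) {M : Type u} [AddCommGroup M] [Module A M]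
    (P : DualRes A M),
    Subsingleton (P.E c) ↔ ∀ j, j + c = h → Subsingleton (LocCoh.H 𝔪 j M) := by
  intro c
  induction c with
  | zero =>
    intro M _ _ P
    rw [← P.subsingleton_H_top_iff hA]
    exact ⟨fun hs j hj => (show j = h from hj) ▸ hs, fun hs => hs h rfl⟩
  | succ c ih =>
    intro M _ _ P
    rcases c with _ | c
    · rw [← P.injective_H_subtype_iff hA]
      constructor
      · intro hinj j hj
        subst hj
        refine subsingleton_of_forall_eq 0 fun y => ?_
        have h2 : δH 𝔪 (Submodule.injective_subtype _) P.ε_surjective P.exact_ε j y = 0 :=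
          hinj ((exactH₁ 𝔪 (Submodule.injective_subtype _) P.ε_surjective P.exact_ε j).apply_apply_eq_zero y
            |>.trans (map_zero _).symm)
        exact δH_injective 𝔪 (Submodule.injective_subtype _) P.ε_surjective P.exact_ε j
          (P.subsingleton_H_term hA 0 (by omega)) (h2.trans (map_zero _).symm)
      · intro hs
        rcases h with _ | j
        · exact Hmap_zero_injective 𝔪 (Submodule.injective_subtype _) P.ε_surjective P.exact_ε
        rw [injective_iff_map_eq_zero]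
        intro y hy
        obtain ⟨w, rfl⟩ :=
          (exactH₁ 𝔪 (Submodule.injective_subtype _) P.ε_surjective P.exact_ε j y).1 hy
        rw [@Subsingleton.elim _ (hs j rfl) w 0, map_zero]
    · rw [← P.subsingleton_shift_E_iff, ih P.shift]
      constructor
      · intro hK j hj
        exact subsingleton_H_right 𝔪 (Submodule.injective_subtype _) P.ε_surjective P.exact_ε j
          (P.subsingleton_H_term hA 0 (by omega)) (hK (j + 1) (by omega))
      · intro hM j hj
        rcases j with _ | j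
        · exact @Function.Injective.subsingleton _ _ _
            (Hmap_zero_injective 𝔪 (Submodule.injective_subtype _) P.ε_surjective P.exact_ε)
            (P.subsingleton_H_term hA 0 (by omega))
        · exact subsingleton_H_left 𝔪 (Submodule.injective_subtype _) P.ε_surjective P.exact_ε j
            (hM j (by omega)) (P.subsingleton_H_term hA 0 (by omega))

include hA in
theorem mem_Bd_of_forall_hom (c : ℕ) {z : P.D c}
    (hz : ∀ ψ : P.D c →ₗ[A] LocCoh.H 𝔪 h A, (∀ w ∈ P.Bd c, ψ w = 0) → ψ z = 0) : z ∈ P.Bd c := by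
  rw [← Submodule.Quotient.mk_eq_zero (P.Bd c)]
  refine eq_zero_of_forall_hom hA _ fun ψ => hz (ψ ∘ₗ (P.Bd c).mkQ) fun w hw => ?_
  rw [LinearMap.comp_apply, Submodule.mkQ_apply, (Submodule.Quotient.mk_eq_zero _).2 hw, map_zero]

include hA in
/-- An element killing `H^j` kills the dual cohomology module. -/
theorem smul_mem_Bd_of_smul_H : ∀ (c : ℕ) {M : Type u} [AddCommGroup M] [Module A M]
    (P : DualRes A M) (r : A) (j : ℕ), j + c = h → (∀ y : LocCoh.H 𝔪 j M, r • y = 0) →
      ∀ z ∈ LinearMap.ker (P.d c), r • z ∈ P.Bd c := by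
  intro c
  induction c with
  | zero =>
    intro M _ _ P r j hj hr z hz
    obtain rfl : j = h := hj
    refine P.mem_Bd_of_forall_hom hA 0 fun ψ _ => ?_
    obtain ⟨w, rfl⟩ := (θdual_bijective 𝔪 (P.D 0) j).2 ψ
    obtain ⟨v, hv⟩ := (P.exact_H_ε hA (r • w)).1 (by rw [map_smul, hr])
    rw [map_smul, ← LinearMap.smul_apply, ← map_smul, ← hv, θdual_natural, LinearMap.comp_apply,
      LinearMap.mem_ker.1 hz, map_zero]
  | succ c ih =>
    intro M _ _ P r j hj hr z hz
    rcases c with _ | c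
    · subst hj
      refine P.mem_Bd_of_forall_hom hA 1 fun ψ hψ => ?_
      obtain ⟨w, rfl⟩ := (θdual_bijective 𝔪 (P.D 1) (j + 1)).2 ψ
      have h0 : Hmap 𝔪 (P.d 0).dualMap (j + 1) w = 0 := by
        refine (θdual_bijective 𝔪 (P.D 0) (j + 1)).1 ?_
        rw [θdual_natural, map_zero]
        exact LinearMap.ext fun x => hψ _ ⟨x, rfl⟩
      have h1 : Hmap 𝔪 (M := LinearMap.ker P.ε) (N := P.D 0 →ₗ[A] A) (LinearMap.ker P.ε).subtype
          (j + 1) (Hmap 𝔪 P.shift.ε (j + 1) w) = 0 := by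
        rw [← LinearMap.comp_apply, ← Hmap_comp]
        exact h0
      obtain ⟨y, hy⟩ :=
        (exactH₁ 𝔪 (Submodule.injective_subtype _) P.ε_surjective P.exact_ε j _).1 h1
      obtain ⟨v, hv⟩ := (P.shift.exact_H_ε hA (r • w)).1 (by
        refine Eq.trans (map_smul _ r w) ?_
        refine Eq.trans (congrArg (r • ·) hy.symm) ?_
        exact (map_smul _ r y).symm.trans ((congrArg _ (hr y)).trans (map_zero _)))
      rw [map_smul, ← LinearMap.smul_apply, ← map_smul, ← hv]
      refine (LinearMap.congr_fun (θdual_natural 𝔪 (P.D 1) (P.d 1) (j + 1) v) z).trans ?_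
      rw [LinearMap.comp_apply, LinearMap.mem_ker.1 hz, map_zero]
    · refine ih P.shift r (j + 1) (by omega) (fun y => ?_) z hz
      obtain ⟨x, rfl⟩ := δH_surjective 𝔪 (Submodule.injective_subtype _) P.ε_surjective P.exact_ε j
        (P.subsingleton_H_term hA 0 (by omega)) y
      exact (map_smul _ r x).symm.trans ((congrArg _ (hr x)).trans (map_zero _))

end DualRes

end Groth.Agent.H4LC
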