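import Groth.Agent.H4DR.HT.FaltingsModule
import Groth.Agent.H4DR.HT.Local
import Groth.Agent.H4LC.CompletionTransfer
import Groth.Agent.H4LC.FaltingsApps
import Groth.Agent.S0376
import Groth.Agent.S0330
import Groth.Agent.H05EGA4.Regular2
import Mathlib.RingTheory.Finiteness.Descent

/-!
# Finiteness of `H^1_I`
-/

set_option autoImplicit false
set_option linter.style.haveILetI false
set_option linter.unusedVariables false

universe u

open CategoryTheory TensorProduct IsLocalRing
open Groth.Agent.H4DR

attribute [local instance] HasDerivedCategory.standard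

namespace Groth.Agent.H4LC

theorem comap_maximalIdeal_loc {R : Type u} [CommRing R] (p : Ideal R) [p.IsPrime] :
    (maximalIdeal (Localization.AtPrime p)).comap (algebraMap R (Localization.AtPrime p)) = p :=
  Localization.AtPrime.under_maximalIdeal

section Dualizing

variable {D : Type u} [CommRing D] [IsNoetherianRing D] (hD : ∃ ω : Dual.D D, Dual.IsDualizing D ω)
  (I : Ideal D) (M : Type u) [AddCommGroup M] [Module D M] [Module.Finite D M]

theorem finite_H_zero {R : Type u} [CommRing R] [IsNoetherianRing R] (J : Ideal R) (N : Type u) [AddCommGroup N]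
    [Module R N] [Module.Finite R N] : Module.Finite R (LocCoh.H J 0 N) :=
  Module.Finite.equiv (zeroEquiv J N).symm

/-- The localisation at an associated prime has depth zero. -/
theorem depth_eq_zero_of_associated {p : PrimeSpectrum D} (hp : p.asIdeal ∈ associatedPrimes D M) :
    LocCoh.depth (Localization.AtPrime p.asIdeal) (LocalizedModule p.asIdeal.primeCompl M) = 0 := by
  let L := Localization.AtPrime p.asIdeal
  have hm : maximalIdeal L ∈ associatedPrimes L (LocalizedModule p.asIdeal.primeCompl M) :=
    Module.associatedPrimes.mem_associatedPrimes_of_comap_mem_associatedPrimes_of_isLocalizedModule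
      p.asIdeal.primeCompl (LocalizedModule.mkLinearMap p.asIdeal.primeCompl M) (maximalIdeal L)
      (by rwa [comap_maximalIdeal_loc p.asIdeal])
  haveI : Nontrivial (LocalizedModule p.asIdeal.primeCompl M) := by
    by_contra h
    rw [not_nontrivial_iff_subsingleton] at h
    obtain ⟨hP, x, hx⟩ := isAssociatedPrime_iff.1 hm
    exact hP.ne_top (by rw [hx, Subsingleton.elim x 0, Submodule.colon_eq_top_iff_subset]; simp)
  exact (H4Depth.idealDepth_eq_zero_iff_exists_associatedPrime
    (H4Depth.maximalIdeal_smul_top_ne_top (R := L) (M := LocalizedModule p.asIdeal.primeCompl M))).2 ⟨_, hm, le_rfl⟩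

/-- Outside the associated primes the depth is positive. -/
theorem one_le_depth_of_not_associated {p : PrimeSpectrum D} (hp : p.asIdeal ∉ associatedPrimes D M) :
    1 ≤ LocCoh.depth (Localization.AtPrime p.asIdeal) (LocalizedModule p.asIdeal.primeCompl M) := by
  let L := Localization.AtPrime p.asIdeal
  let ML := LocalizedModule p.asIdeal.primeCompl M
  by_cases htop : maximalIdeal L • (⊤ : Submodule L ML) = ⊤
  · rw [LocCoh.depth, H4Depth.idealDepth_eq_top htop]
    exact le_top
  · refine Order.one_le_iff_pos.2 (pos_iff_ne_zero.2 fun h0 => hp ?_)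
    obtain ⟨P, hP, hle⟩ := (H4Depth.idealDepth_eq_zero_iff_exists_associatedPrime htop).1 h0
    obtain rfl : maximalIdeal L = P := (IsLocalRing.maximalIdeal.isMaximal L).eq_of_le hP.isPrime.ne_top hle
    have := Module.associatedPrimes.comap_mem_associatedPrimes_of_mem_associatedPrimes_of_isLocalizedModule_of_fg
      p.asIdeal.primeCompl (LocalizedModule.mkLinearMap p.asIdeal.primeCompl M) (maximalIdeal L) hP
      (IsNoetherian.noetherian _)
    rwa [comap_maximalIdeal_loc p.asIdeal] at this

theorem one_lt_add_iff {ω : Dual.D D} (hω : Dual.IsDualizing D ω) {p q : PrimeSpectrum D} (hpq : p ≤ q) (d : ℕ∞) :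
    ((1 : ℕ) : WithBot ℕ∞) < ((d : ℕ∞) : WithBot ℕ∞) + Order.krullDim (Set.Icc p q) ↔
      1 < d + Order.height (⟨q, hpq⟩ : Set.Ici p) := by
  rw [HT.krullDim_Icc hω hpq, HT.height_Ici hω hpq, ← WithBot.coe_add, ← WithBot.coe_natCast, WithBot.coe_lt_coe,
    Nat.cast_one]

omit [IsNoetherianRing D] in
theorem zeroLocus_stable (J : Ideal D) : StableUnderSpecialization (PrimeSpectrum.zeroLocus (J : Set D)) :=
  (PrimeSpectrum.isClosed_zeroLocus _).stableUnderSpecialization

include hD in
/-- Kollár's condition is necessary. -/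
theorem two_le_height_of_finite (h : Module.Finite D (LocCoh.H I 1 M)) {p q : PrimeSpectrum D} (hpq : p ≤ q)
    (hp : p.asIdeal ∈ associatedPrimes D M) (hpI : ¬ I ≤ p.asIdeal) (hq : I ≤ q.asIdeal) :
    2 ≤ Order.height (⟨q, hpq⟩ : Set.Ici p) := by
  obtain ⟨ω, hω⟩ := hD
  let T := PrimeSpectrum.zeroLocus (I : Set D)
  obtain ⟨J, hJ, hk⟩ := (HT.finite_iff_kill_module T M 1).1 fun i hi => by
    rcases (show i = 0 ∨ i = 1 by omega) with rfl | rfl
    · haveI := finite_H_zero I M
      exact Module.Finite.equiv (HT.lcEquivT I M 0)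
    · exact Module.Finite.equiv (HT.lcEquivT I M 1)
  have h1 := (HT.exists_kill_module_iff M hω (zeroLocus_stable I) (zeroLocus_stable I) 1).1
    ⟨J, hJ, fun i hi a ha x => (HT.htEquiv T M i).symm.injective (by rw [map_smul, map_zero]; exact hk i hi a ha _)⟩
    p q hpI hq hpq
  rw [show LocCoh.depth (Dualizing.Loc p) (LocalizedModule p.asIdeal.primeCompl M) = 0 from
    depth_eq_zero_of_associated M hp, one_lt_add_iff hω hpq, zero_add] at h1
  exact Order.add_one_le_of_lt h1

include hD in
/-- Kollár's condition is sufficient. -/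
theorem finite_H_one_of_height
    (h : ∀ (p q : PrimeSpectrum D) (hpq : p ≤ q), p.asIdeal ∈ associatedPrimes D M → ¬ I ≤ p.asIdeal →
      I ≤ q.asIdeal → 2 ≤ Order.height (⟨q, hpq⟩ : Set.Ici p)) : Module.Finite D (LocCoh.H I 1 M) := by
  obtain ⟨ω, hω⟩ := hD
  let T := PrimeSpectrum.zeroLocus (I : Set D)
  obtain ⟨J, hJ, hk⟩ := (HT.exists_kill_module_iff M hω (T := T) (T' := T) (zeroLocus_stable I) (zeroLocus_stable I) 1).2
    fun p q hp hq hpq => by
      rw [one_lt_add_iff hω hpq]
      by_cases hass : p.asIdeal ∈ associatedPrimes D M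
      · exact lt_of_lt_of_le (by norm_num) ((h p q hpq hass hp hq).trans le_add_self)
      · have hne : (⟨p, le_refl p⟩ : Set.Ici p) < ⟨q, hpq⟩ := lt_of_le_of_ne hpq fun e => hp (by
          rw [show p = q from congrArg Subtype.val e]; exact hq)
        have h2 : 1 ≤ Order.height (⟨q, hpq⟩ : Set.Ici p) :=
          le_trans le_add_self (Order.height_add_one_le hne)
        exact lt_of_lt_of_le (by norm_num) (add_le_add (one_le_depth_of_not_associated M hass) h2)
  haveI := (HT.finite_iff_kill_module T M 1).2
    ⟨J, hJ, fun i hi a ha y => (HT.htEquiv T M i).injective (by rw [map_smul, map_zero]; exact hk i hi a ha _)⟩ 1 le_rfl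
  exact Module.Finite.equiv (HT.lcEquivT I M 1).symm

end Dualizing

/-- The dimension of a quotient of a local ring by a prime as a height. -/
theorem ringKrullDim_quotient_eq_height {R : Type u} [CommRing R] [IsLocalRing R] (p q : PrimeSpectrum R)
    (hpq : p ≤ q) (hq : q.asIdeal = maximalIdeal R) :
    ringKrullDim (R ⧸ p.asIdeal) = ((Order.height (⟨q, hpq⟩ : Set.Ici p) : ℕ∞) : WithBot ℕ∞) := by
  haveI : IsLocalRing (R ⧸ p.asIdeal) := .of_surjective' _ Ideal.Quotient.mk_surjective
  rw [← maximalIdeal_height_eq_ringKrullDim,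
    ← IsLocalRing.map_maximalIdeal_of_surjective _ (Ideal.Quotient.mk_surjective (I := p.asIdeal))]
  obtain ⟨qi, hqp⟩ := q
  subst hq
  rw [height_map_mk_eq_Ici hpq]

variable {A : Type u} [CommRing A] [IsNoetherianRing A]

/-- The completion of the localisation at a prime. -/
abbrev CompAt (q : PrimeSpectrum A) : Type u :=
  AdicCompletion (maximalIdeal (Localization.AtPrime q.asIdeal)) (Localization.AtPrime q.asIdeal)

theorem finite_localized_H_one_aux (I : Ideal A) (M : Type u) [AddCommGroup M] [Module A M] [Module.Finite A M]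
    (h : ∀ q : PrimeSpectrum A, I ≤ q.asIdeal → ∀ P ∈ associatedPrimes (CompAt q) (CompAt q ⊗[A] M),
      ¬ I.map (algebraMap A (CompAt q)) ≤ P → (2 : WithBot ℕ∞) ≤ ringKrullDim (CompAt q ⧸ P)) :
    ∀ q : PrimeSpectrum A, Module.Finite (Localization.AtPrime q.asIdeal)
      (LocalizedModule q.asIdeal.primeCompl (LocCoh.H I 1 M)) := by
  intro q
  induction hn : q.asIdeal.height.toNat using Nat.strong_induction_on generalizing q with
  | _ n ih =>
    let L := Localization.AtPrime q.asIdeal
    by_cases hqI : I ≤ q.asIdeal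
    swap
    · obtain ⟨s, hsI, hsq⟩ := SetLike.not_le_iff_exists.1 hqI
      haveI : Subsingleton (LocalizedModule q.asIdeal.primeCompl (LocCoh.H I 1 M)) :=
        LocalizedModule.subsingleton_iff.2 fun x => by
          obtain ⟨m, hm⟩ := isPowerTorsion_H I 1 M x
          exact ⟨s ^ m, fun hc => hsq (q.2.mem_of_pow_mem m hc), hm _ (Ideal.pow_mem_pow hsI m)⟩
      infer_instance
    let C := CompAt q
    haveI : IsNoetherianRing L := IsLocalization.isNoetherianRing q.asIdeal.primeCompl L ‹_›
    haveI : Module.Flat A L := IsLocalization.flat L q.asIdeal.primeCompl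
    have hcl : IsComplLike L C := isComplLike_adicCompletion
    haveI : Module.Flat L C := hcl.flat
    haveI : Module.Flat A C := Module.Flat.trans A L C
    haveI : IsLocalHom (algebraMap L C) := hcl.isLocalHom
    haveI : Module.FaithfullyFlat L C := Module.FaithfullyFlat.of_flat_of_isLocalHom
    haveI : IsNoetherianRing C := H05EGA4.isNoetherianRing_adicCompletion L (maximalIdeal L)
    let MC := C ⊗[A] M
    let IC := I.map (algebraMap A C)
    obtain ⟨eC⟩ := nonempty_baseChange_H C I M 1
    have hdual := Groth.Agent.S0376.result C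
    -- the condition on `C`
    have hcond : ∀ (P Q : PrimeSpectrum C) (hPQ : P ≤ Q), P.asIdeal ∈ associatedPrimes C MC → ¬ IC ≤ P.asIdeal →
        IC ≤ Q.asIdeal → 2 ≤ Order.height (⟨Q, hPQ⟩ : Set.Ici P) := by
      intro P Q hPQ hP hPI hQI
      by_cases hmax : Q.asIdeal = maximalIdeal C
      · have h2 := h q hqI P.asIdeal hP hPI
        rw [ringKrullDim_quotient_eq_height P Q hPQ hmax] at h2
        exact WithBot.coe_le_coe.1 h2
      -- a smaller prime of `A`
      let q' : PrimeSpectrum A := PrimeSpectrum.comap (algebraMap A C) Q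
      have hq'q : q' < q := by
        have hle : Q.asIdeal.comap (algebraMap L C) ≤ maximalIdeal L :=
          le_maximalIdeal (Ideal.IsPrime.comap _).ne_top
        have hq'eq : q'.asIdeal = (Q.asIdeal.comap (algebraMap L C)).comap (algebraMap A L) := by
          show Q.asIdeal.comap (algebraMap A C) = _
          rw [IsScalarTower.algebraMap_eq A L C, Ideal.comap_comap]
        have hmaxA : (maximalIdeal L).comap (algebraMap A L) = q.asIdeal := comap_maximalIdeal_loc _
        refine lt_of_le_of_ne (hq'eq.le.trans ((Ideal.comap_mono hle).trans hmaxA.le))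
          fun e => hmax (le_antisymm (le_maximalIdeal Q.2.ne_top) ?_)
        rw [← hcl.map_max, Ideal.map_le_iff_le_comap]
        refine le_trans (IsLocalization.map_under q.asIdeal.primeCompl L (maximalIdeal L)).ge (le_trans
          (Ideal.map_mono ?_) (IsLocalization.map_under q.asIdeal.primeCompl L (Q.asIdeal.comap (algebraMap L C))).le)
        exact hmaxA.le.trans ((congrArg PrimeSpectrum.asIdeal e).ge.trans hq'eq.le)
      haveI := ih q'.asIdeal.height.toNat (by
        rw [← hn]
        have h1 := Ideal.height_strict_mono_of_isPrime (show q'.asIdeal < q.asIdeal from hq'q)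
        have h2 := Ideal.height_ne_top (I := q.asIdeal) q.2.ne_top
        exact ENat.coe_lt_coe.1 (by rw [ENat.coe_toNat h1.ne_top, ENat.coe_toNat h2]; exact h1)) q' rfl
      let L' := Localization.AtPrime q'.asIdeal
      let D := Localization.AtPrime Q.asIdeal
      haveI : IsNoetherianRing D := IsLocalization.isNoetherianRing Q.asIdeal.primeCompl D inferInstance
      letI : Algebra L' D := (Localization.localRingHom q'.asIdeal Q.asIdeal (algebraMap A C) rfl).toAlgebra
      haveI : IsScalarTower A L' D := IsScalarTower.of_algebraMap_eq fun a => by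
        show algebraMap A D a = Localization.localRingHom q'.asIdeal Q.asIdeal (algebraMap A C) rfl (algebraMap A L' a)
        rw [Localization.localRingHom_to_map, ← IsScalarTower.algebraMap_apply]
      haveI : Module.Finite L' (L' ⊗[A] LocCoh.H I 1 M) :=
        Module.Finite.equiv (LocalizedModule.equivTensorProduct q'.asIdeal.primeCompl _)
      haveI : Module.Finite D (D ⊗[A] LocCoh.H I 1 M) :=
        Module.Finite.equiv (AlgebraTensorModule.cancelBaseChange A L' D D (LocCoh.H I 1 M))
      haveI : Module.Finite D (D ⊗[C] LocCoh.H IC 1 MC) :=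
        Module.Finite.equiv ((AlgebraTensorModule.cancelBaseChange A C D D (LocCoh.H I 1 M)).symm.trans
          (AlgebraTensorModule.congr (LinearEquiv.refl D D) eC))
      obtain ⟨eD⟩ := nonempty_localization_H IC MC Q.asIdeal.primeCompl 1
      haveI : Module.Finite D (LocalizedModule Q.asIdeal.primeCompl (LocCoh.H IC 1 MC)) :=
        Module.Finite.equiv (LocalizedModule.equivTensorProduct Q.asIdeal.primeCompl _).symm
      have hfinD : Module.Finite D (LocCoh.H (IC.map (algebraMap C D)) 1 (LocalizedModule Q.asIdeal.primeCompl MC)) :=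
        Module.Finite.equiv eD
      obtain ⟨ω, hω⟩ := hdual
      have hDdual : ∃ ω' : Dual.D D, Dual.IsDualizing D ω' := ⟨_, Dualizing.isDualizing_loc hω Q⟩
      have hdisj : ∀ R : PrimeSpectrum C, R ≤ Q → Disjoint (Q.asIdeal.primeCompl : Set C) (R.asIdeal : Set C) :=
        fun R hR => Set.disjoint_left.2 fun a ha haR => ha (hR haR)
      let P' : PrimeSpectrum D := ⟨P.asIdeal.map (algebraMap C D),
        IsLocalization.isPrime_of_isPrime_disjoint Q.asIdeal.primeCompl D P.asIdeal P.2 (hdisj P hPQ)⟩
      let Q' : PrimeSpectrum D := ⟨maximalIdeal D, inferInstance⟩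
      have hP'Q' : P' ≤ Q' := le_maximalIdeal P'.2.ne_top
      have hcomapP : P'.asIdeal.comap (algebraMap C D) = P.asIdeal :=
        IsLocalization.under_map_of_isPrime_disjoint Q.asIdeal.primeCompl D P.2 (hdisj P hPQ)
      have hcomapQ : Q'.asIdeal.comap (algebraMap C D) = Q.asIdeal := comap_maximalIdeal_loc _
      have hres := two_le_height_of_finite hDdual (IC.map (algebraMap C D))
        (LocalizedModule Q.asIdeal.primeCompl MC) hfinD hP'Q'
        (Module.associatedPrimes.mem_associatedPrimes_of_comap_mem_associatedPrimes_of_isLocalizedModule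
          Q.asIdeal.primeCompl (LocalizedModule.mkLinearMap Q.asIdeal.primeCompl MC) P'.asIdeal
          (by rwa [hcomapP]))
        (fun hle => hPI (hcomapP ▸ Ideal.map_le_iff_le_comap.1 hle))
        (Ideal.map_le_iff_le_comap.2 (hcomapQ.symm ▸ hQI))
      let g : Set.Ici P' → Set.Ici P := fun x => ⟨PrimeSpectrum.comap (algebraMap C D) x.1, by
        show P.asIdeal ≤ x.1.asIdeal.comap (algebraMap C D)
        rw [← hcomapP]
        exact Ideal.comap_mono x.2⟩
      have hg : StrictMono g := fun x y hxy => lt_of_le_of_ne (Ideal.comap_mono hxy.le) fun e => by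
        refine hxy.ne (Subtype.ext (PrimeSpectrum.ext ?_))
        rw [← IsLocalization.map_under Q.asIdeal.primeCompl D x.1.asIdeal,
          ← IsLocalization.map_under Q.asIdeal.primeCompl D y.1.asIdeal]
        exact congrArg (Ideal.map (algebraMap C D)) (congrArg (fun z : Set.Ici P => z.1.asIdeal) e)
      refine hres.trans ((Order.height_le_height_apply_of_strictMono g hg _).trans (le_of_eq ?_))
      congr 1
      exact Subtype.ext (PrimeSpectrum.ext hcomapQ)
    haveI : Module.Finite C (LocCoh.H IC 1 MC) := finite_H_one_of_height hdual IC MC hcond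
    haveI : Module.Finite C (C ⊗[A] LocCoh.H I 1 M) := Module.Finite.equiv eC.symm
    haveI : Module.Finite C (C ⊗[L] (L ⊗[A] LocCoh.H I 1 M)) :=
      Module.Finite.equiv (AlgebraTensorModule.cancelBaseChange A L C C (LocCoh.H I 1 M)).symm
    haveI : Module.Finite L (L ⊗[A] LocCoh.H I 1 M) := Module.Finite.of_finite_tensorProduct_of_faithfullyFlat C
    exact Module.Finite.equiv (LocalizedModule.equivTensorProduct q.asIdeal.primeCompl _).symm

/-- Kollár's criterion, sufficiency. -/
theorem finite_H_one_of_completion (I : Ideal A) (M : Type u) [AddCommGroup M] [Module A M] [Module.Finite A M]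
    (h : ∀ q : PrimeSpectrum A, I ≤ q.asIdeal → ∀ P ∈ associatedPrimes (CompAt q) (CompAt q ⊗[A] M),
      ¬ I.map (algebraMap A (CompAt q)) ≤ P → (2 : WithBot ℕ∞) ≤ ringKrullDim (CompAt q ⧸ P)) :
    Module.Finite A (LocCoh.H I 1 M) :=
  HT.finite_H_of_locally I M 1 (fun p _ i hi => by
    rcases (show i = 0 ∨ i = 1 by omega) with rfl | rfl
    · haveI := finite_H_zero I M
      exact Module.Finite.of_isLocalizedModule p.primeCompl (LocalizedModule.mkLinearMap p.primeCompl _)
    · exact finite_localized_H_one_aux I M h ⟨p, ‹_›⟩) 1 le_rfl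

end Groth.Agent.H4LC
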