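import Groth.Agent.H4LC.AddElement
import Groth.Agent.H4LC.NonvanishingHeight
import Mathlib.Algebra.Module.LocalizedModule.Submodule

/-!
# Vanishing of local cohomology from the local cohomology at the points

Local criteria for the bijectivity of the change-of-support maps.
-/

set_option autoImplicit false
set_option linter.unusedSectionVars false

universe u

open CategoryTheory CategoryTheory.Limits Opposite IsLocalRing

namespace Groth.Agent.H4LC

variable {R : Type u} [CommRing R]

/-- The condition `H^i_{pA_p}(N_p) = 0`. -/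
abbrev PointVanish (i : ℕ) (p : Ideal R) [p.IsPrime] (N : Type u) [AddCommGroup N] [Module R N] :
    Prop :=
  Subsingleton (LocCoh.H (maximalIdeal (Localization.AtPrime p)) i
    (LocalizedModule p.primeCompl N))

variable [IsNoetherianRing R]

theorem smul_injective_H_away (J : Ideal R) (b : R) (M : Type u) [AddCommGroup M] [Module R M]
    (i : ℕ) (z : LocCoh.H J i (LocalizedModule (Submonoid.powers b) M)) (hz : b • z = 0) : z = 0 := by
  let N := LocalizedModule (Submonoid.powers b) M
  let e : N ≃ₗ[R] N := LinearEquiv.ofBijective (b • LinearMap.id)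
    ((Module.End.isUnit_iff _).1 (IsLocalizedModule.map_units
      (LocalizedModule.mkLinearMap (Submonoid.powers b) M) ⟨b, Submonoid.mem_powers b⟩))
  have h1 : Hmap J (e.symm.toLinearMap ∘ₗ (b • LinearMap.id : N →ₗ[R] N)) i z = z := by
    rw [show e.symm.toLinearMap ∘ₗ (b • LinearMap.id : N →ₗ[R] N) = LinearMap.id from
      LinearMap.ext fun m => e.symm_apply_apply m, Hmap_id]
    rfl
  rw [Hmap_comp, LinearMap.comp_apply, Hmap_smul_id, hz, map_zero] at h1
  exact h1.symm

theorem map_radical_eq_of_mem_minimalPrimes {J p : Ideal R} [p.IsPrime] (hp : p ∈ J.minimalPrimes) :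
    (J.map (algebraMap R (Localization.AtPrime p))).radical =
      (maximalIdeal (Localization.AtPrime p)).radical := by
  rw [(maximalIdeal.isMaximal (Localization.AtPrime p)).isPrime.radical]
  refine le_antisymm ?_ ?_
  · refine (maximalIdeal.isMaximal _).isPrime.radical_le_iff.2 ?_
    exact (Ideal.map_mono hp.1.2).trans (le_of_eq Localization.AtPrime.map_eq_maximalIdeal)
  · rw [Ideal.radical_eq_sInf]
    refine le_sInf fun q hq => ?_
    have hdisj := (IsLocalization.isPrime_iff_isPrime_disjoint p.primeCompl _ q).1 hq.2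
    have hle : p ≤ q.comap (algebraMap R (Localization.AtPrime p)) :=
      hp.2 ⟨hdisj.1, Ideal.le_comap_map.trans (Ideal.comap_mono hq.1)⟩ (fun a ha => by
        by_contra hap
        exact Set.disjoint_left.1 hdisj.2 hap ha)
    rw [← Localization.AtPrime.map_eq_maximalIdeal (I := p)]
    exact (Ideal.map_mono hle).trans Ideal.map_comap_le

/-- An element of `H^i_J` is killed outside a minimal prime with point vanishing. -/
theorem exists_smul_eq_zero_of_pointVanish {J p : Ideal R} [p.IsPrime] (hp : p ∈ J.minimalPrimes)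
    {i : ℕ} (N : Type u) [AddCommGroup N] [Module R N] (hN : PointVanish i p N)
    (z : LocCoh.H J i N) : ∃ c ∈ p.primeCompl, c • z = 0 := by
  have : IsNoetherianRing (Localization.AtPrime p) :=
    IsLocalization.isNoetherianRing p.primeCompl _ inferInstance
  obtain ⟨e⟩ := nonempty_localization_H J N p.primeCompl i
  obtain ⟨e'⟩ := nonempty_H_equiv_of_radical_eq (map_radical_eq_of_mem_minimalPrimes hp)
    (LocalizedModule p.primeCompl N) i
  have : Subsingleton (LocalizedModule p.primeCompl (LocCoh.H J i N)) :=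
    e.toEquiv.subsingleton_congr.2 (e'.toEquiv.subsingleton_congr.2 hN)
  obtain ⟨c, hc, hcz⟩ := LocalizedModule.subsingleton_iff.1 this z
  exact ⟨c, hc, hcz⟩

/-- Vanishing of all point cohomology on `V(J)` gives vanishing of `H^i_J`. -/
theorem subsingleton_H_of_pointVanish (i : ℕ) (N : Type u) [AddCommGroup N] [Module R N] :
    ∀ J : Ideal R, (∀ p : Ideal R, ∀ [p.IsPrime], J ≤ p → PointVanish i p N) →
      Subsingleton (LocCoh.H J i N) := by
  intro J
  induction J using IsNoetherian.induction with
  | _ J ih =>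
    intro hJ
    refine subsingleton_of_forall_eq 0 fun z => ?_
    by_cases hne : J = ⊤
    · subst hne
      exact (subsingleton_H_of_bijective (⊤ : Ideal R) (f := 1) Submodule.mem_top
        (by simp only [one_smul]; exact Function.bijective_id) i).elim _ _
    obtain ⟨m, hm, hJm⟩ := Ideal.exists_le_maximal J hne
    obtain ⟨p, hp, -⟩ := Ideal.exists_minimalPrimes_le hJm
    have := hp.1.1
    obtain ⟨c, hc, hcz⟩ := exists_smul_eq_zero_of_pointVanish hp N (hJ p hp.1.2) z
    have hz : ((localCohomology J i).map (locHom c N)).hom z = 0 := by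
      refine smul_injective_H_away J c N i _ ?_
      rw [← map_smul, hcz, map_zero]
    obtain ⟨w, rfl⟩ := (exact_HmapOfLE_locHom (b := c) le_sup_left rfl N i z).1 hz
    have hlt : J < J ⊔ Ideal.span {c} := by
      refine lt_of_le_of_ne le_sup_left fun he => hc (hp.1.2 ?_)
      rw [he]
      exact Submodule.mem_sup_right (Ideal.mem_span_singleton_self c)
    have := ih _ hlt fun q _ hq => hJ q (le_sup_left.trans hq)
    rw [Subsingleton.elim w 0, map_zero]

theorem localizedModule_map_locHom_bijective (b : R) (M : Type u) [AddCommGroup M] [Module R M]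
    (S : Submonoid R) (hb : b ∈ S) :
    Function.Bijective (LocalizedModule.map S
      (LocalizedModule.mkLinearMap (Submonoid.powers b) M)) := by
  constructor
  · rw [injective_iff_map_eq_zero]
    intro x hx
    induction x using LocalizedModule.induction_on with
    | h m s =>
      rw [LocalizedModule.map_mk, ← LocalizedModule.zero_mk 1, LocalizedModule.mk_eq] at hx
      obtain ⟨u, hu⟩ := hx
      simp only [Submonoid.smul_def, one_smul, smul_zero,
        LocalizedModule.mkLinearMap_apply, LocalizedModule.smul'_mk] at hu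
      rw [← LocalizedModule.zero_mk 1, LocalizedModule.mk_eq] at hu
      obtain ⟨⟨_, k, rfl⟩, hk⟩ := hu
      simp only [Submonoid.smul_def, one_smul, smul_zero, smul_smul] at hk
      rw [← LocalizedModule.zero_mk s, LocalizedModule.mk_eq]
      refine ⟨⟨b ^ k, pow_mem hb k⟩ * u, ?_⟩
      simp only [Submonoid.smul_def, Submonoid.coe_mul, smul_smul, smul_zero]
      rw [show b ^ k * (u : R) * (s : R) = (s : R) * (b ^ k * u) by ring, mul_smul, hk, smul_zero]
  · intro y
    induction y using LocalizedModule.induction_on with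
    | h x s =>
      induction x using LocalizedModule.induction_on with
      | h m t =>
        obtain ⟨_, k, rfl⟩ := t
        refine ⟨LocalizedModule.mk m (s * ⟨b ^ k, pow_mem hb k⟩), ?_⟩
        rw [LocalizedModule.map_mk, LocalizedModule.mk_eq]
        refine ⟨1, ?_⟩
        simp only [Submonoid.smul_def, Submonoid.coe_mul, one_smul,
          LocalizedModule.mkLinearMap_apply, LocalizedModule.smul'_mk]
        rw [LocalizedModule.mk_eq]
        refine ⟨1, ?_⟩
        simp [Submonoid.smul_def, smul_smul]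
        congr 1
        ring

theorem pointVanish_away {i : ℕ} (b : R) (M : Type u) [AddCommGroup M] [Module R M] (p : Ideal R)
    [p.IsPrime] (h : b ∉ p → PointVanish i p M) :
    PointVanish i p (LocalizedModule (Submonoid.powers b) M) := by
  have : IsNoetherianRing (Localization.AtPrime p) :=
    IsLocalization.isNoetherianRing p.primeCompl _ inferInstance
  by_cases hb : b ∈ p
  · let g := LocalizedModule.map p.primeCompl
      (b • LinearMap.id : LocalizedModule (Submonoid.powers b) M →ₗ[R] _)
    have hbij : Function.Bijective (b • LinearMap.id :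
        LocalizedModule (Submonoid.powers b) M →ₗ[R] LocalizedModule (Submonoid.powers b) M) :=
      (Module.End.isUnit_iff _).1 (IsLocalizedModule.map_units
        (LocalizedModule.mkLinearMap (Submonoid.powers b) M) ⟨b, Submonoid.mem_powers b⟩)
    have hg : Function.Bijective g :=
      ⟨LocalizedModule.map_injective p.primeCompl _ hbij.1,
        LocalizedModule.map_surjective p.primeCompl _ hbij.2⟩
    have hge : ∀ x, g x = algebraMap R (Localization.AtPrime p) b • x := by
      intro x
      induction x using LocalizedModule.induction_on with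
      | h m s =>
        rw [LocalizedModule.map_mk, algebraMap_smul, LocalizedModule.smul'_mk]
        rfl
    refine subsingleton_H_of_bijective _ (f := algebraMap R (Localization.AtPrime p) b)
      ((IsLocalization.AtPrime.to_map_mem_maximal_iff _ p b).2 hb) ?_ i
    rwa [← show ⇑g = fun x => algebraMap R (Localization.AtPrime p) b • x from funext hge]
  · exact subsingleton_H_congr _ (LinearEquiv.ofBijective _
      (localizedModule_map_locHom_bijective b M p.primeCompl hb)) i (h hb)

section Triple

variable {J J₁ J₂ : Ideal R} (h₁ : J ≤ J₁) (h₂ : J₁ ≤ J₂)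

theorem cmpKer_mono (t : ℕᵒᵖ) : cmpKer h₁ t ≤ cmpKer (h₁.trans h₂) t := by
  intro x hx
  obtain ⟨r, rfl⟩ := Submodule.Quotient.mk_surjective (J ^ unop t) x
  exact (Submodule.Quotient.mk_eq_zero _).2
    (Ideal.pow_right_mono h₂ _ ((Submodule.Quotient.mk_eq_zero _).1 hx))

theorem cmpKer_quot (t : ℕᵒᵖ) (x : (quotSys J).obj t) (hx : x ∈ cmpKer (h₁.trans h₂) t) :
    ((Dual2.quotMapOfLE h₁).app t).hom x ∈ cmpKer h₂ t := by
  obtain ⟨r, rfl⟩ := Submodule.Quotient.mk_surjective (J ^ unop t) x
  exact hx

/-- `K(J, J₁) → K(J, J₂)`. -/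
noncomputable def tripleLeft : cmpKerSys h₁ ⟶ cmpKerSys (h₁.trans h₂) where
  app t := ModuleCat.ofHom (Submodule.inclusion (cmpKer_mono h₁ h₂ t))
  naturality _ _ _ := rfl

/-- `K(J, J₂) → K(J₁, J₂)`. -/
noncomputable def tripleRight : cmpKerSys (h₁.trans h₂) ⟶ cmpKerSys h₂ where
  app t := ModuleCat.ofHom (((Dual2.quotMapOfLE h₁).app t).hom.restrict (cmpKer_quot h₁ h₂ t))
  naturality _ _ w := ModuleCat.hom_ext (LinearMap.ext fun x => Subtype.ext
    (congrArg (fun e => e.hom x.1) ((Dual2.quotMapOfLE h₁).naturality w)))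

theorem tripleLeft_comp (n : ℕ) :
    (tripleLeft h₁ h₂).app (op n) ≫ (tripleRight h₁ h₂).app (op n) = 0 :=
  ModuleCat.hom_ext (LinearMap.ext fun x => Subtype.ext x.2)

theorem triple_shortExact (n : ℕ) :
    (ShortComplex.mk ((tripleLeft h₁ h₂).app (op n)) ((tripleRight h₁ h₂).app (op n))
      (tripleLeft_comp h₁ h₂ n)).ShortExact :=
  Groth.Agent.H4Depth.shortComplexOf_shortExact (Submodule.inclusion (cmpKer_mono h₁ h₂ (op n)))
    (((Dual2.quotMapOfLE h₁).app (op n)).hom.restrict (cmpKer_quot h₁ h₂ (op n)))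
    (Submodule.inclusion_injective _)
    (fun y => by
      obtain ⟨r, hr, hyr⟩ := exists_mem_pow_of_mem_cmpKer h₂ y
      exact ⟨⟨(Submodule.Quotient.mk r : R ⧸ J ^ n), (Submodule.Quotient.mk_eq_zero _).2 hr⟩,
        Subtype.ext hyr.symm⟩)
    (fun x => ⟨fun hx => ⟨⟨x.1, congrArg Subtype.val hx⟩, rfl⟩,
      fun ⟨y, hy⟩ => hy ▸ Subtype.ext y.2⟩)

include h₁ h₂ in
theorem subsingleton_cmpKer_trans (i : ℕ) (M : ModuleCat.{u} R)
    (ha : Subsingleton ((extColim (cmpKerSys h₁) i).obj M))
    (hb : Subsingleton ((extColim (cmpKerSys h₂) i).obj M)) :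
    Subsingleton ((extColim (cmpKerSys (h₁.trans h₂)) i).obj M) := by
  refine subsingleton_of_forall_eq 0 fun z => ?_
  obtain ⟨w, rfl⟩ := (exactPre₂ i (tripleLeft h₁ h₂) (tripleRight h₁ h₂) (tripleLeft_comp h₁ h₂)
    (triple_shortExact h₁ h₂) M z).1 (Subsingleton.elim _ _)
  rw [Subsingleton.elim w 0, map_zero]

end Triple

theorem subsingleton_cmpKer_self (J : Ideal R) (i : ℕ) (M : ModuleCat.{u} R) :
    Subsingleton ((extColim (cmpKerSys (le_refl J)) i).obj M) := by
  refine subsingleton_of_forall_eq 0 fun z => ?_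
  obtain ⟨n, e, rfl⟩ := exists_rep _ _ _ z
  have h0 : 𝟙 ((cmpKerSys (le_refl J)).obj (op n)) = 0 := by
    refine ModuleCat.hom_ext (LinearMap.ext fun x => Subtype.ext ?_)
    obtain ⟨r, hr, hx⟩ := exists_mem_pow_of_mem_cmpKer (le_refl J) x
    exact hx.trans ((Submodule.Quotient.mk_eq_zero _).2 hr)
  rw [← Abelian.Ext.mk₀_id_comp e, h0, Abelian.Ext.mk₀_zero, Abelian.Ext.zero_comp, map_zero]

/-- The relative term vanishes when it vanishes at the points of `V(J) ∖ V(J')`. -/
theorem subsingleton_cmpKer_of_pointVanish (i : ℕ) (M : Type u) [AddCommGroup M] [Module R M] :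
    ∀ (J J' : Ideal R) (h : J ≤ J'),
      (∀ p : Ideal R, ∀ [p.IsPrime], J ≤ p → ¬ J' ≤ p → PointVanish i p M) →
      Subsingleton ((extColim (cmpKerSys h) i).obj (ModuleCat.of R M)) := by
  intro J
  induction J using IsNoetherian.induction with
  | _ J ih =>
    intro J' h hpts
    by_cases he : J' ≤ J
    · obtain rfl := le_antisymm h he
      exact subsingleton_cmpKer_self J i _
    obtain ⟨b, hbJ', hbJ⟩ := SetLike.not_le_iff_exists.1 he
    have h₁ : J ≤ J ⊔ Ideal.span {b} := le_sup_left
    have h₂ : J ⊔ Ideal.span {b} ≤ J' := sup_le h ((Ideal.span_singleton_le_iff_mem J').2 hbJ')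
    have hlt : J < J ⊔ Ideal.span {b} := lt_of_le_of_ne h₁ fun he' =>
      hbJ (he' ▸ Submodule.mem_sup_right (Ideal.mem_span_singleton_self b))
    have hN : Subsingleton (LocCoh.H J i (LocalizedModule (Submonoid.powers b) M)) :=
      subsingleton_H_of_pointVanish i _ J fun p _ hp => pointVanish_away b M p fun hb =>
        hpts p hp fun hle => hb (hle hbJ')
    refine subsingleton_cmpKer_trans h₁ h₂ i _ ?_
      (ih _ hlt J' h₂ fun p _ hp hp' => hpts p (h₁.trans hp) hp')
    refine subsingleton_of_forall_eq 0 fun z => (cmpKer_locHom_bijective h₁ rfl M i).1 ?_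
    obtain ⟨w, hw⟩ := (cmpKerIncl_away_bijective h₁ rfl M i).2
      (((extColim (cmpKerSys h₁) i).map (locHom b M)).hom z)
    refine hw.symm.trans (((congrArg _ (@Subsingleton.elim _ hN w 0)).trans (map_zero _)).trans ?_)
    exact (map_zero _).symm

theorem HmapOfLE_surjective_of_pointVanish {J J' : Ideal R} (h : J ≤ J') (i : ℕ) (M : Type u)
    [AddCommGroup M] [Module R M]
    (hpts : ∀ p : Ideal R, ∀ [p.IsPrime], J ≤ p → ¬ J' ≤ p → PointVanish i p M) :
    Function.Surjective ((Dual2.HmapOfLE h i).app (ModuleCat.of R M)).hom := fun z =>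
  (exactPre₂ i (cmpKerIncl h) (Dual2.quotMapOfLE h) (cmpKerIncl_comp h)
    (cmpKer_shortExact h) _ z).1
    (@Subsingleton.elim _ (subsingleton_cmpKer_of_pointVanish i M J J' h hpts) _ _)

theorem HmapOfLE_injective_of_pointVanish {J J' : Ideal R} (h : J ≤ J') (i : ℕ) (M : Type u)
    [AddCommGroup M] [Module R M]
    (hpts : ∀ p : Ideal R, ∀ [p.IsPrime], J ≤ p → ¬ J' ≤ p → PointVanish i p M) :
    Function.Injective ((Dual2.HmapOfLE h (i + 1)).app (ModuleCat.of R M)).hom := by
  rw [injective_iff_map_eq_zero]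
  intro z hz
  obtain ⟨w, rfl⟩ := (exactPre₃ i (cmpKerIncl h) (Dual2.quotMapOfLE h) (cmpKerIncl_comp h)
    (cmpKer_shortExact h) _ z).1 hz
  exact (congrArg _ (@Subsingleton.elim _ (subsingleton_cmpKer_of_pointVanish i M J J' h hpts) w 0)).trans
    (map_zero _)

end Groth.Agent.H4LC
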