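import Groth.Agent.H4LC.NonvanishingHeight

/-!
# Local cohomology in the top degree
-/

set_option autoImplicit false
set_option linter.unusedSectionVars false

universe u

open IsLocalRing

namespace Groth.Agent.H4LC

variable {R : Type u} [CommRing R] [IsNoetherianRing R] (I : Ideal R)

theorem mem_minimalPrimes_of_dim_eq {d : ℕ} (hd : ringKrullDim R ≤ d) {q : PrimeSpectrum R}
    (hq : (d : WithBot ℕ∞) ≤ ringKrullDim (R ⧸ q.asIdeal)) : q.asIdeal ∈ minimalPrimes R := by
  obtain ⟨m, hm, hmq⟩ := Ideal.exists_minimalPrimes_le (I := ⊥) (J := q.asIdeal) bot_le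
  rcases eq_or_lt_of_le hmq with h | h
  · exact h ▸ hm
  · exfalso
    let m' : PrimeSpectrum R := ⟨m, hm.1.1⟩
    have hlt : m' < q := h
    rw [ringKrullDim_quotient] at hq
    obtain ⟨l, hl⟩ := Order.le_krullDim_iff.1 hq
    let l' : LTSeries (PrimeSpectrum R) := l.map (fun x => x.1) (fun _ _ hxy => hxy)
    have hhead : m' < l'.head := lt_of_lt_of_le hlt l.head.2
    have h1 := (Order.LTSeries.length_le_krullDim (l'.cons m' hhead)).trans hd
    simp only [RelSeries.cons_length] at h1
    have h2 : l'.length = d := hl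
    rw [h2] at h1
    exact absurd (show d + 1 ≤ d by exact_mod_cast h1) (by omega)

theorem supportDim_lt_of_notMem {d : ℕ} (hd : ringKrullDim R ≤ d) {N : Type u} [AddCommGroup N]
    [Module R N] [Module.Finite R N]
    (h : ∀ q ∈ Module.support R N, q.asIdeal ∈ minimalPrimes R →
      ringKrullDim (R ⧸ q.asIdeal) ≠ d) : Module.supportDim R N < d := by
  by_contra hlt
  rw [not_lt] at hlt
  obtain ⟨l, hl⟩ := Order.le_krullDim_iff.1 hlt
  have hq : (d : WithBot ℕ∞) ≤ ringKrullDim (R ⧸ l.head.1.asIdeal) := by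
    rw [ringKrullDim_quotient]
    exact Order.le_krullDim_iff.2 ⟨⟨l.length, fun i => ⟨(l i).1,
      (PrimeSpectrum.mem_zeroLocus _ _).2 (Subtype.coe_le_coe.2 (l.monotone (Fin.zero_le i)))⟩,
      fun i => l.step i⟩, hl⟩
  exact h l.head.1 l.head.2 (mem_minimalPrimes_of_dim_eq hd hq)
    (le_antisymm ((ringKrullDim_quotient_le l.head.1.asIdeal).trans hd) hq)

/-- In the top degree a module surjects onto `H^d(R ⧸ p)` for `p` in its support. -/
theorem exists_Hmap_surjective_quotient {d : ℕ} (hd : ringKrullDim R ≤ d) {M : Type u}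
    [AddCommGroup M] [Module R M] [Module.Finite R M] {p : PrimeSpectrum R}
    (hp : p ∈ Module.support R M) :
    ∃ f : M →ₗ[R] R ⧸ p.asIdeal, Function.Surjective (Hmap I f d) := by
  obtain ⟨f, hf⟩ := exists_map_quotient_ne_zero hp
  refine ⟨f, ?_⟩
  have hsupp : Module.support R (R ⧸ p.asIdeal) = {q | p ≤ q} := by
    rw [Module.support_eq_zeroLocus, Ideal.annihilator_quotient]
    exact Set.ext fun q => Iff.rfl
  obtain ⟨y, hy⟩ : ∃ y, f y ≠ 0 := not_forall.1 fun h => hf (LinearMap.ext h)
  obtain ⟨r, hr⟩ := Submodule.Quotient.mk_surjective _ (f y)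
  have hrp : r ∉ p.asIdeal := fun h => hy (hr.symm.trans ((Submodule.Quotient.mk_eq_zero _).2 h))
  have htor : LocCoh.IsPowerTorsion (Ideal.span {r}) ((R ⧸ p.asIdeal) ⧸ LinearMap.range f) :=
    fun q => by
      obtain ⟨q, rfl⟩ := Submodule.Quotient.mk_surjective _ q
      obtain ⟨c, rfl⟩ := Submodule.Quotient.mk_surjective _ q
      refine ⟨1, fun a ha => ?_⟩
      rw [pow_one, Ideal.mem_span_singleton'] at ha
      obtain ⟨e, rfl⟩ := ha
      rw [← Submodule.Quotient.mk_smul, Submodule.Quotient.mk_eq_zero]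
      refine ⟨(e * c) • y, ?_⟩
      rw [map_smul, ← hr, ← Submodule.Quotient.mk_smul, ← Submodule.Quotient.mk_smul]
      exact congrArg _ (by simp only [smul_eq_mul]; ring)
  have hC : Module.supportDim R ((R ⧸ p.asIdeal) ⧸ LinearMap.range f) < (d : WithBot ℕ∞) :=
    coe_lt_of_add_one_le (supportDim_add_one_le hrp hsupp
      (Module.support_subset_of_surjective _ (LinearMap.range f).mkQ_surjective) htor)
      ((Module.supportDim_le_ringKrullDim R _).trans hd)
  have hK : Module.supportDim R (LinearMap.ker f) < ((d + 1 : ℕ) : WithBot ℕ∞) :=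
    lt_of_le_of_lt ((Module.supportDim_le_ringKrullDim R _).trans hd)
      (by exact_mod_cast Nat.lt_succ_self d)
  have h : f = (LinearMap.range f).subtype ∘ₗ f.rangeRestrict := rfl
  rw [h, Hmap_comp, LinearMap.coe_comp]
  refine Function.Surjective.comp (fun z => ?_) fun z => ?_
  · exact (exactH₂ _ (LinearMap.range f).injective_subtype (LinearMap.range f).mkQ_surjective
      (LinearMap.exact_subtype_mkQ _) d z).1
      (@Subsingleton.elim _ (subsingleton_H_of_supportDim_lt _ _ _ hC) _ _)
  · exact (exactH₃ _ (LinearMap.ker f).injective_subtype f.surjective_rangeRestrict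
      (LinearMap.exact_iff.2 (by rw [LinearMap.ker_rangeRestrict, Submodule.range_subtype]))
      d z).1 (@Subsingleton.elim _ (subsingleton_H_of_supportDim_lt _ _ _ hK) _ _)

theorem subsingleton_H_top_of_vanishing {d : ℕ} (hd : ringKrullDim R ≤ d) {M : Type u}
    [AddCommGroup M] [Module R M] [Module.Finite R M]
    (hsupp : ∀ p : PrimeSpectrum R, p.asIdeal ∈ minimalPrimes R →
      ringKrullDim (R ⧸ p.asIdeal) = d → p ∈ Module.support R M)
    (hvan : Subsingleton (LocCoh.H I d M)) (N : Type u) [AddCommGroup N] [Module R N] (i : ℕ)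
    (hi : d ≤ i) : Subsingleton (LocCoh.H I i N) := by
  rcases hi.lt_or_eq with hlt | rfl
  · exact cdLE_of_ringKrullDim_le I hd N i hlt
  suffices key : ∀ (P : Type u) [AddCommGroup P] [Module R P] (_ : Module.Finite R P),
      Subsingleton (LocCoh.H I d P) from
    subsingleton_H_of_fg I d N fun S hS => key S (Module.Finite.iff_fg.2 hS)
  intro P _ _ hP
  induction hP using IsNoetherianRing.induction_on_isQuotientEquivQuotientPrime R with
  | subsingleton P => exact subsingleton_H_of_subsingleton I P _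
  | exact P₁ P₂ P₃ f g hf hg hfg h₁ h₃ => exact subsingleton_H_mid I hf hg hfg _ h₁ h₃
  | quotient P p e =>
    refine subsingleton_H_congr I e.symm _ ?_
    by_cases hp : p ∈ Module.support R M
    · obtain ⟨f, hf⟩ := exists_Hmap_surjective_quotient I hd hp
      exact hf.subsingleton
    · refine subsingleton_H_of_supportDim_lt I d _ (supportDim_lt_of_notMem hd fun q hq hqm hqd => ?_)
      rw [Module.support_eq_zeroLocus, Ideal.annihilator_quotient] at hq
      have hpq : p.asIdeal ≤ q.asIdeal := hq
      have : p = q := PrimeSpectrum.ext (le_antisymm hpq (hqm.2 ⟨p.isPrime, bot_le⟩ hpq))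
      exact hp (this ▸ hsupp q hqm hqd)

theorem surjective_smul_H_top {d : ℕ} (hd : ringKrullDim R ≤ d) (f : R)
    (hf : ∀ p ∈ minimalPrimes R, ringKrullDim (R ⧸ p) = d → f ∉ p)
    (M : Type u) [AddCommGroup M] [Module R M] [Module.Finite R M] :
    Function.Surjective (fun x : LocCoh.H I d M => f • x) := by
  let μ : M →ₗ[R] M := f • LinearMap.id
  have h : μ = (LinearMap.range μ).subtype ∘ₗ μ.rangeRestrict := rfl
  have hs : Function.Surjective (Hmap I μ d) := by
    rw [h, Hmap_comp, LinearMap.coe_comp]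
    have hC : Module.supportDim R (M ⧸ LinearMap.range μ) < (d : WithBot ℕ∞) := by
      refine supportDim_lt_of_notMem hd fun q hq hqm hqd => hf _ hqm hqd ?_
      refine (Module.mem_support_iff_of_finite.1 hq) (Module.mem_annihilator.2 fun z => ?_)
      obtain ⟨z, rfl⟩ := Submodule.Quotient.mk_surjective _ z
      rw [← Submodule.Quotient.mk_smul, Submodule.Quotient.mk_eq_zero]
      exact ⟨z, rfl⟩
    have hK : Module.supportDim R (LinearMap.ker μ) < ((d + 1 : ℕ) : WithBot ℕ∞) :=
      lt_of_le_of_lt ((Module.supportDim_le_ringKrullDim R _).trans hd)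
        (by exact_mod_cast Nat.lt_succ_self d)
    refine Function.Surjective.comp (fun z => ?_) fun z => ?_
    · exact (exactH₂ _ (LinearMap.range μ).injective_subtype (LinearMap.range μ).mkQ_surjective
        (LinearMap.exact_subtype_mkQ _) d z).1
        (@Subsingleton.elim _ (subsingleton_H_of_supportDim_lt _ _ _ hC) _ _)
    · exact (exactH₃ _ (LinearMap.ker μ).injective_subtype μ.surjective_rangeRestrict
        (LinearMap.exact_iff.2 (by rw [LinearMap.ker_rangeRestrict, Submodule.range_subtype]))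
        d z).1 (@Subsingleton.elim _ (subsingleton_H_of_supportDim_lt _ _ _ hK) _ _)
  intro z
  obtain ⟨w, rfl⟩ := hs z
  exact ⟨w, (Hmap_smul_id I M f d w).symm⟩

theorem not_cdLE_of_radical_sup [IsLocalRing R] (p : Ideal R) [p.IsPrime]
    (hpI : (p ⊔ I).radical = maximalIdeal R) (d : ℕ) (hd : ringKrullDim (R ⧸ p) = d) (hd1 : 1 ≤ d) :
    ¬ LocCoh.CdLE R I (d - 1) := by
  intro hcd
  let S := R ⧸ p
  have : IsLocalRing S :=
    IsLocalRing.of_surjective' (Ideal.Quotient.mk p) Ideal.Quotient.mk_surjective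
  have hrad : (I.map (algebraMap R S)).radical = (maximalIdeal S).radical := by
    rw [(maximalIdeal.isMaximal S).isPrime.radical, Ideal.Quotient.algebraMap_eq]
    apply Ideal.comap_injective_of_surjective (Ideal.Quotient.mk p) Ideal.Quotient.mk_surjective
    rw [Ideal.comap_radical, Ideal.comap_map_of_surjective _ Ideal.Quotient.mk_surjective,
      ← RingHom.ker_eq_comap_bot, Ideal.mk_ker, sup_comm, hpI]
    exact (IsLocalRing.eq_maximalIdeal
      (Ideal.comap_isMaximal_of_surjective _ Ideal.Quotient.mk_surjective)).symm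
  obtain ⟨e⟩ := nonempty_H_equiv_of_radical_eq hrad S d
  have h1 := (subsingleton_H_map_iff S I S d).2 (hcd S d (by omega))
  exact not_subsingleton_iff_nontrivial.2 (nontrivial_H_ringKrullDim (R := S) d hd)
    (e.toEquiv.subsingleton_congr.1 h1)

theorem not_finite_H_top [IsLocalRing R] (d : ℕ) (hd : 0 < d) (hdim : ringKrullDim R = d) :
    ¬ Module.Finite R (LocCoh.H (maximalIdeal R) d R) := by
  intro hfin
  obtain ⟨s, hs⟩ := hfin.fg_top
  classical
  choose k hk using fun z => isPowerTorsion_H (maximalIdeal R) d R z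
  refine (nontrivial_H_supportDim d R (Module.supportDim_self_eq_ringKrullDim (R := R) |>.trans hdim)).2 hd
    ⟨s.sup k, fun a ha z => ?_⟩
  have hz : z ∈ Submodule.span R (s : Set (LocCoh.H (maximalIdeal R) d R)) := hs ▸ Submodule.mem_top
  induction hz using Submodule.span_induction with
  | mem y hy => exact hk y a (Ideal.pow_le_pow_right (Finset.le_sup (Finset.mem_coe.1 hy)) ha)
  | zero => exact smul_zero _
  | add y w _ _ hy hw => rw [smul_add, hy, hw, add_zero]
  | smul r y _ hy => rw [smul_comm, hy, smul_zero]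

end Groth.Agent.H4LC
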