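import Groth.Agent.H4LC.HLVTSymbolic
import Groth.Agent.H4LC.TopDegree
import Groth.Agent.H4LC.SupportChange
import Groth.Agent.H4LC.CompletionTransfer
import Groth.Agent.H05EGA4.CompleteNormalization
import Groth.Agent.H05EGA4.IntegralDim
import Groth.Agent.H02CA.GorRing
import Groth.Agent.H24Adic.Rig
import Groth.Agent.S0581
import Groth.Agent.S5784
import Groth.Agent.S0547

/-!
# The Hartshorne–Lichtenbaum vanishing theorem
-/

set_option autoImplicit false
set_option linter.style.haveILetI false

universe u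

open IsLocalRing Polynomial TensorProduct

namespace Groth.Agent.H4LC

/-- A monic hypersurface over a regular ring which is local is Gorenstein. -/
theorem isGorensteinLocalRing_of_ker_eq_span {B₀ B : Type u} [CommRing B₀] [IsDomain B₀] [IsRegularRing B₀]
    [CommRing B] [IsLocalRing B] (φ : B₀[X] →+* B) (hφ : Function.Surjective φ) (g : B₀[X]) (hg : g ≠ 0)
    (hker : RingHom.ker φ = Ideal.span {g}) : LocCoh.IsGorensteinLocalRing B := by
  haveI := H02CA.GorFlat.isGorensteinRing_of_isRegularRing B₀[X]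
  have hB : LocCoh.IsGorensteinRing B := H02CA.GorFlat.isGorensteinRing_of_surjective φ hφ
    fun P _ _ => ⟨[algebraMap B₀[X] (Localization.AtPrime P) g], by
      haveI : IsDomain (Localization.AtPrime P) := inferInstance
      refine (RingTheory.Sequence.isWeaklyRegular_singleton_iff _ _).2 (IsSMulRegular.of_right_eq_zero_of_smul ?_)
      intro a ha
      refine (mul_eq_zero.1 ha).resolve_left fun h => hg ?_
      exact (map_eq_zero_iff _ (IsLocalization.injective (Localization.AtPrime P)
        (le_nonZeroDivisors_of_noZeroDivisors (fun h : (0 : B₀[X]) ∈ P.primeCompl => h P.zero_mem)))).1 h,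
      by rw [Ideal.ofList_singleton, hker, Ideal.map_span, Set.image_singleton]⟩
  exact H02CA.GorFlat.gor_of_ringEquiv (IsLocalization.atUnits B (maximalIdeal B).primeCompl
    (S := Localization.AtPrime (maximalIdeal B)) (fun x hx => IsLocalRing.notMem_maximalIdeal.mp hx)).toRingEquiv.symm
    (LocCoh.IsGorensteinRing.isGorensteinLocalRing_localization (maximalIdeal B))

/-- A prime of dimension one is, up to radical, extended from a simple subalgebra. -/
theorem exists_radical_span_inter_adjoin {R' : Type u} [CommRing R'] [IsLocalRing R'] {R : Type u} [CommRing R]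
    [IsNoetherianRing R] [IsLocalRing R] [Algebra R' R] [Module.Finite R' R] (p : Ideal R) [p.IsPrime]
    (hp : ringKrullDim (R ⧸ p) = 1) :
    ∃ b : R, (Ideal.span ((p : Set R) ∩ (Algebra.adjoin R' ({b} : Set R) : Set R))).radical = p := by
  classical
  let q := p.under R'
  let F := ((q.map (algebraMap R' R)).minimalPrimes ∩ {Q : Ideal R | Q.under R' = q ∧ Q ≠ p})
  have hF : F.Finite := (Ideal.finite_minimalPrimes_of_isNoetherianRing R _).subset Set.inter_subset_left
  obtain ⟨b, hbp, hb⟩ : ∃ b ∈ p, ∀ Q ∈ F, b ∉ Q := by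
    by_contra hcon
    push Not at hcon
    have hsub : (p : Set R) ⊆ ⋃ Q ∈ (hF.toFinset : Set (Ideal R)), (Q : Set R) := fun y hy => by
      obtain ⟨Q, hQ, hyQ⟩ := hcon y hy
      exact Set.mem_biUnion (hF.mem_toFinset.mpr hQ) hyQ
    obtain ⟨Q, hQ, hpQ⟩ := (Ideal.subset_union_prime ⊥ ⊥
      (fun Q hQ _ _ => (hF.mem_toFinset.mp hQ).1.1.1)).mp hsub
    rw [hF.mem_toFinset] at hQ
    have := hQ.1.1.1
    rcases lt_or_eq_of_le hpQ with h | h
    · exact (Ideal.IsIntegral.comap_lt_comap (R := R') (A := R) h).ne hQ.2.1.symm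
    · exact hQ.2.2 h.symm
  refine ⟨b, le_antisymm (Ideal.IsPrime.radical_le_iff ‹_› |>.2 (Ideal.span_le.2 Set.inter_subset_left)) ?_⟩
  rw [Ideal.radical_eq_sInf]
  refine le_sInf fun Q ⟨hQ, hQp⟩ => ?_
  have := hQp
  have hbQ : b ∈ Q := hQ (Ideal.subset_span ⟨hbp, Algebra.self_mem_adjoin_singleton R' b⟩)
  have hqQ : q ≤ Q.under R' := fun a ha => hQ (Ideal.subset_span ⟨ha, Subalgebra.algebraMap_mem _ a⟩)
  rcases lt_or_eq_of_le hqQ with h | h
  · -- above the prime below `p` there is only the maximal ideal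
    haveI : (Q.under R').IsMaximal := by
      obtain ⟨T, hT, hTp, hTQ⟩ := Ideal.exists_ideal_over_prime_of_isIntegral (Q.under R') p h.le
      have hpT : p < T := lt_of_le_of_ne hT fun e => h.ne (by rw [← hTQ, ← e])
      have := hTp
      obtain rfl : T = maximalIdeal R := eq_maximalIdeal_of_lt hp hpT
      rw [← hTQ]
      exact Ideal.isMaximal_comap_of_isIntegral_of_isMaximal (R := R') (maximalIdeal R)
    exact (le_maximalIdeal (Ideal.IsPrime.ne_top ‹p.IsPrime›)).trans
      (IsLocalRing.eq_maximalIdeal (Ideal.isMaximal_of_isIntegral_of_isMaximal_comap (R := R') Q this)).ge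
  · by_contra hne
    obtain ⟨T, hT, hTQ⟩ := Ideal.exists_minimalPrimes_le (I := q.map (algebraMap R' R)) (J := Q)
      (Ideal.map_le_iff_le_comap.2 hqQ)
    have := hT.1.1
    have hTq : T.under R' = q := le_antisymm ((Ideal.comap_mono hTQ).trans h.ge)
      (Ideal.map_le_iff_le_comap.1 hT.1.2)
    obtain rfl : T = Q := eq_of_le_of_not_lt hTQ fun hlt =>
      (Ideal.IsIntegral.comap_lt_comap (R := R') (A := R) hlt).ne (hTq.trans h)
    exact hb T ⟨hT, hTq, fun e => hne e.ge⟩ hbQ

/-- Vanishing at a prime of dimension one of a complete local domain. -/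
theorem subsingleton_H_prime_of_completeDomain (R : Type u) [CommRing R] [IsDomain R] [IsLocalRing R]
    [IsNoetherianRing R] [IsAdicComplete (maximalIdeal R) R] (p : Ideal R) [p.IsPrime]
    (hp : ringKrullDim (R ⧸ p) = 1) (n : ℕ) (hn : ringKrullDim R = n) :
    Subsingleton (LocCoh.H p n R) := by
  obtain ⟨Λ, _, m, f, hΛ, hinj, hfin, -⟩ := S0581.result R
  obtain ⟨_, _, _, -⟩ := H05EGA4.coefficientRing_spec hΛ
  haveI := H05EGA4.isRegularRing_of_isField_or_isCohenRing hΛ
  let B₀ := MvPowerSeries (Fin m) Λ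
  letI : Algebra B₀ R := f.toAlgebra
  haveI : Module.Finite B₀ R := hfin
  haveI : IsDomain B₀ := hinj.isDomain f
  haveI : IsRegularRing B₀ := S5784.result Λ m
  haveI : IsRegularLocalRing B₀ := IsRegularLocalRing.of_isRegularRing_of_isLocalRing _
  haveI := H05EGA4.isIntegrallyClosed_of_isRegularLocalRing B₀
  haveI : Module.IsTorsionFree B₀ R := ⟨fun r hr a b hab => by
    change r • a = r • b at hab
    rw [Algebra.smul_def, Algebra.smul_def] at hab
    exact mul_left_cancel₀ (fun h => hr.ne_zero ((map_eq_zero_iff _ hinj).1 h)) hab⟩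
  obtain ⟨b, hb⟩ := exists_radical_span_inter_adjoin (R' := B₀) p hp
  let B := Algebra.adjoin B₀ ({b} : Set R)
  haveI : Module.Finite B₀ B :=
    Module.Finite.of_injective B.val.toLinearMap Subtype.val_injective
  haveI : IsNoetherianRing B := IsNoetherianRing.of_finite B₀ B
  haveI : Module.Finite B R := Module.Finite.of_restrictScalars_finite B₀ B R
  have hinjB : Function.Injective (algebraMap B R) := Subtype.val_injective
  haveI : IsLocalHom (algebraMap B R) :=
    RingHom.IsIntegral.isLocalHom (Algebra.IsIntegral.isIntegral (R := B) (A := R)) hinjB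
  haveI : IsLocalRing B := RingHom.domain_isLocalRing (algebraMap B R)
  have hx : IsIntegral B₀ b := Algebra.IsIntegral.isIntegral b
  let φ : B₀[X] →+* B := (minpoly.equivAdjoin hx).toRingEquiv.toRingHom.comp (AdjoinRoot.mk (minpoly B₀ b))
  have hker : RingHom.ker φ = Ideal.span {minpoly B₀ b} := by
    ext a
    rw [RingHom.mem_ker, Ideal.mem_span_singleton, ← AdjoinRoot.mk_eq_zero]
    exact map_eq_zero_iff _ (minpoly.equivAdjoin hx).injective
  haveI : LocCoh.IsGorensteinLocalRing B := isGorensteinLocalRing_of_ker_eq_span φ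
    ((minpoly.equivAdjoin hx).surjective.comp AdjoinRoot.mk_surjective) _ (minpoly.monic hx).ne_zero hker
  let Q : Ideal B := p.comap (algebraMap B R)
  have hQ : ringKrullDim (B ⧸ Q) = 1 := by
    haveI : Algebra.IsIntegral (B ⧸ Q) (R ⧸ p) := inferInstance
    rw [← (H05EGA4.dim_int (B ⧸ Q) (R ⧸ p)).2 (Ideal.algebraMap_quotient_injective (I := p))]
    exact hp
  have hdim : ringKrullDim B = n := by
    rw [← (H05EGA4.dim_int B R).2 hinjB]
    exact hn
  have hvanB : Subsingleton (LocCoh.H Q n B) :=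
    subsingleton_H_prime_of_gorenstein B Q hQ (exists_symb_le_maximalIdeal_pow Q R hinjB p rfl) n hdim
  have hvan : Subsingleton (LocCoh.H Q n R) :=
    subsingleton_H_top_of_vanishing Q (d := n) hdim.le (M := B)
      (fun P _ _ => by rw [Module.mem_support_iff_of_finite, Module.annihilator_eq_bot.2 inferInstance]; exact bot_le)
      hvanB R n le_rfl
  have hrad : (Q.map (algebraMap B R)).radical = p.radical := by
    rw [Ideal.IsPrime.radical ‹p.IsPrime›]
    refine le_antisymm (Ideal.IsPrime.radical_le_iff ‹_› |>.2 Ideal.map_comap_le) ?_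
    refine hb.ge.trans (Ideal.radical_mono (Ideal.span_le.2 fun x hx => ?_))
    exact Ideal.mem_map_of_mem (algebraMap B R) (show (⟨x, hx.2⟩ : B) ∈ Q from hx.1)
  obtain ⟨e⟩ := nonempty_H_equiv_of_radical_eq hrad R n
  exact e.toEquiv.subsingleton_congr.1 ((subsingleton_H_map_iff (R := B) R Q R n).2 hvan)

/-- Above a non-maximal prime of a Noetherian local ring lies a prime of dimension one. -/
theorem exists_prime_dim_one {S : Type u} [CommRing S] [IsLocalRing S] [IsNoetherianRing S] (I : Ideal S)
    (hI : (1 : WithBot ℕ∞) ≤ ringKrullDim (S ⧸ I)) :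
    ∃ P : Ideal S, ∃ _ : P.IsPrime, I ≤ P ∧ ringKrullDim (S ⧸ P) = 1 := by
  rw [ringKrullDim_quotient] at hI
  obtain ⟨l, hl⟩ := Order.le_krullDim_iff.1 (show ((1 : ℕ) : WithBot ℕ∞) ≤ _ by exact_mod_cast hI)
  have hne : l.head.1.asIdeal ≠ maximalIdeal S := by
    intro h
    have h2 : l.head < l ⟨1, by omega⟩ := l.strictMono (show (0 : Fin (l.length + 1)) < ⟨1, by omega⟩ from Nat.zero_lt_one)
    exact (not_le_of_gt (show l.head.1.asIdeal < (l ⟨1, by omega⟩).1.asIdeal from h2))
      (h ▸ le_maximalIdeal (l ⟨1, by omega⟩).1.isPrime.ne_top)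
  obtain ⟨P, ⟨hP, hPI, hPm⟩, hmax⟩ := set_has_maximal_iff_noetherian.2 inferInstance
    {P : Ideal S | P.IsPrime ∧ I ≤ P ∧ P ≠ maximalIdeal S}
    ⟨l.head.1.asIdeal, l.head.1.isPrime, (PrimeSpectrum.mem_zeroLocus _ _).1 l.head.2, hne⟩
  have := hP
  refine ⟨P, hP, hPI, ?_⟩
  haveI : Ring.KrullDimLE 1 (S ⧸ P) := Ring.krullDimLE_one_iff_of_noZeroDivisors.2 fun T hT hTp => by
    obtain ⟨z, hz, hz0⟩ := Submodule.exists_mem_ne_zero_of_ne_bot hT
    obtain ⟨z, rfl⟩ := Ideal.Quotient.mk_surjective z
    have hlt : P < T.comap (Ideal.Quotient.mk P) := lt_of_le_of_ne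
      (fun a ha => by rw [Ideal.mem_comap, Ideal.Quotient.eq_zero_iff_mem.2 ha]; exact zero_mem T)
      fun e => hz0 (Ideal.Quotient.eq_zero_iff_mem.2 (e ▸ hz))
    have he : T.comap (Ideal.Quotient.mk P) = maximalIdeal S := by
      by_contra hne
      exact hmax _ ⟨Ideal.IsPrime.comap _, hPI.trans hlt.le, hne⟩ hlt
    rw [← Ideal.map_comap_of_surjective _ Ideal.Quotient.mk_surjective T, he]
    exact (Ideal.map_eq_top_or_isMaximal_of_surjective _ Ideal.Quotient.mk_surjective (maximalIdeal.isMaximal S)).resolve_left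
      fun htop => hTp.ne_top (by rw [← Ideal.map_comap_of_surjective _ Ideal.Quotient.mk_surjective T, he, htop])
  refine le_antisymm (Ring.krullDimLE_iff.1 inferInstance) ?_
  rw [ringKrullDim_quotient]
  refine le_trans ?_ (Order.LTSeries.length_le_krullDim ((RelSeries.singleton _
    (⟨⟨maximalIdeal S, inferInstance⟩, (PrimeSpectrum.mem_zeroLocus _ _).2 (le_maximalIdeal hP.ne_top)⟩ :
      PrimeSpectrum.zeroLocus (P : Set S))).cons ⟨⟨P, hP⟩, (PrimeSpectrum.mem_zeroLocus _ _).2 subset_rfl⟩
      (show P < maximalIdeal S from lt_of_le_of_ne (le_maximalIdeal hP.ne_top) hPm) : LTSeries _))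
  simp [RelSeries.cons_length]

/-- At a non-maximal prime the top degree vanishes. -/
theorem pointVanish_of_ne_maximalIdeal {S : Type u} [CommRing S] [IsLocalRing S] [IsNoetherianRing S] {d : ℕ}
    (hd : ringKrullDim S = d) (M : Type u) [AddCommGroup M] [Module S M] (p : Ideal S) [p.IsPrime]
    (hp : p ≠ maximalIdeal S) : PointVanish d p M := by
  let L := Localization.AtPrime p
  have : IsNoetherianRing L := IsLocalization.isNoetherianRing p.primeCompl _ inferInstance
  have h1 : p.height < (d : ℕ∞) := by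
    have h2 := Ideal.height_strict_mono_of_isPrime (lt_of_le_of_ne (le_maximalIdeal (Ideal.IsPrime.ne_top ‹_›)) hp)
    have h3 : ((maximalIdeal S).height : WithBot ℕ∞) = d := by rw [IsLocalRing.maximalIdeal_height_eq_ringKrullDim, hd]
    exact lt_of_lt_of_eq h2 (by exact_mod_cast h3)
  obtain ⟨e, he⟩ : ∃ e : ℕ, p.height = e := ENat.ne_top_iff_exists.1 h1.ne_top |>.imp fun _ h => h.symm
  have hdimL : ringKrullDim L ≤ (e : WithBot ℕ∞) := by
    rw [IsLocalization.AtPrime.ringKrullDim_eq_height p, he]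
    exact le_rfl
  exact cdLE_of_ringKrullDim_le (maximalIdeal L) hdimL _ d (by rw [he] at h1; exact_mod_cast h1)

/-- Hartshorne–Lichtenbaum vanishing for a complete local domain. -/
theorem subsingleton_H_top_completeDomain {S : Type u} [CommRing S] [IsDomain S] [IsLocalRing S]
    [IsNoetherianRing S] [IsAdicComplete (maximalIdeal S) S] (I : Ideal S) (d : ℕ) (hd : ringKrullDim S = d)
    (hI : (1 : WithBot ℕ∞) ≤ ringKrullDim (S ⧸ I)) : Subsingleton (LocCoh.H I d S) := by
  obtain ⟨P, _, hIP, hP⟩ := exists_prime_dim_one I hI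
  have := subsingleton_H_prime_of_completeDomain S P hP d hd
  exact (HmapOfLE_surjective_of_pointVanish hIP d S fun q _ _ hq => pointVanish_of_ne_maximalIdeal hd S q
    fun h => hq (h ▸ le_maximalIdeal (Ideal.IsPrime.ne_top ‹P.IsPrime›))).subsingleton

/-- Hartshorne–Lichtenbaum vanishing for a complete local ring. -/
theorem subsingleton_H_top_complete {R : Type u} [CommRing R] [IsLocalRing R] [IsNoetherianRing R]
    [IsAdicComplete (maximalIdeal R) R] (I : Ideal R) (d : ℕ) (hd : ringKrullDim R ≤ d)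
    (h : ∀ p ∈ minimalPrimes R, ringKrullDim (R ⧸ p) = d → (1 : WithBot ℕ∞) ≤ ringKrullDim (R ⧸ (I ⊔ p))) :
    Subsingleton (LocCoh.H I d R) := by
  suffices key : ∀ (P : Type u) [AddCommGroup P] [Module R P] (_ : Module.Finite R P),
      Subsingleton (LocCoh.H I d P) from key R inferInstance
  intro P _ _ hP
  induction hP using IsNoetherianRing.induction_on_isQuotientEquivQuotientPrime R with
  | subsingleton P => exact subsingleton_H_of_subsingleton I P _
  | exact P₁ P₂ P₃ f g hf hg hfg h₁ h₃ => exact subsingleton_H_mid I hf hg hfg _ h₁ h₃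
  | quotient P p e =>
    refine subsingleton_H_congr I e.symm _ ?_
    rcases ((ringKrullDim_quotient_le p.asIdeal).trans hd).lt_or_eq with hlt | heq
    · refine subsingleton_H_of_supportDim_lt I d _ ?_
      rwa [Module.supportDim_quotient_eq_ringKrullDim]
    · let S := R ⧸ p.asIdeal
      haveI : IsLocalRing S :=
        IsLocalRing.of_surjective' (Ideal.Quotient.mk p.asIdeal) Ideal.Quotient.mk_surjective
      haveI : IsAdicComplete (maximalIdeal S) S := by
        rw [← IsLocalRing.map_maximalIdeal_of_surjective _ (Ideal.Quotient.mk_surjective (I := p.asIdeal))]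
        exact H24Adic.isAdicComplete_map_quotient p.asIdeal
      have hI1 : (1 : WithBot ℕ∞) ≤ ringKrullDim (S ⧸ I.map (algebraMap R S)) := by
        refine (h _ (mem_minimalPrimes_of_dim_eq hd heq.ge) heq).trans_eq (ringKrullDim_eq_of_ringEquiv ?_)
        exact (Ideal.quotEquivOfEq (sup_comm I p.asIdeal)).trans (DoubleQuot.quotQuotEquivQuotSup p.asIdeal I).symm
      exact (subsingleton_H_map_iff (R := R) S I S d).1 (subsingleton_H_top_completeDomain _ d heq hI1)

/-- The Hartshorne–Lichtenbaum vanishing theorem. -/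
theorem subsingleton_H_top_hlvt {R : Type u} [CommRing R] [IsLocalRing R] [IsNoetherianRing R]
    (I : Ideal R) (d : ℕ) (hd : ringKrullDim R = d)
    (h : ∀ p ∈ minimalPrimes (AdicCompletion (maximalIdeal R) R),
      ringKrullDim (AdicCompletion (maximalIdeal R) R ⧸ p) = d →
      1 ≤ ringKrullDim (AdicCompletion (maximalIdeal R) R ⧸
        (I.map (algebraMap R (AdicCompletion (maximalIdeal R) R)) ⊔ p)))
    (M : Type u) [AddCommGroup M] [Module R M] (i : ℕ) (hi : d ≤ i) : Subsingleton (LocCoh.H I i M) := by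
  refine subsingleton_H_top_of_vanishing I hd.le (M := R)
    (fun p _ _ => by rw [Module.mem_support_iff_of_finite, Module.annihilator_eq_bot.2 inferInstance]; exact bot_le)
    ?_ M i hi
  let C := AdicCompletion (maximalIdeal R) R
  have hcl : IsComplLike R C := isComplLike_adicCompletion
  haveI : Module.Flat R C := hcl.flat
  haveI : IsLocalHom (algebraMap R C) := hcl.isLocalHom
  haveI : Module.FaithfullyFlat R C := Module.FaithfullyFlat.of_flat_of_isLocalHom
  haveI : IsNoetherianRing C := H05EGA4.isNoetherianRing_adicCompletion R (maximalIdeal R)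
  haveI : IsAdicComplete (maximalIdeal C) C := inferInstance
  have hvan : Subsingleton (LocCoh.H (I.map (algebraMap R C)) d C) :=
    subsingleton_H_top_complete _ d ((S0547.result R).trans hd).le h
  obtain ⟨e⟩ := nonempty_baseChange_H C I R d
  have h1 : Subsingleton (C ⊗[R] LocCoh.H I d R) :=
    e.toEquiv.subsingleton_congr.2 (subsingleton_H_congr _
      (TensorProduct.AlgebraTensorModule.rid R C C).symm _ hvan)
  exact Module.FaithfullyFlat.subsingleton_tensorProduct_iff_right R C |>.1 h1

end Groth.Agent.H4LC
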