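import Groth.Agent.H4LC.Faltings
import Groth.Agent.H4LC.ChangeRings
import Groth.Prelude.Def_SGA2
import Groth.Prelude.Def_W4bk5brsh7111920

/-!
# The annihilator and finiteness theorems over quotients of regular rings
-/

set_option autoImplicit false
set_option linter.unusedSectionVars false

universe u

open CategoryTheory IsLocalRing

namespace Groth.Agent.H4LC

variable {S R : Type u} [CommRing S] [CommRing R] [Algebra S R]
  (hπ : Function.Surjective (algebraMap S R))
  (M : Type u) [AddCommGroup M] [Module R M] [Module S M] [IsScalarTower S R M]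

include hπ in
/-- Vanishing at a prime may be computed over a ring surjecting onto `R`. -/
theorem locVanish_comap_iff [IsNoetherianRing S] (p : PrimeSpectrum R) (j : ℕ) :
    LocVanish (R := S) M (PrimeSpectrum.comap (algebraMap S R) p) j ↔ LocVanish (R := R) M p j := by
  have := isNoetherianRing_of_surjective S R _ hπ
  let P := PrimeSpectrum.comap (algebraMap S R) p
  let Rp := Localization.AtPrime p.asIdeal
  let Sp := Localization.AtPrime P.asIdeal
  let φ : Sp →+* Rp := Localization.localRingHom P.asIdeal p.asIdeal (algebraMap S R) rfl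
  have hφ : Function.Surjective φ := by
    intro y
    obtain ⟨r, s, rfl⟩ := IsLocalization.exists_mk'_eq p.asIdeal.primeCompl y
    obtain ⟨r', rfl⟩ := hπ r
    obtain ⟨⟨_, hs⟩⟩ : Nonempty p.asIdeal.primeCompl := ⟨s⟩
    obtain ⟨s', hs'⟩ := hπ s.1
    have hmem : s' ∈ P.asIdeal.primeCompl := fun h => s.2 (hs' ▸ h)
    refine ⟨IsLocalization.mk' Sp r' (⟨s', hmem⟩ : P.asIdeal.primeCompl), ?_⟩
    rw [Localization.localRingHom_mk']
    exact congrArg _ (Subtype.ext hs')
  let X := LocalizedModule p.asIdeal.primeCompl M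
  letI : Algebra Sp Rp := φ.toAlgebra
  letI : Module Sp X := Module.compHom X φ
  haveI : IsScalarTower Sp Rp X := IsScalarTower.of_algebraMap_smul fun _ _ => rfl
  haveI : IsScalarTower S Sp X := IsScalarTower.of_algebraMap_smul fun s x => by
    change φ (algebraMap S Sp s) • x = s • x
    rw [Localization.localRingHom_to_map, algebraMap_smul, algebraMap_smul]
  let f : M →ₗ[S] X := (LocalizedModule.mkLinearMap p.asIdeal.primeCompl M).restrictScalars S
  haveI hf : IsLocalizedModule P.asIdeal.primeCompl f := by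
    refine ⟨fun s => ?_, fun y => ?_, fun {x y} h => ?_⟩
    · rw [Module.End.isUnit_iff]
      have := (Module.End.isUnit_iff _).1 (IsLocalizedModule.map_units
        (LocalizedModule.mkLinearMap p.asIdeal.primeCompl M)
          (⟨algebraMap S R s, fun h => s.2 h⟩ : p.asIdeal.primeCompl))
      convert this using 1
      exact funext fun x => (algebraMap_smul R (s : S) x).symm
    · obtain ⟨⟨m, s⟩, hs⟩ := IsLocalizedModule.surj p.asIdeal.primeCompl
        (LocalizedModule.mkLinearMap p.asIdeal.primeCompl M) y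
      obtain ⟨s', hs'⟩ := hπ s.1
      have hmem : s' ∈ P.asIdeal.primeCompl := fun h => s.2 (hs' ▸ h)
      refine ⟨⟨m, ⟨s', hmem⟩⟩, ?_⟩
      change s' • y = f m
      exact ((algebraMap_smul R s' y).symm.trans (congrArg (· • y) hs')).trans hs
    · obtain ⟨c, hc⟩ := (IsLocalizedModule.eq_iff_exists p.asIdeal.primeCompl
        (LocalizedModule.mkLinearMap p.asIdeal.primeCompl M)).1 h
      obtain ⟨c', hc'⟩ := hπ c.1
      refine ⟨⟨c', fun h => c.2 (hc' ▸ h)⟩, ?_⟩
      change c' • x = c' • y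
      rw [← algebraMap_smul R c' x, ← algebraMap_smul R c' y, hc']
      exact hc
  let e : LocalizedModule P.asIdeal.primeCompl M ≃ₗ[Sp] X :=
    (IsLocalizedModule.iso P.asIdeal.primeCompl f).extendScalarsOfIsLocalization
      P.asIdeal.primeCompl Sp
  have hm : (maximalIdeal Sp).map (algebraMap Sp Rp) = maximalIdeal Rp :=
    IsLocalRing.map_maximalIdeal_of_surjective φ hφ
  have := ((localCohomology (maximalIdeal Sp) j).mapIso e.toModuleIso).toLinearEquiv.toEquiv.subsingleton_congr
  refine this.trans ((subsingleton_H_map_iff Rp (maximalIdeal Sp) X j).symm.trans ?_)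
  rw [hm]
  exact Iff.rfl

include hπ in
theorem covBy_comap_iff {p q : PrimeSpectrum R} :
    PrimeSpectrum.comap (algebraMap S R) p ⋖ PrimeSpectrum.comap (algebraMap S R) q ↔ p ⋖ q := by
  have hmono := RingHom.strictMono_comap_of_surjective hπ
  have hle : ∀ {x y : PrimeSpectrum R}, PrimeSpectrum.comap (algebraMap S R) x ≤
      PrimeSpectrum.comap (algebraMap S R) y ↔ x ≤ y := fun {x y} =>
    Ideal.comap_le_comap_iff_of_surjective _ hπ _ _
  refine ⟨fun h => ⟨lt_of_le_not_ge (hle.1 h.1.le) fun h' => h.1.not_ge (hle.2 h'),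
    fun r h1 h2 => h.2 (hmono h1) (hmono h2)⟩, fun h => ⟨hmono h.1, fun r h1 h2 => ?_⟩⟩
  obtain ⟨r', rfl⟩ := exists_comap_eq hπ h1.le
  exact h.2 (lt_of_le_not_ge (hle.1 h1.le) fun h' => h1.not_ge (hle.2 h'))
    (lt_of_le_not_ge (hle.1 h2.le) fun h' => h2.not_ge (hle.2 h'))
where
  exists_comap_eq (hπ : Function.Surjective (algebraMap S R)) {p : PrimeSpectrum R}
      {r : PrimeSpectrum S} (h : PrimeSpectrum.comap (algebraMap S R) p ≤ r) :
      ∃ r', PrimeSpectrum.comap (algebraMap S R) r' = r := by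
    have hk : RingHom.ker (algebraMap S R) ≤ r.asIdeal :=
      le_trans (Ideal.comap_mono bot_le) (show p.asIdeal.comap (algebraMap S R) ≤ r.asIdeal from h)
    refine ⟨⟨r.asIdeal.map (algebraMap S R), Ideal.map_isPrime_of_surjective hπ hk⟩, PrimeSpectrum.ext ?_⟩
    change Ideal.comap _ (Ideal.map _ _) = _
    rw [Ideal.comap_map_of_surjective' _ hπ, sup_eq_left.2 hk]

section Regular

variable [IsRegularRing S]

include hπ in
theorem finite_scalar [Module.Finite R M] : Module.Finite S M :=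
  have : Module.Finite S R := Module.Finite.of_surjective (Algebra.linearMap S R) hπ
  Module.Finite.trans R M

include hπ in
theorem exists_eq_comap_of_not_locVanish [IsNoetherianRing R] {P : PrimeSpectrum S} {j : ℕ}
    (h : ¬ LocVanish (R := S) M P j) : ∃ p, PrimeSpectrum.comap (algebraMap S R) p = P := by
  by_cases hk : RingHom.ker (algebraMap S R) ≤ P.asIdeal
  · exact ⟨⟨P.asIdeal.map (algebraMap S R), Ideal.map_isPrime_of_surjective hπ hk⟩,
      PrimeSpectrum.ext ((Ideal.comap_map_of_surjective' _ hπ _).trans (sup_eq_left.2 hk))⟩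
  · obtain ⟨t, ht, htP⟩ := SetLike.not_le_iff_exists.1 hk
    have : Subsingleton (LocalizedModule P.asIdeal.primeCompl M) :=
      LocalizedModule.subsingleton_iff.2 fun m => ⟨t, htP, by
        rw [← algebraMap_smul R t m, RingHom.mem_ker.1 ht, zero_smul]⟩
    exact absurd (subsingleton_H_of_subsingleton _ _ _) h

include hπ in
theorem height_Ici_comap {p q : PrimeSpectrum R} (hpq : p ≤ q) :
    Order.height (⟨q, hpq⟩ : Set.Ici p) =
      Order.height (⟨PrimeSpectrum.comap (algebraMap S R) q, Ideal.comap_mono hpq⟩ :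
        Set.Ici (PrimeSpectrum.comap (algebraMap S R) p)) := by
  let f : Set.Ici p → Set.Ici (PrimeSpectrum.comap (algebraMap S R) p) := fun x =>
    ⟨PrimeSpectrum.comap (algebraMap S R) x.1, Ideal.comap_mono x.2⟩
  have hle : ∀ {x y : Set.Ici p}, f x ≤ f y ↔ x ≤ y := fun {x y} =>
    Ideal.comap_le_comap_iff_of_surjective _ hπ _ _
  have hf : Function.Bijective f := by
    refine ⟨fun x y h => le_antisymm (hle.1 h.le) (hle.1 h.ge), fun y => ?_⟩
    obtain ⟨r, hr⟩ := covBy_comap_iff.exists_comap_eq hπ y.2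
    refine ⟨⟨r, (Ideal.comap_le_comap_iff_of_surjective _ hπ p.asIdeal r.asIdeal).1 ?_⟩, Subtype.ext hr⟩
    exact (show PrimeSpectrum.comap (algebraMap S R) p ≤ PrimeSpectrum.comap (algebraMap S R) r from
      hr ▸ y.2)
  exact (Order.height_orderIso ({ toEquiv := Equiv.ofBijective f hf, map_rel_iff' := hle } :
    Set.Ici p ≃o Set.Ici (PrimeSpectrum.comap (algebraMap S R) p)) ⟨q, hpq⟩).symm

include hπ in
theorem relCodim_eq_one_of_covBy {I : Ideal R} {p q : PrimeSpectrum R} (hp : ¬ I ≤ p.asIdeal)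
    (hq : I ≤ q.asIdeal) (h : p ⋖ q) : SGA2.relCodim I p = 1 := by
  refine le_antisymm ((iInf_le _ ⟨q, h.1.le, hq⟩).trans (le_of_eq ?_)) (le_iInf fun r => ?_)
  · rw [height_Ici_comap hπ h.1.le]
    have hcov := (covBy_comap_iff hπ).2 h
    have e := height_add_height_Ici (S := S) hcov.1.le
    rw [height_eq_succ_of_covBy hcov] at e
    exact ENat.add_right_injective_of_ne_top Ideal.height_ne_top_of_isPrime e
  · rw [Order.one_le_iff_pos, Order.height_pos]
    intro hmin
    have hle : r.1 ≤ p := hmin (b := (⟨p, Set.self_mem_Ici⟩ : Set.Ici p)) r.2.1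
    exact hp (r.2.2.trans hle)

include hπ in
/-- Finiteness theorem over a quotient of a regular ring. -/
theorem finite_H_of_quotient [IsNoetherianRing R] [Module.Finite R M] (I : Ideal R) (i : ℕ)
    (h : ∀ p : PrimeSpectrum R, ¬ I ≤ p.asIdeal → SGA2.relCodim I p = 1 →
      ∀ j, j + 1 = i → LocVanish (R := R) M p j) :
    Module.Finite R (LocCoh.H I i M) := by
  have := finite_scalar hπ M
  have hkey := exists_H_map_equiv R (I.comap (algebraMap S R)) M i
  rw [Ideal.map_comap_of_surjective _ hπ] at hkey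
  obtain ⟨φ, hφ⟩ := hkey
  have hfin : Module.Finite S (LocCoh.H (I.comap (algebraMap S R)) i M) := by
    refine finite_H_of_regular M _ i fun P Q hP hQ hcov j hj => by_contra fun hne => ?_
    obtain ⟨p, rfl⟩ := exists_eq_comap_of_not_locVanish hπ M hne
    obtain ⟨q, rfl⟩ := covBy_comap_iff.exists_comap_eq hπ hcov.1.le
    have hp : ¬ I ≤ p.asIdeal := fun hh => hP (Ideal.comap_mono hh)
    have hq : I ≤ q.asIdeal := (Ideal.comap_le_comap_iff_of_surjective _ hπ _ _).1 hQ
    exact hne ((locVanish_comap_iff hπ M p j).2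
      (h p hp (relCodim_eq_one_of_covBy hπ hp hq ((covBy_comap_iff hπ).1 hcov)) j hj))
  obtain ⟨n, s, hs⟩ := Module.Finite.exists_fin (R := S) (M := LocCoh.H (I.comap (algebraMap S R)) i M)
  refine ⟨Submodule.fg_def.2 ⟨Set.range fun k => φ.symm (s k), Set.finite_range _, eq_top_iff.2 ?_⟩⟩
  rintro z -
  obtain ⟨c, hc⟩ := (Submodule.mem_span_range_iff_exists_fun S).1
    (hs.ge (Submodule.mem_top (x := φ z)))
  refine (Submodule.mem_span_range_iff_exists_fun R).2 ⟨fun k => algebraMap S R (c k), φ.injective ?_⟩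
  rw [map_sum, ← hc]
  exact Finset.sum_congr rfl fun k _ => by rw [hφ, φ.apply_symm_apply]

include hπ in
/-- The codimension one case implies the general vanishing hypothesis. -/
theorem locVanish_of_relCodim [IsNoetherianRing R] [Module.Finite R M] (I : Ideal R) (i : ℕ)
    (h : ∀ p : PrimeSpectrum R, ¬ I ≤ p.asIdeal → SGA2.relCodim I p = 1 →
      ∀ j, j + 1 = i → LocVanish (R := R) M p j)
    {p : PrimeSpectrum R} (hp : ¬ I ≤ p.asIdeal) {c j : ℕ} (hc : SGA2.relCodim I p = c)
    (hij : j + c = i) : LocVanish (R := R) M p j := by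
  have := finite_scalar hπ M
  rw [SGA2.relCodim] at hc
  rcases isEmpty_or_nonempty {q : PrimeSpectrum R // p ≤ q ∧ I ≤ q.asIdeal} with he | hne
  · rw [iInf_of_empty] at hc
    exact absurd hc (ENat.top_ne_natCast c)
  obtain ⟨⟨q, hpq, hIq⟩, hq⟩ := csInf_mem (Set.range_nonempty
    fun q : {q : PrimeSpectrum R // p ≤ q ∧ I ≤ q.asIdeal} => Order.height (⟨q.1, q.2.1⟩ : Set.Ici p))
  rw [← locVanish_comap_iff hπ M p j]
  refine locVanish_of_codim_one M (I.comap (algebraMap S R)) i (fun P Q hP hQ hcov k hk => ?_)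
    (fun hh => hp ((Ideal.comap_le_comap_iff_of_surjective _ hπ _ _).1 hh))
    (q := PrimeSpectrum.comap (algebraMap S R) q) (Ideal.comap_mono hpq) (Ideal.comap_mono hIq)
    (c := c) ?_ hij
  · by_contra hne
    obtain ⟨p', rfl⟩ := exists_eq_comap_of_not_locVanish hπ M hne
    obtain ⟨q', rfl⟩ := covBy_comap_iff.exists_comap_eq hπ hcov.1.le
    have hp' : ¬ I ≤ p'.asIdeal := fun hh => hP (Ideal.comap_mono hh)
    have hq' : I ≤ q'.asIdeal := (Ideal.comap_le_comap_iff_of_surjective _ hπ _ _).1 hQ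
    exact hne ((locVanish_comap_iff hπ M p' k).2
      (h p' hp' (relCodim_eq_one_of_covBy hπ hp' hq' ((covBy_comap_iff hπ).1 hcov)) k hk))
  · rw [← height_Ici_comap hπ hpq]
    exact hq.trans hc

include hπ in
/-- Annihilator theorem over a quotient of a regular ring. -/
theorem minAdjDepth_le_finDimRel [IsNoetherianRing R] [Module.Finite R M] (a b : Ideal R) :
    LocCoh.minAdjDepth a b M ≤ LocCoh.finDimRel a b M := by
  have := finite_scalar hπ M
  refine le_iInf₂ fun i hb => not_lt.1 fun hlt => hb fun β hβ => ?_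
  obtain ⟨β', rfl⟩ := hπ β
  have hkey := exists_H_map_equiv R (a.comap (algebraMap S R)) M i
  rw [Ideal.map_comap_of_surjective _ hπ] at hkey
  obtain ⟨φ, hφ⟩ := hkey
  suffices hK : ∃ K : ℕ, ∀ z : LocCoh.H (a.comap (algebraMap S R)) i M, β' ^ K • z = 0 by
    obtain ⟨K, hK⟩ := hK
    refine ⟨K, Module.mem_annihilator.2 fun z => φ.injective ?_⟩
    rw [← map_pow, hφ, hK, map_zero]
  refine exists_pow_smul_H_eq_zero_of_regular M _ i β' i.lt_succ_self fun P Q hβP hPQ hQ j hne => ?_
  obtain ⟨p, rfl⟩ := exists_eq_comap_of_not_locVanish hπ M hne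
  obtain ⟨q, rfl⟩ := covBy_comap_iff.exists_comap_eq hπ hPQ
  have hpq : p ≤ q := (Ideal.comap_le_comap_iff_of_surjective _ hπ _ _).1 hPQ
  have haq : a ≤ q.asIdeal := (Ideal.comap_le_comap_iff_of_surjective _ hπ _ _).1 hQ
  have hdepth : LocCoh.depth (Localization.AtPrime p.asIdeal)
      (LocalizedModule p.asIdeal.primeCompl M) ≤ (j : ℕ∞) := not_lt.1 fun hlt' =>
    hne ((locVanish_comap_iff hπ M p j).2 (subsingleton_H_of_lt_idealDepth _ _ hlt'))
  have h1 : ((i + 1 : ℕ) : ℕ∞) ≤ LocCoh.adjDepth a M p := by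
    refine le_trans ?_ (iInf₂_le (f := fun p (_ : ¬ b ≤ p.asIdeal) => LocCoh.adjDepth a M p) p
      fun hb' => hβP (hb' hβ))
    rw [Nat.cast_add, Nat.cast_one]
    exact Order.add_one_le_of_lt hlt
  refine h1.trans (add_le_add hdepth ?_)
  refine (Ideal.height_mono (Ideal.map_mono (sup_le haq hpq))).trans (le_of_eq ?_)
  let g : S →+* R ⧸ p.asIdeal := (Ideal.Quotient.mk p.asIdeal).comp (algebraMap S R)
  have hg : Function.Surjective g := Ideal.Quotient.mk_surjective.comp hπ
  have hker : RingHom.ker g = p.asIdeal.comap (algebraMap S R) := by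
    rw [← RingHom.comap_ker, Ideal.mk_ker]
  let e : (S ⧸ p.asIdeal.comap (algebraMap S R)) ≃+* R ⧸ p.asIdeal :=
    (Ideal.quotEquivOfEq hker.symm).trans (RingHom.quotientKerEquivOfSurjective hg)
  refine Eq.trans ?_ (RingEquiv.height_map e _)
  congr 1
  change _ = Ideal.map e (Ideal.map (Ideal.Quotient.mk _) (q.asIdeal.comap (algebraMap S R)))
  rw [← Ideal.map_coe e, Ideal.map_map,
    show (e : (S ⧸ p.asIdeal.comap (algebraMap S R)) →+* R ⧸ p.asIdeal).comp (Ideal.Quotient.mk _) =
      (Ideal.Quotient.mk p.asIdeal).comp (algebraMap S R) from RingHom.ext fun x => rfl,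
    ← Ideal.map_map, Ideal.map_comap_of_surjective _ hπ]

end Regular

end Groth.Agent.H4LC
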