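import Groth.Agent.H4LC.Transform2
import Mathlib.Algebra.Module.LocalizedModule.Basic

/-!
# The ideal transform of a principal ideal
-/

set_option autoImplicit false
set_option linter.unusedSectionVars false

universe u

open CategoryTheory CategoryTheory.Limits Opposite

namespace Groth.Agent.H4LC

variable {R : Type u} [CommRing R] [IsNoetherianRing R] (a : R)
  (M : Type u) [AddCommGroup M] [Module R M]

/-- `a ^ t` as an element of `(a) ^ t`. -/
abbrev powElt (t : ℕ) : ↥(Ideal.span {a} ^ t : Ideal R) :=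
  ⟨a ^ t, Ideal.pow_mem_pow (Ideal.mem_span_singleton_self a) t⟩

/-- `f ↦ f(a^t)/a^t`. -/
noncomputable def awayAux (t : ℕ) :
    (↥(Ideal.span {a} ^ t : Ideal R) →ₗ[R] M) →ₗ[R] LocalizedModule (Submonoid.powers a) M where
  toFun f := LocalizedModule.mk (f (powElt a t)) ⟨a ^ t, pow_mem (Submonoid.mem_powers a) t⟩
  map_add' f g := by
    rw [LinearMap.add_apply, LocalizedModule.mk_add_mk, LocalizedModule.mk_eq]
    refine ⟨1, ?_⟩
    simp [smul_add, smul_smul, Submonoid.smul_def]
  map_smul' r f := by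
    rw [LinearMap.smul_apply, RingHom.id_apply, LocalizedModule.smul'_mk]

theorem mk_eq_of_smul {t m : ℕ} (h : t ≤ m) (f : ↥(Ideal.span {a} ^ t : Ideal R) →ₗ[R] M) :
    f (powIncl (Ideal.span {a}) h (powElt a m)) = a ^ (m - t) • f (powElt a t) := by
  rw [← map_smul]
  exact congrArg f (Subtype.ext (by simp [← pow_add, Nat.sub_add_cancel h]))

theorem awayAux_restrict {n m : ℕ} (h : n ≤ m) (f : ↥(Ideal.span {a} ^ n : Ideal R) →ₗ[R] M) :
    awayAux a M m (f ∘ₗ powIncl (Ideal.span {a}) h) = awayAux a M n f := by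
  change LocalizedModule.mk (f (powIncl (Ideal.span {a}) h (powElt a m))) _ =
    LocalizedModule.mk (f (powElt a n)) _
  rw [mk_eq_of_smul a M h f, LocalizedModule.mk_eq]
  refine ⟨1, ?_⟩
  simp [smul_smul, Submonoid.smul_def, ← pow_add, Nat.add_sub_cancel' h]

/-- `D_{(a)}(M) → M_a`. -/
noncomputable def toAway :
    LocCoh.DT (Ideal.span {a}) M →ₗ[R] LocalizedModule (Submonoid.powers a) M :=
  liftDT (Ideal.span {a}) (ModuleCat.of R M) (awayAux a M) (awayAux_restrict a M)

theorem toAway_ι (t : ℕ) (f : ↥(Ideal.span {a} ^ t : Ideal R) →ₗ[R] M) :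
    toAway a M (ιDT (Ideal.span {a}) (ModuleCat.of R M) t f) =
      LocalizedModule.mk (f (powElt a t)) ⟨a ^ t, pow_mem (Submonoid.mem_powers a) t⟩ :=
  liftDT_ι (Ideal.span {a}) (ModuleCat.of R M) (awayAux a M) (awayAux_restrict a M) t f

theorem exists_eq_mul_pow {t : ℕ} (x : ↥(Ideal.span {a} ^ t : Ideal R)) :
    ∃ r : R, x = r • powElt a t := by
  have hx : (x : R) ∈ Ideal.span {a ^ t} := by rw [← Ideal.span_singleton_pow]; exact x.2
  obtain ⟨r, hr⟩ := Ideal.mem_span_singleton'.1 hx
  exact ⟨r, Subtype.ext hr.symm⟩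

theorem exists_ann_pow_stable :
    ∃ k : ℕ, ∀ (j : ℕ) (r : R), r * a ^ (k + j) = 0 → r * a ^ k = 0 := by
  let A : ℕ →o Ideal R :=
    ⟨fun k => LinearMap.ker (LinearMap.mulRight R (a ^ k)), fun i j hij r hr => by
      rw [LinearMap.mem_ker, LinearMap.mulRight_apply] at hr ⊢
      rw [← Nat.add_sub_cancel' hij, pow_add, ← mul_assoc, hr, zero_mul]⟩
  obtain ⟨k, hk⟩ := monotone_stabilizes_iff_noetherian.2 inferInstance A
  refine ⟨k, fun j r hr => ?_⟩
  have : r ∈ A (k + j) := hr
  rw [← hk (k + j) (k.le_add_right j)] at this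
  exact this

theorem toAway_bijective : Function.Bijective (toAway a M) := by
  constructor
  · rw [injective_iff_map_eq_zero]
    intro z hz
    obtain ⟨t, f, rfl⟩ := exists_rep_DT (Ideal.span {a}) (ModuleCat.of R M) z
    rw [toAway_ι, ← LocalizedModule.zero_mk 1, LocalizedModule.mk_eq] at hz
    obtain ⟨⟨_, k, rfl⟩, hk⟩ := hz
    simp only [Submonoid.smul_def, one_smul, smul_zero] at hk
    refine (ιDT_eq_zero_iff _ _ f).2 ⟨t + k, t.le_add_right k, LinearMap.ext fun x => ?_⟩
    obtain ⟨r, rfl⟩ := exists_eq_mul_pow a x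
    rw [map_smul, LinearMap.comp_apply, mk_eq_of_smul a M (t.le_add_right k) f,
      Nat.add_sub_cancel_left]
    simp only [LinearMap.zero_apply]
    rw [hk, smul_zero]
  · intro z
    induction z using LocalizedModule.induction_on with
    | h m s =>
      obtain ⟨_, t, rfl⟩ := s
      obtain ⟨k, hk⟩ := exists_ann_pow_stable a
      have hspec : ∀ r : R, r • powElt a (k + t) = 0 → r • (a ^ k • m) = 0 := fun r hr => by
        rw [smul_smul, hk t r (congrArg Subtype.val hr), zero_smul]
      let φ : R →ₗ[R] ↥(Ideal.span {a} ^ (k + t) : Ideal R) :=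
        LinearMap.toSpanSingleton R _ (powElt a (k + t))
      have hφ : Function.Surjective φ := fun x => by
        obtain ⟨r, rfl⟩ := exists_eq_mul_pow a x; exact ⟨r, rfl⟩
      have hle : LinearMap.ker φ ≤ LinearMap.ker (LinearMap.toSpanSingleton R M (a ^ k • m)) :=
        fun r hr => LinearMap.mem_ker.2 (hspec r (LinearMap.mem_ker.1 hr))
      let f : ↥(Ideal.span {a} ^ (k + t) : Ideal R) →ₗ[R] M :=
        (LinearMap.ker φ).liftQ (LinearMap.toSpanSingleton R M (a ^ k • m)) hle ∘ₗ (φ.quotKerEquivOfSurjective hφ).symm.toLinearMap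
      have hf : f (powElt a (k + t)) = a ^ k • m := by
        have h1 : (φ.quotKerEquivOfSurjective hφ).symm (powElt a (k + t)) =
            Submodule.Quotient.mk 1 := by
          rw [LinearEquiv.symm_apply_eq, LinearMap.quotKerEquivOfSurjective_apply_mk]
          exact (one_smul R _).symm
        change (LinearMap.ker φ).liftQ (LinearMap.toSpanSingleton R M (a ^ k • m)) hle
          ((φ.quotKerEquivOfSurjective hφ).symm _) = _
        rw [h1, Submodule.liftQ_apply]
        exact one_smul R _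
      refine ⟨ιDT _ (ModuleCat.of R M) (k + t) f, ?_⟩
      rw [toAway_ι, hf, LocalizedModule.mk_eq]
      refine ⟨1, ?_⟩
      simp [Submonoid.smul_def, smul_smul, ← pow_add, add_comm t k]

/-- `D_{(a)}(M) ≅ M_a`. -/
noncomputable def awayEquiv :
    LocCoh.DT (Ideal.span {a}) M ≃ₗ[R] LocalizedModule (Submonoid.powers a) M :=
  LinearEquiv.ofBijective (toAway a M) (toAway_bijective a M)

theorem awayEquiv_comp_toDT :
    (awayEquiv a M).toLinearMap ∘ₗ LocCoh.toDT (Ideal.span {a}) M =
      LocalizedModule.mkLinearMap (Submonoid.powers a) M := by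
  refine LinearMap.ext fun m => ?_
  change toAway a M (LocCoh.toDT (Ideal.span {a}) M m) = _
  rw [toDT_eq (Ideal.span {a}) M m 0, toAway_ι, LocalizedModule.mkLinearMap_apply,
    LocalizedModule.mk_eq]
  exact ⟨1, by simp [Submonoid.smul_def]⟩

end Groth.Agent.H4LC
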