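import Groth.Agent.H4LC.Cd
import Groth.Agent.H4LC.Away
import Mathlib.LinearAlgebra.TensorProduct.RightExactness

/-!
# Acyclicity of injectives under change of rings
-/

set_option autoImplicit false
set_option linter.unusedSectionVars false

universe u

open TensorProduct

namespace Groth.Agent.H4LC

variable {R : Type u} [CommRing R] [IsNoetherianRing R]

/-- A class of modules stable under the `f`-torsion / `f`-invertible decomposition is acyclic. -/
theorem subsingleton_H_of_class {ι : Type*} (Φ : ι → ModuleCat.{u} R) (s : Finset R)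
    (h : ∀ c, ∀ f ∈ s, ∃ (c' : ι) (Q : ModuleCat.{u} R) (v : Φ c' →ₗ[R] Φ c) (w : Φ c →ₗ[R] Q),
      Function.Injective v ∧ Function.Surjective w ∧ Function.Exact v w ∧
      LocCoh.IsPowerTorsion (Ideal.span {f}) (Φ c') ∧ Function.Bijective fun x : Q => f • x) :
    ∀ (c : ι) (i : ℕ), 0 < i → Subsingleton (LocCoh.H (Ideal.span (s : Set R)) i (Φ c)) := by
  classical
  suffices key : ∀ t, t ⊆ s → ∀ (c : ι) (i : ℕ), 0 < i →
      Subsingleton (LocCoh.H (Ideal.span (t : Set R)) i (Φ c)) from key s subset_rfl
  intro t
  induction t using Finset.induction with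
  | empty =>
    intro _ c i hi
    refine subsingleton_H_of_isPowerTorsion _ i _ (fun m => ⟨1, fun a ha => ?_⟩) hi
    rw [pow_one, Finset.coe_empty, Ideal.span_empty, Ideal.mem_bot] at ha
    rw [ha, zero_smul]
  | insert f t hf ih =>
    intro hsub c i hi
    obtain ⟨c', Q, v, w, hv, hw, hvw, htor, hb⟩ := h c f (hsub (Finset.mem_insert_self f t))
    rw [Finset.coe_insert, Ideal.span_insert, sup_comm]
    refine subsingleton_H_mid _ hv hw hvw i ?_
      (subsingleton_H_of_bijective _ (Submodule.mem_sup_right (Ideal.mem_span_singleton_self f))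
        hb i)
    exact (subsingleton_H_sup_iff _ _ _ htor i).2
      (ih (fun a ha => hsub (Finset.mem_insert_of_mem ha)) c' i hi)

/-- An injective module over a Noetherian ring is divisible by `g` modulo `g`-torsion. -/
theorem exists_sub_smul_mem_torsionSub {E : Type u} [AddCommGroup E] [Module R E]
    [Module.Injective R E] (g : R) (e : E) :
    ∃ e' : E, g • e' - e ∈ DRing.torsionSub (Ideal.span {g}) E := by
  obtain ⟨k, hk⟩ := exists_ann_pow_stable g
  let ψ : R →ₗ[R] R := LinearMap.mulRight R (g ^ (k + 1))
  let φ : R →ₗ[R] E := LinearMap.toSpanSingleton R E (g ^ k • e)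
  have hle : LinearMap.ker ψ ≤ LinearMap.ker φ := fun r hr => by
    rw [LinearMap.mem_ker, LinearMap.mulRight_apply] at hr
    rw [LinearMap.mem_ker, LinearMap.toSpanSingleton_apply, smul_smul, hk 1 r hr, zero_smul]
  obtain ⟨h, hh⟩ := Module.Baer.of_injective (inferInstance : Module.Injective R E)
    (LinearMap.range ψ)
    ((LinearMap.ker ψ).liftQ φ hle ∘ₗ ψ.quotKerEquivRange.symm.toLinearMap)
  refine ⟨h 1, k, fun a ha => ?_⟩
  rw [Ideal.span_singleton_pow, Ideal.mem_span_singleton'] at ha
  obtain ⟨r, rfl⟩ := ha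
  have h1 : h (g ^ (k + 1)) = g ^ k • e := by
    have h2 := hh (ψ 1) (LinearMap.mem_range_self ψ 1)
    rw [LinearMap.comp_apply, LinearEquiv.coe_coe, LinearMap.quotKerEquivRange_symm_apply_image,
      Submodule.mkQ_apply, Submodule.liftQ_apply] at h2
    simpa [ψ, φ] using h2
  rw [mul_smul, smul_sub, smul_smul, ← pow_succ, ← map_smul, smul_eq_mul, mul_one, h1, sub_self,
    smul_zero]

theorem bijective_smul_quotient_torsion {E : Type u} [AddCommGroup E] [Module R E]
    [Module.Injective R E] (g : R) :
    Function.Bijective fun x : E ⧸ DRing.torsionSub (Ideal.span {g}) E => g • x := by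
  constructor
  · intro a b hab
    obtain ⟨x, rfl⟩ := Submodule.Quotient.mk_surjective _ a
    obtain ⟨y, rfl⟩ := Submodule.Quotient.mk_surjective _ b
    obtain ⟨n, hn⟩ := (Submodule.Quotient.eq _).1 hab
    refine (Submodule.Quotient.eq _).2 ⟨n + 1, fun c hc => ?_⟩
    rw [Ideal.span_singleton_pow, Ideal.mem_span_singleton'] at hc
    obtain ⟨r, rfl⟩ := hc
    have := hn (r * g ^ n) (Ideal.mul_mem_left _ r
      (Ideal.pow_mem_pow (Ideal.mem_span_singleton_self g) n))
    rw [← smul_sub, smul_smul] at this
    rwa [pow_succ, ← mul_assoc]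
  · intro a
    obtain ⟨e, rfl⟩ := Submodule.Quotient.mk_surjective _ a
    obtain ⟨e', he'⟩ := exists_sub_smul_mem_torsionSub g e
    exact ⟨Submodule.Quotient.mk e', (Submodule.Quotient.eq _).2 he'⟩

theorem isPowerTorsion_span_singleton_of_pow {N : Type u} [AddCommGroup N] [Module R N] (f : R)
    (h : ∀ m : N, ∃ n : ℕ, f ^ n • m = 0) : LocCoh.IsPowerTorsion (Ideal.span {f}) N := fun m => by
  obtain ⟨n, hn⟩ := h m
  refine ⟨n, fun a ha => ?_⟩
  rw [Ideal.span_singleton_pow, Ideal.mem_span_singleton'] at ha
  obtain ⟨r, rfl⟩ := ha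
  rw [mul_smul, hn, smul_zero]

variable (R' : Type u) [CommRing R'] [IsNoetherianRing R'] [Algebra R R']

/-- Restriction of an injective module is `Γ_I`-acyclic. -/
theorem subsingleton_H_restrict_injective (I : Ideal R) (E : Type u) [AddCommGroup E] [Module R' E]
    [Module R E] [IsScalarTower R R' E] [Module.Injective R' E] (i : ℕ) (hi : 0 < i) :
    Subsingleton (LocCoh.H I i E) := by
  let σ := algebraMap R R'
  let Φ : {X : ModuleCat.{u} R' // Module.Injective R' X} → ModuleCat.{u} R := fun X =>
    (ModuleCat.restrictScalars σ).obj X.1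
  obtain ⟨s, hs⟩ := IsNoetherian.noetherian I
  have key := subsingleton_H_of_class Φ s (fun c f _ => ?_)
    ⟨ModuleCat.of R' E, inferInstanceAs (Module.Injective R' E)⟩ i hi
  · rw [← hs]
    refine subsingleton_H_congr _ ?_ i key
    exact { toFun := fun x => x, map_add' := fun _ _ => rfl, invFun := fun x => x,
            left_inv := fun _ => rfl, right_inv := fun _ => rfl,
            map_smul' := fun r x => algebraMap_smul R' r (show E from x) }
  · obtain ⟨X, hX⟩ := c
    let T := DRing.torsionSub (Ideal.span {σ f}) X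
    refine ⟨⟨ModuleCat.of R' T, injective_torsionSub _ _ hX⟩,
      (ModuleCat.restrictScalars σ).obj (ModuleCat.of R' (X ⧸ T)),
      ((ModuleCat.restrictScalars σ).map (ModuleCat.ofHom T.subtype)).hom,
      ((ModuleCat.restrictScalars σ).map (ModuleCat.ofHom T.mkQ)).hom,
      T.injective_subtype, T.mkQ_surjective, LinearMap.exact_subtype_mkQ T, ?_,
      bijective_smul_quotient_torsion (σ f)⟩
    refine isPowerTorsion_span_singleton_of_pow f fun m => ?_
    obtain ⟨n, hn⟩ := (show T from m).2
    refine ⟨n, ?_⟩
    change σ (f ^ n) • (show T from m) = 0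
    rw [map_pow]
    exact Subtype.ext (hn _ (Ideal.pow_mem_pow (Ideal.mem_span_singleton_self _) n))

/-- Base change of an injective module is `Γ`-acyclic. -/
theorem subsingleton_H_tensor_injective (I : Ideal R) (E : Type u) [AddCommGroup E] [Module R E]
    [Module.Injective R E] (i : ℕ) (hi : 0 < i) :
    Subsingleton (LocCoh.H (I.map (algebraMap R R')) i (R' ⊗[R] E)) := by
  classical
  let Φ : {X : ModuleCat.{u} R // Module.Injective R X} → ModuleCat.{u} R' := fun X =>
    ModuleCat.of R' (R' ⊗[R] X.1)
  obtain ⟨s, hs⟩ := IsNoetherian.noetherian I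
  have key := subsingleton_H_of_class Φ (s.image (algebraMap R R')) (fun c g hg => ?_)
    ⟨ModuleCat.of R E, inferInstanceAs (Module.Injective R E)⟩ i hi
  · rw [← hs, Ideal.map_span, ← Finset.coe_image]
    exact key
  · obtain ⟨X, hX⟩ := c
    obtain ⟨f, -, rfl⟩ := Finset.mem_image.1 hg
    let T := DRing.torsionSub (Ideal.span {f}) X
    have hT : Module.Injective R T := injective_torsionSub _ _ hX
    obtain ⟨r, hr⟩ := Module.Injective.out T.subtype T.injective_subtype LinearMap.id
    have hinj : Function.Injective (T.subtype.baseChange R') := by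
      refine Function.LeftInverse.injective (g := r.baseChange R') fun x => ?_
      rw [← LinearMap.comp_apply, ← LinearMap.baseChange_comp,
        show r ∘ₗ T.subtype = LinearMap.id from LinearMap.ext hr, LinearMap.baseChange_id,
        LinearMap.id_apply]
    refine ⟨⟨ModuleCat.of R T, hT⟩, ModuleCat.of R' (R' ⊗[R] (X ⧸ T)), T.subtype.baseChange R',
      T.mkQ.baseChange R', hinj, LinearMap.lTensor_surjective R' T.mkQ_surjective,
      lTensor_exact R' (LinearMap.exact_subtype_mkQ T) T.mkQ_surjective, ?_, ?_⟩
    · refine isPowerTorsion_span_singleton_of_pow _ fun m => ?_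
      induction m using TensorProduct.induction_on with
      | zero => exact ⟨0, smul_zero _⟩
      | tmul a x =>
        obtain ⟨n, hn⟩ := x.2
        refine ⟨n, ?_⟩
        rw [← map_pow]
        change algebraMap R R' (f ^ n) • (a ⊗ₜ[R] x) = (0 : R' ⊗[R] T)
        rw [algebraMap_smul, ← TensorProduct.tmul_smul,
          show f ^ n • x = 0 from
            Subtype.ext (hn _ (Ideal.pow_mem_pow (Ideal.mem_span_singleton_self _) n)),
          TensorProduct.tmul_zero]
      | add x y hx hy =>
        obtain ⟨n, hn⟩ := hx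
        obtain ⟨k, hk⟩ := hy
        refine ⟨n + k, ?_⟩
        have hxn : algebraMap R R' f ^ (n + k) • x = 0 := by
          rw [add_comm, pow_add, mul_smul, hn, smul_zero]
        have hyk : algebraMap R R' f ^ (n + k) • y = 0 := by
          rw [pow_add, mul_smul, hk, smul_zero]
        rw [smul_add, hxn, hyk, add_zero]
    · let e := LinearEquiv.ofBijective (f • LinearMap.id : (X ⧸ T) →ₗ[R] (X ⧸ T))
        (bijective_smul_quotient_torsion f)
      have : (fun x : R' ⊗[R] (X ⧸ T) => algebraMap R R' f • x) = e.toLinearMap.lTensor R' := by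
        funext x
        rw [algebraMap_smul, show e.toLinearMap = f • LinearMap.id from rfl, LinearMap.lTensor_smul,
          LinearMap.lTensor_id]
        rfl
      change Function.Bijective fun x : R' ⊗[R] (X ⧸ T) => algebraMap R R' f • x
      rw [this]
      exact (e.lTensor R').bijective

end Groth.Agent.H4LC
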