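import Groth.Agent.H4LC.ExtColimit

/-!
# Local cohomology and ideal transforms commute with filtered colimits
-/

set_option autoImplicit false
set_option linter.unusedSectionVars false

universe u

open CategoryTheory CategoryTheory.Limits Opposite CategoryTheory.Abelian

namespace Groth.Agent.H4LC

variable {R : Type u} [CommRing R] [IsNoetherianRing R] (I : Ideal R) (i : ℕ)

instance finite_quotSys_obj (n : ℕ) : Module.Finite R ((quotSys I).obj (op n)) :=
  inferInstanceAs (Module.Finite R (R ⧸ I ^ n))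

/-- Every class in `H^i_I(M)` comes from a finitely generated submodule. -/
theorem exists_fg_H (M : Type u) [AddCommGroup M] [Module R M] (z : LocCoh.H I i M) :
    ∃ S : Submodule R M, S.FG ∧ ∃ w : LocCoh.H I i S, Hmap I S.subtype i w = z := by
  obtain ⟨n, x, rfl⟩ := exists_rep (quotSys I) i (ModuleCat.of R M) z
  obtain ⟨S, hS, y, rfl⟩ := exists_fg_ext i ((quotSys I).obj (op n)) x
  exact ⟨S, hS, ι (quotSys I) i (ModuleCat.of R S) n y,
    map_ι (quotSys I) i (ModuleCat.ofHom S.subtype) n y⟩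

theorem subsingleton_H_of_fg (M : Type u) [AddCommGroup M] [Module R M]
    (h : ∀ S : Submodule R M, S.FG → Subsingleton (LocCoh.H I i S)) :
    Subsingleton (LocCoh.H I i M) := by
  refine subsingleton_of_forall_eq 0 fun z => ?_
  obtain ⟨S, hS, w, rfl⟩ := exists_fg_H I i M z
  rw [@Subsingleton.elim _ (h S hS) w 0, map_zero]

variable {J : Type u} [SmallCategory J] [IsFiltered J] (F : J ⥤ ModuleCat.{u} R)

theorem preservesColimit_extColim (G : ℕᵒᵖ ⥤ ModuleCat.{u} R)
    [∀ n, Module.Finite R (G.obj (op n))] : PreservesColimit F (extColim G i) := by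
  refine preservesColimit_of_elementwise F (extColim G i) (fun z => ?_) fun j y hy => ?_
  · obtain ⟨n, x, rfl⟩ := exists_rep G i (colimit F) z
    obtain ⟨j, y, rfl⟩ := exists_ext_rep F i (G.obj (op n)) x
    exact ⟨j, ι G i (F.obj j) n y, map_ι G i (colimit.ι F j) n y⟩
  · obtain ⟨n, x, rfl⟩ := exists_rep G i (F.obj j) y
    rw [map_ι, ι_eq_zero_iff] at hy
    obtain ⟨m, hnm, hm⟩ := hy
    rw [← Abelian.Ext.comp_assoc_of_third_deg_zero] at hm
    obtain ⟨k, a, ha⟩ := exists_ext_eq_zero F i (G.obj (op m)) j _ hm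
    exact ⟨k, a, by rw [← ι_tr G i (F.obj j) hnm, map_ι]; exact (congrArg _ ha).trans (map_zero _)⟩

theorem preservesColimit_localCohomology : PreservesColimit F (localCohomology I i) :=
  preservesColimit_extColim i F (quotSys I)

theorem preservesColimit_idealTransform : PreservesColimit F (LocCoh.idealTransform I) := by
  refine preservesColimit_of_elementwise F (LocCoh.idealTransform I) (fun z => ?_) fun j y hy => ?_
  · obtain ⟨n, f, rfl⟩ := exists_rep_DT I (colimit F) z
    obtain ⟨j, g, hg⟩ := exists_lift_colimit F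
      (N := ModuleCat.of R ↥(I ^ n : Ideal R)) (ModuleCat.ofHom f)
    exact ⟨j, ιDT I (F.obj j) n g.hom, (map_ιDT I (colimit.ι F j) n g.hom).trans
      (congrArg (ιDT I (colimit F) n) (congrArg ModuleCat.Hom.hom hg))⟩
  · obtain ⟨n, f, rfl⟩ := exists_rep_DT I (F.obj j) y
    rw [map_ιDT, ιDT_eq_zero_iff] at hy
    obtain ⟨m, hnm, hm⟩ := hy
    obtain ⟨k, a, ha⟩ := exists_comp_map_eq_zero F
      (N := ModuleCat.of R ↥(I ^ m : Ideal R)) (ModuleCat.ofHom (f ∘ₗ powIncl I hnm))
      (ModuleCat.hom_ext hm)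
    refine ⟨k, a, (map_ιDT I (F.map a) n f).trans ?_⟩
    exact (ιDT_eq_zero_iff I _ _).2 ⟨m, hnm, congrArg ModuleCat.Hom.hom ha⟩

end Groth.Agent.H4LC
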