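import Groth.Agent.H4LC.Resolution
import Groth.Agent.H4LC.Hiso
import Groth.Agent.H4LC.Colimit
import Mathlib.RingTheory.Ideal.Operations
import Mathlib.RingTheory.KrullDimension.Module
import Mathlib.RingTheory.Ideal.AssociatedPrime.Finiteness

/-!
# Cohomological dimension
-/

set_option autoImplicit false
set_option linter.unusedSectionVars false

universe u

open CategoryTheory CategoryTheory.Limits Opposite

namespace Groth.Agent.H4LC

variable {R : Type u} [CommRing R] (I : Ideal R)

theorem subsingleton_H_congr {M N : Type u} [AddCommGroup M] [Module R M] [AddCommGroup N]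
    [Module R N] (e : M ≃ₗ[R] N) (i : ℕ) (h : Subsingleton (LocCoh.H I i M)) :
    Subsingleton (LocCoh.H I i N) :=
  ((localCohomology I i).mapIso e.toModuleIso).toLinearEquiv.symm.toEquiv.subsingleton

theorem subsingleton_H_of_subsingleton (M : Type u) [AddCommGroup M] [Module R M] [Subsingleton M]
    (i : ℕ) : Subsingleton (LocCoh.H I i M) := by
  refine subsingleton_of_forall_eq 0 fun z => ?_
  have h : Hmap I (0 • LinearMap.id : M →ₗ[R] M) i z = Hmap I (LinearMap.id : M →ₗ[R] M) i z := by
    rw [show (0 • LinearMap.id : M →ₗ[R] M) = LinearMap.id from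
      LinearMap.ext fun m => Subsingleton.elim _ _]
  rw [show (0 • LinearMap.id : M →ₗ[R] M) = (0 : R) • LinearMap.id by simp, Hmap_smul_id,
    Hmap_id, zero_smul] at h
  exact h.symm

theorem subsingleton_H_of_bijective {M : Type u} [AddCommGroup M] [Module R M] {f : R} (hf : f ∈ I)
    (hb : Function.Bijective fun m : M => f • m) (i : ℕ) : Subsingleton (LocCoh.H I i M) := by
  let e : M ≃ₗ[R] M := LinearEquiv.ofBijective (f • LinearMap.id) hb
  have hinj : ∀ z : LocCoh.H I i M, f • z = 0 → z = 0 := fun z hz => by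
    have h1 : Hmap I (e.symm.toLinearMap ∘ₗ (f • LinearMap.id : M →ₗ[R] M)) i z = z := by
      rw [show e.symm.toLinearMap ∘ₗ (f • LinearMap.id : M →ₗ[R] M) = LinearMap.id from
        LinearMap.ext fun m => e.symm_apply_apply m, Hmap_id]
      rfl
    rw [Hmap_comp, LinearMap.comp_apply, Hmap_smul_id, hz, map_zero] at h1
    exact h1.symm
  refine subsingleton_of_forall_eq 0 fun z => ?_
  obtain ⟨n, hn⟩ := isPowerTorsion_H I i M z
  have hxz : f ^ n • z = 0 := hn _ (Ideal.pow_mem_pow hf n)
  clear hn
  induction n generalizing z with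
  | zero => simpa using hxz
  | succ k ih => exact hinj z (ih (f • z) (by rw [smul_smul, ← pow_succ]; exact hxz))

theorem torsionSub_sup_eq (K : Ideal R) {X : Type u} [AddCommGroup X] [Module R X]
    (h : LocCoh.IsPowerTorsion K X) : DRing.torsionSub (I ⊔ K) X = DRing.torsionSub I X := by
  ext x
  constructor
  · rintro ⟨n, hn⟩
    exact ⟨n, fun a ha => hn a (Ideal.pow_right_mono le_sup_left n ha)⟩
  · rintro ⟨n, hn⟩
    obtain ⟨m, hm⟩ := h x
    refine ⟨n + m, fun a ha => ?_⟩
    obtain ⟨b, hb, c, hc, rfl⟩ := Submodule.mem_sup.1 (Ideal.sup_pow_add_le_pow_sup_pow ha)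
    rw [add_smul, hn b hb, hm c hc, add_zero]

/-- `Γ_{I+K} = Γ_I` on complexes of `K`-torsion modules. -/
noncomputable def gammaCxSupIso (K : Ideal R) {M : ModuleCat.{u} R} (X : InjectiveResolution M)
    (hX : ∀ n, LocCoh.IsPowerTorsion K (X.cocomplex.X n)) : gammaCx (I ⊔ K) X ≅ gammaCx I X :=
  HomologicalComplex.Hom.isoOfComponents
    (fun n => (LinearEquiv.ofEq _ _ (torsionSub_sup_eq I K (hX n))).toModuleIso)
    (fun i j _ => by
      apply ModuleCat.hom_ext
      refine LinearMap.ext fun x => Subtype.ext rfl)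

theorem subsingleton_H_sup_iff [IsNoetherianRing R] (K : Ideal R) (M : Type u) [AddCommGroup M]
    [Module R M] (hM : LocCoh.IsPowerTorsion K M) (i : ℕ) :
    Subsingleton (LocCoh.H (I ⊔ K) i M) ↔ Subsingleton (LocCoh.H I i M) := by
  obtain ⟨X, hX⟩ := exists_torsion_resolution K (M := ModuleCat.of R M) hM
  have e1 := Equiv.ofBijective _ (homologyToH_bijective (I ⊔ K) X i)
  have e2 := Equiv.ofBijective _ (homologyToH_bijective I X i)
  have e : (gammaCx (I ⊔ K) X).homology i ≃ (gammaCx I X).homology i :=
    ((HomologicalComplex.homologyFunctor _ _ i).mapIso (gammaCxSupIso I K X hX)).toLinearEquiv.toEquiv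
  exact (e1.symm.trans (e.trans e2)).subsingleton_congr

/-- Adding one element to the ideal raises the cohomological dimension by at most one. -/
theorem cdLE_sup_span_singleton [IsNoetherianRing R] {r : ℕ} (hJ : LocCoh.CdLE R I r) (f : R) :
    LocCoh.CdLE R (I ⊔ Ideal.span {f}) (r + 1) := by
  intro M _ _ i hi
  let K := Ideal.span {f}
  have htor : ∀ {N : Type u} [AddCommGroup N] [Module R N], LocCoh.IsPowerTorsion K N →
      ∀ j, r < j → Subsingleton (LocCoh.H (I ⊔ K) j N) := fun hN j hj =>
    (subsingleton_H_sup_iff I K _ hN j).2 (hJ _ j hj)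
  let T := DRing.torsionSub K M
  let g := LocalizedModule.mkLinearMap (Submonoid.powers f) M
  have hT : LinearMap.ker g ≤ T := fun m hm => by
    rw [LinearMap.mem_ker, LocalizedModule.mkLinearMap_apply, ← LocalizedModule.zero_mk 1,
      LocalizedModule.mk_eq] at hm
    obtain ⟨⟨_, k, rfl⟩, hk⟩ := hm
    refine ⟨k, fun a ha => ?_⟩
    rw [Ideal.span_singleton_pow, Ideal.mem_span_singleton'] at ha
    obtain ⟨c, rfl⟩ := ha
    simp only [Submonoid.smul_def, one_smul, smul_zero] at hk
    rw [mul_smul, hk, smul_zero]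
  have hker : LocCoh.IsPowerTorsion K (LinearMap.ker g) := fun x => by
    obtain ⟨n, hn⟩ := hT x.2
    exact ⟨n, fun a ha => Subtype.ext (hn a ha)⟩
  have hcoker : LocCoh.IsPowerTorsion K
      (LocalizedModule (Submonoid.powers f) M ⧸ LinearMap.range g) := by
    intro x
    obtain ⟨y, rfl⟩ := Submodule.Quotient.mk_surjective _ x
    induction y using LocalizedModule.induction_on with
    | h m s =>
      obtain ⟨_, k, rfl⟩ := s
      refine ⟨k, fun a ha => ?_⟩
      rw [Ideal.span_singleton_pow, Ideal.mem_span_singleton'] at ha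
      obtain ⟨c, rfl⟩ := ha
      rw [← Submodule.Quotient.mk_smul, Submodule.Quotient.mk_eq_zero]
      refine ⟨c • m, ?_⟩
      rw [LocalizedModule.mkLinearMap_apply, LocalizedModule.smul'_mk, LocalizedModule.mk_eq]
      exact ⟨1, by simp [Submonoid.smul_def, smul_smul, mul_comm]⟩
  have hMf : ∀ j, Subsingleton (LocCoh.H (I ⊔ K) j (LocalizedModule (Submonoid.powers f) M)) :=
    fun j => subsingleton_H_of_bijective _ (Submodule.mem_sup_right (Ideal.mem_span_singleton_self f))
      ((Module.End.isUnit_iff _).1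
        (IsLocalizedModule.map_units g ⟨f, Submonoid.mem_powers f⟩)) j
  obtain ⟨j, rfl⟩ := Nat.exists_eq_add_one_of_ne_zero (show i ≠ 0 by omega)
  have hrange : Subsingleton (LocCoh.H (I ⊔ K) (j + 1) (LinearMap.range g)) :=
    subsingleton_H_left _ (LinearMap.range g).injective_subtype (LinearMap.range g).mkQ_surjective
      (LinearMap.exact_subtype_mkQ _) j (htor hcoker j (by omega)) (hMf (j + 1))
  exact subsingleton_H_mid _ (LinearMap.ker g).injective_subtype g.surjective_rangeRestrict
    (LinearMap.exact_iff.2 (by rw [LinearMap.ker_rangeRestrict, Submodule.range_subtype])) (j + 1)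
    (htor hker (j + 1) (by omega)) hrange

/-- Vanishing above the number of generators. -/
theorem cdLE_span_finset [IsNoetherianRing R] (s : Finset R) :
    LocCoh.CdLE R (Ideal.span (s : Set R)) s.card := by
  classical
  induction s using Finset.induction with
  | empty =>
    intro M _ _ i hi
    refine subsingleton_H_of_isPowerTorsion _ i M (fun m => ⟨1, fun a ha => ?_⟩) (by simpa using hi)
    rw [pow_one, Finset.coe_empty, Ideal.span_empty, Ideal.mem_bot] at ha
    rw [ha, zero_smul]
  | insert a t ha ih =>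
    rw [Finset.card_insert_of_notMem ha, Finset.coe_insert, Ideal.span_insert, sup_comm]
    exact cdLE_sup_span_singleton _ ih a

end Groth.Agent.H4LC
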