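import Groth.Agent.H4LC.Systems
import Groth.Prelude.Def_DualLC
import Mathlib.RingTheory.Filtration
import Mathlib.RingTheory.Ideal.Operations

/-!
# Cofinal systems of ideals and the Mayer–Vietoris sequence
-/

set_option autoImplicit false
set_option linter.unusedSectionVars false

universe u

open CategoryTheory CategoryTheory.Limits Opposite

namespace Groth.Agent.H4LC

variable {R : Type u} [CommRing R]

/-- The map of systems of quotient modules induced by an inequality of ideal systems. -/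
noncomputable def quotNat {D D' : ℕᵒᵖ ⥤ Ideal R} (h : ∀ n, D.obj n ≤ D'.obj n) :
    localCohomology.ringModIdeals D ⟶ localCohomology.ringModIdeals D' where
  app n := ModuleCat.ofHom (Submodule.mapQ (D.obj n) (D'.obj n) LinearMap.id
    (by rw [Submodule.comap_id]; exact h n))
  naturality n m f := by
    apply ModuleCat.hom_ext
    refine LinearMap.ext fun x => ?_
    obtain ⟨x, rfl⟩ := Submodule.Quotient.mk_surjective (D.obj n) x
    rfl

theorem quotNat_pre_bijective {D D' : ℕᵒᵖ ⥤ Ideal R} (h : ∀ n, D.obj n ≤ D'.obj n) (i : ℕ)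
    (M : ModuleCat.{u} R) (hc : ∀ n, ∃ m, n ≤ m ∧ D'.obj (op m) ≤ D.obj (op n)) :
    Function.Bijective (pre i (quotNat h) M) := by
  refine pre_bijective i (quotNat h) M fun n => ?_
  obtain ⟨m, hm, hle⟩ := hc n
  refine ⟨m, hm, ModuleCat.ofHom (Submodule.mapQ (D'.obj (op m)) (D.obj (op n)) LinearMap.id
    (by rw [Submodule.comap_id]; exact hle)), ?_, ?_⟩
  · apply ModuleCat.hom_ext
    refine LinearMap.ext fun x => ?_
    obtain ⟨x, rfl⟩ := Submodule.Quotient.mk_surjective (D'.obj (op m)) x
    rfl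
  · apply ModuleCat.hom_ext
    refine LinearMap.ext fun x => ?_
    obtain ⟨x, rfl⟩ := Submodule.Quotient.mk_surjective (D.obj (op m)) x
    rfl

theorem quotMapOfLE_eq {I I' : Ideal R} (h : I ≤ I') :
    Dual2.quotMapOfLE h = quotNat (fun n => Ideal.pow_right_mono h (unop n)) := rfl

variable (I J : Ideal R)

theorem exists_infPowers_le [IsNoetherianRing R] (n : ℕ) :
    ∃ m, n ≤ m ∧ I ^ m ⊓ J ^ m ≤ (I ⊓ J) ^ n := by
  obtain ⟨k, hk⟩ := I.exists_pow_inf_eq_pow_smul (M := R) (J ^ n)
  refine ⟨n + k, n.le_add_right k, ?_⟩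
  calc I ^ (n + k) ⊓ J ^ (n + k) ≤ I ^ (n + k) • ⊤ ⊓ J ^ n := by
        rw [smul_eq_mul, Ideal.mul_top]
        exact inf_le_inf_left _ (Ideal.pow_le_pow_right (n.le_add_right k))
    _ = I ^ (n + k - k) • (I ^ k • ⊤ ⊓ J ^ n) := hk (n + k) (k.le_add_left n)
    _ ≤ I ^ n * J ^ n := by
        rw [Nat.add_sub_cancel, smul_eq_mul]
        exact Ideal.mul_mono_right inf_le_right
    _ ≤ (I ⊓ J) ^ n := by
        rw [← mul_pow]
        exact Ideal.pow_right_mono Ideal.mul_le_inf n

theorem inf_pow_le (n : ℕ) : (I ⊓ J) ^ n ≤ I ^ n ⊓ J ^ n :=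
  le_inf (Ideal.pow_right_mono inf_le_left n) (Ideal.pow_right_mono inf_le_right n)

/-- The system `n ↦ I ^ n + J ^ n`. -/
noncomputable def supPowersDiagram : ℕᵒᵖ ⥤ Ideal R where
  obj t := I ^ unop t ⊔ J ^ unop t
  map w := homOfLE (sup_le_sup (Ideal.pow_le_pow_right w.unop.down.down)
    (Ideal.pow_le_pow_right w.unop.down.down))

theorem supPowers_le (n : ℕᵒᵖ) :
    (supPowersDiagram I J).obj n ≤ (localCohomology.idealPowersDiagram (I ⊔ J)).obj n :=
  sup_le (Ideal.pow_right_mono le_sup_left (unop n)) (Ideal.pow_right_mono le_sup_right (unop n))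

/-- The system `n ↦ R ⧸ I ^ n × R ⧸ J ^ n`. -/
noncomputable def prodSys : ℕᵒᵖ ⥤ ModuleCat.{u} R where
  obj t := ModuleCat.of R ((R ⧸ I ^ unop t) × (R ⧸ J ^ unop t))
  map w := ModuleCat.ofHom (((quotSys I).map w).hom.prodMap ((quotSys J).map w).hom)
  map_id t := by
    apply ModuleCat.hom_ext
    refine LinearMap.ext fun x => Prod.ext ?_ ?_
    · exact congrArg (fun a => a.hom x.1) ((quotSys I).map_id t)
    · exact congrArg (fun a => a.hom x.2) ((quotSys J).map_id t)
  map_comp f g := by
    apply ModuleCat.hom_ext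
    refine LinearMap.ext fun x => Prod.ext ?_ ?_
    · exact congrArg (fun a => a.hom x.1) ((quotSys I).map_comp f g)
    · exact congrArg (fun a => a.hom x.2) ((quotSys J).map_comp f g)

/-- First inclusion. -/
noncomputable def inlNat : quotSys I ⟶ prodSys I J where
  app t := ModuleCat.ofHom (LinearMap.inl R (R ⧸ I ^ unop t) (R ⧸ J ^ unop t))
  naturality s t w := by
    apply ModuleCat.hom_ext
    exact LinearMap.ext fun x => Prod.ext rfl (map_zero ((quotSys J).map w).hom).symm

/-- Second inclusion. -/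
noncomputable def inrNat : quotSys J ⟶ prodSys I J where
  app t := ModuleCat.ofHom (LinearMap.inr R (R ⧸ I ^ unop t) (R ⧸ J ^ unop t))
  naturality s t w := by
    apply ModuleCat.hom_ext
    exact LinearMap.ext fun x => Prod.ext (map_zero ((quotSys I).map w).hom).symm rfl

/-- First projection. -/
noncomputable def fstNat : prodSys I J ⟶ quotSys I where
  app t := ModuleCat.ofHom (LinearMap.fst R (R ⧸ I ^ unop t) (R ⧸ J ^ unop t))
  naturality _ _ _ := rfl

/-- Second projection. -/
noncomputable def sndNat : prodSys I J ⟶ quotSys J where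
  app t := ModuleCat.ofHom (LinearMap.snd R (R ⧸ I ^ unop t) (R ⧸ J ^ unop t))
  naturality _ _ _ := rfl

/-- `R/(I^n ∩ J^n) → R/I^n`. -/
noncomputable def infToLeft :
    localCohomology.ringModIdeals (LocCoh.infPowersDiagram I J) ⟶ quotSys I :=
  quotNat fun _ => inf_le_left

/-- `R/(I^n ∩ J^n) → R/J^n`. -/
noncomputable def infToRight :
    localCohomology.ringModIdeals (LocCoh.infPowersDiagram I J) ⟶ quotSys J :=
  quotNat fun _ => inf_le_right

/-- `R/I^n → R/(I^n + J^n)`. -/
noncomputable def leftToSup :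
    quotSys I ⟶ localCohomology.ringModIdeals (supPowersDiagram I J) :=
  quotNat fun _ => le_sup_left

/-- `R/J^n → R/(I^n + J^n)`. -/
noncomputable def rightToSup :
    quotSys J ⟶ localCohomology.ringModIdeals (supPowersDiagram I J) :=
  quotNat fun _ => le_sup_right

/-- `x ↦ (x, -x)`. -/
noncomputable def diffNat :
    localCohomology.ringModIdeals (LocCoh.infPowersDiagram I J) ⟶ prodSys I J :=
  infToLeft I J ≫ inlNat I J - infToRight I J ≫ inrNat I J

/-- `(x, y) ↦ x + y`. -/
noncomputable def sumNat :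
    prodSys I J ⟶ localCohomology.ringModIdeals (supPowersDiagram I J) :=
  fstNat I J ≫ leftToSup I J + sndNat I J ≫ rightToSup I J

theorem diffNat_apply (n : ℕ) (r : R) :
    ((diffNat I J).app (op n)).hom (Submodule.Quotient.mk r) =
      ((Submodule.Quotient.mk r : R ⧸ I ^ n), -(Submodule.Quotient.mk r : R ⧸ J ^ n)) := by
  refine Prod.ext ?_ ?_
  · exact sub_zero _
  · exact zero_sub _

theorem sumNat_apply (n : ℕ) (r s : R) :
    ((sumNat I J).app (op n)).hom
      ((Submodule.Quotient.mk r : R ⧸ I ^ n), (Submodule.Quotient.mk s : R ⧸ J ^ n)) =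
      (Submodule.Quotient.mk (r + s) : R ⧸ (I ^ n ⊔ J ^ n)) :=
  rfl

theorem diff_comp_sum (n : ℕ) : (diffNat I J).app (op n) ≫ (sumNat I J).app (op n) = 0 := by
  apply ModuleCat.hom_ext
  refine LinearMap.ext fun x => ?_
  obtain ⟨r, rfl⟩ := Submodule.Quotient.mk_surjective (I ^ n ⊓ J ^ n) x
  change ((sumNat I J).app (op n)).hom (((diffNat I J).app (op n)).hom (Submodule.Quotient.mk r)) = 0
  rw [diffNat_apply, ← Submodule.Quotient.mk_neg]
  refine (sumNat_apply I J n r (-r)).trans ?_
  rw [add_neg_cancel]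
  rfl

theorem mv_shortExact (n : ℕ) :
    (ShortComplex.mk ((diffNat I J).app (op n)) ((sumNat I J).app (op n))
      (diff_comp_sum I J n)).ShortExact where
  exact := by
    rw [ShortComplex.moduleCat_exact_iff]
    intro y hy
    obtain ⟨a, b⟩ := y
    obtain ⟨r, rfl⟩ := Submodule.Quotient.mk_surjective (I ^ n) a
    obtain ⟨s, rfl⟩ := Submodule.Quotient.mk_surjective (J ^ n) b
    have h := (Submodule.Quotient.mk_eq_zero _).1 ((sumNat_apply I J n r s).symm.trans hy)
    obtain ⟨u, hu, v, hv, e⟩ := Submodule.mem_sup.1 h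
    refine ⟨(Submodule.Quotient.mk (r - u) : R ⧸ (I ^ n ⊓ J ^ n)), ?_⟩
    refine (diffNat_apply I J n (r - u)).trans (Prod.ext ?_ ?_)
    · exact (Submodule.Quotient.eq _).2 (by rw [sub_sub_cancel_left]; exact neg_mem hu)
    · change -(Submodule.Quotient.mk (r - u) : R ⧸ J ^ n) = Submodule.Quotient.mk s
      rw [← Submodule.Quotient.mk_neg]
      refine (Submodule.Quotient.eq _).2 ?_
      rw [show -(r - u) - s = -v by linear_combination e]
      exact neg_mem hv
  mono_f := (ModuleCat.mono_iff_injective _).2 <| by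
    rw [injective_iff_map_eq_zero]
    intro x hx
    obtain ⟨r, rfl⟩ := Submodule.Quotient.mk_surjective (I ^ n ⊓ J ^ n) x
    have h := (diffNat_apply I J n r).symm.trans hx
    exact (Submodule.Quotient.mk_eq_zero _).2
      ⟨(Submodule.Quotient.mk_eq_zero _).1 (congrArg Prod.fst h),
        (Submodule.Quotient.mk_eq_zero _).1 (neg_eq_zero.1 (congrArg Prod.snd h))⟩
  epi_g := (ModuleCat.epi_iff_surjective _).2 fun z => by
    obtain ⟨r, rfl⟩ := Submodule.Quotient.mk_surjective (I ^ n ⊔ J ^ n) z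
    refine ⟨((Submodule.Quotient.mk r : R ⧸ I ^ n), (Submodule.Quotient.mk 0 : R ⧸ J ^ n)), ?_⟩
    refine (sumNat_apply I J n r 0).trans ?_
    rw [add_zero]

/-- Decomposition of the middle term. -/
noncomputable def splitEquiv (i : ℕ) (M : ModuleCat.{u} R) :
    (extColim (prodSys I J) i).obj M ≃ₗ[R]
      (extColim (quotSys I) i).obj M × (extColim (quotSys J) i).obj M :=
  LinearEquiv.ofLinearMap ((pre i (inlNat I J) M).prod (pre i (inrNat I J) M))
    ((pre i (fstNat I J) M).coprod (pre i (sndNat I J) M))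
    (by
      have h1 : inlNat I J ≫ fstNat I J = 𝟙 _ := by
        ext t : 2; exact ModuleCat.hom_ext (LinearMap.ext fun _ => rfl)
      have h2 : inlNat I J ≫ sndNat I J = 0 := by
        ext t : 2; exact ModuleCat.hom_ext (LinearMap.ext fun _ => rfl)
      have h3 : inrNat I J ≫ fstNat I J = 0 := by
        ext t : 2; exact ModuleCat.hom_ext (LinearMap.ext fun _ => rfl)
      have h4 : inrNat I J ≫ sndNat I J = 𝟙 _ := by
        ext t : 2; exact ModuleCat.hom_ext (LinearMap.ext fun _ => rfl)
      have p0 : ∀ {G G' : ℕᵒᵖ ⥤ ModuleCat.{u} R}, pre i (0 : G ⟶ G') M = 0 := fun {G G'} => by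
        have h := pre_add i (0 : G ⟶ G') 0 M
        rw [add_zero] at h
        exact right_eq_add.1 h
      refine LinearMap.ext fun ⟨a, b⟩ => Prod.ext ?_ ?_
      · change pre i (inlNat I J) M (pre i (fstNat I J) M a + pre i (sndNat I J) M b) = a
        rw [map_add, ← LinearMap.comp_apply, ← pre_comp, h1, pre_id, ← LinearMap.comp_apply,
          ← pre_comp, h2, p0, LinearMap.zero_apply, add_zero, LinearMap.id_apply]
      · change pre i (inrNat I J) M (pre i (fstNat I J) M a + pre i (sndNat I J) M b) = b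
        rw [map_add, ← LinearMap.comp_apply, ← pre_comp, h3, p0, LinearMap.zero_apply,
          ← LinearMap.comp_apply, ← pre_comp, h4, pre_id, zero_add, LinearMap.id_apply])
    (by
      have h : fstNat I J ≫ inlNat I J + sndNat I J ≫ inrNat I J = 𝟙 _ := by
        ext t : 2
        exact ModuleCat.hom_ext (LinearMap.ext fun x => Prod.ext (add_zero _) (zero_add _))
      refine LinearMap.ext fun z => ?_
      change pre i (fstNat I J) M (pre i (inlNat I J) M z) +
        pre i (sndNat I J) M (pre i (inrNat I J) M z) = z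
      rw [← LinearMap.comp_apply, ← pre_comp, ← LinearMap.comp_apply (pre i (sndNat I J) M),
        ← pre_comp, ← LinearMap.add_apply, ← pre_add, h, pre_id, LinearMap.id_apply])

variable [IsNoetherianRing R]

theorem pre_infNat_bijective (i : ℕ) (M : ModuleCat.{u} R) :
    Function.Bijective (pre i (quotNat (D := localCohomology.idealPowersDiagram (I ⊓ J))
      (D' := LocCoh.infPowersDiagram I J) fun n => inf_pow_le I J (unop n)) M) :=
  quotNat_pre_bijective _ i M fun n => exists_infPowers_le I J n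

theorem pre_supNat_bijective (i : ℕ) (M : ModuleCat.{u} R) :
    Function.Bijective (pre i (quotNat (supPowers_le I J)) M) :=
  quotNat_pre_bijective _ i M fun n =>
    ⟨n + n, n.le_add_right n, Ideal.sup_pow_add_le_pow_sup_pow⟩

/-- The Mayer–Vietoris sequence. -/
theorem mayer_vietoris (M : ModuleCat.{u} R) :
    ∃ δ : ∀ i, (extColim (quotSys (I ⊓ J)) i).obj M →ₗ[R]
        (extColim (quotSys (I ⊔ J)) (i + 1)).obj M,
      Function.Injective ((pre 0 (Dual2.quotMapOfLE (le_sup_left : I ≤ I ⊔ J)) M).prod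
        (pre 0 (Dual2.quotMapOfLE (le_sup_right : J ≤ I ⊔ J)) M)) ∧
      (∀ i, Function.Exact (δ i) ((pre (i + 1) (Dual2.quotMapOfLE (le_sup_left : I ≤ I ⊔ J)) M).prod
        (pre (i + 1) (Dual2.quotMapOfLE (le_sup_right : J ≤ I ⊔ J)) M))) ∧
      (∀ i, Function.Exact ((pre i (Dual2.quotMapOfLE (le_sup_left : I ≤ I ⊔ J)) M).prod
        (pre i (Dual2.quotMapOfLE (le_sup_right : J ≤ I ⊔ J)) M))
        (pre i (Dual2.quotMapOfLE (inf_le_left : I ⊓ J ≤ I)) M ∘ₗ LinearMap.fst R ((extColim (quotSys I) i).obj M) ((extColim (quotSys J) i).obj M) -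
          pre i (Dual2.quotMapOfLE (inf_le_right : I ⊓ J ≤ J)) M ∘ₗ LinearMap.snd R ((extColim (quotSys I) i).obj M) ((extColim (quotSys J) i).obj M))) ∧
      (∀ i, Function.Exact
        (pre i (Dual2.quotMapOfLE (inf_le_left : I ⊓ J ≤ I)) M ∘ₗ LinearMap.fst R ((extColim (quotSys I) i).obj M) ((extColim (quotSys J) i).obj M) -
          pre i (Dual2.quotMapOfLE (inf_le_right : I ⊓ J ≤ J)) M ∘ₗ LinearMap.snd R ((extColim (quotSys I) i).obj M) ((extColim (quotSys J) i).obj M)) (δ i)) := by
  let eA := fun i => LinearEquiv.ofBijective _ (pre_infNat_bijective I J i M)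
  let eB := fun i => LinearEquiv.ofBijective _ (pre_supNat_bijective I J i M)
  let g := fun i => pre i (sumNat I J) M
  let f := fun i => pre i (diffNat I J) M
  let d := fun i => δPre i (diffNat I J) (sumNat I J) (diff_comp_sum I J) (mv_shortExact I J) M
  let A := fun i => (pre i (Dual2.quotMapOfLE (le_sup_left : I ≤ I ⊔ J)) M).prod
    (pre i (Dual2.quotMapOfLE (le_sup_right : J ≤ I ⊔ J)) M)
  let C := fun i => pre i (Dual2.quotMapOfLE (inf_le_left : I ⊓ J ≤ I)) M ∘ₗ LinearMap.fst R ((extColim (quotSys I) i).obj M) ((extColim (quotSys J) i).obj M) -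
    pre i (Dual2.quotMapOfLE (inf_le_right : I ⊓ J ≤ J)) M ∘ₗ LinearMap.snd R ((extColim (quotSys I) i).obj M) ((extColim (quotSys J) i).obj M)
  have hA : ∀ i z, A i ((eB i).symm z) = splitEquiv I J i M (g i z) := fun i z => by
    obtain ⟨w, rfl⟩ := (eB i).surjective z
    rw [LinearEquiv.symm_apply_apply]
    refine Prod.ext ?_ ?_
    · refine Eq.trans ?_ (LinearMap.congr_fun (pre_comp i (inlNat I J) (sumNat I J) M) _)
      refine Eq.trans ?_ (LinearMap.congr_fun
        (pre_comp i (inlNat I J ≫ sumNat I J) (quotNat (supPowers_le I J)) M) w)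
      change pre i _ M w = _
      congr 2
      ext t : 2
      apply ModuleCat.hom_ext
      refine LinearMap.ext fun x => ?_
      obtain ⟨r, rfl⟩ := Submodule.Quotient.mk_surjective (I ^ unop t) x
      change _ = ((quotNat (supPowers_le I J)).app t).hom (((sumNat I J).app t).hom
        ((Submodule.Quotient.mk r : R ⧸ I ^ unop t), (Submodule.Quotient.mk 0 : R ⧸ J ^ unop t)))
      rw [show ((sumNat I J).app t).hom ((Submodule.Quotient.mk r : R ⧸ I ^ unop t),
        (Submodule.Quotient.mk 0 : R ⧸ J ^ unop t)) = _ from sumNat_apply I J (unop t) r 0, add_zero]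
      rfl
    · refine Eq.trans ?_ (LinearMap.congr_fun (pre_comp i (inrNat I J) (sumNat I J) M) _)
      refine Eq.trans ?_ (LinearMap.congr_fun
        (pre_comp i (inrNat I J ≫ sumNat I J) (quotNat (supPowers_le I J)) M) w)
      change pre i _ M w = _
      congr 2
      ext t : 2
      apply ModuleCat.hom_ext
      refine LinearMap.ext fun x => ?_
      obtain ⟨r, rfl⟩ := Submodule.Quotient.mk_surjective (J ^ unop t) x
      change _ = ((quotNat (supPowers_le I J)).app t).hom (((sumNat I J).app t).hom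
        ((Submodule.Quotient.mk 0 : R ⧸ I ^ unop t), (Submodule.Quotient.mk r : R ⧸ J ^ unop t)))
      rw [show ((sumNat I J).app t).hom ((Submodule.Quotient.mk 0 : R ⧸ I ^ unop t),
        (Submodule.Quotient.mk r : R ⧸ J ^ unop t)) = _ from sumNat_apply I J (unop t) 0 r, zero_add]
      rfl
  have hC : ∀ i z, C i (splitEquiv I J i M z) = eA i (f i z) := fun i z => by
    obtain ⟨⟨a, b⟩, rfl⟩ := (splitEquiv I J i M).symm.surjective z
    rw [LinearEquiv.apply_symm_apply]
    change pre i _ M a - pre i _ M b =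
      pre i _ M (pre i (diffNat I J) M (pre i (fstNat I J) M a + pre i (sndNat I J) M b))
    rw [map_add, map_add, ← LinearMap.comp_apply (pre i (diffNat I J) M),
      ← pre_comp, ← LinearMap.comp_apply (pre i (diffNat I J) M) (pre i (sndNat I J) M),
      ← pre_comp, ← LinearMap.comp_apply, ← pre_comp, ← LinearMap.comp_apply (pre i _ M)
        (pre i (diffNat I J ≫ sndNat I J) M), ← pre_comp, sub_eq_add_neg,
      ← LinearMap.neg_apply, ← pre_neg]
    congr 3
    all_goals
      ext t : 2
      apply ModuleCat.hom_ext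
      refine LinearMap.ext fun x => ?_
      obtain ⟨r, rfl⟩ := Submodule.Quotient.mk_surjective ((I ⊓ J) ^ unop t) x
    · exact (congrArg Prod.fst (diffNat_apply I J (unop t) r)).symm
    · exact (congrArg Prod.snd (diffNat_apply I J (unop t) r)).symm
  refine ⟨fun i => (eB (i + 1)).symm.toLinearMap ∘ₗ d i ∘ₗ (eA i).symm.toLinearMap, ?_, ?_, ?_, ?_⟩
  · intro x y hxy
    obtain ⟨z, rfl⟩ := (eB 0).symm.surjective x
    obtain ⟨z', rfl⟩ := (eB 0).symm.surjective y
    change A 0 _ = A 0 _ at hxy
    rw [hA, hA] at hxy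
    exact congrArg _ (pre_zero_injective (diffNat I J) (sumNat I J) (diff_comp_sum I J)
      (mv_shortExact I J) M ((splitEquiv I J 0 M).injective hxy))
  · intro i w
    obtain ⟨z, rfl⟩ := (eB (i + 1)).symm.surjective w
    change A (i + 1) _ = 0 ↔ _
    rw [hA, LinearEquiv.map_eq_zero_iff, exactPre₃ i (diffNat I J) (sumNat I J) (diff_comp_sum I J)
      (mv_shortExact I J) M z]
    constructor
    · rintro ⟨y, rfl⟩
      exact ⟨eA i y, congrArg (eB (i + 1)).symm (congrArg (d i) ((eA i).symm_apply_apply y))⟩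
    · rintro ⟨y, hy⟩
      exact ⟨(eA i).symm y, (eB (i + 1)).symm.injective hy⟩
  · intro i w
    obtain ⟨z, rfl⟩ := (splitEquiv I J i M).surjective w
    change C i _ = 0 ↔ _
    rw [hC, LinearEquiv.map_eq_zero_iff, exactPre₂ i (diffNat I J) (sumNat I J) (diff_comp_sum I J)
      (mv_shortExact I J) M z]
    constructor
    · rintro ⟨y, rfl⟩
      exact ⟨(eB i).symm y, hA i y⟩
    · rintro ⟨y, hy⟩
      obtain ⟨y, rfl⟩ := (eB i).symm.surjective y
      exact ⟨y, (splitEquiv I J i M).injective ((hA i y).symm.trans hy)⟩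
  · intro i w
    obtain ⟨z, rfl⟩ := (eA i).surjective w
    change (eB (i + 1)).symm (d i ((eA i).symm (eA i z))) = 0 ↔ _
    rw [LinearEquiv.map_eq_zero_iff, LinearEquiv.symm_apply_apply,
      exactPre₁ i (diffNat I J) (sumNat I J) (diff_comp_sum I J) (mv_shortExact I J) M z]
    constructor
    · rintro ⟨y, rfl⟩
      exact ⟨splitEquiv I J i M y, hC i y⟩
    · rintro ⟨y, hy⟩
      obtain ⟨y, rfl⟩ := (splitEquiv I J i M).surjective y
      exact ⟨y, (eA i).injective ((hC i y).symm.trans hy)⟩

theorem nonempty_infPowers_iso (i : ℕ) :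
    Nonempty (localCohomology.ofDiagram (LocCoh.infPowersDiagram I J) i ≅
      localCohomology (I ⊓ J) i) :=
  ⟨NatIso.ofComponents
    (fun M => (LinearEquiv.ofBijective _ (pre_infNat_bijective I J i M)).toModuleIso)
    (fun f => (preNat i (quotNat (D := localCohomology.idealPowersDiagram (I ⊓ J))
      (D' := LocCoh.infPowersDiagram I J) fun n => inf_pow_le I J (unop n))).naturality f)⟩

end Groth.Agent.H4LC
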