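import Groth.Prelude.Def_Koszul
import Mathlib.RingTheory.Finiteness.Prod
import Mathlib.LinearAlgebra.FreeModule.Basic
import Mathlib.RingTheory.Regular.RegularSequence

/-!
# Basic properties of the mapping cone Koszul complex
-/

set_option autoImplicit false

universe u

open CategoryTheory CochainComplex CochainComplex.HomComplex

namespace Groth.Agent.H4LC

variable {A : Type u} [CommRing A]

/-- The properties of a Koszul complex used later. -/
structure GoodKoszul (K : CochainComplex (ModuleCat.{u} A) ℤ) (len : ℕ) (I : Ideal A) (S : Set A) :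
    Prop where
  free : ∀ i, Module.Free A (K.X i) ∧ Module.Finite A (K.X i)
  zero : ∀ i, (0 < i ∨ i < -(len : ℤ)) → Limits.IsZero (K.X i)
  nontriv : Nontrivial A → Nontrivial (K.X (-(len : ℤ)))
  top : ∀ j, LinearMap.range (K.d (-(len : ℤ)) j).hom ≤ I • (⊤ : Submodule A (K.X j))
  killed : ∀ x ∈ S, ∃ N : ℕ, ∀ (h i j : ℤ) (_ : h + 1 = i) (_ : i + 1 = j) (z : K.X i),
    (K.d i j).hom z = 0 → ∃ w, (K.d h i).hom w = x ^ N • z

section Cone

variable (K : CochainComplex (ModuleCat.{u} A) ℤ) (f : A)

local notation "φ" => f • 𝟙 K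
local notation "C" => CochainComplex.mappingCone (f • 𝟙 K)

/-- The terms of the cone. -/
noncomputable def coneEquiv (i j : ℤ) (h : i + 1 = j) :
    (CochainComplex.mappingCone (f • 𝟙 K)).X i ≃ₗ[A] K.X j × K.X i :=
  LinearEquiv.ofLinearMap
    (LinearMap.prod ((mappingCone.fst φ).1.v i j h).hom ((mappingCone.snd φ).v i i (add_zero i)).hom)
    (LinearMap.coprod ((mappingCone.inl φ).v j i (by omega)).hom ((mappingCone.inr φ).f i).hom)
    (by
      refine LinearMap.ext fun ⟨a, b⟩ => Prod.ext ?_ ?_
      · simp only [LinearMap.comp_apply, LinearMap.prod_apply, Function.prod_apply, LinearMap.coprod_apply, map_add,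
          LinearMap.id_apply, Prod.fst_add]
        rw [← LinearMap.comp_apply (g := ((mappingCone.inl φ).v j i (by omega)).hom), ← ModuleCat.hom_comp,
          mappingCone.inl_v_fst_v, ← LinearMap.comp_apply (g := ((mappingCone.inr φ).f i).hom),
          ← ModuleCat.hom_comp, mappingCone.inr_f_fst_v]
        simp
      · simp only [LinearMap.comp_apply, LinearMap.prod_apply, Function.prod_apply, LinearMap.coprod_apply, map_add,
          LinearMap.id_apply, Prod.snd_add]
        rw [← LinearMap.comp_apply (g := ((mappingCone.inl φ).v j i (by omega)).hom), ← ModuleCat.hom_comp,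
          mappingCone.inl_v_snd_v, ← LinearMap.comp_apply (g := ((mappingCone.inr φ).f i).hom),
          ← ModuleCat.hom_comp, mappingCone.inr_f_snd_v]
        simp)
    (LinearMap.ext fun x => LinearMap.congr_fun (congrArg ModuleCat.Hom.hom (mappingCone.id_X φ i j h)) x)

theorem coneEquiv_d (i j k : ℤ) (hij : i + 1 = j) (hjk : j + 1 = k) (x : (C).X i) :
    coneEquiv K f j k hjk (((C).d i j).hom x) =
      (-(K.d j k).hom (coneEquiv K f i j hij x).1,
        f • (coneEquiv K f i j hij x).1 + (K.d i j).hom (coneEquiv K f i j hij x).2) := by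
  refine Prod.ext ?_ ?_
  · exact (LinearMap.congr_fun (congrArg ModuleCat.Hom.hom (mappingCone.d_fst_v φ i j k hij hjk)) x).trans
      (by simp [coneEquiv])
  · exact (LinearMap.congr_fun (congrArg ModuleCat.Hom.hom (mappingCone.d_snd_v φ i j hij)) x).trans
      (by simp [coneEquiv])

theorem goodKoszul_cone {len : ℕ} {I : Ideal A} {S : Set A} (hK : GoodKoszul K len I S) :
    GoodKoszul C (len + 1) (Ideal.span {f} ⊔ I) (insert f S) where
  free i := by
    obtain ⟨_, _⟩ := hK.free i
    obtain ⟨_, _⟩ := hK.free (i + 1)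
    exact ⟨Module.Free.of_equiv (coneEquiv K f i (i + 1) rfl).symm,
      Module.Finite.equiv (coneEquiv K f i (i + 1) rfl).symm⟩
  zero i hi := by
    have := ModuleCat.subsingleton_of_isZero (hK.zero i (by omega))
    have := ModuleCat.subsingleton_of_isZero (hK.zero (i + 1) (by omega))
    exact @ModuleCat.isZero_of_subsingleton _ _ _ (coneEquiv K f i (i + 1) rfl).toEquiv.subsingleton
  nontriv hA := by
    have := hK.nontriv hA
    exact (coneEquiv K f (-((len + 1 : ℕ) : ℤ)) (-(len : ℤ)) (by omega)).toEquiv.nontrivial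
  top j := by
    by_cases hj : -((len + 1 : ℕ) : ℤ) + 1 = j
    swap
    · rw [(C).shape _ _ (by simpa using hj)]
      simp
    obtain rfl : j = -(len : ℤ) := by omega
    rintro _ ⟨x, rfl⟩
    let e := coneEquiv K f (-(len : ℤ)) (-(len : ℤ) + 1) rfl
    rw [← e.symm_apply_apply (((C).d _ _).hom x), coneEquiv_d K f _ _ _ hj rfl]
    have h0 : (coneEquiv K f _ _ hj x).2 = 0 :=
      @Subsingleton.elim _ (ModuleCat.subsingleton_of_isZero (hK.zero _ (by omega))) _ _
    rw [h0, map_zero, add_zero]
    generalize (coneEquiv K f _ _ hj x).1 = a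
    show (mappingCone.inl φ).v (-(len : ℤ) + 1) (-(len : ℤ)) (by omega) (-(K.d _ _).hom a) + (mappingCone.inr φ).f _ (f • a) ∈ _
    refine Submodule.add_mem _ ?_ ?_
    · rw [map_neg]
      refine Submodule.neg_mem _ ?_
      refine Submodule.smul_induction_on (hK.top _ ⟨a, rfl⟩) (fun c hc w _ => ?_) fun v w hv hw => ?_
      · rw [map_smul]
        exact Submodule.smul_mem_smul (Submodule.mem_sup_right hc) trivial
      · rw [map_add]
        exact Submodule.add_mem _ hv hw
    · rw [map_smul]
      exact Submodule.smul_mem_smul (Submodule.mem_sup_left (Ideal.mem_span_singleton_self f)) trivial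
  killed x hx := by
    rcases Set.mem_insert_iff.1 hx with rfl | hx
    · refine ⟨1, fun h i j hhi hij z hz => ?_⟩
      let e := coneEquiv K x i j hij
      have h1 := coneEquiv_d K x i j (j + 1) hij rfl z
      rw [show ((CochainComplex.mappingCone (x • 𝟙 K)).d i j).hom z = 0 from hz, map_zero] at h1
      have hb : x • (e z).1 + (K.d i j).hom (e z).2 = 0 := (congrArg Prod.snd h1).symm
      refine ⟨(coneEquiv K x h i hhi).symm ((e z).2, 0), e.injective ?_⟩
      rw [coneEquiv_d K x h i j hhi hij, LinearEquiv.apply_symm_apply, map_smul, pow_one]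
      refine Prod.ext ?_ ?_
      · rw [Prod.smul_fst]
        exact (eq_neg_of_add_eq_zero_left hb).symm
      · rw [Prod.smul_snd]
        simp
    · obtain ⟨N, hN⟩ := hK.killed x hx
      refine ⟨N + N, fun h i j hhi hij z hz => ?_⟩
      let e := coneEquiv K f i j hij
      have h1 := coneEquiv_d K f i j (j + 1) hij rfl z
      rw [show ((C).d i j).hom z = 0 from hz, map_zero] at h1
      have hb : f • (e z).1 + (K.d i j).hom (e z).2 = 0 := (congrArg Prod.snd h1).symm
      have ha : (K.d j (j + 1)).hom (e z).1 = 0 := neg_eq_zero.1 (congrArg Prod.fst h1).symm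
      obtain ⟨a', ha'⟩ := hN i j (j + 1) hij rfl _ ha
      obtain ⟨c, hc⟩ := hN h i j hhi hij (x ^ N • (e z).2 + f • a') (by
        rw [map_add, map_smul, map_smul, ha', smul_comm f, ← smul_add, add_comm, hb, smul_zero])
      refine ⟨(coneEquiv K f h i hhi).symm (-(x ^ N • a'), c), e.injective ?_⟩
      rw [coneEquiv_d K f h i j hhi hij, LinearEquiv.apply_symm_apply, map_smul, pow_add, mul_smul]
      refine Prod.ext ?_ ?_
      · simp only [Prod.smul_fst, map_neg, neg_neg, map_smul, ha']
      · simp only [Prod.smul_snd, smul_neg, hc, smul_add, smul_comm f]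
        abel

end Cone

theorem goodKoszul : ∀ l : List A,
    GoodKoszul (Koszul.koszul A l) l.length (Ideal.ofList l) {x | x ∈ l}
  | [] => by
    have hX : ∀ i : ℤ, i ≠ 0 → Limits.IsZero ((Koszul.koszul A []).X i) := fun i hi =>
      HomologicalComplex.isZero_single_obj_X (ComplexShape.up ℤ) 0 (ModuleCat.of A A) i hi
    let e : (Koszul.koszul A []).X 0 ≃ₗ[A] A :=
      (HomologicalComplex.singleObjXSelf (ComplexShape.up ℤ) 0 (ModuleCat.of A A)).toLinearEquiv
    refine ⟨fun i => ?_, fun i hi => hX i (by simp at hi ⊢; omega), fun hA => ?_, fun j => ?_,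
      fun x hx => absurd hx (by simp)⟩
    · by_cases hi : i = 0
      · subst hi
        exact ⟨Module.Free.of_equiv e.symm, Module.Finite.equiv e.symm⟩
      · have := ModuleCat.subsingleton_of_isZero (hX i hi)
        exact ⟨Module.Free.of_subsingleton _ _, inferInstance⟩
    · simpa using e.toEquiv.nontrivial
    · rintro _ ⟨w, rfl⟩
      rw [show (Koszul.koszul A []).d (-(([] : List A).length : ℤ)) j = 0 from
        HomologicalComplex.single_obj_d ..]
      exact Submodule.zero_mem _
  | f :: l => by
    have h := goodKoszul_cone (Koszul.koszul A l) f (goodKoszul l)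
    rw [← Ideal.ofList_cons] at h
    rw [show {x | x ∈ f :: l} = insert f {x | x ∈ l} from Set.ext fun x => by simp]
    exact h

end Groth.Agent.H4LC
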