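import Groth.Prelude.Def_W4bk5brsh16IT
import Groth.Agent.H4LC.Torsion

/-!
# The ideal transform: element-wise interface
-/

set_option autoImplicit false

universe u

open CategoryTheory CategoryTheory.Limits Opposite

namespace Groth.Agent.H4LC

variable {R : Type u} [CommRing R] (I : Ideal R)

/-- The inclusion `I ^ m → I ^ n` for `n ≤ m`. -/
noncomputable abbrev powIncl {n m : ℕ} (h : n ≤ m) : (↥(I ^ m : Ideal R)) →ₗ[R] ↥(I ^ n : Ideal R) :=
  Submodule.inclusion (Ideal.pow_le_pow_right h)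

section

variable (M : ModuleCat.{u} R)

/-- The class of a linear map `I ^ n → M` in `D_I(M)`. -/
noncomputable def ιDT (n : ℕ) : (↥(I ^ n : Ideal R) →ₗ[R] M) →ₗ[R] (LocCoh.idealTransform I).obj M :=
  ((colimit.ι (LocCoh.transformDiagram I) (op (op n))).app M).hom ∘ₗ
    (ModuleCat.homLinearEquiv (S := R) (M := ModuleCat.of R ↥(I ^ n : Ideal R)) (N := M)).symm.toLinearMap

theorem ιDT_eq (n : ℕ) (f : ↥(I ^ n : Ideal R) →ₗ[R] M) :
    ιDT I M n f = ((colimit.ι (LocCoh.transformDiagram I) (op (op n))).app M).hom (ModuleCat.ofHom f) :=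
  rfl

theorem ιDT_restrict {n m : ℕ} (h : n ≤ m) (f : ↥(I ^ n : Ideal R) →ₗ[R] M) :
    ιDT I M m (f ∘ₗ powIncl I h) = ιDT I M n f :=
  congrArg (fun a : (LocCoh.transformDiagram I).obj (op (op n)) ⟶ LocCoh.idealTransform I =>
      (NatTrans.app a M).hom (ModuleCat.ofHom f))
    (colimit.w (LocCoh.transformDiagram I) (homOfLE h).op.op)

/-- The evaluated colimit cocone is a colimit. -/
noncomputable def isColimitEvalDT :
    IsColimit (((evaluation (ModuleCat.{u} R) (ModuleCat.{u} R)).obj M).mapCocone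
      (colimit.cocone (LocCoh.transformDiagram I))) :=
  isColimitOfPreserves _ (colimit.isColimit _)

theorem exists_rep_DT (z : (LocCoh.idealTransform I).obj M) : ∃ n f, ιDT I M n f = z := by
  obtain ⟨j, y, hy⟩ := Concrete.isColimit_exists_rep _ (isColimitEvalDT I M) z
  exact ⟨unop (unop j), ModuleCat.Hom.hom y, hy⟩

theorem exists_rep_DT_ge (z : (LocCoh.idealTransform I).obj M) (n₀ : ℕ) :
    ∃ n, n₀ ≤ n ∧ ∃ f, ιDT I M n f = z := by
  obtain ⟨n, f, rfl⟩ := exists_rep_DT I M z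
  exact ⟨max n n₀, le_max_right _ _, _, ιDT_restrict I M (le_max_left n n₀) f⟩

theorem ιDT_eq_zero_iff {n : ℕ} (f : ↥(I ^ n : Ideal R) →ₗ[R] M) :
    ιDT I M n f = 0 ↔ ∃ m, ∃ h : n ≤ m, f ∘ₗ powIncl I h = 0 := by
  constructor
  · intro hy
    rw [ιDT_eq] at hy
    have h0 : (((evaluation (ModuleCat.{u} R) (ModuleCat.{u} R)).obj M).mapCocone
        (colimit.cocone (LocCoh.transformDiagram I))).ι.app (op (op n)) (ModuleCat.ofHom f) =
      (((evaluation (ModuleCat.{u} R) (ModuleCat.{u} R)).obj M).mapCocone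
        (colimit.cocone (LocCoh.transformDiagram I))).ι.app (op (op n))
        (0 : ModuleCat.of R ↥(I ^ n : Ideal R) ⟶ M) :=
      hy.trans (map_zero ((colimit.ι (LocCoh.transformDiagram I) (op (op n))).app M).hom).symm
    obtain ⟨k, a, b, hab⟩ := (Concrete.isColimit_rep_eq_iff_exists _ (isColimitEvalDT I M)
      (i := op (op n)) (j := op (op n)) _ _).1 h0
    refine ⟨unop (unop k), leOfHom a.unop.unop, ?_⟩
    have ha : a = (homOfLE (leOfHom a.unop.unop)).op.op := Subsingleton.elim _ _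
    have hb : b = (homOfLE (leOfHom a.unop.unop)).op.op := Subsingleton.elim _ _
    rw [ha, hb] at hab
    exact LinearMap.ext fun x => congrArg (fun g => ModuleCat.Hom.hom g x) hab
  · rintro ⟨m, h, hf⟩
    rw [← ιDT_restrict I M h, hf, map_zero]

theorem map_ιDT {M N : ModuleCat.{u} R} (g : M ⟶ N) (n : ℕ) (f : ↥(I ^ n : Ideal R) →ₗ[R] M) :
    ((LocCoh.idealTransform I).map g).hom (ιDT I M n f) = ιDT I N n (g.hom ∘ₗ f) :=
  (congrArg (fun a => a.hom (ModuleCat.ofHom f))
    ((colimit.ι (LocCoh.transformDiagram I) (op (op n))).naturality g)).symm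

section Lift

variable {N : Type u} [AddCommGroup N] [Module R N]
  (φ : ∀ n, (↥(I ^ n : Ideal R) →ₗ[R] M) →ₗ[R] N)
  (hφ : ∀ {n m : ℕ} (h : n ≤ m) (f : ↥(I ^ n : Ideal R) →ₗ[R] M),
    φ m (f ∘ₗ powIncl I h) = φ n f)

/-- A compatible family of maps on the `Hom` modules, as a cocone. -/
noncomputable def liftCoconeDT :
    Cocone (LocCoh.transformDiagram I ⋙
      (evaluation (ModuleCat.{u} R) (ModuleCat.{u} R)).obj M) where
  pt := ModuleCat.of R N
  ι :=
    { app := fun j => ModuleCat.ofHom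
        (φ (unop (unop j)) ∘ₗ (ModuleCat.homLinearEquiv (S := R)
          (M := ModuleCat.of R ↥(I ^ (unop (unop j)) : Ideal R)) (N := M)).toLinearMap)
      naturality := fun j k a => by
        apply ModuleCat.hom_ext
        refine LinearMap.ext fun f => ?_
        have ha : a = (homOfLE (leOfHom a.unop.unop)).op.op := Subsingleton.elim _ _
        rw [ha]
        exact hφ (leOfHom a.unop.unop) (ModuleCat.Hom.hom f) }

/-- The map out of `D_I(M)` given by a compatible family. -/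
noncomputable def liftDT : (LocCoh.idealTransform I).obj M →ₗ[R] N :=
  ((isColimitEvalDT I M).desc (liftCoconeDT I M φ hφ)).hom

theorem liftDT_ι (n : ℕ) (f : ↥(I ^ n : Ideal R) →ₗ[R] M) :
    liftDT I M φ hφ (ιDT I M n f) = φ n f :=
  congrArg (fun a => a.hom (ModuleCat.ofHom f))
    ((isColimitEvalDT I M).fac (liftCoconeDT I M φ hφ) (op (op n)))

theorem homDT_ext {a b : (LocCoh.idealTransform I).obj M →ₗ[R] N}
    (h : ∀ n f, a (ιDT I M n f) = b (ιDT I M n f)) : a = b := by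
  refine LinearMap.ext fun z => ?_
  obtain ⟨n, f, rfl⟩ := exists_rep_DT I M z
  exact h n f

end Lift

end

variable (M : Type u) [AddCommGroup M] [Module R M]

/-- Multiplication map `I ^ n → M` of an element. -/
noncomputable abbrev smulMap (n : ℕ) (m : M) : ↥(I ^ n : Ideal R) →ₗ[R] M :=
  ((LinearMap.lsmul R M).domRestrict (I ^ n)).flip m

theorem toDT_eq (m : M) (n : ℕ) :
    LocCoh.toDT I M m = ιDT I (ModuleCat.of R M) n (smulMap I M n m) :=
  (ιDT_restrict I (ModuleCat.of R M) (Nat.zero_le n) (smulMap I M 0 m)).symm.trans rfl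

theorem ker_toDT : LinearMap.ker (LocCoh.toDT I M) = DRing.torsionSub I M := by
  ext m
  rw [LinearMap.mem_ker, toDT_eq I M m 0, ιDT_eq_zero_iff]
  constructor
  · rintro ⟨k, hk, h⟩
    exact ⟨k, fun a ha => LinearMap.congr_fun h ⟨a, ha⟩⟩
  · rintro ⟨k, hk⟩
    exact ⟨k, Nat.zero_le k, LinearMap.ext fun a => hk a a.2⟩

theorem smul_eq_toDT (n : ℕ) (f : ↥(I ^ n : Ideal R) →ₗ[R] M) (a : R) (ha : a ∈ I ^ n) :
    a • ιDT I (ModuleCat.of R M) n f = LocCoh.toDT I M (f ⟨a, ha⟩) := by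
  rw [toDT_eq I M _ n, ← map_smul]
  refine congrArg _ (LinearMap.ext fun x => ?_)
  change a • f x = (x : R) • f ⟨a, ha⟩
  rw [← map_smul, ← map_smul]
  exact congrArg f (Subtype.ext (mul_comm a x))

theorem isPowerTorsion_coker_toDT :
    LocCoh.IsPowerTorsion I (LocCoh.DT I M ⧸ LinearMap.range (LocCoh.toDT I M)) := by
  intro q
  obtain ⟨z, rfl⟩ := (LinearMap.range (LocCoh.toDT I M)).mkQ_surjective q
  obtain ⟨n, f, rfl⟩ := exists_rep_DT I (ModuleCat.of R M) z
  refine ⟨n, fun a ha => ?_⟩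
  rw [← map_smul, Submodule.mkQ_apply, Submodule.Quotient.mk_eq_zero]
  exact ⟨_, (smul_eq_toDT I M n f a ha).symm⟩

end Groth.Agent.H4LC
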