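import Groth.Agent.H4LC.Filtered
import Groth.Agent.H4LC.DT
import Groth.Agent.H4Depth.ExtBasic
import Mathlib.Algebra.Homology.DerivedCategory.Ext.EnoughProjectives
import Mathlib.RingTheory.Finiteness.Cardinality

/-!
# `Ext` out of finite modules and filtered colimits
-/

set_option autoImplicit false
set_option linter.unusedSectionVars false

universe u

open CategoryTheory CategoryTheory.Limits Opposite CategoryTheory.Abelian

namespace Groth.Agent.H4LC

variable {R : Type u} [CommRing R] [IsNoetherianRing R]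

/-- A presentation `0 → K → Rⁿ → N → 0` with finite `K`. -/
theorem exists_presentation (N : ModuleCat.{u} R) [Module.Finite R N] :
    ∃ (n : ℕ) (g : (Fin n → R) →ₗ[R] N), Function.Surjective g ∧
      Module.Finite R (LinearMap.ker g) := by
  obtain ⟨n, g, hg⟩ := Module.Finite.exists_fin' R N
  exact ⟨n, g, hg, inferInstance⟩

section FgSubmodules

variable {M : ModuleCat.{u} R}

/-- Every `Ext` class out of a finite module comes from a finitely generated submodule. -/
theorem exists_fg_ext (i : ℕ) : ∀ (N : ModuleCat.{u} R) [Module.Finite R N]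
    (x : Abelian.Ext N M i), ∃ (S : Submodule R M), S.FG ∧
      ∃ y : Abelian.Ext N (ModuleCat.of R S) i,
        y.comp (Abelian.Ext.mk₀ (ModuleCat.ofHom S.subtype)) (add_zero i) = x := by
  induction i with
  | zero =>
    intro N _ x
    obtain ⟨f, rfl⟩ := (Abelian.Ext.mk₀_bijective _ _).2 x
    refine ⟨LinearMap.range f.hom, Submodule.fg_def.2 ?_,
      Abelian.Ext.mk₀ (ModuleCat.ofHom f.hom.rangeRestrict),
      (Abelian.Ext.mk₀_comp_mk₀ _ _).trans rfl⟩
    obtain ⟨s, hs⟩ := Module.Finite.fg_top (R := R) (M := N)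
    classical
    refine ⟨f.hom '' s, (s.finite_toSet.image _), ?_⟩
    rw [Submodule.span_image, hs, Submodule.map_top]
  | succ k ih =>
    intro N _ x
    obtain ⟨n, g, hg, _⟩ := exists_presentation N
    have hS := Groth.Agent.H4Depth.shortComplexOf_shortExact (LinearMap.ker g).subtype g
      Subtype.val_injective hg (LinearMap.exact_subtype_ker_map g)
    obtain ⟨w, rfl⟩ := Abelian.Ext.contravariant_sequence_exact₃ hS _ x
      (Abelian.Ext.eq_zero_of_projective (P := ModuleCat.of R (Fin n → R)) _)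
      (show 1 + k = k + 1 by omega)
    obtain ⟨S, hfg, v, rfl⟩ := ih (ModuleCat.of R (LinearMap.ker g)) w
    refine ⟨S, hfg, hS.extClass.comp v (show 1 + k = k + 1 by omega), ?_⟩
    exact Abelian.Ext.comp_assoc_of_third_deg_zero _ _ _ _

end FgSubmodules

section Colimit

variable {J : Type u} [SmallCategory J] [IsFiltered J] (F : J ⥤ ModuleCat.{u} R)

/-- A map from a finite module killed in the colimit is killed at a finite stage. -/
theorem exists_comp_map_eq_zero {N : ModuleCat.{u} R} [Module.Finite R N] {j : J}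
    (f : N ⟶ F.obj j) (h : f ≫ colimit.ι F j = 0) :
    ∃ (k : J) (a : j ⟶ k), f ≫ F.map a = 0 := by
  classical
  obtain ⟨s, hs⟩ := Module.Finite.fg_top (R := R) (M := N)
  obtain ⟨k, a, ha⟩ := exists_map_finset_eq_zero F s (fun x => f.hom x)
    (fun x _ => congrArg (fun t => t.hom x) h)
  refine ⟨k, a, ModuleCat.hom_ext (LinearMap.ext_on (s := (s : Set N)) hs fun x hx => ha x hx)⟩

/-- A map from a finite module to a filtered colimit lifts to a finite stage. -/
theorem exists_lift_colimit {N : ModuleCat.{u} R} [Module.Finite R N] (f : N ⟶ colimit F) :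
    ∃ (j : J) (g : N ⟶ F.obj j), g ≫ colimit.ι F j = f := by
  classical
  obtain ⟨n, p, hp, _⟩ := exists_presentation N
  choose j y hy using fun i : Fin n => exists_rep_colimit F (f.hom (p (Pi.single i 1)))
  obtain ⟨S, hS⟩ := IsFiltered.sup_objs_exists (Finset.univ.image j)
  have e : ∀ i, j i ⟶ S := fun i =>
    (hS (Finset.mem_image.2 ⟨i, Finset.mem_univ i, rfl⟩)).some
  let q : (Fin n → R) →ₗ[R] F.obj S := Fintype.linearCombination R fun i => (F.map (e i)).hom (y i)
  have hq : ∀ c, (colimit.ι F S).hom (q c) = f.hom (p c) := by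
    intro c
    have : (colimit.ι F S).hom ∘ₗ q = f.hom ∘ₗ p := by
      refine LinearMap.pi_ext fun i r => ?_
      rw [LinearMap.comp_apply, LinearMap.comp_apply, Fintype.linearCombination_apply_single,
        map_smul, colimit_ι_map, hy, ← map_smul, ← map_smul, ← Pi.single_smul']
      simp
    exact LinearMap.congr_fun this c
  obtain ⟨k, a, ha⟩ := exists_comp_map_eq_zero F
    (ModuleCat.ofHom (q ∘ₗ (LinearMap.ker p).subtype))
    (ModuleCat.hom_ext (LinearMap.ext fun c => (hq c.1).trans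
      ((congrArg f.hom (LinearMap.mem_ker.1 c.2)).trans (map_zero _))))
  have hle : LinearMap.ker p ≤ LinearMap.ker ((F.map a).hom ∘ₗ q) := fun c hc =>
    LinearMap.congr_fun (congrArg ModuleCat.Hom.hom ha) ⟨c, hc⟩
  refine ⟨k, ModuleCat.ofHom
    ((LinearMap.ker p).liftQ ((F.map a).hom ∘ₗ q) hle ∘ₗ
      (p.quotKerEquivOfSurjective hp).symm.toLinearMap), ModuleCat.hom_ext (LinearMap.ext fun x => ?_)⟩
  obtain ⟨c, rfl⟩ := hp x
  have h1 : (p.quotKerEquivOfSurjective hp).symm (p c) = Submodule.Quotient.mk c := by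
    rw [LinearEquiv.symm_apply_eq, LinearMap.quotKerEquivOfSurjective_apply_mk]
  change (colimit.ι F k).hom ((LinearMap.ker p).liftQ ((F.map a).hom ∘ₗ q) hle _) = f.hom (p c)
  rw [show (p.quotKerEquivOfSurjective hp).symm.toLinearMap (p c) = Submodule.Quotient.mk c from h1,
    Submodule.liftQ_apply, LinearMap.comp_apply, colimit_ι_map, hq]

/-- Postcomposition with a transition map. -/
noncomputable abbrev pushExt {N : ModuleCat.{u} R} {M M' : ModuleCat.{u} R} (i : ℕ)
    (x : Abelian.Ext N M i) (f : M ⟶ M') : Abelian.Ext N M' i :=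
  x.comp (Abelian.Ext.mk₀ f) (add_zero i)

theorem pushExt_comp {N M M' M'' : ModuleCat.{u} R} (i : ℕ) (x : Abelian.Ext N M i) (f : M ⟶ M')
    (g : M' ⟶ M'') : pushExt i (pushExt i x f) g = pushExt i x (f ≫ g) := by
  rw [pushExt, pushExt, Abelian.Ext.comp_assoc_of_third_deg_zero, Abelian.Ext.mk₀_comp_mk₀]

theorem sub_comp_ext {N M M' : ModuleCat.{u} R} {i : ℕ} (x y : Abelian.Ext N M i)
    (z : Abelian.Ext M M' 0) :
    (x - y).comp z (add_zero i) = x.comp z (add_zero i) - y.comp z (add_zero i) := by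
  rw [eq_sub_iff_add_eq, ← Abelian.Ext.add_comp, sub_add_cancel]

theorem exists_ext_rep (i : ℕ) : ∀ (N : ModuleCat.{u} R) [Module.Finite R N]
    (x : Abelian.Ext N (colimit F) i), ∃ (j : J) (y : Abelian.Ext N (F.obj j) i),
      pushExt i y (colimit.ι F j) = x := by
  induction i with
  | zero =>
    intro N _ x
    obtain ⟨f, rfl⟩ := (Abelian.Ext.mk₀_bijective _ _).2 x
    obtain ⟨j, g, rfl⟩ := exists_lift_colimit F f
    exact ⟨j, Abelian.Ext.mk₀ g, Abelian.Ext.mk₀_comp_mk₀ _ _⟩
  | succ k ih =>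
    intro N _ x
    obtain ⟨n, g, hg, _⟩ := exists_presentation N
    have hS := Groth.Agent.H4Depth.shortComplexOf_shortExact (LinearMap.ker g).subtype g
      Subtype.val_injective hg (LinearMap.exact_subtype_ker_map g)
    obtain ⟨w, rfl⟩ := Abelian.Ext.contravariant_sequence_exact₃ hS _ x
      (Abelian.Ext.eq_zero_of_projective (P := ModuleCat.of R (Fin n → R)) _)
      (show 1 + k = k + 1 by omega)
    obtain ⟨j, v, rfl⟩ := ih (ModuleCat.of R (LinearMap.ker g)) w
    exact ⟨j, hS.extClass.comp v (show 1 + k = k + 1 by omega),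
      Abelian.Ext.comp_assoc_of_third_deg_zero _ _ _ _⟩

theorem exists_ext_eq_zero_step {S : ShortComplex (ModuleCat.{u} R)} (hS : S.ShortExact) (m : ℕ)
    (h1 : ∀ (l : J) (z : Abelian.Ext S.X₁ (F.obj l) m), pushExt m z (colimit.ι F l) = 0 →
      ∃ (k : J) (b : l ⟶ k), pushExt m z (F.map b) = 0)
    (h2 : ∀ w : Abelian.Ext S.X₂ (colimit F) m, ∃ (j : J) (w' : Abelian.Ext S.X₂ (F.obj j) m),
      pushExt m w' (colimit.ι F j) = w)
    (h3 : ∀ (M : ModuleCat.{u} R) (w : Abelian.Ext S.X₂ M (m + 1)), w = 0)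
    (j : J) (y : Abelian.Ext S.X₃ (F.obj j) (m + 1)) (hy : pushExt (m + 1) y (colimit.ι F j) = 0) :
    ∃ (k : J) (a : j ⟶ k), pushExt (m + 1) y (F.map a) = 0 := by
  obtain ⟨x, rfl⟩ := Abelian.Ext.contravariant_sequence_exact₃ hS _ y (h3 _ _)
    (show 1 + m = m + 1 by omega)
  rw [pushExt, Abelian.Ext.comp_assoc_of_third_deg_zero] at hy
  obtain ⟨w, hw⟩ := Abelian.Ext.contravariant_sequence_exact₁ hS _ _
    (show 1 + m = m + 1 by omega) hy
  obtain ⟨j', w', rfl⟩ := h2 w
  obtain ⟨l, a, a', -⟩ := IsFilteredOrEmpty.cocone_objs j j'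
  have hd : pushExt m (pushExt m x (F.map a) -
      (Abelian.Ext.mk₀ S.f).comp (pushExt m w' (F.map a')) (zero_add m)) (colimit.ι F l) = 0 := by
    rw [pushExt, sub_comp_ext, Abelian.Ext.comp_assoc_of_third_deg_zero,
      Abelian.Ext.mk₀_comp_mk₀, colimit.w, Abelian.Ext.comp_assoc_of_third_deg_zero,
      Abelian.Ext.comp_assoc_of_third_deg_zero, Abelian.Ext.mk₀_comp_mk₀, colimit.w]
    exact sub_eq_zero.2 hw.symm
  obtain ⟨k, b, hb⟩ := h1 l _ hd
  refine ⟨k, a ≫ b, ?_⟩
  simp only [pushExt, sub_comp_ext, sub_eq_zero] at hb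
  rw [pushExt, Abelian.Ext.comp_assoc_of_third_deg_zero, F.map_comp,
    ← Abelian.Ext.mk₀_comp_mk₀, ← Abelian.Ext.comp_assoc_of_third_deg_zero x, hb,
    Abelian.Ext.comp_assoc_of_third_deg_zero]
  exact hS.extClass_comp_assoc _

theorem exists_ext_eq_zero (i : ℕ) : ∀ (N : ModuleCat.{u} R) [Module.Finite R N] (j : J)
    (y : Abelian.Ext N (F.obj j) i), pushExt i y (colimit.ι F j) = 0 →
      ∃ (k : J) (a : j ⟶ k), pushExt i y (F.map a) = 0 := by
  induction i with
  | zero =>
    intro N _ j y hy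
    obtain ⟨f, rfl⟩ := (Abelian.Ext.mk₀_bijective _ _).2 y
    rw [pushExt, Abelian.Ext.mk₀_comp_mk₀, ← Abelian.Ext.mk₀_zero] at hy
    obtain ⟨k, a, ha⟩ := exists_comp_map_eq_zero F f ((Abelian.Ext.mk₀_bijective _ _).1 hy)
    exact ⟨k, a, by rw [pushExt, Abelian.Ext.mk₀_comp_mk₀, ha, Abelian.Ext.mk₀_zero]⟩
  | succ m ih =>
    intro N _ j y hy
    obtain ⟨n, g, hg, _⟩ := exists_presentation N
    exact exists_ext_eq_zero_step F
      (Groth.Agent.H4Depth.shortComplexOf_shortExact (LinearMap.ker g).subtype g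
        Subtype.val_injective hg (LinearMap.exact_subtype_ker_map g)) m
      (fun l z hz => ih (ModuleCat.of R (LinearMap.ker g)) l z hz)
      (fun w => exists_ext_rep F m (ModuleCat.of R (Fin n → R)) w)
      (fun M w => Abelian.Ext.eq_zero_of_projective (P := ModuleCat.of R (Fin n → R)) w) j y hy

end Colimit

end Groth.Agent.H4LC
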