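import Groth.Agent.H4LC.ComplexTorsion

/-!
# The acyclicity lemma for cochain complexes
-/

set_option autoImplicit false
set_option linter.unusedSectionVars false

universe u

open CategoryTheory IsLocalRing

namespace Groth.Agent.H4LC

variable {A : Type u} [CommRing A] [IsNoetherianRing A] [IsLocalRing A]
  (K : CochainComplex (ModuleCat.{u} A) ℕ)

local notation "𝔪" => maximalIdeal A

/-- Coboundaries. -/
noncomputable def cobdry : ∀ i : ℕ, Submodule A (K.X i)
  | 0 => ⊥
  | i + 1 => LinearMap.range (K.d i (i + 1)).hom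

theorem d_mem_cobdry (p i : ℕ) (w : K.X p) : (K.d p i).hom w ∈ cobdry K i := by
  by_cases h : (ComplexShape.up ℕ).Rel p i
  · obtain rfl : p + 1 = i := h
    exact ⟨w, rfl⟩
  · rw [K.shape p i h]
    exact Submodule.zero_mem _

theorem exists_pow_smul_mem_cobdry (i : ℕ) (h : IsFiniteLength A (K.homology i)) (z : K.X i)
    (hz : (K.d i (i + 1)).hom z = 0) : ∃ n : ℕ, ∀ a ∈ 𝔪 ^ n, a • z ∈ cobdry K i := by
  let S := K.sc' ((ComplexShape.up ℕ).prev i) i (i + 1)
  let e : K.homology i ≅ S.moduleCatLeftHomologyData.H :=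
    K.homologyIsoSc' _ i (i + 1) rfl (CochainComplex.next ℕ i) ≪≫ S.moduleCatHomologyIso
  have ht := isPowerTorsion_of_isFiniteLength (e.toLinearEquiv.isFiniteLength h)
  obtain ⟨n, hn⟩ := ht (Submodule.Quotient.mk (⟨z, hz⟩ : LinearMap.ker S.g.hom))
  refine ⟨n, fun a ha => ?_⟩
  obtain ⟨w, hw⟩ := (Submodule.Quotient.mk_eq_zero _).1 (hn a ha)
  have hw' : (K.d ((ComplexShape.up ℕ).prev i) i).hom w = a • z := congrArg Subtype.val hw
  exact hw' ▸ d_mem_cobdry K _ i w

/-- The acyclicity lemma. -/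
theorem isZero_cohomology_of_lt_depth (hfree : ∀ i, Module.Free A (K.X i) ∧ Module.Finite A (K.X i))
    (hfl : ∀ i, IsFiniteLength A (K.homology i)) (g : ℕ)
    (hg : (g : ℕ∞) ≤ LocCoh.idealDepth 𝔪 A) (i : ℕ) (hi : i < g) :
    Limits.IsZero (K.homology i) := by
  have hX : ∀ i, ∀ j < g, Subsingleton (LocCoh.H 𝔪 j (K.X i)) := fun i j hj => by
    obtain ⟨_, _⟩ := hfree i
    exact subsingleton_of_forall_eq 0 fun z => (one_smul A z).symm.trans
      (smul_H_free_eq_zero
        (fun w => @Subsingleton.elim _ ((le_idealDepth_iff_H 𝔪 A).1 hg j hj) _ _) _ z)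
  have main : ∀ i j, i + j < g → Subsingleton (LocCoh.H 𝔪 j (K.X i ⧸ cobdry K i)) := by
    intro i
    induction i with
    | zero =>
      intro j hj
      have hb : Function.Bijective (cobdry K 0).mkQ :=
        ⟨LinearMap.ker_eq_bot.1 (by rw [Submodule.ker_mkQ]; rfl), Submodule.mkQ_surjective _⟩
      have := hX 0 j (by omega)
      exact (Hmap_bijective_of_bijective 𝔪 _ hb j).2.subsingleton
    | succ i ih =>
      intro j hj
      let g' : (K.X i ⧸ cobdry K i) →ₗ[A] K.X (i + 1) :=
        (cobdry K i).liftQ (K.d i (i + 1)).hom (by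
          rcases i with _ | i
          · exact bot_le
          · rintro _ ⟨w, rfl⟩
            rw [LinearMap.mem_ker, ← LinearMap.comp_apply, ← ModuleCat.hom_comp, K.d_comp_d]
            rfl)
      have hB : LinearMap.range g' = cobdry K (i + 1) := Submodule.range_liftQ _ _ _
      have htK : LocCoh.IsPowerTorsion 𝔪 (LinearMap.ker g'.rangeRestrict) := fun q => by
        obtain ⟨x, hx⟩ := Submodule.Quotient.mk_surjective _ q.1
        have h0 : g' q.1 = 0 := congrArg Subtype.val (LinearMap.mem_ker.1 q.2)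
        rw [← hx] at h0
        obtain ⟨n, hn⟩ := exists_pow_smul_mem_cobdry K i (hfl i) x h0
        refine ⟨n, fun a ha => Subtype.ext ?_⟩
        rw [Submodule.coe_smul, ← hx, ← Submodule.Quotient.mk_smul]
        exact (Submodule.Quotient.mk_eq_zero _).2 (hn a ha)
      have hBsub : Subsingleton (LocCoh.H 𝔪 (j + 1) (LinearMap.range g')) := by
        have hsub := ih (j + 1) (by omega)
        have hsurj : Function.Surjective (Hmap 𝔪 g'.rangeRestrict (j + 1)) := fun z =>
          (exactH₃ 𝔪 (Submodule.injective_subtype _) g'.surjective_rangeRestrict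
            (LinearMap.exact_subtype_ker_map g'.rangeRestrict) (j + 1) z).1 (@Subsingleton.elim _
              (subsingleton_H_of_isPowerTorsion 𝔪 (j + 1 + 1) _ htK (j + 1).succ_pos) _ _)
        exact hsurj.subsingleton
      have hex : Function.Exact (LinearMap.range g').subtype (cobdry K (i + 1)).mkQ := fun x => by
        rw [← LinearMap.mem_ker, Submodule.ker_mkQ, ← hB]
        exact ⟨fun h => ⟨⟨x, h⟩, rfl⟩, fun ⟨y, hy⟩ => hy ▸ y.2⟩
      refine subsingleton_of_forall_eq 0 fun z => ?_
      obtain ⟨w, rfl⟩ := (exactH₃ 𝔪 (Submodule.injective_subtype _) (Submodule.mkQ_surjective _)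
        hex j z).1 (@Subsingleton.elim _ hBsub _ _)
      rw [@Subsingleton.elim _ (hX (i + 1) j (by omega)) w 0, map_zero]
  rw [← K.exactAt_iff_isZero_homology,
    K.exactAt_iff' ((ComplexShape.up ℕ).prev i) i (i + 1) rfl (CochainComplex.next ℕ i),
    ShortComplex.moduleCat_exact_iff]
  intro (z : K.X i) hz
  show z ∈ LinearMap.range (K.d ((ComplexShape.up ℕ).prev i) i).hom
  obtain ⟨n, hn⟩ := exists_pow_smul_mem_cobdry K i (hfl i) z hz
  let x : DRing.torsionSub 𝔪 (K.X i ⧸ cobdry K i) := ⟨Submodule.Quotient.mk z, n, fun a ha => by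
    rw [← Submodule.Quotient.mk_smul]
    exact (Submodule.Quotient.mk_eq_zero _).2 (hn a ha)⟩
  have h0 : z ∈ cobdry K i := (Submodule.Quotient.mk_eq_zero _).1 (congrArg Subtype.val
    (@Subsingleton.elim _ ((zeroEquiv 𝔪 _).toEquiv.subsingleton_congr.1 (main i 0 (by omega))) x 0))
  rcases i with _ | i
  · rw [(Submodule.mem_bot A).1 h0]
    exact Submodule.zero_mem _
  · obtain ⟨w, hw⟩ := h0
    show z ∈ LinearMap.range (K.d ((ComplexShape.up ℕ).prev (i + 1)) (i + 1)).hom
    rw [CochainComplex.prev_nat_succ]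
    exact ⟨w, hw⟩

end Groth.Agent.H4LC
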