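import Groth.Agent.H4LC.Cd

/-!
# Local cohomology from acyclic resolutions
-/

set_option autoImplicit false
set_option linter.unusedSectionVars false

universe u

open CategoryTheory CategoryTheory.Limits Opposite

namespace Groth.Agent.H4LC

variable {R : Type u} [CommRing R]

/-- The cohomology `ker g / range f` of a pair of maps. -/
abbrev cohQ {A B C : Type u} [AddCommGroup A] [Module R A] [AddCommGroup B] [Module R B]
    [AddCommGroup C] [Module R C] (f : A →ₗ[R] B) (g : B →ₗ[R] C) : Type u :=
  ↥(LinearMap.ker g) ⧸ (LinearMap.range f).comap (LinearMap.ker g).subtype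

variable (I : Ideal R)

/-- `Γ_I` of a linear map. -/
def Γmap {A B : Type u} [AddCommGroup A] [Module R A] [AddCommGroup B] [Module R B]
    (f : A →ₗ[R] B) : DRing.torsionSub I A →ₗ[R] DRing.torsionSub I B :=
  f.restrict fun _ hm => DRing.map_mem_torsionSub I f hm

@[simp]
theorem Γmap_val {A B : Type u} [AddCommGroup A] [Module R A] [AddCommGroup B] [Module R B]
    (f : A →ₗ[R] B) (x : DRing.torsionSub I A) : (Γmap I f x).1 = f x.1 := rfl

variable (A : ℕ → Type u) [∀ n, AddCommGroup (A n)] [∀ n, Module R (A n)]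
  (d : ∀ n, A n →ₗ[R] A (n + 1))

theorem mem_torsionSub_ker {n : ℕ} {y : A n} (hy : d n y = 0) (h : y ∈ DRing.torsionSub I (A n)) :
    (⟨y, hy⟩ : LinearMap.ker (d n)) ∈ DRing.torsionSub I (LinearMap.ker (d n)) := by
  obtain ⟨k, hk⟩ := h
  exact ⟨k, fun a ha => Subtype.ext (hk a ha)⟩

/-- `Γ_I(ker d) = ker Γ_I(d)`. -/
noncomputable def ΓkerEquiv (n : ℕ) :
    LinearMap.ker (Γmap I (d n)) ≃ₗ[R] DRing.torsionSub I (LinearMap.ker (d n)) where
  toFun y := ⟨⟨y.1.1, congrArg Subtype.val y.2⟩, mem_torsionSub_ker I A d _ y.1.2⟩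
  invFun z := ⟨⟨z.1.1, DRing.map_mem_torsionSub I (LinearMap.ker (d n)).subtype z.2⟩,
    Subtype.ext z.1.2⟩
  map_add' _ _ := rfl
  map_smul' _ _ := rfl
  left_inv _ := rfl
  right_inv _ := rfl

theorem nonempty_H_zero_equiv (n : ℕ) :
    Nonempty (LocCoh.H I 0 (LinearMap.ker (d n)) ≃ₗ[R] LinearMap.ker (Γmap I (d n))) :=
  ⟨(zeroEquiv I _).trans (ΓkerEquiv I A d n).symm⟩

variable (hex : ∀ n, Function.Exact (d n) (d (n + 1)))
  (hacy : ∀ n i, Subsingleton (LocCoh.H I (i + 1) (A n)))

/-- The surjection onto the cocycles. -/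
def toCocycle (n : ℕ) : A n →ₗ[R] LinearMap.ker (d (n + 1)) :=
  (d n).codRestrict _ fun x => LinearMap.mem_ker.2 ((hex n).apply_apply_eq_zero x)

theorem toCocycle_surjective (n : ℕ) : Function.Surjective (toCocycle A d hex n) := fun y => by
  obtain ⟨w, hw⟩ := (hex n y.1).1 y.2
  exact ⟨w, Subtype.ext hw⟩

theorem exact_toCocycle (n : ℕ) :
    Function.Exact (LinearMap.ker (d n)).subtype (toCocycle A d hex n) :=
  LinearMap.exact_iff.2
    (by rw [Submodule.range_subtype]; exact LinearMap.ker_codRestrict _ _ _)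

include hex hacy in
theorem nonempty_H_shift : ∀ (n m k : ℕ), k = m + n →
    Nonempty (LocCoh.H I (m + 1) (LinearMap.ker (d n)) ≃ₗ[R]
      LocCoh.H I (k + 1) (LinearMap.ker (d 0))) := by
  intro n
  induction n with
  | zero =>
    intro m k hk
    obtain rfl : k = m := hk
    exact ⟨LinearEquiv.refl _ _⟩
  | succ n ih =>
    intro m k hk
    obtain ⟨e⟩ := ih (m + 1) k (by omega)
    exact ⟨(LinearEquiv.ofBijective
      (δH I (LinearMap.ker (d n)).injective_subtype (toCocycle_surjective A d hex n)
        (exact_toCocycle A d hex n) (m + 1))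
      ⟨δH_injective I _ _ _ _ (hacy n m), δH_surjective I _ _ _ _ (hacy n (m + 1))⟩).trans e⟩

include hex hacy in
theorem nonempty_H_succ_equiv (n : ℕ) :
    Nonempty (LocCoh.H I (n + 1) (LinearMap.ker (d 0)) ≃ₗ[R]
      cohQ (Γmap I (d n)) (Γmap I (d (n + 1)))) := by
  obtain ⟨e⟩ := nonempty_H_shift I A d hex hacy n 0 n (Nat.zero_add n).symm
  let δ := δH I (LinearMap.ker (d n)).injective_subtype (toCocycle_surjective A d hex n)
    (exact_toCocycle A d hex n) 0
  let φ : LinearMap.ker (Γmap I (d (n + 1))) →ₗ[R] LocCoh.H I 1 (LinearMap.ker (d n)) :=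
    δ ∘ₗ ((ΓkerEquiv I A d (n + 1)).trans (zeroEquiv I _).symm).toLinearMap
  have hsurj : Function.Surjective φ :=
    (δH_surjective I _ _ _ _ (hacy n 0)).comp
      ((ΓkerEquiv I A d (n + 1)).trans (zeroEquiv I _).symm).surjective
  have hker : LinearMap.ker φ =
      (LinearMap.range (Γmap I (d n))).comap (LinearMap.ker (Γmap I (d (n + 1)))).subtype := by
    ext y
    constructor
    · intro hy
      obtain ⟨w, hw⟩ := (exactH₃ I (LinearMap.ker (d n)).injective_subtype
        (toCocycle_surjective A d hex n) (exact_toCocycle A d hex n) 0 _).1 hy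
      have h := zeroEquiv_naturality I (toCocycle A d hex n) w
      rw [hw] at h
      simp only [LinearEquiv.coe_coe, LinearEquiv.trans_apply, LinearEquiv.apply_symm_apply] at h
      exact ⟨zeroEquiv I _ w, Subtype.ext (congrArg Subtype.val h).symm⟩
    · rintro ⟨v, hv⟩
      refine (exactH₃ I (LinearMap.ker (d n)).injective_subtype
        (toCocycle_surjective A d hex n) (exact_toCocycle A d hex n) 0 _).2
        ⟨(zeroEquiv I _).symm v, ?_⟩
      apply (zeroEquiv I _).injective
      apply Subtype.ext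
      rw [zeroEquiv_naturality]
      simp only [LinearEquiv.coe_coe, LinearEquiv.trans_apply, LinearEquiv.apply_symm_apply]
      apply Subtype.ext
      exact (congrArg Subtype.val hv :)
  exact ⟨e.symm.trans ((φ.quotKerEquivOfSurjective hsurj).symm.trans
    (Submodule.quotEquivOfEq _ _ hker))⟩

section Resolution

variable [IsNoetherianRing R] (M : Type u) [AddCommGroup M] [Module R M]

/-- The terms of an injective resolution. -/
abbrev resX (J : InjectiveResolution (ModuleCat.of R M)) (n : ℕ) : Type u := J.cocomplex.X n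

/-- The differentials of an injective resolution, as linear maps. -/
abbrev resD (J : InjectiveResolution (ModuleCat.of R M)) (n : ℕ) :
    resX M J n →ₗ[R] resX M J (n + 1) :=
  (J.cocomplex.d n (n + 1)).hom

theorem exact_resD (J : InjectiveResolution (ModuleCat.of R M)) (n : ℕ) :
    Function.Exact (resD M J n) (resD M J (n + 1)) := by
  have h := J.cocomplex_exactAt_succ n
  rw [HomologicalComplex.exactAt_iff' _ n (n + 1) (n + 2) (by simp) (by simp [add_assoc]),
    ShortComplex.moduleCat_exact_iff] at h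
  intro y
  refine ⟨h y, ?_⟩
  rintro ⟨w, rfl⟩
  exact congrArg (fun φ : J.cocomplex.X n ⟶ J.cocomplex.X (n + 2) => φ.hom w)
    (J.cocomplex.d_comp_d n (n + 1) (n + 2))

theorem injective_resX (J : InjectiveResolution (ModuleCat.of R M)) (n : ℕ) :
    Module.Injective R (resX M J n) :=
  (Module.injective_iff_injective_object R _).mpr (J.injective n)

/-- `M` is the kernel of the first differential. -/
noncomputable def augEquiv (J : InjectiveResolution (ModuleCat.of R M)) :
    M ≃ₗ[R] LinearMap.ker (resD M J 0) :=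
  LinearEquiv.ofBijective
    ((J.ι.f 0).hom.codRestrict _ fun x =>
      congrArg (fun a => a.hom x) J.ι_f_zero_comp_complex_d) <| by
    have hex := ShortComplex.exact_of_f_is_kernel
      (ShortComplex.mk (J.ι.f 0) (J.cocomplex.d 0 1) J.ι_f_zero_comp_complex_d) J.isLimitKernelFork
    have hinj : Function.Injective (J.ι.f 0).hom :=
      (ModuleCat.mono_iff_injective _).1 inferInstance
    refine ⟨fun x y h => hinj (congrArg Subtype.val h), fun z => ?_⟩
    obtain ⟨m, hm⟩ := (ShortComplex.moduleCat_exact_iff _).1 hex z.1 z.2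
    exact ⟨m, Subtype.ext hm⟩

/-- Local cohomology computed by an injective resolution, unbundled. -/
theorem nonempty_H_equiv_resolution (J : InjectiveResolution (ModuleCat.of R M)) :
    Nonempty (LocCoh.H I 0 M ≃ₗ[R] LinearMap.ker (Γmap I (resD M J 0))) ∧
      ∀ n, Nonempty (LocCoh.H I (n + 1) M ≃ₗ[R]
        cohQ (Γmap I (resD M J n)) (Γmap I (resD M J (n + 1)))) := by
  have e : ∀ i, LocCoh.H I i M ≃ₗ[R] LocCoh.H I i (LinearMap.ker (resD M J 0)) := fun i =>
    ((localCohomology I i).mapIso (augEquiv M J).toModuleIso).toLinearEquiv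
  refine ⟨?_, fun n => ?_⟩
  · obtain ⟨f⟩ := nonempty_H_zero_equiv I (resX M J) (resD M J) 0
    exact ⟨(e 0).trans f⟩
  · obtain ⟨f⟩ := nonempty_H_succ_equiv I (resX M J) (resD M J) (exact_resD M J)
      (fun n i => by
        have := injective_resX M J n
        exact subsingleton_H_of_injective I _ i.succ_pos) n
    exact ⟨(e (n + 1)).trans f⟩

end Resolution

end Groth.Agent.H4LC
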