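import Groth.Agent.H4LC.GorQuotient
import Groth.Agent.H4LC.ChangeRings
import Groth.Agent.H4Matlis.Coextend
import Groth.Agent.H4Matlis.End
import Groth.Agent.H4Matlis.Hull
import Groth.Agent.H05EGA4.CohenStructure
import Groth.Agent.H05EGA4.Equidim
import Groth.Agent.H02CA.CompletionFlat

/-!
# Canonical modules of complete local rings
-/

set_option autoImplicit false
set_option linter.unusedSectionVars false
set_option linter.style.haveILetI false

universe u

open IsLocalRing InjHull CategoryTheory

namespace Groth.Agent.H4LC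

/-- A complete local ring is a quotient of a complete regular local ring. -/
theorem exists_complete_regular_presentation (S : Type u) [CommRing S] [IsLocalRing S]
    [IsNoetherianRing S] [IsAdicComplete (maximalIdeal S) S] :
    ∃ (B : Type u) (_ : CommRing B) (_ : IsRegularLocalRing B)
      (_ : IsAdicComplete (maximalIdeal B) B) (π : B →+* S), Function.Surjective π := by
  obtain ⟨B₀, _, f, _, hf⟩ := H05EGA4.exists_surjective_of_isRegularLocalRing S
  have := H02CA.isRegularLocalRing_adicCompletion B₀
  obtain ⟨e⟩ := H05EGA4.exists_completion_quotient_equiv (maximalIdeal B₀) S f hf (maximalIdeal S)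
    (IsLocalRing.map_maximalIdeal_of_surjective f hf)
  let e' : AdicCompletion (maximalIdeal S) S ≃+* S :=
    (AdicCompletion.ofAlgEquiv (maximalIdeal S)).toRingEquiv.symm
  exact ⟨AdicCompletion (maximalIdeal B₀) B₀, inferInstance, inferInstance, inferInstance,
    (e.trans e').toRingHom.comp (Ideal.Quotient.mk _),
    (e.trans e').surjective.comp Ideal.Quotient.mk_surjective⟩

variable {S : Type u} [CommRing S] [IsLocalRing S] [IsNoetherianRing S]
variable {B : Type u} [CommRing B] [LocCoh.IsGorensteinLocalRing B]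
  [IsAdicComplete (maximalIdeal B) B] [Algebra B S]
  (hπ : Function.Surjective (algebraMap B S))

include hπ in
theorem nonempty_canon_equiv_ext {n r c : ℕ} (hr : ringKrullDim B = r) (hn : ringKrullDim S = n)
    (hc : n + c = r) {E' : Type u} [AddCommGroup E'] [Module S E'] {f' : ResidueField S →ₗ[S] E'}
    (hf' : IsInjectiveHull f') (N : Type u) [AddCommGroup N] [Module S N] [Module B N]
    [IsScalarTower B S N] [Module.Finite S N]
    (eN : (N →ₗ[S] E') ≃ₗ[S] LocCoh.H (maximalIdeal S) n S) :
    Nonempty (N ≃ₗ[B] Abelian.Ext (ModuleCat.of B (B ⧸ RingHom.ker (algebraMap B S)))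
      (ModuleCat.of B B) c) := by
  have : Module.Finite B S := Module.Finite.of_surjective (Algebra.linearMap B S) hπ
  have : Module.Finite B N := Module.Finite.trans S N
  obtain ⟨g, hg⟩ := H4Goren.exists_isInjectiveHull_H_top B r hr
  let E := LocCoh.H (maximalIdeal B) r B
  let J := RingHom.ker (algebraMap B S)
  let q : (B ⧸ J) ≃ₗ[B] S := (Submodule.quotEquivOfEq J (LinearMap.ker (Algebra.linearMap B S))
    (Ideal.ext fun _ => Iff.rfl)).trans ((Algebra.linearMap B S).quotKerEquivOfSurjective hπ)
  -- the coinduced hull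
  obtain ⟨g₀, hg₀⟩ := H4Matlis.exists_hull_gam_coind hg (maximalIdeal S)
    (H4Matlis.isFiniteLength_quotient_maximal (A := B) (maximalIdeal S))
  let T := H4Matlis.Coind B S E
  have htop : H4Matlis.gam (maximalIdeal S) T = ⊤ := by
    have hmap : (maximalIdeal B).map (algebraMap B S) = maximalIdeal S :=
      IsLocalRing.map_maximalIdeal_of_surjective _ hπ
    have htor := H4Matlis.isPowerTorsion_coind (B := S) hg
    rw [hmap] at htor
    exact eq_top_iff.2 fun x _ => H4Matlis.mem_gam.2 (htor x)
  obtain ⟨u, -⟩ := H4Inj.hull_unique hg₀ hf'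
  let eT : T ≃ₗ[S] E' := (LinearEquiv.ofTop _ htop).symm.trans u
  letI : Module B T := Module.compHom T (algebraMap B S)
  haveI : IsScalarTower B S T := IsScalarTower.of_algebraMap_smul fun b x => rfl
  let ev' : (N →ₗ[S] T) →ₗ[B] (N →ₗ[B] E) :=
    { toFun := fun ψ => H4Matlis.evHom ψ
      map_add' := fun ψ χ => LinearMap.ext fun x => H4Matlis.ev_add (ψ x) (χ x)
      map_smul' := fun b ψ => LinearMap.ext fun x => by
        show H4Matlis.ev (b • ψ x) = b • H4Matlis.ev (ψ x)
        rw [← algebraMap_smul S b (ψ x), H4Matlis.ev_algebraMap_smul] }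
  have hev : Function.Bijective ev' := by
    refine ⟨fun ψ χ h => LinearMap.ext fun x => H4Matlis.ev_ext fun s => ?_, fun φ => ?_⟩
    · rw [← map_smul, ← map_smul]
      exact LinearMap.congr_fun h (s • x)
    · let χ : N → T := fun x => H4Matlis.ofHom
        (φ ∘ₗ (LinearMap.toSpanSingleton S N x).restrictScalars B)
      have hχ : ∀ x s, H4Matlis.ev (s • χ x) = φ (s • x) := fun x s => H4Matlis.ev_smul_ofHom _ s
      have hadd : ∀ x y, χ (x + y) = χ x + χ y := fun x y => H4Matlis.ev_ext fun s => by
        rw [smul_add, H4Matlis.ev_add, hχ, hχ, hχ, smul_add, map_add]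
      have hsmul : ∀ (t : S) (x : N), χ (t • x) = t • χ x := fun t x => H4Matlis.ev_ext fun s => by
        rw [hχ, smul_smul, smul_smul, hχ]
      refine ⟨({ toFun := χ, map_add' := hadd, map_smul' := hsmul } : N →ₗ[S] T),
        LinearMap.ext fun x => ?_⟩
      show H4Matlis.ev (χ x) = φ x
      rw [← one_smul S (χ x), hχ, one_smul]
  -- local cohomology over `B`
  letI : Module B (LocCoh.H (maximalIdeal S) n S) := Module.compHom _ (algebraMap B S)
  haveI : IsScalarTower B S (LocCoh.H (maximalIdeal S) n S) :=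
    IsScalarTower.of_algebraMap_smul fun b x => rfl
  obtain ⟨eH⟩ : Nonempty (LocCoh.H (maximalIdeal S) n S ≃ₗ[B] LocCoh.H (maximalIdeal B) n S) := by
    have h := exists_H_map_equiv S (maximalIdeal B) S n
    rw [IsLocalRing.map_maximalIdeal_of_surjective _ hπ] at h
    obtain ⟨φ, hφ⟩ := h
    exact ⟨{ φ with map_smul' := fun b x => hφ b x }⟩
  obtain ⟨eD⟩ := nonempty_localDuality (A := B) (M := B ⧸ J) hr g hg (j := n) (c := c) hc
  obtain ⟨P⟩ := nonempty_dualRes_of_finite (S := B) (B ⧸ J)
  obtain ⟨eX⟩ := DualRes.nonempty_extEquiv c P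
  haveI : Module.Finite B (P.E c) := inferInstance
  let X := Abelian.Ext (ModuleCat.of B (B ⧸ J)) (ModuleCat.of B B) c
  haveI : Module.Finite B X := Module.Finite.equiv eX.symm
  let Φ : (N →ₗ[B] E) ≃ₗ[B] (X →ₗ[B] E) :=
    (((LinearEquiv.ofBijective ev' hev).symm.trans
      (((LinearEquiv.congrRight eT).trans eN).restrictScalars B)).trans eH).trans
      ((((localCohomology (maximalIdeal B) n).mapIso q.symm.toModuleIso).toLinearEquiv).trans eD)
  exact ⟨(LinearEquiv.ofBijective _ (H4Matlis.bijective_applyₗ_of_finite hg N)).trans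
    ((LinearEquiv.congrLeft E B Φ).trans
      (LinearEquiv.ofBijective _ (H4Matlis.bijective_applyₗ_of_finite hg X)).symm)⟩

end Groth.Agent.H4LC
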