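import Groth.Agent.H4LC.CanonComplete
import Groth.Agent.H4LC.CompletionTransfer
import Groth.Agent.H4LC.Faltings
import Groth.Agent.H05EGA4.Completion
import Groth.Agent.H24Adic.CompletionNoetherian
import Mathlib.RingTheory.Ideal.GoingDown
import Mathlib.RingTheory.Ideal.KrullsHeightTheorem

/-!
# Associated primes, support and annihilator of a canonical module
-/

set_option autoImplicit false
set_option linter.unusedSectionVars false
set_option linter.style.haveILetI false

universe u

open IsLocalRing InjHull CategoryTheory TensorProduct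

namespace Groth.Agent.H4LC

theorem exists_prime_quotient_dim_eq {S : Type u} [CommRing S] (I : Ideal S) {n : ℕ}
    (h : (n : WithBot ℕ∞) ≤ ringKrullDim (S ⧸ I)) :
    ∃ Q : Ideal S, Q.IsPrime ∧ I ≤ Q ∧ (n : WithBot ℕ∞) ≤ ringKrullDim (S ⧸ Q) := by
  rw [ringKrullDim_quotient] at h
  obtain ⟨l, hl⟩ := Order.le_krullDim_iff.1 h
  refine ⟨l.head.1.asIdeal, l.head.1.2, l.head.2, ?_⟩
  rw [ringKrullDim_quotient]
  exact Order.le_krullDim_iff.2 ⟨⟨l.length, fun i => ⟨(l i).1,
    (PrimeSpectrum.mem_zeroLocus _ _).2 (Subtype.coe_le_coe.2 (l.monotone (Fin.zero_le i)))⟩,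
    fun i => l.step i⟩, hl⟩

theorem comap_eq_of_mem_minimalPrimes {R S : Type u} [CommRing R] [CommRing S] [Algebra R S]
    [Algebra.HasGoingDown R S] (p : Ideal R) [p.IsPrime] {P : Ideal S}
    (hP : P ∈ (p.map (algebraMap R S)).minimalPrimes) : P.comap (algebraMap R S) = p := by
  haveI : P.IsPrime := hP.1.1
  let q := P.comap (algebraMap R S)
  haveI : P.LiesOver q := ⟨rfl⟩
  have hpq : p ≤ q := Ideal.map_le_iff_le_comap.1 hP.1.2
  obtain ⟨P', hle, hP', hover⟩ := Ideal.exists_ideal_le_liesOver_of_le (R := R) (p := p) (q := q) P hpq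
  have hle' : P ≤ P' := hP.2 ⟨hP', Ideal.map_le_iff_le_comap.2 hover.over.le⟩ hle
  exact (congrArg (Ideal.comap (algebraMap R S)) (le_antisymm hle' hle)).trans hover.over.symm

/-- The complete case. -/
theorem canon_complete (S : Type u) [CommRing S] [IsLocalRing S] [IsNoetherianRing S]
    [IsAdicComplete (maximalIdeal S) S] {n : ℕ} (hn : ringKrullDim S = n)
    {E' : Type u} [AddCommGroup E'] [Module S E'] {f' : ResidueField S →ₗ[S] E'}
    (hf' : IsInjectiveHull f') (N : Type u) [AddCommGroup N] [Module S N] [Module.Finite S N]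
    (eN : (N →ₗ[S] E') ≃ₗ[S] LocCoh.H (maximalIdeal S) n S) :
    (∀ P ∈ associatedPrimes S N, ringKrullDim (S ⧸ P) = n) ∧
    (∀ P : Ideal S, P.IsPrime → ringKrullDim (S ⧸ P) = n → ∀ s : S, (∀ x : N, s • x = 0) →
      ∃ t ∉ P, t * s = 0) ∧
    (∀ P Q : Ideal S, P.IsPrime → Q.IsPrime → Q ≤ P → ringKrullDim (S ⧸ Q) = n →
      (n : WithBot ℕ∞) ≤ ((P.height : ℕ∞) : WithBot ℕ∞) + ringKrullDim (S ⧸ P)) := by
  obtain ⟨B, _, _, _, π, hπ⟩ := exists_complete_regular_presentation S
  letI : Algebra B S := π.toAlgebra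
  replace hπ : Function.Surjective (algebraMap B S) := hπ
  haveI := H4Goren.isGorensteinLocalRing_of_isRegularLocalRing B
  obtain ⟨r, -, hr, -⟩ := H4Goren.depth_eq_ringKrullDim B
  let J := RingHom.ker (algebraMap B S)
  let e : B ⧸ J ≃+* S := RingHom.quotientKerEquivOfSurjective hπ
  have hnJ : ringKrullDim (B ⧸ J) = n := (ringKrullDim_eq_of_ringEquiv e).trans hn
  have hnr : n ≤ r := by
    have := ringKrullDim_le_of_surjective _ hπ
    rw [hn, hr] at this
    exact_mod_cast this
  have hdim : ∀ P : Ideal S,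
      ringKrullDim (B ⧸ P.comap (algebraMap B S)) = ringKrullDim (S ⧸ P) := fun P =>
    ringKrullDim_eq_of_ringEquiv (RingEquiv.ofBijective (Ideal.quotientMap P (algebraMap B S) le_rfl)
      ⟨Ideal.quotientMap_injective, Ideal.quotientMap_surjective hπ⟩)
  letI : Module B N := Module.compHom N (algebraMap B S)
  haveI : IsScalarTower B S N := IsScalarTower.of_algebraMap_smul fun _ _ => rfl
  obtain ⟨φ⟩ := nonempty_canon_equiv_ext (B := B) hπ hr hn (Nat.add_sub_of_le hnr) hf' N eN
  refine ⟨fun P hP => ?_, fun P _ hPd s hs => ?_, fun P Q _ _ hQP hQ => ?_⟩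
  · haveI := hP.isPrime
    obtain ⟨-, x, hx⟩ := isAssociatedPrime_iff.1 hP
    have hQ : P.comap (algebraMap B S) ∈ associatedPrimes B N := by
      refine isAssociatedPrime_iff.2 ⟨inferInstance, x, ?_⟩
      ext b
      rw [Ideal.mem_comap, hx, Submodule.mem_colon_singleton, Submodule.mem_colon_singleton,
        algebraMap_smul, Submodule.mem_bot, Submodule.mem_bot]
    rw [LinearEquiv.AssociatedPrimes.eq φ] at hQ
    rw [← hdim P]
    exact (of_mem_associatedPrimes_ext hr hnJ (Nat.add_sub_of_le hnr) hQ).2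
  · obtain ⟨b, rfl⟩ := hπ s
    have hb : ∀ x, b • x = (0 : Abelian.Ext (ModuleCat.of B (B ⧸ J)) (ModuleCat.of B B) (r - n)) :=
      fun x => by
        obtain ⟨y, rfl⟩ := φ.surjective x
        rw [← map_smul, ← algebraMap_smul S b y, hs y, map_zero]
    obtain ⟨t, ht, htb⟩ := exists_mul_mem_of_kills_ext hr hnJ (Nat.add_sub_of_le hnr) hb
      (Q := P.comap (algebraMap B S)) ((hdim P).trans hPd)
    exact ⟨algebraMap B S t, ht, (map_mul _ _ _).symm.trans htb⟩
  · let P' : PrimeSpectrum B := PrimeSpectrum.comap (algebraMap B S) ⟨P, ‹_›⟩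
    let Q' : PrimeSpectrum B := PrimeSpectrum.comap (algebraMap B S) ⟨Q, ‹_›⟩
    have hQP' : Q' ≤ P' := Ideal.comap_mono hQP
    have hCM := (H4Goren.isCohenMacaulayLocalRing B).supportDim_eq_depth
    have hht : ∀ q : PrimeSpectrum B, ringKrullDim (B ⧸ q.asIdeal) +
        ((q.asIdeal.height : ℕ∞) : WithBot ℕ∞) = r := fun q => by
      have hsupp : q ∈ Module.support B B := by
        rw [Module.support_eq_zeroLocus, Module.annihilator_eq_bot.mpr inferInstance]
        intro x hx
        rw [SetLike.mem_coe, Submodule.mem_bot] at hx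
        rw [hx]
        exact q.asIdeal.zero_mem
      have h1 := (H4Depth.IsCM.localization (M := B) hCM q.asIdeal hsupp).2.1
      rw [Module.supportDim_self_eq_ringKrullDim, hr,
        Module.supportDim_eq_of_equiv ((LocalizedModule.equivTensorProduct q.asIdeal.primeCompl B).trans
          (TensorProduct.AlgebraTensorModule.rid B (Localization.AtPrime q.asIdeal) _)),
        Module.supportDim_self_eq_ringKrullDim,
        IsLocalization.AtPrime.ringKrullDim_eq_height q.asIdeal (Localization.AtPrime q.asIdeal)] at h1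
      exact h1.symm
    haveI : IsRegularRing B := H05EGA4.isRegularRing_of_isRegularLocalRing B
    have hadd := height_add_height_Ici (S := B) hQP'
    have hle : Order.height (⟨P', hQP'⟩ : Set.Ici Q') ≤ P.height := by
      rw [show P.height = Order.height (⟨P, ‹_›⟩ : PrimeSpectrum S) from
        PrimeSpectrum.height_eq_orderHeight ⟨P, ‹_›⟩]
      have hker : ∀ x : Set.Ici Q', RingHom.ker (algebraMap B S) ≤ x.1.asIdeal := fun x => by
        refine le_trans ?_ x.2
        exact Ideal.comap_mono (f := algebraMap B S) (bot_le (a := Q))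
      let f : Set.Ici Q' → PrimeSpectrum S := fun x => ⟨x.1.asIdeal.map (algebraMap B S),
        Ideal.map_isPrime_of_surjective hπ (hker x)⟩
      have hcm : ∀ x : Set.Ici Q', (f x).asIdeal.comap (algebraMap B S) = x.1.asIdeal := fun x => by
        show Ideal.comap _ (Ideal.map _ _) = _
        rw [Ideal.comap_map_of_surjective' _ hπ, sup_eq_left.2 (hker x)]
      have hf : StrictMono f := fun x y hxy => lt_of_le_of_ne
        (Ideal.map_mono (show x.1.asIdeal ≤ y.1.asIdeal from hxy.le)) fun h => hxy.ne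
          (Subtype.ext (PrimeSpectrum.ext (by rw [← hcm x, ← hcm y, h])))
      refine (Order.height_le_height_apply_of_strictMono f hf _).trans (le_of_eq ?_)
      exact congrArg Order.height (PrimeSpectrum.ext (Ideal.map_comap_of_surjective _ hπ P))
    have h1 := hht P'
    have h2 := hht Q'
    rw [show ringKrullDim (B ⧸ Q'.asIdeal) = n from (hdim Q).trans hQ] at h2
    rw [show ringKrullDim (B ⧸ P'.asIdeal) = ringKrullDim (S ⧸ P) from hdim P] at h1
    refine le_trans ?_ (add_le_add (WithBot.coe_le_coe.2 hle) le_rfl)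
    obtain ⟨a, ha⟩ := H05EGA4.exists_nat_height_eq Q'.asIdeal
    obtain ⟨b, hb⟩ := H05EGA4.exists_nat_height_eq P'.asIdeal
    rw [ha, hb] at hadd
    rw [ha] at h2
    rw [hb] at h1
    haveI : Nontrivial (S ⧸ P) := Ideal.Quotient.nontrivial_iff.mpr ‹P.IsPrime›.ne_top
    generalize Order.height (⟨P', hQP'⟩ : Set.Ici Q') = x at hadd ⊢
    generalize ringKrullDim (S ⧸ P) = d at h1 ⊢
    induction x with
    | top => rw [add_top] at hadd; exact absurd hadd.symm (ENat.natCast_ne_top b)
    | coe x =>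
      have e1 : a + x = b := by exact_mod_cast hadd
      have e2 : n + a = r := by exact_mod_cast h2
      induction d with
      | bot => rw [WithBot.bot_add] at h1; exact absurd h1 (WithBot.bot_ne_coe)
      | coe d =>
        induction d with
        | top => exact le_trans (WithBot.coe_le_coe.2 le_top) (le_of_eq (by rw [← WithBot.coe_add, add_top]))
        | coe d =>
          have e3 : d + b = r := by exact_mod_cast h1
          exact_mod_cast (show n ≤ x + d by omega)

section Canon

variable (R : Type u) [CommRing R] [IsNoetherianRing R] [IsLocalRing R] {n : ℕ}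
  (hn : ringKrullDim R = n) {E : Type u} [AddCommGroup E] [Module R E]
  {f : ResidueField R →ₗ[R] E} (hf : IsInjectiveHull f) (K : Type u) [AddCommGroup K] [Module R K]
  [Module.Finite R K] (eK : (K →ₗ[R] E) ≃ₗ[R] LocCoh.H (maximalIdeal R) n R)

local notation "Ŝ" => AdicCompletion (maximalIdeal R) R

include hn hf eK in
theorem canon_completion :
    (∀ P ∈ associatedPrimes Ŝ (Ŝ ⊗[R] K), ringKrullDim (Ŝ ⧸ P) = n) ∧
    (∀ P : Ideal Ŝ, P.IsPrime → ringKrullDim (Ŝ ⧸ P) = n → ∀ s : Ŝ,
      (∀ x : Ŝ ⊗[R] K, s • x = 0) → ∃ t ∉ P, t * s = 0) ∧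
    (∀ P Q : Ideal Ŝ, P.IsPrime → Q.IsPrime → Q ≤ P → ringKrullDim (Ŝ ⧸ Q) = n →
      (n : WithBot ℕ∞) ≤ ((P.height : ℕ∞) : WithBot ℕ∞) + ringKrullDim (Ŝ ⧸ P)) := by
  haveI : IsNoetherianRing Ŝ := H24Adic.isNoetherianRing_adicCompletion _
  have h : IsComplLike R Ŝ := isComplLike_adicCompletion
  obtain ⟨E', _, _, _, _, f', hf', ⟨u⟩⟩ := h.exists_hull hf
  obtain ⟨eH, heH⟩ := h.exists_H_equiv R n
  let v := ((localCohomology (maximalIdeal Ŝ) n).mapIso
    (TensorProduct.AlgebraTensorModule.rid R Ŝ Ŝ).toModuleIso).toLinearEquiv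
  letI : Module R (LocCoh.H (maximalIdeal Ŝ) n Ŝ) := Module.compHom _ (algebraMap R Ŝ)
  haveI : IsScalarTower R Ŝ (LocCoh.H (maximalIdeal Ŝ) n Ŝ) :=
    IsScalarTower.of_algebraMap_smul fun _ _ => rfl
  let w : LocCoh.H (maximalIdeal Ŝ) n Ŝ ≃ₗ[R] LocCoh.H (maximalIdeal R) n R :=
    LinearEquiv.symm { eH.trans v.toAddEquiv with
      map_smul' := fun a z => (congrArg v (heH a z)).trans (map_smul v (algebraMap R Ŝ a) _) }
  let lift : (K →ₗ[R] E') ≃ₗ[Ŝ] (Ŝ ⊗[R] K →ₗ[Ŝ] E') := LinearMap.liftBaseChangeEquiv Ŝ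
  let eN := h.equivOfTorsion (isPowerTorsion_H (maximalIdeal Ŝ) n Ŝ)
    ((w.trans (eK.symm.trans (LinearEquiv.congrRight u))).trans (lift.restrictScalars R))
  exact canon_complete Ŝ ((H05EGA4.ringKrullDim_adicCompletion R).trans hn) hf' (Ŝ ⊗[R] K) eN.symm

include hn hf eK in
theorem ringKrullDim_quotient_eq_of_mem_ass {p : Ideal R} (hp : p ∈ associatedPrimes R K) :
    ringKrullDim (R ⧸ p) = n := by
  haveI := hp.isPrime
  haveI : IsNoetherianRing Ŝ := H24Adic.isNoetherianRing_adicCompletion _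
  haveI : Module.Flat R Ŝ := AdicCompletion.flat_of_isNoetherian _
  haveI := (isComplLike_adicCompletion (A := R)).isLocalHom
  haveI : Module.FaithfullyFlat R Ŝ := Module.FaithfullyFlat.of_flat_of_isLocalHom
  refine le_antisymm ((ringKrullDim_quotient_le p).trans hn.le) ?_
  obtain ⟨g, hg⟩ := ((isAssociatedPrime_iff_exists_injective_linearMap p K).1 hp).2
  let gS := g.baseChange Ŝ
  have hgS : Function.Injective gS := Module.Flat.lTensor_preserves_injective_linearMap g hg
  have hinj := Module.FaithfullyFlat.tensorProduct_mk_injective (A := R) (B := Ŝ) (R ⧸ p)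
  haveI : Nontrivial (R ⧸ p) := Ideal.Quotient.nontrivial_iff.mpr ‹p.IsPrime›.ne_top
  haveI : Nontrivial (Ŝ ⊗[R] (R ⧸ p)) := hinj.nontrivial
  obtain ⟨P, hP⟩ := associatedPrimes.nonempty Ŝ (Ŝ ⊗[R] (R ⧸ p))
  have hd := (canon_completion R hn hf K eK).1 P (associatedPrimes.subset_of_injective hgS hP)
  have hle : p.map (algebraMap R Ŝ) ≤ P := by
    refine le_trans ?_ (IsAssociatedPrime.annihilator_le hP)
    refine Ideal.map_le_iff_le_comap.2 fun a ha => Module.mem_annihilator.2 fun x => Subtype.ext ?_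
    rw [Submodule.coe_smul, ZeroMemClass.coe_zero, algebraMap_smul]
    generalize (x : Ŝ ⊗[R] (R ⧸ p)) = y
    induction y using TensorProduct.induction_on with
    | zero => rw [smul_zero]
    | tmul s z =>
      obtain ⟨z, rfl⟩ := Ideal.Quotient.mk_surjective z
      rw [← TensorProduct.tmul_smul, show a • Ideal.Quotient.mk p z = 0 from
        Ideal.Quotient.eq_zero_iff_mem.2 (p.mul_mem_right z ha), TensorProduct.tmul_zero]
    | add y z hy hz => rw [smul_add, hy, hz, add_zero]
  rw [← hd, ← H05EGA4.ringKrullDim_completion_quotient R p]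
  exact ringKrullDim_le_of_surjective (Ideal.Quotient.factor hle) (Ideal.Quotient.factor_surjective hle)

include hn hf eK in
theorem exists_mul_eq_zero_of_kills {a : R} (ha : ∀ x : K, a • x = 0) {q : Ideal R} [q.IsPrime]
    (hq : ringKrullDim (R ⧸ q) = n) : ∃ t ∉ q, t * a = 0 := by
  haveI : IsNoetherianRing Ŝ := H24Adic.isNoetherianRing_adicCompletion _
  haveI : Module.Flat R Ŝ := AdicCompletion.flat_of_isNoetherian _
  obtain ⟨P, hPp, hle, hPd⟩ := exists_prime_quotient_dim_eq (q.map (algebraMap R Ŝ))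
    (n := n) ((H05EGA4.ringKrullDim_completion_quotient R q).trans hq).ge
  have hPn : ringKrullDim (Ŝ ⧸ P) = n := le_antisymm
    ((ringKrullDim_quotient_le P).trans ((H05EGA4.ringKrullDim_adicCompletion R).trans hn).le) hPd
  have hcomap : P.comap (algebraMap R Ŝ) = q := by
    by_contra hne
    have hlt : q < P.comap (algebraMap R Ŝ) :=
      lt_of_le_of_ne (Ideal.map_le_iff_le_comap.1 hle) (Ne.symm hne)
    have h1 := ringKrullDim_quotient_succ_le_of_lt hlt
    rw [hq] at h1
    have h2 : (n : WithBot ℕ∞) ≤ ringKrullDim (R ⧸ P.comap (algebraMap R Ŝ)) := by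
      rw [← H05EGA4.ringKrullDim_completion_quotient R]
      exact hPd.trans (ringKrullDim_le_of_surjective (Ideal.Quotient.factor Ideal.map_comap_le)
        (Ideal.Quotient.factor_surjective _))
    have h3 : n + 1 ≤ n := by exact_mod_cast (add_le_add_left h2 1).trans h1
    omega
  obtain ⟨t, ht, hta⟩ := (canon_completion R hn hf K eK).2.1 P hPp hPn (algebraMap R Ŝ a)
    fun x => by
      rw [algebraMap_smul]
      induction x using TensorProduct.induction_on with
      | zero => rw [smul_zero]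
      | tmul s z => rw [← TensorProduct.tmul_smul, ha, TensorProduct.tmul_zero]
      | add y z hy hz => rw [smul_add, hy, hz, add_zero]
  -- descend the annihilator
  let A : Ideal R := LinearMap.ker (LinearMap.toSpanSingleton R R a)
  have hex : Function.Exact A.subtype (LinearMap.toSpanSingleton R R a) :=
    LinearMap.exact_subtype_ker_map _
  obtain ⟨w, hw⟩ := ((Module.Flat.lTensor_exact Ŝ hex) (t ⊗ₜ[R] 1)).1 (by
    rw [LinearMap.lTensor_tmul, LinearMap.toSpanSingleton_apply, one_smul]
    refine (TensorProduct.rid R Ŝ).injective ?_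
    rw [map_zero, TensorProduct.rid_tmul, Algebra.smul_def, mul_comm, hta])
  have htA : t ∈ A.map (algebraMap R Ŝ) := by
    have hwt : t = TensorProduct.rid R Ŝ (A.subtype.lTensor Ŝ w) := by
      rw [hw, TensorProduct.rid_tmul, one_smul]
    rw [hwt]
    clear hwt hw
    induction w using TensorProduct.induction_on with
    | zero => simp
    | tmul s z =>
      rw [LinearMap.lTensor_tmul, TensorProduct.rid_tmul, Algebra.smul_def]
      exact Ideal.mul_mem_right _ _ (Ideal.mem_map_of_mem _ z.2)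
    | add y z hy hz => rw [map_add, map_add]; exact add_mem hy hz
  by_contra! hcon
  refine ht (Ideal.map_le_iff_le_comap.2 (fun b hb => ?_) htA)
  rw [hcomap]
  by_contra hbq
  exact hcon b hbq (by simpa [A] using hb)

include hn hf eK in
theorem mem_ass_iff {p : Ideal R} :
    p ∈ associatedPrimes R K ↔ p.IsPrime ∧ ringKrullDim (R ⧸ p) = n := by
  refine ⟨fun hp => ⟨hp.isPrime, ringKrullDim_quotient_eq_of_mem_ass R hn hf K eK hp⟩, ?_⟩
  rintro ⟨hpp, hd⟩
  refine Module.associatedPrimes.minimalPrimes_annihilator_subset_associatedPrimes R K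
    ⟨⟨hpp, fun a ha => ?_⟩, fun q hq hqp => ?_⟩
  · obtain ⟨t, ht, h0⟩ := exists_mul_eq_zero_of_kills R hn hf K eK
      (Module.mem_annihilator.1 ha) hd
    exact (hpp.mem_or_mem (h0 ▸ p.zero_mem)).resolve_left ht
  · rcases eq_or_lt_of_le (show q ≤ p from hqp) with h | h
    · exact h.ge
    · haveI := hq.1
      have h1 := (ringKrullDim_quotient_succ_le_of_lt h).trans ((ringKrullDim_quotient_le q).trans hn.le)
      rw [hd] at h1
      have h2 : n + 1 ≤ n := by exact_mod_cast h1
      omega

include hn hf eK in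
theorem mem_support_iff {p : PrimeSpectrum R} :
    p ∈ Module.support R K ↔
      ((p.asIdeal.height : ℕ∞) : WithBot ℕ∞) + ringKrullDim (R ⧸ p.asIdeal) = n := by
  have hub : ((p.asIdeal.height : ℕ∞) : WithBot ℕ∞) + ringKrullDim (R ⧸ p.asIdeal) ≤ n := by
    rw [PrimeSpectrum.height_eq_orderHeight p, ← hn]
    refine le_trans (add_le_add le_rfl ?_) (H4Depth.height_add_coheight_le p)
    rw [ringKrullDim_quotient, Order.coheight_eq_krullDim_Ici]
    exact Order.krullDim_le_of_strictMono (fun x => (⟨x.1, x.2⟩ : Set.Ici p)) fun _ _ h => h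
  constructor
  · intro hp
    refine le_antisymm hub ?_
    haveI : IsNoetherianRing Ŝ := H24Adic.isNoetherianRing_adicCompletion _
    haveI : Module.Flat R Ŝ := AdicCompletion.flat_of_isNoetherian _
    have hne : p.asIdeal.map (algebraMap R Ŝ) ≠ ⊤ := fun h => by
      have h1 := H05EGA4.ringKrullDim_completion_quotient R p.asIdeal
      haveI : Subsingleton (Ŝ ⧸ p.asIdeal.map (algebraMap R Ŝ)) :=
        Ideal.Quotient.subsingleton_iff.mpr h
      rw [ringKrullDim_eq_bot_of_subsingleton] at h1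
      haveI : Nontrivial (R ⧸ p.asIdeal) := Ideal.Quotient.nontrivial_iff.mpr p.2.ne_top
      exact absurd (h1 ▸ ringKrullDim_nonneg_of_nontrivial (R := R ⧸ p.asIdeal))
        (by simp)
    obtain ⟨P, hP⟩ := Ideal.nonempty_minimalPrimes hne
    haveI hPp : P.IsPrime := hP.1.1
    haveI : P.LiesOver p.asIdeal := ⟨(comap_eq_of_mem_minimalPrimes p.asIdeal hP).symm⟩
    have hann : Module.annihilator Ŝ (Ŝ ⊗[R] K) ≤ P := by
      refine le_trans H05EGA4.annihilator_baseChange_le (le_trans (Ideal.map_mono ?_) hP.1.2)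
      exact Module.annihilator_le_of_mem_support hp
    obtain ⟨Q, hQ, hQP⟩ := Ideal.exists_minimalPrimes_le hann
    have hQa := Module.associatedPrimes.minimalPrimes_annihilator_subset_associatedPrimes Ŝ
      (Ŝ ⊗[R] K) hQ
    refine le_trans ((canon_completion R hn hf K eK).2.2 P Q hPp hQ.1.1 hQP
      ((canon_completion R hn hf K eK).1 Q hQa)) (add_le_add (WithBot.coe_le_coe.2 ?_) ?_)
    · refine le_trans (Ideal.height_le_height_add_of_liesOver p.asIdeal P) ?_
      haveI : (P.map (Ideal.Quotient.mk (p.asIdeal.map (algebraMap R Ŝ)))).IsPrime :=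
        Ideal.isPrime_map_quotientMk_of_isPrime hP.1.2
      have h0 : (P.map (Ideal.Quotient.mk (p.asIdeal.map (algebraMap R Ŝ)))).height = 0 := by
        refine Ideal.height_eq_zero_iff.2 ?_
        rw [Ideal.minimalPrimes_eq_comap] at hP
        obtain ⟨P', hP', rfl⟩ := hP
        rwa [Ideal.map_comap_of_surjective _ Ideal.Quotient.mk_surjective]
      rw [h0, add_zero]
    · rw [← H05EGA4.ringKrullDim_completion_quotient R p.asIdeal]
      exact ringKrullDim_le_of_surjective (Ideal.Quotient.factor hP.1.2)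
        (Ideal.Quotient.factor_surjective _)
  · intro h
    obtain ⟨a, ha⟩ := H05EGA4.exists_nat_height_eq p.asIdeal
    obtain ⟨l, hl⟩ := Order.exists_series_of_le_height p
      (n := a) (by rw [← PrimeSpectrum.height_eq_orderHeight]; exact ha.ge)
    let q := l.head
    have hqp : q ≤ p := hl.1 ▸ l.head_le_last
    refine Module.mem_support_mono hqp (H4Depth.mem_support_of_mem_associatedPrimes
      ((mem_ass_iff R hn hf K eK).2 ⟨q.2, ?_⟩))
    refine le_antisymm ((ringKrullDim_quotient_le _).trans hn.le) ?_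
    rw [← h, ha, ringKrullDim_quotient q.asIdeal]
    let x : Set.Ici q := ⟨p, hqp⟩
    let l' : LTSeries (Set.Ici q) := ⟨l.length, fun i => ⟨l i, l.monotone (Fin.zero_le i)⟩, fun i => l.step i⟩
    have hla : (a : ℕ∞) ≤ Order.height x := hl.2 ▸
      Order.length_le_height (p := l') (x := x) (le_of_eq (Subtype.ext (hl.1 : l.last = p)))
    refine le_trans (add_le_add (WithBot.coe_le_coe.2 hla) ?_) (le_trans (H4Depth.height_add_coheight_le x) ?_)
    · rw [Order.coheight_eq_krullDim_Ici, ringKrullDim_quotient]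
      exact Order.krullDim_le_of_strictMono
        (fun y => (⟨⟨y.1, hqp.trans y.2⟩, y.2⟩ : Set.Ici x)) fun _ _ h => h
    · exact Order.krullDim_le_of_strictMono
        (fun y => (⟨y.1, y.2⟩ : PrimeSpectrum.zeroLocus (q.asIdeal : Set R))) fun _ _ h => h

end Canon

end Groth.Agent.H4LC
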