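import Groth.Prelude.Def_DRing3
import Mathlib.Algebra.Category.ModuleCat.FilteredColimits
import Mathlib.Algebra.Category.ModuleCat.Colimits
import Mathlib.CategoryTheory.Limits.Preserves.Filtered
import Mathlib.CategoryTheory.Limits.ConcreteCategory.Basic
import Mathlib.RingTheory.Noetherian.Basic

/-!
# Commuting with filtered colimits, element-wise criterion
-/

set_option autoImplicit false
set_option linter.unusedSectionVars false

universe u

open CategoryTheory CategoryTheory.Limits

namespace Groth.Agent.H4LC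

variable {R : Type u} [CommRing R] {J : Type u} [SmallCategory J] [IsFiltered J]
  (F : J ⥤ ModuleCat.{u} R)

theorem exists_rep_colimit (z : (colimit F : ModuleCat.{u} R)) :
    ∃ j y, (colimit.ι F j).hom y = z :=
  Concrete.colimit_exists_rep F z

theorem colimit_ι_map {j k : J} (f : j ⟶ k) (y : F.obj j) :
    (colimit.ι F k).hom ((F.map f).hom y) = (colimit.ι F j).hom y :=
  congrArg (fun a => a.hom y) (colimit.w F f)

theorem exists_map_eq_zero {j : J} (y : F.obj j) (h : (colimit.ι F j).hom y = 0) :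
    ∃ (k : J) (f : j ⟶ k), (F.map f).hom y = 0 := by
  obtain ⟨k, f, g, hfg⟩ := (Concrete.colimit_rep_eq_iff_exists F (i := j) (j := j) y
    (0 : F.obj j)).1 (h.trans (map_zero _).symm)
  exact ⟨k, f, hfg.trans (map_zero _)⟩

/-- A functor with element-wise compatibility preserves a filtered colimit. -/
theorem preservesColimit_of_elementwise (G : ModuleCat.{u} R ⥤ ModuleCat.{u} R)
    (hsurj : ∀ z : G.obj (colimit F), ∃ j y, (G.map (colimit.ι F j)).hom y = z)
    (hinj : ∀ (j : J) (y : G.obj (F.obj j)), (G.map (colimit.ι F j)).hom y = 0 →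
      ∃ (k : J) (f : j ⟶ k), (G.map (F.map f)).hom y = 0) :
    PreservesColimit F G := by
  have hpost : ∀ j, colimit.ι (F ⋙ G) j ≫ colimit.post F G = G.map (colimit.ι F j) :=
    fun j => colimit.ι_post F G j
  have : IsIso (colimit.post F G) := by
    refine (ConcreteCategory.isIso_iff_bijective _).2 ⟨?_, fun z => ?_⟩
    · refine (injective_iff_map_eq_zero (colimit.post F G).hom).2 fun w hw => ?_
      obtain ⟨j, y, rfl⟩ := exists_rep_colimit (F ⋙ G) w
      obtain ⟨k, f, hf⟩ := hinj j y
        ((congrArg (fun a => a.hom y) (hpost j)).symm.trans hw)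
      rw [← colimit_ι_map (F ⋙ G) f y]
      exact (congrArg (colimit.ι (F ⋙ G) k).hom hf).trans (map_zero _)
    · obtain ⟨j, y, rfl⟩ := hsurj z
      exact ⟨(colimit.ι (F ⋙ G) j).hom y, congrArg (fun a => a.hom y) (hpost j)⟩
  exact preservesColimit_of_isIso_post G F

theorem exists_map_finset_eq_zero {α : Type*} (s : Finset α) {j : J} (y : α → F.obj j)
    (h : ∀ a ∈ s, (colimit.ι F j).hom (y a) = 0) :
    ∃ (k : J) (f : j ⟶ k), ∀ a ∈ s, (F.map f).hom (y a) = 0 := by
  classical
  induction s using Finset.induction_on with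
  | empty => exact ⟨j, 𝟙 j, by simp⟩
  | insert a s ha ih =>
    obtain ⟨k₁, f₁, h₁⟩ := ih fun b hb => h b (Finset.mem_insert_of_mem hb)
    obtain ⟨k₂, f₂, h₂⟩ := exists_map_eq_zero F (y a) (h a (Finset.mem_insert_self a s))
    obtain ⟨k, g₁, g₂, hg⟩ := IsFilteredOrEmpty.cocone_objs k₁ k₂
    obtain ⟨l, e, he⟩ := IsFilteredOrEmpty.cocone_maps (f₁ ≫ g₁) (f₂ ≫ g₂)
    refine ⟨l, (f₁ ≫ g₁) ≫ e, fun b hb => ?_⟩
    rcases Finset.mem_insert.1 hb with rfl | hb
    · rw [he, F.map_comp, F.map_comp, ModuleCat.comp_apply, ModuleCat.comp_apply, h₂,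
        map_zero, map_zero]
    · rw [F.map_comp, F.map_comp, ModuleCat.comp_apply, ModuleCat.comp_apply, h₁ b hb,
        map_zero, map_zero]

variable [IsNoetherianRing R] (I : Ideal R)

theorem preservesColimit_gammaI : PreservesColimit F (DRing.gammaI I) := by
  refine preservesColimit_of_elementwise F (DRing.gammaI I) (fun z => ?_) fun j y hy => ?_
  · obtain ⟨j, y, hy⟩ := exists_rep_colimit F (Subtype.val z)
    obtain ⟨n, hn⟩ := z.2
    obtain ⟨s, hs⟩ := IsNoetherian.noetherian (I ^ n : Ideal R)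
    have h : ∀ a ∈ s, (colimit.ι F j).hom (a • y) = 0 := fun a ha => by
      rw [map_smul, hy]
      exact hn a (hs ▸ Ideal.subset_span ha)
    obtain ⟨k, f, hf⟩ := exists_map_finset_eq_zero F s (fun a => a • y) h
    have hk : ∀ a ∈ I ^ n, a • (F.map f).hom y = 0 := by
      intro a ha
      rw [← hs] at ha
      induction ha using Submodule.span_induction with
      | mem x hx => rw [← map_smul]; exact hf x hx
      | zero => rw [zero_smul]
      | add x x' _ _ hx hx' => rw [add_smul, hx, hx', add_zero]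
      | smul r x _ hx => rw [smul_eq_mul, mul_smul, hx, smul_zero]
    exact ⟨k, ⟨(F.map f).hom y, n, hk⟩, Subtype.ext ((colimit_ι_map F f y).trans hy)⟩
  · obtain ⟨k, f, hf⟩ := exists_map_eq_zero F (Subtype.val y) (congrArg Subtype.val hy)
    exact ⟨k, f, Subtype.ext hf⟩

end Groth.Agent.H4LC
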