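import Groth.Agent.H4Depth.ExtBasic
import Mathlib.RingTheory.Regular.RegularSequence
import Mathlib.RingTheory.Regular.Category
import Mathlib.Algebra.Homology.DerivedCategory.Ext.Linear
import Mathlib.Algebra.Category.ModuleCat.Ext.Basic

/-!
# Rees' isomorphism `Ext^k(M, N) ≅ Hom(M, N/(x)N)`
-/

set_option autoImplicit false
set_option linter.unusedSectionVars false

universe u

open CategoryTheory RingTheory.Sequence
open scoped Pointwise

namespace Groth.Agent.H4LC

variable {R : Type u} [CommRing R]

/-- Ext vanishes below, and equals `Hom` in, the length of a regular sequence killing the source. -/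
theorem ext_rees (M : Type u) [AddCommGroup M] [Module R M] :
    ∀ (rs : List R) (N : Type u) [AddCommGroup N] [Module R N], IsWeaklyRegular N rs →
      (∀ r ∈ rs, r ∈ Module.annihilator R M) →
      (∀ j < rs.length, Subsingleton (Abelian.Ext (ModuleCat.of R M) (ModuleCat.of R N) j)) ∧
      Nonempty (Abelian.Ext (ModuleCat.of R M) (ModuleCat.of R N) rs.length ≃ₗ[R]
        (M →ₗ[R] N ⧸ Ideal.ofList rs • (⊤ : Submodule R N))) := by
  intro rs
  induction rs with
  | nil =>
    intro N _ _ _ _
    refine ⟨fun j hj => absurd hj (Nat.not_lt_zero j),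
      ⟨(Abelian.Ext.linearEquiv₀.trans ModuleCat.homLinearEquiv).trans
        (LinearEquiv.congrRight (Submodule.quotEquivOfEqBot _ ?_).symm)⟩⟩
    rw [Ideal.ofList_nil, Submodule.bot_smul]
  | cons x rs ih =>
    intro N _ _ hreg hann
    rw [isWeaklyRegular_cons_iff] at hreg
    obtain ⟨ih1, ⟨e⟩⟩ := ih (QuotSMulTop x N) hreg.2 fun r hr => hann r (List.mem_cons_of_mem _ hr)
    have hC := hreg.1.smulShortComplex_shortExact (M := ModuleCat.of R N)
    have hx : ∀ {j : ℕ} (z : Abelian.Ext (ModuleCat.of R M) (ModuleCat.of R N) j),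
        z.comp (Abelian.Ext.mk₀ ((ModuleCat.of R N).smulShortComplex x).f) (add_zero j) = 0 :=
      fun {j} z => by
        show z.comp (Abelian.Ext.mk₀ (x • 𝟙 (ModuleCat.of R N))) (add_zero j) = 0
        rw [Abelian.Ext.mk₀_smul, Abelian.Ext.comp_smul, Abelian.Ext.comp_mk₀_id]
        exact H4Depth.ext_smul_eq_zero_of_mem_annihilator_left (hann x List.mem_cons_self) z
    let δ : ∀ j, Abelian.Ext (ModuleCat.of R M) (ModuleCat.of R (QuotSMulTop x N)) j →ₗ[R]
        Abelian.Ext (ModuleCat.of R M) (ModuleCat.of R N) (j + 1) := fun j =>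
      Abelian.Ext.postcompOfLinear hC.extClass R (ModuleCat.of R M) (rfl : j + 1 = j + 1)
    have hsurj : ∀ j, Function.Surjective (δ j) := fun j z =>
      Abelian.Ext.covariant_sequence_exact₁ (ModuleCat.of R M) hC z (hx z) rfl
    have hlow : ∀ j < rs.length + 1,
        Subsingleton (Abelian.Ext (ModuleCat.of R M) (ModuleCat.of R N) j) := by
      intro j hj
      cases j with
      | zero =>
        refine (H4Depth.subsingleton_ext_zero_iff _ _).2 ⟨fun a b => LinearMap.ext fun m => hreg.1 ?_⟩
        show x • a m = x • b m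
        rw [← map_smul, ← map_smul, Module.mem_annihilator.1 (hann x List.mem_cons_self) m,
          map_zero, map_zero]
      | succ j => exact @Function.Surjective.subsingleton _ _ _ (ih1 j (by omega)) (hsurj j)
    have hinj : Function.Injective (δ rs.length) := by
      rw [injective_iff_map_eq_zero]
      intro z hz
      obtain ⟨w, rfl⟩ := Abelian.Ext.covariant_sequence_exact₃ (ModuleCat.of R M) hC z rfl hz
      exact (congrArg (fun t => Abelian.Ext.comp t _ (add_zero _)) (@Subsingleton.elim _ (hlow rs.length (by omega)) w 0)).trans (Abelian.Ext.zero_comp _ _ _ _ _)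
    exact ⟨hlow, ⟨((LinearEquiv.ofBijective _ ⟨hinj, hsurj rs.length⟩).symm.trans e).trans
      (LinearEquiv.congrRight (Submodule.quotOfListConsSMulTopEquivQuotSMulTopInner N x rs).symm)⟩⟩

end Groth.Agent.H4LC
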