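import Groth.Agent.H4LC.MayerVietoris
import Groth.Agent.H4LC.Torsion
import Groth.Agent.H4LC.Cd
import Mathlib.Algebra.Module.LocalizedModule.Basic

/-!
# Adding an element to the support ideal

The comparison sequence `H^i_{a + (b)}(M) → H^i_a(M) → H^i_a(M_b) → H^{i+1}_{a + (b)}(M)`.
The third term is first computed with the system of kernels of `R/a^n → R/(a + (b))^n`.
-/

set_option autoImplicit false

universe u

open CategoryTheory CategoryTheory.Limits Opposite

namespace Groth.Agent.H4LC

variable {R : Type u} [CommRing R] {a c : Ideal R} (h : a ≤ c)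

/-- The `n`-th kernel of `R/a^n → R/c^n`. -/
noncomputable abbrev cmpKer (t : ℕᵒᵖ) : Submodule R ((quotSys a).obj t) :=
  LinearMap.ker ((Dual2.quotMapOfLE h).app t).hom

theorem cmpKer_map {s t : ℕᵒᵖ} (w : s ⟶ t) (x : (quotSys a).obj s) (hx : x ∈ cmpKer h s) :
    ((quotSys a).map w).hom x ∈ cmpKer h t := by
  rw [LinearMap.mem_ker] at hx ⊢
  refine (congrArg (fun e : (quotSys a).obj s ⟶ (quotSys c).obj t => e.hom x)
    ((Dual2.quotMapOfLE h).naturality w)).trans ?_
  exact (congrArg ((quotSys c).map w).hom hx).trans (map_zero _)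

/-- The system of kernels. -/
noncomputable def cmpKerSys : ℕᵒᵖ ⥤ ModuleCat.{u} R where
  obj t := ModuleCat.of R (cmpKer h t)
  map w := ModuleCat.ofHom (((quotSys a).map w).hom.restrict (cmpKer_map h w))
  map_id t := ModuleCat.hom_ext (LinearMap.ext fun x =>
    Subtype.ext (congrArg (fun e => e.hom x.1) ((quotSys a).map_id t)))
  map_comp f g := ModuleCat.hom_ext (LinearMap.ext fun x =>
    Subtype.ext (congrArg (fun e => e.hom x.1) ((quotSys a).map_comp f g)))

/-- The inclusion of the kernels. -/
noncomputable def cmpKerIncl : cmpKerSys h ⟶ quotSys a where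
  app t := ModuleCat.ofHom (cmpKer h t).subtype
  naturality _ _ _ := rfl

theorem cmpKerIncl_comp (n : ℕ) :
    (cmpKerIncl h).app (op n) ≫ (Dual2.quotMapOfLE h).app (op n) = 0 :=
  ModuleCat.hom_ext (LinearMap.ext fun x => x.2)

theorem cmpKer_shortExact (n : ℕ) :
    (ShortComplex.mk ((cmpKerIncl h).app (op n)) ((Dual2.quotMapOfLE h).app (op n))
      (cmpKerIncl_comp h n)).ShortExact :=
  Groth.Agent.H4Depth.shortComplexOf_shortExact (cmpKer h (op n)).subtype
    ((Dual2.quotMapOfLE h).app (op n)).hom (cmpKer h (op n)).injective_subtype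
    (fun y => by
      obtain ⟨r, rfl⟩ := Submodule.Quotient.mk_surjective (c ^ n) y
      exact ⟨Submodule.Quotient.mk r, rfl⟩)
    (LinearMap.exact_subtype_ker_map _)

theorem exists_mem_pow_of_mem_cmpKer {t : ℕᵒᵖ} (x : (cmpKerSys h).obj t) :
    ∃ r ∈ c ^ (unop t), ((cmpKerIncl h).app t).hom x = (Submodule.Quotient.mk r : R ⧸ a ^ (unop t)) := by
  obtain ⟨r, hr⟩ := Submodule.Quotient.mk_surjective (a ^ (unop t)) x.1
  refine ⟨r, (Submodule.Quotient.mk_eq_zero _).1 ?_, hr.symm⟩
  have hx : ((Dual2.quotMapOfLE h).app t).hom x.1 = 0 := x.2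
  rw [← hr] at hx
  exact hx

variable {b : R} (hc : c = a ⊔ Ideal.span {b})

include hc in
theorem pow_succ_le (n : ℕ) : c ^ (n + 1) ≤ a ^ (n + 1) ⊔ Ideal.span {b} * c ^ n := by
  induction n with
  | zero => simp [hc]
  | succ n ih =>
    calc c ^ (n + 2) = c ^ (n + 1) * a ⊔ c ^ (n + 1) * Ideal.span {b} := by
          rw [← Ideal.mul_sup, ← hc, ← pow_succ]
      _ ≤ (a ^ (n + 1) ⊔ Ideal.span {b} * c ^ n) * a ⊔ c ^ (n + 1) * Ideal.span {b} :=
          sup_le_sup_right (Ideal.mul_mono_left ih) _
      _ ≤ a ^ (n + 2) ⊔ Ideal.span {b} * c ^ (n + 1) := by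
          rw [Ideal.sup_mul, ← pow_succ, mul_comm (c ^ (n + 1)) (Ideal.span {b}), mul_assoc]
          refine sup_le (sup_le le_sup_left (le_sup_of_le_right (Ideal.mul_mono_right ?_)))
            le_sup_right
          rw [pow_succ c n]
          exact Ideal.mul_mono_right (hc ▸ le_sup_left)

include hc in
theorem pow_add_le (n k : ℕ) : c ^ (n + k) ≤ a ^ n ⊔ Ideal.span {b ^ k} * c ^ n := by
  rw [← Ideal.span_singleton_pow]
  induction k with
  | zero => simp
  | succ k ih =>
    calc c ^ (n + k + 1) = c ^ (n + k) * c := pow_succ _ _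
      _ ≤ (a ^ n ⊔ Ideal.span {b} ^ k * c ^ n) * c := Ideal.mul_mono_left ih
      _ = a ^ n * c ⊔ Ideal.span {b} ^ k * c ^ (n + 1) := by
          rw [Ideal.sup_mul, mul_assoc, ← pow_succ]
      _ ≤ a ^ n ⊔ Ideal.span {b} ^ (k + 1) * c ^ n := by
          refine sup_le (le_sup_of_le_left Ideal.mul_le_left) ?_
          refine (Ideal.mul_mono_right (pow_succ_le hc n)).trans ?_
          rw [Ideal.mul_sup, ← mul_assoc, ← pow_succ]
          exact sup_le_sup_right (Ideal.mul_le_right.trans (Ideal.pow_le_pow_right n.le_succ)) _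

theorem subsingleton_cmpKer_zero [IsNoetherianRing R] {X : Type u} [AddCommGroup X] [Module R X]
    (hc : c = a ⊔ Ideal.span {b}) (hX : LocCoh.IsPowerTorsion (Ideal.span {b}) X) :
    Subsingleton ((extColim (cmpKerSys h) 0).obj (ModuleCat.of R X)) := by
  classical
  refine subsingleton_of_forall_eq 0 fun z => ?_
  obtain ⟨n, e, rfl⟩ := exists_rep _ _ _ z
  obtain ⟨f, rfl⟩ := (Abelian.Ext.mk₀_bijective _ _).2 e
  let F : cmpKer h (op n) →ₗ[R] X := f.hom
  obtain ⟨s, hs⟩ := IsNoetherian.noetherian (cmpKer h (op n))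
  choose kf hkf using fun x : X => hX x
  let k := s.sup fun x => if hx : x ∈ cmpKer h (op n) then kf (F ⟨x, hx⟩) else 0
  have hbk : ∀ x, ∀ hx : x ∈ cmpKer h (op n), b ^ k • F ⟨x, hx⟩ = 0 := by
    intro x hx
    have hle : Submodule.span R (s : Set _) ≤
        (LinearMap.ker (b ^ k • F)).map (cmpKer h (op n)).subtype := by
      rw [Submodule.span_le]
      intro y hy
      have hym : y ∈ cmpKer h (op n) := hs ▸ Submodule.subset_span hy
      refine ⟨⟨y, hym⟩, hkf _ (b ^ k) (Ideal.pow_le_pow_right (n := k) ?_ ?_), rfl⟩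
      · refine le_trans (le_of_eq ?_) (Finset.le_sup hy)
        rw [dif_pos hym]
      · exact Ideal.pow_mem_pow (Ideal.mem_span_singleton_self b) k
    obtain ⟨y, hy, hyx⟩ := hle (hs.symm ▸ hx)
    rw [show (⟨x, hx⟩ : cmpKer h (op n)) = y from Subtype.ext hyx.symm]
    exact hy
  refine (ι_eq_zero_iff _ _ _ _).2 ⟨n + k, n.le_add_right k, ?_⟩
  rw [Abelian.Ext.mk₀_comp_mk₀,
    show tr (cmpKerSys h) (n.le_add_right k) ≫ f = 0 from ?_, Abelian.Ext.mk₀_zero]
  apply ModuleCat.hom_ext
  refine LinearMap.ext fun x => ?_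
  obtain ⟨r, hr, hxr⟩ := exists_mem_pow_of_mem_cmpKer h x
  obtain ⟨p, hp, q, hq, rfl⟩ := Submodule.mem_sup.1 (pow_add_le hc n k hr)
  obtain ⟨t, ht, rfl⟩ := Ideal.mem_span_singleton_mul.1 hq
  let y : R ⧸ a ^ n := Submodule.Quotient.mk t
  have hy : y ∈ cmpKer h (op n) :=
    (Submodule.Quotient.mk_eq_zero (c ^ n)).2 ht
  have hval : (tr (cmpKerSys h) (n.le_add_right k)).hom x = b ^ k • (⟨y, hy⟩ : cmpKer h (op n)) := by
    refine Subtype.ext ?_
    refine (congrArg ((quotSys a).map (homOfLE (n.le_add_right k)).op).hom hxr).trans ?_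
    refine (Submodule.Quotient.eq (a ^ n)).2 ?_
    simpa using hp
  change F ((tr (cmpKerSys h) (n.le_add_right k)).hom x) = 0
  rw [hval, map_smul]
  exact hbk y hy

/-- The kernel system sees nothing of modules with `b`-power torsion. -/
theorem subsingleton_cmpKer [IsNoetherianRing R] (hc : c = a ⊔ Ideal.span {b}) :
    ∀ (i : ℕ) (X : Type u) [AddCommGroup X] [Module R X],
      LocCoh.IsPowerTorsion (Ideal.span {b}) X →
      Subsingleton ((extColim (cmpKerSys h) i).obj (ModuleCat.of R X)) := by
  intro i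
  induction i with
  | zero => exact fun X _ _ hX => subsingleton_cmpKer_zero h hc hX
  | succ j ih =>
    intro X _ _ hX
    obtain ⟨E, _, _, f, hf, hE, hEt⟩ := exists_torsion_injective_embedding _ hX
    have := Module.injective_object_of_injective_module R E
    exact subsingleton_left (cmpKerSys h)
      (Groth.Agent.H4Depth.shortComplexOf_shortExact f (LinearMap.range f).mkQ hf
        (LinearMap.range f).mkQ_surjective (LinearMap.exact_map_mkQ_range f)) j (j + 1) rfl
      (ih _ (isPowerTorsion_quotient _ hEt _))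
      (subsingleton_of_injective (cmpKerSys h) (ModuleCat.of R E) j.succ_pos)

section Localization

variable (M : Type u) [AddCommGroup M] [Module R M]

/-- `M → M_b`. -/
noncomputable abbrev locHom (b : R) (M : Type u) [AddCommGroup M] [Module R M] :
    ModuleCat.of R M ⟶ ModuleCat.of R (LocalizedModule (Submonoid.powers b) M) :=
  ModuleCat.ofHom (LocalizedModule.mkLinearMap (Submonoid.powers b) M)

theorem isPowerTorsion_ker_locHom (b : R) (M : Type u) [AddCommGroup M] [Module R M] :
    LocCoh.IsPowerTorsion (Ideal.span {b})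
      (LinearMap.ker (LocalizedModule.mkLinearMap (Submonoid.powers b) M)) := by
  intro m
  have hm : LocalizedModule.mkLinearMap (Submonoid.powers b) M m.1 = 0 := m.2
  rw [LocalizedModule.mkLinearMap_apply, ← LocalizedModule.zero_mk 1, LocalizedModule.mk_eq] at hm
  obtain ⟨⟨_, k, rfl⟩, hk⟩ := hm
  simp only [Submonoid.smul_def, one_smul, smul_zero] at hk
  refine ⟨k, fun r hr => Subtype.ext ?_⟩
  rw [Ideal.span_singleton_pow, Ideal.mem_span_singleton'] at hr
  obtain ⟨t, rfl⟩ := hr
  change (t * b ^ k) • m.1 = 0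
  rw [mul_smul, hk, smul_zero]

theorem isPowerTorsion_coker_locHom (b : R) (M : Type u) [AddCommGroup M] [Module R M] :
    LocCoh.IsPowerTorsion (Ideal.span {b}) (LocalizedModule (Submonoid.powers b) M ⧸
      LinearMap.range (LocalizedModule.mkLinearMap (Submonoid.powers b) M)) := by
  intro x
  obtain ⟨y, rfl⟩ := Submodule.Quotient.mk_surjective _ x
  induction y using LocalizedModule.induction_on with
  | h m s =>
    obtain ⟨_, k, rfl⟩ := s
    refine ⟨k, fun r hr => ?_⟩
    rw [Ideal.span_singleton_pow, Ideal.mem_span_singleton'] at hr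
    obtain ⟨t, rfl⟩ := hr
    rw [← Submodule.Quotient.mk_smul, Submodule.Quotient.mk_eq_zero]
    refine ⟨t • m, ?_⟩
    rw [LocalizedModule.mkLinearMap_apply, LocalizedModule.smul'_mk, LocalizedModule.mk_eq]
    exact ⟨1, by simp [Submonoid.smul_def, smul_smul, mul_comm]⟩

include hc in
theorem subsingleton_H_away (i : ℕ) :
    Subsingleton (LocCoh.H c i (LocalizedModule (Submonoid.powers b) M)) :=
  subsingleton_H_of_bijective _ (hc ▸ Submodule.mem_sup_right (Ideal.mem_span_singleton_self b))
    ((Module.End.isUnit_iff _).1 (IsLocalizedModule.map_units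
      (LocalizedModule.mkLinearMap (Submonoid.powers b) M) ⟨b, Submonoid.mem_powers b⟩)) i

include hc in
theorem cmpKer_locHom_bijective [IsNoetherianRing R] (i : ℕ) :
    Function.Bijective ((extColim (cmpKerSys h) i).map (locHom b M)).hom := by
  let l := LocalizedModule.mkLinearMap (Submonoid.powers b) M
  have e : locHom b M = ModuleCat.ofHom l.rangeRestrict ≫ ModuleCat.ofHom (LinearMap.range l).subtype :=
    rfl
  have h1 := Groth.Agent.H4Depth.shortComplexOf_shortExact (LinearMap.ker l).subtype l.rangeRestrict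
    (LinearMap.ker l).injective_subtype l.surjective_rangeRestrict
    (LinearMap.exact_iff.2 (by rw [LinearMap.ker_rangeRestrict, Submodule.range_subtype]))
  have h2 := Groth.Agent.H4Depth.shortComplexOf_shortExact (LinearMap.range l).subtype
    (LinearMap.range l).mkQ (LinearMap.range l).injective_subtype (LinearMap.range l).mkQ_surjective
    (LinearMap.exact_subtype_mkQ _)
  have hK := fun j => subsingleton_cmpKer h hc j _ (isPowerTorsion_ker_locHom b M)
  have hC := fun j => subsingleton_cmpKer h hc j _ (isPowerTorsion_coker_locHom b M)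
  have b1 : Function.Bijective ((extColim (cmpKerSys h) i).map
      (ModuleCat.ofHom l.rangeRestrict)).hom := by
    constructor
    · rw [injective_iff_map_eq_zero]
      intro z hz
      obtain ⟨w, rfl⟩ := (exact₂ _ h1 i z).1 hz
      exact (congrArg _ (@Subsingleton.elim _ (hK i) w 0)).trans (map_zero _)
    · intro z
      exact (exact₃ _ h1 i (i + 1) rfl z).1 (@Subsingleton.elim _ (hK (i + 1)) _ _)
  have b2 : Function.Bijective ((extColim (cmpKerSys h) i).map
      (ModuleCat.ofHom (LinearMap.range l).subtype)).hom := by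
    constructor
    · cases i with
      | zero => exact map_f_zero_injective _ h2
      | succ j =>
        rw [injective_iff_map_eq_zero]
        intro z hz
        obtain ⟨w, rfl⟩ := (exact₁ _ h2 j (j + 1) rfl z).1 hz
        exact (congrArg _ (@Subsingleton.elim _ (hC j) w 0)).trans (map_zero _)
    · intro z
      exact (exact₂ _ h2 i z).1 (@Subsingleton.elim _ (hC i) _ _)
  rw [e, Functor.map_comp]
  exact b2.comp b1

include hc in
theorem cmpKerIncl_away_bijective (i : ℕ) :
    Function.Bijective (pre i (cmpKerIncl h)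
      (ModuleCat.of R (LocalizedModule (Submonoid.powers b) M))) := by
  have hz := subsingleton_H_away hc M
  constructor
  · rw [injective_iff_map_eq_zero]
    intro z hz0
    obtain ⟨w, rfl⟩ := (exactPre₂ i (cmpKerIncl h) (Dual2.quotMapOfLE h) (cmpKerIncl_comp h)
      (cmpKer_shortExact h) _ z).1 hz0
    exact (congrArg _ (@Subsingleton.elim _ (hz i) w 0)).trans (map_zero _)
  · intro z
    exact (exactPre₁ i (cmpKerIncl h) (Dual2.quotMapOfLE h) (cmpKerIncl_comp h)
      (cmpKer_shortExact h) _ z).1 (@Subsingleton.elim _ (hz (i + 1)) _ _)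

theorem pre_naturality {G G' : ℕᵒᵖ ⥤ ModuleCat.{u} R} (α : G ⟶ G') {X Y : ModuleCat.{u} R}
    (f : X ⟶ Y) (i : ℕ) (x : (extColim G' i).obj X) :
    pre i α Y (((extColim G' i).map f).hom x) = ((extColim G i).map f).hom (pre i α X x) :=
  congrArg (fun e => e.hom x) ((preNat i α).naturality f)

include hc in
theorem ker_locHom_iff [IsNoetherianRing R] (i : ℕ) (x : LocCoh.H a i M) :
    ((localCohomology a i).map (locHom b M)).hom x = 0 ↔
      pre i (cmpKerIncl h) (ModuleCat.of R M) x = 0 := by
  have e := pre_naturality (cmpKerIncl h) (locHom b M) i x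
  constructor
  · intro hx
    refine (cmpKer_locHom_bijective h hc M i).1 (e.symm.trans ?_ |>.trans (map_zero _).symm)
    exact (congrArg _ hx).trans (map_zero _)
  · intro hx
    refine (cmpKerIncl_away_bijective h hc M i).1 (e.trans ?_ |>.trans (map_zero _).symm)
    exact (congrArg _ hx).trans (map_zero _)

include hc in
theorem exact_HmapOfLE_locHom [IsNoetherianRing R] (i : ℕ) :
    Function.Exact ((Dual2.HmapOfLE h i).app (ModuleCat.of R M)).hom
      ((localCohomology a i).map (locHom b M)).hom := fun x =>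
  (ker_locHom_iff h hc M i x).trans (exactPre₂ i (cmpKerIncl h) (Dual2.quotMapOfLE h)
    (cmpKerIncl_comp h) (cmpKer_shortExact h) _ x)

theorem HmapOfLE_zero_injective :
    Function.Injective ((Dual2.HmapOfLE h 0).app (ModuleCat.of R M)).hom :=
  pre_zero_injective (cmpKerIncl h) (Dual2.quotMapOfLE h) (cmpKerIncl_comp h)
    (cmpKer_shortExact h) _

include hc in
theorem nonempty_coker_equiv_ker [IsNoetherianRing R] (i : ℕ) :
    Nonempty ((LocCoh.H a i (LocalizedModule (Submonoid.powers b) M) ⧸
        LinearMap.range ((localCohomology a i).map (locHom b M)).hom) ≃ₗ[R]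
      LinearMap.ker ((Dual2.HmapOfLE h (i + 1)).app (ModuleCat.of R M)).hom) := by
  let d := δPre i (cmpKerIncl h) (Dual2.quotMapOfLE h) (cmpKerIncl_comp h) (cmpKer_shortExact h)
    (ModuleCat.of R M)
  let p := pre i (cmpKerIncl h) (ModuleCat.of R M)
  let P := pre i (cmpKerIncl h) (ModuleCat.of R (LocalizedModule (Submonoid.powers b) M))
  let L := ((extColim (cmpKerSys h) i).map (locHom b M)).hom
  let e : LocCoh.H a i (LocalizedModule (Submonoid.powers b) M) ≃ₗ[R]
      (extColim (cmpKerSys h) i).obj (ModuleCat.of R M) :=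
    (LinearEquiv.ofBijective P (cmpKerIncl_away_bijective h hc M i)).trans
      (LinearEquiv.ofBijective L (cmpKer_locHom_bijective h hc M i)).symm
  have he : ∀ x, e (((localCohomology a i).map (locHom b M)).hom x) = p x := fun x => by
    apply (cmpKer_locHom_bijective h hc M i).1
    refine (LinearEquiv.apply_symm_apply (LinearEquiv.ofBijective L (cmpKer_locHom_bijective h hc M i)) _).trans ?_
    exact pre_naturality (cmpKerIncl h) (locHom b M) i x
  have hrange : (LinearMap.range ((localCohomology a i).map (locHom b M)).hom).map e.toLinearMap =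
      LinearMap.ker d := by
    rw [← LinearMap.range_comp, show e.toLinearMap ∘ₗ ((localCohomology a i).map (locHom b M)).hom = p
      from LinearMap.ext he]
    exact (exactPre₁ i _ _ _ (cmpKer_shortExact h) _).linearMap_ker_eq.symm
  exact ⟨((Submodule.Quotient.equiv _ _ e hrange).trans d.quotKerEquivRange).trans
    (LinearEquiv.ofEq _ _
      (exactPre₃ i _ _ _ (cmpKer_shortExact h) _).linearMap_ker_eq.symm)⟩

end Localization

end Groth.Agent.H4LC
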