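import Groth.Agent.H4LC.TransformExact
import Mathlib.AlgebraicGeometry.Morphisms.Affine

/-!
# Cohomological dimension one and affineness of the complement
-/

set_option autoImplicit false
set_option linter.style.haveILetI false

universe u

open CategoryTheory AlgebraicGeometry Opposite

namespace Groth.Agent.H4LC

variable {R : Type u} [CommRing R] (I : Ideal R)

theorem exists_mem_pow_notMem (n : ℕ) (p : PrimeSpectrum R) (hp : ¬ I ≤ p.asIdeal) :
    ∃ f : ↥(I ^ n : Ideal R), (f : R) ∉ p.asIdeal := by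
  obtain ⟨a, haI, hap⟩ := SetLike.not_le_iff_exists.1 hp
  exact ⟨⟨a ^ n, Ideal.pow_mem_pow haI n⟩, fun h => hap (p.2.mem_of_pow_mem n h)⟩

theorem map_mul_comm {n : ℕ} (φ : ↥(I ^ n : Ideal R) →ₗ[R] R) (f g : ↥(I ^ n : Ideal R)) :
    (f : R) * φ g = (g : R) * φ f := by
  rw [← smul_eq_mul, ← smul_eq_mul, ← map_smul, ← map_smul]
  exact congrArg φ (Subtype.ext (mul_comm (f : R) (g : R)))

/-- The points outside `V(I)`. -/
abbrev offPoints : Type u := {p : PrimeSpectrum R // ¬ I ≤ p.asIdeal}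

/-- The function on `Spec R ∖ V(I)` given by a linear map `I ^ n → R`. -/
noncomputable def sectFun (n : ℕ) (φ : ↥(I ^ n : Ideal R) →ₗ[R] R) (x : offPoints I) :
    LocalizedModule x.1.asIdeal.primeCompl R :=
  LocalizedModule.mk (φ (exists_mem_pow_notMem I n x.1 x.2).choose)
    ⟨_, (exists_mem_pow_notMem I n x.1 x.2).choose_spec⟩

theorem sectFun_eq {n : ℕ} (φ : ↥(I ^ n : Ideal R) →ₗ[R] R) (x : offPoints I) (f : ↥(I ^ n : Ideal R))
    (hf : (f : R) ∉ x.1.asIdeal) : sectFun I n φ x = LocalizedModule.mk (φ f) ⟨(f : R), hf⟩ := by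
  refine LocalizedModule.mk_eq.2 ⟨1, ?_⟩
  simp only [Submonoid.smul_def, one_smul, smul_eq_mul]
  exact map_mul_comm I φ f _

theorem sectFun_restrict {n m : ℕ} (h : n ≤ m) (φ : ↥(I ^ n : Ideal R) →ₗ[R] R) :
    sectFun I m (φ ∘ₗ powIncl I h) = sectFun I n φ := by
  funext x
  obtain ⟨f, hf⟩ := exists_mem_pow_notMem I m x.1 x.2
  rw [sectFun_eq I _ x f hf, sectFun_eq I φ x (powIncl I h f) hf]
  rfl

theorem sectFun_add {n : ℕ} (φ ψ : ↥(I ^ n : Ideal R) →ₗ[R] R) :
    sectFun I n (φ + ψ) = sectFun I n φ + sectFun I n ψ := by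
  funext x
  obtain ⟨f, hf⟩ := exists_mem_pow_notMem I n x.1 x.2
  rw [Pi.add_apply, sectFun_eq I _ x f hf, sectFun_eq I _ x f hf, sectFun_eq I _ x f hf,
    LocalizedModule.mk_add_mk, LinearMap.add_apply]
  refine LocalizedModule.mk_eq.2 ⟨1, ?_⟩
  simp only [Submonoid.smul_def, one_smul, smul_eq_mul, Submonoid.coe_mul]
  ring

theorem sectFun_smul {n : ℕ} (r : R) (φ : ↥(I ^ n : Ideal R) →ₗ[R] R) :
    sectFun I n (r • φ) = r • sectFun I n φ := by
  funext x
  obtain ⟨f, hf⟩ := exists_mem_pow_notMem I n x.1 x.2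
  rw [Pi.smul_apply, sectFun_eq I _ x f hf, sectFun_eq I _ x f hf, LocalizedModule.smul'_mk, LinearMap.smul_apply]

/-- The function attached to an element of the ideal transform. -/
noncomputable def sectHom : LocCoh.DT I R →ₗ[R] (∀ x : offPoints I, LocalizedModule x.1.asIdeal.primeCompl R) :=
  liftDT I (ModuleCat.of R R)
    (fun n => { toFun := fun φ => sectFun I n φ
                map_add' := fun φ ψ => sectFun_add I φ ψ
                map_smul' := fun r φ => sectFun_smul I r φ })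
    (fun h φ => sectFun_restrict I h φ)

theorem sectHom_ι (n : ℕ) (φ : ↥(I ^ n : Ideal R) →ₗ[R] R) :
    sectHom I (ιDT I (ModuleCat.of R R) n φ) = sectFun I n φ :=
  liftDT_ι I (ModuleCat.of R R) _ _ n φ

theorem sectHom_toDT_one (x : offPoints I) :
    sectHom I (LocCoh.toDT I R 1) x = LocalizedModule.mk 1 1 := by
  rw [toDT_eq I R 1 0, sectHom_ι]
  obtain ⟨f, hf⟩ := exists_mem_pow_notMem I 0 x.1 x.2
  rw [sectFun_eq I _ x f hf]
  refine LocalizedModule.mk_eq.2 ⟨1, ?_⟩
  simp [Submonoid.smul_def]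

theorem mem_puncturedOpen_iff (x : PrimeSpectrum R) :
    x ∈ LocCoh.puncturedOpen R I ↔ ¬ I ≤ x.asIdeal := Iff.rfl

/-- The complement of `V(I)` as an open of the prime spectrum. -/
abbrev offOpen : TopologicalSpace.Opens (PrimeSpectrum.Top R) := LocCoh.puncturedOpen R I

theorem sectHom_isLocallyFraction (z : LocCoh.DT I R) :
    (StructureSheaf.isLocallyFraction R R).pred (U := offOpen I)
      (fun x => sectHom I z ⟨x.1, x.2⟩) := by
  obtain ⟨n, φ, rfl⟩ := exists_rep_DT I (ModuleCat.of R R) z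
  intro x
  obtain ⟨f, hf⟩ := exists_mem_pow_notMem I n x.1 x.2
  refine ⟨offOpen I ⊓ PrimeSpectrum.basicOpen (f : R), ⟨x.2, hf⟩,
    TopologicalSpace.Opens.infLELeft _ _, φ f, f, fun y => ⟨y.2.2, ?_⟩⟩
  have hy : (f : R) ∉ y.1.asIdeal := y.2.2
  exact (congrFun (sectHom_ι I n φ) _).trans (sectFun_eq I φ _ f hy)

/-- The section attached to an element of the ideal transform. -/
noncomputable def sect :
    LocCoh.DT I R →ₗ[R] StructureSheaf.sectionsSubalgebra (R := R) R (offOpen I) where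
  toFun z := ⟨fun x => sectHom I z ⟨x.1, x.2⟩, sectHom_isLocallyFraction I z⟩
  map_add' a b := Subtype.ext (funext fun x => by
    change sectHom I (a + b) _ = _
    rw [map_add]
    rfl)
  map_smul' r a := Subtype.ext (funext fun x => by
    change sectHom I (r • a) _ = _
    rw [map_smul]
    rfl)

theorem sect_one : sect I (LocCoh.toDT I R 1) = 1 :=
  Subtype.ext (funext fun x => (sectHom_toDT_one I ⟨x.1, x.2⟩).trans OreLocalization.one_def.symm)

set_option backward.isDefEq.respectTransparency false in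
theorem span_eq_top_of_smul_top (h : I • (⊤ : Submodule R (LocCoh.DT I R)) = ⊤) :
    Ideal.span ((algebraMap R (StructureSheaf.sectionsSubalgebra (R := R) R (offOpen I))) '' (I : Set R)) = ⊤ := by
  rw [Ideal.eq_top_iff_one, ← sect_one]
  refine Submodule.smul_induction_on (h.symm ▸ Submodule.mem_top :
    LocCoh.toDT I R 1 ∈ I • (⊤ : Submodule R (LocCoh.DT I R))) (fun a ha z _ => ?_) (fun a b ha hb => ?_)
  · rw [map_smul, Algebra.smul_def]
    exact Ideal.mul_mem_right _ _ (Ideal.subset_span ⟨a, ha, rfl⟩)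
  · rw [map_add]
    exact add_mem ha hb

theorem isAffine_puncturedOpen_of_smul_top (h : I • (⊤ : Submodule R (LocCoh.DT I R)) = ⊤) :
    IsAffine (↑(LocCoh.puncturedOpen R I) : Scheme.{u}) := by
  let U := LocCoh.puncturedOpen R I
  let res : R → Γ(Spec (CommRingCat.of R), U) := fun a =>
    ((Spec (CommRingCat.of R)).presheaf.map (homOfLE le_top : U ⟶ ⊤).op).hom
      ((Scheme.ΓSpecIso (CommRingCat.of R)).inv.hom a)
  have hres : ∀ a, res a = algebraMap R (StructureSheaf.sectionsSubalgebra (R := R) R U) a := fun a => rfl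
  refine isAffineOpen_of_isAffineOpen_basicOpen U (res '' (I : Set R)) ?_ ?_
  · have := span_eq_top_of_smul_top I h
    rw [show res = (fun a => algebraMap R (StructureSheaf.sectionsSubalgebra (R := R) R U) a) from funext hres]
    exact this
  · rintro _ ⟨a, ha, rfl⟩
    rw [Scheme.basicOpen_res, basicOpen_eq_of_affine]
    have hle : PrimeSpectrum.basicOpen a ≤ U := fun x hx hle => hx (hle ha)
    exact (congrArg IsAffineOpen (inf_eq_right.2 hle)).mpr (IsAffineOpen.Spec_basicOpen (R := CommRingCat.of R) a)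

theorem isAffine_puncturedOpen_of_cdLE_one [IsNoetherianRing R] (h : LocCoh.CdLE R I 1) :
    IsAffine (↑(LocCoh.puncturedOpen R I) : Scheme.{u}) := by
  haveI := (exact_idealTransform_of_cdLE (I := I) h).2
  exact isAffine_puncturedOpen_of_smul_top I (smul_top_DT_eq_top_of_exact (I := I))

end Groth.Agent.H4LC
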