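import Groth.Agent.H4LC.ExtCompare
import Mathlib.Algebra.Homology.LocalCohomology
import Mathlib.Algebra.Category.ModuleCat.FilteredColimits
import Mathlib.CategoryTheory.Limits.Preserves.Filtered
import Mathlib.CategoryTheory.Limits.ConcreteCategory.Basic

/-!
# Colimits of `Ext` along an inverse system of modules indexed by `ℕ`

For `G : ℕᵒᵖ ⥤ ModuleCat R` we give an element-wise description of
`colimit (G.op ⋙ Ext R _ i)` in terms of `Abelian.Ext`.
-/

set_option autoImplicit false

universe u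

open CategoryTheory CategoryTheory.Limits Opposite CategoryTheory.Abelian

namespace Groth.Agent.H4LC

variable {R : Type u} [CommRing R]

instance forget_preservesSmallFilteredColimits :
    PreservesFilteredColimitsOfSize.{0, 0} (forget (ModuleCat.{u} R)) :=
  preservesSmallestFilteredColimits_of_preservesFilteredColimits _

variable (G : ℕᵒᵖ ⥤ ModuleCat.{u} R) (i : ℕ)

/-- `colim_n Ext^i(G n, -)`. -/
noncomputable abbrev extColim : ModuleCat.{u} R ⥤ ModuleCat.{u} R :=
  colimit (G.op ⋙ _root_.Ext R (ModuleCat.{u} R) i)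

/-- The transition map `G m ⟶ G n` for `n ≤ m`. -/
abbrev tr {n m : ℕ} (h : n ≤ m) : G.obj (op m) ⟶ G.obj (op n) :=
  G.map (homOfLE h).op

variable (M : ModuleCat.{u} R)

/-- The class in the colimit of an element of `Ext^i(G n, M)`. -/
noncomputable def ι (n : ℕ) :
    Abelian.Ext (G.obj (op n)) M i →ₗ[R] (extColim G i).obj M :=
  ((colimit.ι (G.op ⋙ _root_.Ext R (ModuleCat.{u} R) i) (op (op n))).app M).hom ∘ₗ
    (extEquiv (G.obj (op n)) M i).symm.toLinearMap

theorem ι_extEquiv (n : ℕ) (y : ((_root_.Ext R (ModuleCat.{u} R) i).obj (op (G.obj (op n)))).obj M) :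
    ι G i M n (extEquiv _ _ i y) =
      ((colimit.ι (G.op ⋙ _root_.Ext R (ModuleCat.{u} R) i) (op (op n))).app M).hom y :=
  congrArg _ ((extEquiv (G.obj (op n)) M i).symm_apply_apply y)

theorem ι_tr {n m : ℕ} (h : n ≤ m) (x : Abelian.Ext (G.obj (op n)) M i) :
    ι G i M m ((Abelian.Ext.mk₀ (tr G h)).comp x (zero_add i)) = ι G i M n x := by
  obtain ⟨y, rfl⟩ := (extEquiv (G.obj (op n)) M i).surjective x
  rw [← extEquiv_naturality_left, ι_extEquiv, ι_extEquiv]
  exact congrArg (fun a : (G.op ⋙ _root_.Ext R (ModuleCat.{u} R) i).obj (op (op n)) ⟶ extColim G i =>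
      (NatTrans.app a M).hom y)
    (colimit.w (G.op ⋙ _root_.Ext R (ModuleCat.{u} R) i) (homOfLE h).op.op)

theorem map_ι {M N : ModuleCat.{u} R} (f : M ⟶ N) (n : ℕ) (x : Abelian.Ext (G.obj (op n)) M i) :
    ((extColim G i).map f).hom (ι G i M n x) =
      ι G i N n (x.comp (Abelian.Ext.mk₀ f) (add_zero i)) := by
  obtain ⟨y, rfl⟩ := (extEquiv (G.obj (op n)) M i).surjective x
  rw [← extEquiv_naturality_right, ι_extEquiv, ι_extEquiv]
  exact (congrArg (fun a => a.hom y)
    ((colimit.ι (G.op ⋙ _root_.Ext R (ModuleCat.{u} R) i) (op (op n))).naturality f)).symm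

/-- The evaluated colimit cocone is a colimit. -/
noncomputable def isColimitEval :
    IsColimit (((evaluation (ModuleCat.{u} R) (ModuleCat.{u} R)).obj M).mapCocone
      (colimit.cocone (G.op ⋙ _root_.Ext R (ModuleCat.{u} R) i))) :=
  isColimitOfPreserves _ (colimit.isColimit _)

theorem exists_rep (z : (extColim G i).obj M) : ∃ n x, ι G i M n x = z := by
  obtain ⟨j, y, hy⟩ := Concrete.isColimit_exists_rep _ (isColimitEval G i M) z
  exact ⟨unop (unop j), extEquiv _ _ i y, (ι_extEquiv G i M _ y).trans hy⟩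

theorem ι_eq_zero_iff {n : ℕ} (x : Abelian.Ext (G.obj (op n)) M i) :
    ι G i M n x = 0 ↔
      ∃ m, ∃ h : n ≤ m, (Abelian.Ext.mk₀ (tr G h)).comp x (zero_add i) = 0 := by
  constructor
  · obtain ⟨y, rfl⟩ := (extEquiv (G.obj (op n)) M i).surjective x
    intro hy
    rw [ι_extEquiv] at hy
    have h0 : (((evaluation (ModuleCat.{u} R) (ModuleCat.{u} R)).obj M).mapCocone
      (colimit.cocone (G.op ⋙ _root_.Ext R (ModuleCat.{u} R) i))).ι.app (op (op n)) y =
      (((evaluation (ModuleCat.{u} R) (ModuleCat.{u} R)).obj M).mapCocone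
      (colimit.cocone (G.op ⋙ _root_.Ext R (ModuleCat.{u} R) i))).ι.app (op (op n)) 0 :=
      hy.trans (map_zero _).symm
    obtain ⟨k, f, g, hfg⟩ := (Concrete.isColimit_rep_eq_iff_exists _ (isColimitEval G i M) y
      (0 : ((_root_.Ext R (ModuleCat.{u} R) i).obj (op (G.obj (op n)))).obj M)).1 h0
    refine ⟨unop (unop k), leOfHom f.unop.unop, ?_⟩
    have hf : f = (homOfLE (leOfHom f.unop.unop)).op.op := Subsingleton.elim _ _
    rw [← extEquiv_naturality_left]
    refine (congrArg (extEquiv _ _ i) ?_).trans (map_zero _)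
    rw [hf] at hfg
    exact hfg.trans (map_zero _)
  · rintro ⟨m, h, hx⟩
    rw [← ι_tr G i M h, hx, map_zero]

section Lift

variable {N : Type u} [AddCommGroup N] [Module R N]
  (φ : ∀ n, Abelian.Ext (G.obj (op n)) M i →ₗ[R] N)
  (hφ : ∀ {n m : ℕ} (h : n ≤ m) (x : Abelian.Ext (G.obj (op n)) M i),
    φ m ((Abelian.Ext.mk₀ (tr G h)).comp x (zero_add i)) = φ n x)

/-- A compatible family of maps on the `Ext` modules, as a cocone. -/
noncomputable def liftCocone :
    Cocone ((G.op ⋙ _root_.Ext R (ModuleCat.{u} R) i) ⋙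
      (evaluation (ModuleCat.{u} R) (ModuleCat.{u} R)).obj M) where
  pt := ModuleCat.of R N
  ι :=
    { app := fun j => ModuleCat.ofHom
        (φ (unop (unop j)) ∘ₗ (extEquiv (G.obj (op (unop (unop j)))) M i).toLinearMap)
      naturality := fun j k f => by
        apply ModuleCat.hom_ext
        refine LinearMap.ext fun y => ?_
        have hf : f = (homOfLE (leOfHom f.unop.unop)).op.op := Subsingleton.elim _ _
        rw [hf]
        exact (congrArg (φ _) (extEquiv_naturality_left (tr G (leOfHom f.unop.unop)) M i y)).trans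
          (hφ _ _) }

/-- The map out of the colimit given by a compatible family of maps. -/
noncomputable def lift : (extColim G i).obj M →ₗ[R] N :=
  ((isColimitEval G i M).desc (liftCocone G i M φ hφ)).hom

theorem lift_ι (n : ℕ) (x : Abelian.Ext (G.obj (op n)) M i) :
    lift G i M φ hφ (ι G i M n x) = φ n x := by
  obtain ⟨y, rfl⟩ := (extEquiv (G.obj (op n)) M i).surjective x
  rw [ι_extEquiv]
  exact congrArg (fun a => a.hom y)
    ((isColimitEval G i M).fac (liftCocone G i M φ hφ) (op (op n)))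

theorem hom_ext {a b : (extColim G i).obj M →ₗ[R] N}
    (h : ∀ n x, a (ι G i M n x) = b (ι G i M n x)) : a = b := by
  refine LinearMap.ext fun z => ?_
  obtain ⟨n, x, rfl⟩ := exists_rep G i M z
  exact h n x

end Lift

theorem exists_rep_ge (z : (extColim G i).obj M) (n₀ : ℕ) :
    ∃ n, n₀ ≤ n ∧ ∃ x, ι G i M n x = z := by
  obtain ⟨n, x, rfl⟩ := exists_rep G i M z
  exact ⟨max n n₀, le_max_right _ _, _, ι_tr G i M (le_max_left n n₀) x⟩

theorem subsingleton_extColim
    (h : ∀ n₀, ∃ n, n₀ ≤ n ∧ Subsingleton (Abelian.Ext (G.obj (op n)) M i)) :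
    Subsingleton ((extColim G i).obj M) := by
  refine subsingleton_of_forall_eq 0 fun z => ?_
  obtain ⟨n₀, x, rfl⟩ := exists_rep G i M z
  obtain ⟨n, hn, hs⟩ := h n₀
  rw [← ι_tr G i M hn, Subsingleton.elim ((Abelian.Ext.mk₀ (tr G hn)).comp x (zero_add i)) 0,
    map_zero]

theorem tr_comp {n m k : ℕ} (h : n ≤ m) (h' : m ≤ k) :
    tr G h' ≫ tr G h = tr G (h.trans h') := by
  rw [tr, tr, tr, ← G.map_comp]
  rfl

theorem tr_self (n : ℕ) : tr G (le_refl n) = 𝟙 _ :=
  G.map_id _

end Groth.Agent.H4LC
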