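import Groth.Agent.H4LC.LocalDuality
import Groth.Agent.H4LC.DualExt
import Groth.Agent.H4Matlis.Hull
import Groth.Agent.H4Matlis.Duality

/-!
# Local duality with a canonical module
-/

set_option autoImplicit false
set_option linter.unusedSectionVars false

universe u

open IsLocalRing CategoryTheory InjHull

namespace Groth.Agent.H4LC

section Shift

variable {R : Type u} [CommRing R] {b : ℕ} {M K : Type u} [AddCommGroup M] [Module R M]
  [AddCommGroup K] [Module R K] (π : (Fin b → R) →ₗ[R] M) (hπ : Function.Surjective π)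

include hπ in
theorem nonempty_ext_shift (i : ℕ) :
    Nonempty (Abelian.Ext (ModuleCat.of R (LinearMap.ker π)) (ModuleCat.of R K) (i + 1) ≃ₗ[R]
      Abelian.Ext (ModuleCat.of R M) (ModuleCat.of R K) (i + 2)) := by
  have : Projective π.shortComplexKer.X₂ :=
    (IsProjective.iff_projective _).1 (inferInstanceAs (Module.Projective R (Fin b → R)))
  exact ⟨LinearEquiv.ofBijective _
    (δExt_bijective (LinearMap.shortExact_shortComplexKer hπ) (ModuleCat.of R K) i)⟩

include hπ in
theorem exists_class_one :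
    ∃ cls : (LinearMap.ker π →ₗ[R] K) →ₗ[R] Abelian.Ext (ModuleCat.of R M) (ModuleCat.of R K) 1,
      Function.Surjective cls ∧
        ∀ φ, cls φ = 0 ↔ ∃ ψ : (Fin b → R) →ₗ[R] K, ψ ∘ₗ (LinearMap.ker π).subtype = φ := by
  have : Projective π.shortComplexKer.X₂ :=
    (IsProjective.iff_projective _).1 (inferInstanceAs (Module.Projective R (Fin b → R)))
  have hS := LinearMap.shortExact_shortComplexKer hπ
  let h0 : (LinearMap.ker π →ₗ[R] K) ≃ₗ[R]
      Abelian.Ext (ModuleCat.of R (LinearMap.ker π)) (ModuleCat.of R K) 0 :=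
    (Abelian.Ext.linearEquiv₀.trans ModuleCat.homLinearEquiv).symm
  refine ⟨δExt hS (ModuleCat.of R K) 0 ∘ₗ h0.toLinearMap, fun x => ?_, fun φ => ?_⟩
  · obtain ⟨w, hw⟩ := δExt_surjective hS (ModuleCat.of R K) 0 x
    obtain ⟨φ, rfl⟩ := h0.surjective w
    exact ⟨φ, hw⟩
  · refine (δExt_zero_eq_zero_iff hS (ModuleCat.of R K) (ModuleCat.ofHom φ)).trans ⟨?_, ?_⟩
    · rintro ⟨ψ, hψ⟩
      exact ⟨ψ.hom, congrArg ModuleCat.Hom.hom hψ⟩
    · rintro ⟨ψ, rfl⟩
      exact ⟨ModuleCat.ofHom ψ, rfl⟩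

end Shift

section Pi

variable {R : Type u} [CommRing R] [IsNoetherianRing R] (I : Ideal R) {b : ℕ}

theorem sum_Hmap_single (h : ℕ) (w : LocCoh.H I h (Fin b → R)) :
    ∑ i, Hmap I (LinearMap.single R (fun _ : Fin b => R) i) h
      (Hmap I (LinearMap.proj i : (Fin b → R) →ₗ[R] R) h w) = w := by
  have hid : (LinearMap.id : (Fin b → R) →ₗ[R] (Fin b → R)) =
      ∑ i, LinearMap.single R (fun _ : Fin b => R) i ∘ₗ LinearMap.proj i := by
    refine LinearMap.ext fun x => funext fun j => ?_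
    simp [LinearMap.sum_apply, Finset.sum_apply, Pi.single_apply]
  conv_rhs => rw [← LinearMap.id_apply (R := R) w, ← Hmap_id I h,
    show Hmap I LinearMap.id h = HmapHom I _ _ h LinearMap.id from rfl, hid, map_sum,
    LinearMap.sum_apply]
  exact Finset.sum_congr rfl fun i _ =>
    (LinearMap.congr_fun (Hmap_comp I (LinearMap.proj i : (Fin b → R) →ₗ[R] R)
      (LinearMap.single R (fun _ : Fin b => R) i) h) w).symm

theorem subsingleton_H_pi (j : ℕ) (hj : Subsingleton (LocCoh.H I j R)) :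
    Subsingleton (LocCoh.H I j (Fin b → R)) := by
  refine subsingleton_of_forall_eq 0 fun w => ?_
  rw [← sum_Hmap_single I j w]
  exact Finset.sum_eq_zero fun i _ => by
    rw [@Subsingleton.elim _ hj (Hmap I (LinearMap.proj i : (Fin b → R) →ₗ[R] R) j w) 0, map_zero]

end Pi

variable {R : Type u} [CommRing R] [IsNoetherianRing R] [IsLocalRing R] {n : ℕ}
  (hn : ringKrullDim R = n) {E : Type u} [AddCommGroup E] [Module R E]
  {f : ResidueField R →ₗ[R] E} (hf : IsInjectiveHull f) {K : Type u} [AddCommGroup K] [Module R K]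
  [Module.Finite R K] (eK : (K →ₗ[R] E) ≃ₗ[R] LocCoh.H (maximalIdeal R) n R)

local notation "𝔪" => maximalIdeal R

include hn in
theorem Hmap_top_surjective {M N : Type u} [AddCommGroup M] [Module R M] [AddCommGroup N]
    [Module R N] (g : M →ₗ[R] N) (hg : Function.Surjective g) :
    Function.Surjective (Hmap 𝔪 g n) := fun z =>
  ((exactH₃ 𝔪 (Submodule.injective_subtype _) hg (LinearMap.exact_subtype_ker_map g) n z).1
    (@Subsingleton.elim _ (subsingleton_H_of_supportDim_lt _ _ _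
      (((Module.supportDim_le_ringKrullDim R _).trans hn.le).trans_lt
        (by exact_mod_cast n.lt_succ_self))) _ _))

include hn in
/-- The trace of a canonical module. -/
theorem exists_trace : ∃ τ : LocCoh.H 𝔪 n K →ₗ[R] E,
    ∀ (k : K) (z : LocCoh.H 𝔪 n R), τ (Hmap 𝔪 (LinearMap.toSpanSingleton R K k) n z) =
      eK.symm z k := by
  obtain ⟨b, π, hπ⟩ := Module.Finite.exists_fin' R K
  let Φ : LocCoh.H 𝔪 n (Fin b → R) →ₗ[R] E :=
    ∑ i, LinearMap.applyₗ (π (Pi.single i 1)) ∘ₗ eK.symm.toLinearMap ∘ₗ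
      Hmap 𝔪 (LinearMap.proj i : (Fin b → R) →ₗ[R] R) n
  have hΦ : ∀ (x : Fin b → R) (u : LocCoh.H 𝔪 n R),
      Φ (Hmap 𝔪 (LinearMap.toSpanSingleton R _ x) n u) = eK.symm u (π x) := by
    intro x u
    have h1 : ∀ i, Hmap 𝔪 (LinearMap.proj i : (Fin b → R) →ₗ[R] R) n
        (Hmap 𝔪 (LinearMap.toSpanSingleton R _ x) n u) = x i • u := fun i => by
      rw [← LinearMap.comp_apply, ← Hmap_comp,
        show (LinearMap.proj i : (Fin b → R) →ₗ[R] R) ∘ₗ LinearMap.toSpanSingleton R _ x =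
          x i • LinearMap.id from LinearMap.ext_ring (by simp), Hmap_smul_id]
    simp only [Φ, LinearMap.sum_apply, LinearMap.comp_apply, LinearMap.applyₗ_apply_apply,
      LinearEquiv.coe_coe, h1]
    conv_rhs => rw [pi_eq_sum_univ' x, map_sum, map_sum]
    refine Finset.sum_congr rfl fun i _ => ?_
    rw [map_smul, LinearMap.smul_apply, map_smul π, map_smul]
  have hsurj := Hmap_top_surjective hn π hπ
  have hker : LinearMap.ker (Hmap 𝔪 π n) ≤ LinearMap.ker Φ := by
    intro w hw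
    obtain ⟨v, rfl⟩ := (exactH₂ 𝔪 (Submodule.injective_subtype _) hπ
      (LinearMap.exact_subtype_ker_map π) n w).1 hw
    obtain ⟨a, G, hG⟩ := Module.Finite.exists_fin' R (LinearMap.ker π)
    obtain ⟨u, rfl⟩ := Hmap_top_surjective hn G hG v
    rw [LinearMap.mem_ker, ← sum_Hmap_single 𝔪 n u, map_sum, map_sum, map_sum]
    refine Finset.sum_eq_zero fun j _ => ?_
    rw [← LinearMap.comp_apply (Hmap 𝔪 G n), ← Hmap_comp,
      ← LinearMap.comp_apply (Hmap 𝔪 (LinearMap.ker π).subtype n), ← Hmap_comp,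
      show (LinearMap.ker π).subtype ∘ₗ G ∘ₗ LinearMap.single R (fun _ : Fin a => R) j =
        LinearMap.toSpanSingleton R _ ((G (Pi.single j 1) : LinearMap.ker π) : Fin b → R) from
        LinearMap.ext_ring (by simp), hΦ, LinearMap.mem_ker.1 (G (Pi.single j 1)).2, map_zero]
  refine ⟨(LinearMap.ker (Hmap 𝔪 π n)).liftQ Φ hker ∘ₗ
    ((Hmap 𝔪 π n).quotKerEquivOfSurjective hsurj).symm.toLinearMap, fun k z => ?_⟩
  obtain ⟨x, rfl⟩ := hπ k
  rw [show LinearMap.toSpanSingleton R K (π x) = π ∘ₗ LinearMap.toSpanSingleton R _ x from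
    LinearMap.ext_ring (by simp), Hmap_comp, LinearMap.comp_apply, LinearMap.comp_apply]
  refine Eq.trans ?_ (hΦ x z)
  rw [LinearEquiv.coe_coe, show ((Hmap 𝔪 π n).quotKerEquivOfSurjective hsurj).symm
    (Hmap 𝔪 π n (Hmap 𝔪 (LinearMap.toSpanSingleton R _ x) n z)) = Submodule.Quotient.mk
      (Hmap 𝔪 (LinearMap.toSpanSingleton R _ x) n z) from (LinearEquiv.symm_apply_eq _).2 rfl,
    Submodule.liftQ_apply]

/-- The pairing `H^n(M) → Hom(Hom(M, K), E)` of a trace. -/
noncomputable def pairing (τ : LocCoh.H 𝔪 n K →ₗ[R] E) (M : Type u) [AddCommGroup M] [Module R M] :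
    LocCoh.H 𝔪 n M →ₗ[R] (M →ₗ[R] K) →ₗ[R] E :=
  LinearMap.llcomp R (M →ₗ[R] K) (LocCoh.H 𝔪 n K) E τ ∘ₗ (HmapHom 𝔪 M K n).flip

theorem pairing_apply (τ : LocCoh.H 𝔪 n K →ₗ[R] E)
    {M : Type u} [AddCommGroup M] [Module R M] (z : LocCoh.H 𝔪 n M)
    (φ : M →ₗ[R] K) : pairing τ M z φ = τ (Hmap 𝔪 φ n z) := rfl

theorem pairing_natural (τ : LocCoh.H 𝔪 n K →ₗ[R] E)
    {M N : Type u} [AddCommGroup M] [Module R M] [AddCommGroup N] [Module R N]
    (g : M →ₗ[R] N) (z : LocCoh.H 𝔪 n M) (φ : N →ₗ[R] K) :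
    pairing τ N (Hmap 𝔪 g n z) φ = pairing τ M z (φ ∘ₗ g) := by
  rw [pairing_apply, pairing_apply, Hmap_comp, LinearMap.comp_apply]

include eK in
theorem pairing_pi_bijective (τ : LocCoh.H 𝔪 n K →ₗ[R] E)
    (hτ : ∀ (k : K) (z : LocCoh.H 𝔪 n R),
      τ (Hmap 𝔪 (LinearMap.toSpanSingleton R K k) n z) = eK.symm z k) (b : ℕ) : Function.Bijective (pairing τ (Fin b → R)) := by
  have key : ∀ (u : LocCoh.H 𝔪 n R) (i : Fin b) (φ : (Fin b → R) →ₗ[R] K),
      pairing τ (Fin b → R) (Hmap 𝔪 (LinearMap.single R (fun _ : Fin b => R) i) n u) φ =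
        eK.symm u (φ (Pi.single i 1)) := fun u i φ => by
    rw [pairing_natural, pairing_apply,
      show φ ∘ₗ LinearMap.single R (fun _ : Fin b => R) i =
        LinearMap.toSpanSingleton R K (φ (Pi.single i 1)) from LinearMap.ext_ring (by simp), hτ]
  have expand : ∀ (w : LocCoh.H 𝔪 n (Fin b → R)) (φ : (Fin b → R) →ₗ[R] K),
      pairing τ (Fin b → R) w φ =
        ∑ i, eK.symm (Hmap 𝔪 (LinearMap.proj i : (Fin b → R) →ₗ[R] R) n w) (φ (Pi.single i 1)) :=
    fun w φ => by
      conv_lhs => rw [← sum_Hmap_single 𝔪 n w, map_sum, LinearMap.sum_apply]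
      exact Finset.sum_congr rfl fun i _ => key _ i φ
  constructor
  · rw [injective_iff_map_eq_zero]
    intro w hw
    rw [← sum_Hmap_single 𝔪 n w]
    refine Finset.sum_eq_zero fun i _ => ?_
    rw [show Hmap 𝔪 (LinearMap.proj i : (Fin b → R) →ₗ[R] R) n w = 0 from
      eK.symm.injective (LinearMap.ext fun k => ?_), map_zero]
    have h1 := (expand w ((LinearMap.proj i : (Fin b → R) →ₗ[R] R).smulRight k)).symm.trans
      (LinearMap.congr_fun hw _)
    rw [Finset.sum_eq_single i (fun j _ hj => by simp [hj]) (by simp)] at h1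
    simpa using h1
  · intro ψ
    refine ⟨∑ i, Hmap 𝔪 (LinearMap.single R (fun _ : Fin b => R) i) n
      (eK (ψ ∘ₗ LinearMap.smulRightₗ (LinearMap.proj i : (Fin b → R) →ₗ[R] R))),
      LinearMap.ext fun φ => ?_⟩
    rw [map_sum, LinearMap.sum_apply]
    simp only [key, LinearEquiv.symm_apply_apply, LinearMap.comp_apply]
    rw [← map_sum]
    refine congrArg ψ (LinearMap.ext fun x => ?_)
    conv_rhs => rw [pi_eq_sum_univ' x, map_sum]
    simp [LinearMap.sum_apply]

include hn hf eK in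
theorem pairing_surjective (τ : LocCoh.H 𝔪 n K →ₗ[R] E)
    (hτ : ∀ (k : K) (z : LocCoh.H 𝔪 n R),
      τ (Hmap 𝔪 (LinearMap.toSpanSingleton R K k) n z) = eK.symm z k) (M : Type u) [AddCommGroup M] [Module R M] [Module.Finite R M] :
    Function.Surjective (pairing τ M) := by
  obtain ⟨b, π, hπ⟩ := Module.Finite.exists_fin' R M
  intro ψ
  have hinj : Function.Injective (π.lcomp R K) := fun a c h => LinearMap.ext fun y => by
    obtain ⟨y, rfl⟩ := hπ y
    exact LinearMap.congr_fun h y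
  obtain ⟨ψ', hψ'⟩ := Module.Injective.extension_property (inj := hf.isInjective) R E _ _
    (π.lcomp R K) hinj ψ
  obtain ⟨w, rfl⟩ := (pairing_pi_bijective eK τ hτ b).2 ψ'
  refine ⟨Hmap 𝔪 π n w, LinearMap.ext fun φ => ?_⟩
  rw [pairing_natural]
  exact LinearMap.congr_fun hψ' φ

include hn hf eK in
theorem pairing_bijective (τ : LocCoh.H 𝔪 n K →ₗ[R] E)
    (hτ : ∀ (k : K) (z : LocCoh.H 𝔪 n R),
      τ (Hmap 𝔪 (LinearMap.toSpanSingleton R K k) n z) = eK.symm z k) (M : Type u) [AddCommGroup M] [Module R M] [Module.Finite R M] :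
    Function.Bijective (pairing τ M) := by
  refine ⟨?_, pairing_surjective hn hf eK τ hτ M⟩
  obtain ⟨b, π, hπ⟩ := Module.Finite.exists_fin' R M
  let ι := (LinearMap.ker π).subtype
  rw [injective_iff_map_eq_zero]
  intro z hz
  obtain ⟨w, rfl⟩ := Hmap_top_surjective hn π hπ z
  have hker : LinearMap.ker (ι.lcomp R K) ≤ LinearMap.ker (pairing τ (Fin b → R) w) := by
    intro φ hφ
    let φ' : M →ₗ[R] K := (LinearMap.ker π).liftQ φ (fun x hx => LinearMap.congr_fun hφ ⟨x, hx⟩) ∘ₗ
      (π.quotKerEquivOfSurjective hπ).symm.toLinearMap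
    have hφ' : φ' ∘ₗ π = φ := LinearMap.ext fun x => by
      simp only [φ', LinearMap.comp_apply, LinearEquiv.coe_coe,
        show (π.quotKerEquivOfSurjective hπ).symm (π x) = Submodule.Quotient.mk x from
          (LinearEquiv.symm_apply_eq _).2 rfl]; rfl
    rw [LinearMap.mem_ker, ← hφ', ← pairing_natural, hz, LinearMap.zero_apply]
  obtain ⟨χ, hχ⟩ := Module.Injective.extension_property (inj := hf.isInjective) R E _ _
    ((LinearMap.ker (ι.lcomp R K)).liftQ (ι.lcomp R K) le_rfl)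
    (LinearMap.ker_eq_bot.1 (Submodule.ker_liftQ_eq_bot _ _ _ le_rfl))
    ((LinearMap.ker (ι.lcomp R K)).liftQ (pairing τ (Fin b → R) w) hker)
  obtain ⟨v, rfl⟩ := pairing_surjective hn hf eK τ hτ (LinearMap.ker π) χ
  have hv : Hmap 𝔪 ι n v = w := (pairing_pi_bijective eK τ hτ b).1 (LinearMap.ext fun φ => by
    rw [pairing_natural]
    exact LinearMap.congr_fun hχ (Submodule.Quotient.mk φ))
  rw [← hv]
  exact (exactH₂ 𝔪 (Submodule.injective_subtype _) hπ (LinearMap.exact_subtype_ker_map π) n).apply_apply_eq_zero v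

include hn hf eK in
/-- Duality in the top degree. -/
theorem nonempty_top_duality (M : Type u) [AddCommGroup M] [Module R M] [Module.Finite R M] :
    Nonempty (LocCoh.H 𝔪 n M ≃ₗ[R] ((M →ₗ[R] K) →ₗ[R] E)) := by
  obtain ⟨τ, hτ⟩ := exists_trace hn eK
  exact ⟨LinearEquiv.ofBijective _ (pairing_bijective hn hf eK τ hτ M)⟩

include hn hf eK in
/-- Duality in all degrees when `R` is Cohen–Macaulay. -/
theorem duality_CM (hvan : ∀ j < n, Subsingleton (LocCoh.H 𝔪 j R)) :
    ∀ (i : ℕ) (M : Type u) [AddCommGroup M] [Module R M] [Module.Finite R M],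
      (∀ j, j + i = n → Nonempty (LocCoh.H 𝔪 j M ≃ₗ[R]
        (Abelian.Ext (ModuleCat.of R M) (ModuleCat.of R K) i →ₗ[R] E))) ∧
      (n < i → Subsingleton (Abelian.Ext (ModuleCat.of R M) (ModuleCat.of R K) i)) := by
  obtain ⟨τ, hτ⟩ := exists_trace hn eK
  have hzero : ∀ {X : Type u} [AddCommGroup X] [Module R X],
      Subsingleton (X →ₗ[R] E) → Subsingleton X := fun {X} _ _ h =>
    ⟨fun a c => H4Matlis.injective_applyₗ hf X (LinearMap.ext fun φ => by
      rw [@Subsingleton.elim _ h φ 0]; rfl)⟩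
  intro i
  induction i with
  | zero =>
    intro M _ _ _
    refine ⟨fun j hj => ?_, fun h => absurd h n.not_lt_zero⟩
    obtain rfl : j = n := hj
    exact ⟨(LinearEquiv.ofBijective _ (pairing_bijective hn hf eK τ hτ M)).trans
      (LinearEquiv.congrLeft E R (Abelian.Ext.linearEquiv₀.trans ModuleCat.homLinearEquiv).symm)⟩
  | succ i ih =>
    intro M _ _ _
    obtain ⟨b, π, hπ⟩ := Module.Finite.exists_fin' R M
    let L := LinearMap.ker π
    let ι := L.subtype
    have hι : Function.Injective ι := L.injective_subtype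
    have hex : Function.Exact ι π := LinearMap.exact_subtype_ker_map π
    rcases i with _ | i
    · obtain ⟨cls, hcls, hker⟩ := exists_class_one (K := K) π hπ
      refine ⟨fun j hj => ?_, fun h => hzero (subsingleton_of_forall_eq 0 fun χ => ?_)⟩
      · subst hj
        let δ := δH 𝔪 hι hπ hex j
        have hδ : Function.Injective δ :=
          δH_injective 𝔪 hι hπ hex j (subsingleton_H_pi 𝔪 j (hvan j j.lt_succ_self))
        have hle : ∀ z, LinearMap.ker cls ≤ LinearMap.ker (pairing τ L (δ z)) := fun z φ hφ => by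
          obtain ⟨ψ, rfl⟩ := (hker φ).1 hφ
          rw [LinearMap.mem_ker, ← pairing_natural τ ι,
            (exactH₁ 𝔪 hι hπ hex j).apply_apply_eq_zero z, map_zero, LinearMap.zero_apply]
        let qe := cls.quotKerEquivOfSurjective hcls
        let Ψ : LocCoh.H 𝔪 j M →ₗ[R]
            (Abelian.Ext (ModuleCat.of R M) (ModuleCat.of R K) 1 →ₗ[R] E) :=
          { toFun := fun z => (LinearMap.ker cls).liftQ (pairing τ L (δ z)) (hle z) ∘ₗ qe.symm.toLinearMap
            map_add' := fun x y => LinearMap.ext fun e => by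
              obtain ⟨φ, rfl⟩ := hcls e
              simp [qe]
            map_smul' := fun r x => LinearMap.ext fun e => by
              obtain ⟨φ, rfl⟩ := hcls e
              simp [qe] }
        have hΨ : ∀ z φ, Ψ z (cls φ) = pairing τ L (δ z) φ := fun z φ => by
          show (LinearMap.ker cls).liftQ _ (hle z) (qe.symm (cls φ)) = _
          rw [show qe.symm (cls φ) = Submodule.Quotient.mk φ from (LinearEquiv.symm_apply_eq _).2 rfl,
            Submodule.liftQ_apply]
        refine ⟨LinearEquiv.ofBijective Ψ ⟨?_, fun χ => ?_⟩⟩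
        · rw [injective_iff_map_eq_zero]
          intro z hz
          refine hδ (Eq.trans ?_ (map_zero δ).symm)
          refine (pairing_bijective hn hf eK τ hτ L).1 (LinearMap.ext fun φ => ?_)
          rw [← hΨ, hz, map_zero, LinearMap.zero_apply, LinearMap.zero_apply]
        · obtain ⟨v, hv⟩ := pairing_surjective hn hf eK τ hτ L (χ ∘ₗ cls)
          have h0 : Hmap 𝔪 ι (j + 1) v = 0 := (pairing_pi_bijective eK τ hτ b).1
            (LinearMap.ext fun ψ => by
              rw [pairing_natural, hv, LinearMap.comp_apply, (hker _).2 ⟨ψ, rfl⟩, map_zero, map_zero,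
                LinearMap.zero_apply])
          obtain ⟨z, rfl⟩ := (exactH₁ 𝔪 hι hπ hex j v).1 h0
          refine ⟨z, LinearMap.ext fun e => ?_⟩
          obtain ⟨φ, rfl⟩ := hcls e
          rw [hΨ, hv, LinearMap.comp_apply]
      · obtain rfl : n = 0 := by omega
        obtain ⟨v, hv⟩ := pairing_surjective hn hf eK τ hτ L (χ ∘ₗ cls)
        have h0 : Hmap 𝔪 ι 0 v = 0 := (pairing_pi_bijective eK τ hτ b).1
          (LinearMap.ext fun ψ => by
            rw [pairing_natural, hv, LinearMap.comp_apply, (hker _).2 ⟨ψ, rfl⟩, map_zero, map_zero,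
              LinearMap.zero_apply])
        rw [Hmap_zero_injective 𝔪 hι hπ hex (h0.trans (map_zero _).symm), map_zero] at hv
        refine LinearMap.ext fun e => ?_
        obtain ⟨φ, rfl⟩ := hcls e
        exact (LinearMap.congr_fun hv φ).symm
    · obtain ⟨ih1, ih2⟩ := ih L
      obtain ⟨eExt⟩ := nonempty_ext_shift (K := K) π hπ i
      refine ⟨fun j hj => ?_, fun h => @Equiv.subsingleton _ _ eExt.symm.toEquiv ?_⟩
      · obtain ⟨e⟩ := ih1 (j + 1) (by omega)
        exact ⟨(LinearEquiv.ofBijective (δH 𝔪 hι hπ hex j)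
          ⟨δH_injective 𝔪 hι hπ hex j (subsingleton_H_pi 𝔪 j (hvan j (by omega))),
            δH_surjective 𝔪 hι hπ hex j (subsingleton_H_pi 𝔪 (j + 1) (hvan (j + 1) (by omega)))⟩).trans
          (e.trans (LinearEquiv.congrLeft E R eExt))⟩
      · rcases lt_or_ge n (i + 1) with h1 | h1
        · exact ih2 h1
        · obtain ⟨e⟩ := ih1 0 (by omega)
          refine hzero (@Equiv.subsingleton _ _ e.symm.toEquiv ?_)
          exact @Function.Injective.subsingleton _ _ _ (Hmap_zero_injective 𝔪 hι hπ hex)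
            (subsingleton_H_pi 𝔪 0 (hvan 0 (by omega)))

end Groth.Agent.H4LC
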