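import Groth.Agent.H4LC.Nonvanishing
import Groth.Agent.H4LC.CanonDuality
import Groth.Agent.H4LC.Depth
import Groth.Agent.H4LC.Hiso
import Groth.Agent.H4LC.FiniteLength
import Groth.Agent.H4Matlis.Duality

/-!
# Homology of complexes with torsion homology and local cohomology
-/

set_option autoImplicit false
set_option linter.unusedSectionVars false

universe u

open CategoryTheory IsLocalRing

namespace Groth.Agent.H4LC

variable {A : Type u} [CommRing A] (F : ChainComplex (ModuleCat.{u} A) ℕ)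

/-- Cycles of a chain complex of modules. -/
def IsCycle (i : ℕ) (z : F.X i) : Prop := ∀ j, (F.d i j).hom z = 0

/-- Boundaries of a chain complex of modules. -/
abbrev bdry (i : ℕ) : Submodule A (F.X i) := LinearMap.range (F.d (i + 1) i).hom

theorem isCycle_iff_next (i : ℕ) (z : F.X i) :
    IsCycle F i z ↔ (F.d i ((ComplexShape.down ℕ).next i)).hom z = 0 := by
  refine ⟨fun h => h _, fun h j => ?_⟩
  by_cases hj : (ComplexShape.down ℕ).Rel i j
  · rwa [(ComplexShape.down ℕ).next_eq' hj] at h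
  · rw [F.shape i j hj]
    rfl

theorem isCycle_succ_iff (i : ℕ) (z : F.X (i + 1)) :
    IsCycle F (i + 1) z ↔ (F.d (i + 1) i).hom z = 0 := by
  rw [isCycle_iff_next, ChainComplex.next_nat_succ]

theorem isCycle_zero (z : F.X 0) : IsCycle F 0 z := fun j => by
  rw [F.shape 0 j (by simp [ComplexShape.down])]
  rfl

theorem d_d_apply (i : ℕ) (x : F.X (i + 1)) (j : ℕ) : (F.d i j).hom ((F.d (i + 1) i).hom x) = 0 := by
  rw [← LinearMap.comp_apply, ← ModuleCat.hom_comp, F.d_comp_d]
  rfl

theorem bdry_isCycle (i : ℕ) (x : F.X (i + 1)) : IsCycle F i ((F.d (i + 1) i).hom x) :=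
  fun j => d_d_apply F i x j

theorem isZero_homology_iff (i : ℕ) :
    Limits.IsZero (F.homology i) ↔ ∀ z, IsCycle F i z → z ∈ bdry F i := by
  rw [← F.exactAt_iff_isZero_homology, F.exactAt_iff' (i + 1) i ((ComplexShape.down ℕ).next i)
    (ChainComplex.prev ℕ i) rfl, ShortComplex.moduleCat_exact_iff]
  exact ⟨fun h z hz => h z ((isCycle_iff_next F i z).1 hz),
    fun h z hz => h z ((isCycle_iff_next F i z).2 hz)⟩

theorem exists_pow_smul_mem_bdry [IsLocalRing A] (i : ℕ) (h : IsFiniteLength A (F.homology i))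
    (z : F.X i) (hz : IsCycle F i z) :
    ∃ n : ℕ, ∀ a ∈ maximalIdeal A ^ n, a • z ∈ bdry F i := by
  let S := F.sc' (i + 1) i ((ComplexShape.down ℕ).next i)
  let e : F.homology i ≅ S.moduleCatLeftHomologyData.H :=
    F.homologyIsoSc' (i + 1) i _ (ChainComplex.prev ℕ i) rfl ≪≫ S.moduleCatHomologyIso
  have ht := isPowerTorsion_of_isFiniteLength (e.toLinearEquiv.isFiniteLength h)
  obtain ⟨n, hn⟩ := ht (Submodule.Quotient.mk
    (⟨z, (isCycle_iff_next F i z).1 hz⟩ : LinearMap.ker S.g.hom))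
  refine ⟨n, fun a ha => ?_⟩
  obtain ⟨w, hw⟩ := (Submodule.Quotient.mk_eq_zero _).1 (hn a ha)
  exact ⟨w, congrArg Subtype.val hw⟩

section Coker

/-- The map induced by the differential on cokernels. -/
noncomputable def cokerMap (i : ℕ) : (F.X (i + 1) ⧸ bdry F (i + 1)) →ₗ[A] F.X i :=
  (bdry F (i + 1)).liftQ (F.d (i + 1) i).hom fun _ hx => by
    obtain ⟨w, rfl⟩ := hx
    exact d_d_apply F (i + 1) w i

theorem cokerMap_mk (i : ℕ) (x : F.X (i + 1)) :
    cokerMap F i (Submodule.Quotient.mk x) = (F.d (i + 1) i).hom x := rfl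

theorem range_cokerMap (i : ℕ) : LinearMap.range (cokerMap F i) = bdry F i :=
  Submodule.range_liftQ _ _ _

theorem exact_cokerMap (i : ℕ) : Function.Exact (cokerMap F i) (bdry F i).mkQ := fun x => by
  rw [← LinearMap.mem_ker, Submodule.ker_mkQ, ← range_cokerMap]
  exact Iff.rfl

theorem cokerMap_injective (i : ℕ) (h : Limits.IsZero (F.homology (i + 1))) :
    Function.Injective (cokerMap F i) := by
  rw [injective_iff_map_eq_zero]
  intro q hq
  obtain ⟨x, rfl⟩ := Submodule.Quotient.mk_surjective _ q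
  exact (Submodule.Quotient.mk_eq_zero _).2
    ((isZero_homology_iff F (i + 1)).1 h x ((isCycle_succ_iff F i x).2 hq))

end Coker

variable [IsNoetherianRing A] [IsLocalRing A]

local notation "𝔪" => maximalIdeal A

/-- Products of annihilators of local cohomology kill the local cohomology of the cokernels. -/
theorem prod_smul_H_coker (c : ℕ → A) (k : ℕ) (hbd : ∀ i, k < i → Limits.IsZero (F.X i))
    (hc : ∀ (i j : ℕ) (z : LocCoh.H 𝔪 j (F.X i)), c j • z = 0)
    (htor : ∀ (i : ℕ) (z : F.X i), IsCycle F i z → ∃ n : ℕ, ∀ a ∈ 𝔪 ^ n, a • z ∈ bdry F i) :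
    ∀ (m i : ℕ), m + i = k + 1 → ∀ (j : ℕ) (z : LocCoh.H 𝔪 j (F.X i ⧸ bdry F i)),
      (∏ t ∈ Finset.range m, c (j + t)) • z = 0 := by
  intro m
  induction m with
  | zero =>
    intro i hi j z
    have := ModuleCat.subsingleton_of_isZero (hbd i (by omega))
    exact @Subsingleton.elim _ (subsingleton_H_of_subsingleton 𝔪 _ j) _ _
  | succ m ih =>
    intro i hi j z
    let g := cokerMap F i
    let B := LinearMap.range g
    have hsurjB : Function.Surjective g.rangeRestrict := g.surjective_rangeRestrict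
    have htK : LocCoh.IsPowerTorsion 𝔪 (LinearMap.ker g.rangeRestrict) := fun q => by
      obtain ⟨x, hx⟩ := Submodule.Quotient.mk_surjective _ q.1
      have h0 : g q.1 = 0 := congrArg Subtype.val (LinearMap.mem_ker.1 q.2)
      obtain ⟨n, hn⟩ := htor (i + 1) x ((isCycle_succ_iff F i x).2 (by
        rw [← cokerMap_mk, hx]; exact h0))
      refine ⟨n, fun a ha => Subtype.ext ?_⟩
      rw [Submodule.coe_smul, ← hx, ← Submodule.Quotient.mk_smul]
      exact (Submodule.Quotient.mk_eq_zero _).2 (hn a ha)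
    have hexB : Function.Exact B.subtype (bdry F i).mkQ := fun x => by
      rw [← LinearMap.mem_ker, Submodule.ker_mkQ, ← show B = bdry F i from range_cokerMap F i]
      exact ⟨fun h => ⟨⟨x, h⟩, rfl⟩, fun ⟨y, hy⟩ => hy ▸ y.2⟩
    have hπ := Submodule.mkQ_surjective (bdry F i)
    let P := ∏ t ∈ Finset.range m, c (j + 1 + t)
    have hB : P • δH 𝔪 B.injective_subtype hπ hexB j z = 0 := by
      obtain ⟨w, hw⟩ := ((exactH₃ 𝔪 (Submodule.injective_subtype _) hsurjB
        (LinearMap.exact_subtype_ker_map g.rangeRestrict) (j + 1)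
        (δH 𝔪 B.injective_subtype hπ hexB j z)).1 (@Subsingleton.elim _
          (subsingleton_H_of_isPowerTorsion 𝔪 (j + 1 + 1) _ htK (j + 1).succ_pos) _ _))
      rw [← hw, ← map_smul, ih (i + 1) (by omega) (j + 1) w, map_zero]
    rw [← map_smul] at hB
    obtain ⟨y, hy⟩ := ((exactH₃ 𝔪 B.injective_subtype hπ hexB j (P • z)).1 hB)
    rw [Finset.prod_range_succ', show ∏ t ∈ Finset.range m, c (j + (t + 1)) = P from
      Finset.prod_congr rfl fun t _ => congrArg c (by omega), add_zero, mul_comm, mul_smul, ← hy,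
      ← map_smul, hc, map_zero]

/-- Products of annihilators of local cohomology kill torsion homology. -/
theorem prod_smul_mem_bdry (c : ℕ → A) (k : ℕ) (hbd : ∀ i, k < i → Limits.IsZero (F.X i))
    (hc : ∀ (i j : ℕ) (z : LocCoh.H 𝔪 j (F.X i)), c j • z = 0)
    (htor : ∀ (i : ℕ) (z : F.X i), IsCycle F i z → ∃ n : ℕ, ∀ a ∈ 𝔪 ^ n, a • z ∈ bdry F i)
    (i : ℕ) (hi : i ≤ k) (z : F.X i) (hz : IsCycle F i z) :
    (∏ t ∈ Finset.range (k + 1 - i), c t) • z ∈ bdry F i := by
  obtain ⟨n, hn⟩ := htor i z hz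
  let x : DRing.torsionSub 𝔪 (F.X i ⧸ bdry F i) := ⟨Submodule.Quotient.mk z, n, fun a ha => by
    rw [← Submodule.Quotient.mk_smul]
    exact (Submodule.Quotient.mk_eq_zero _).2 (hn a ha)⟩
  have h := prod_smul_H_coker F c k hbd hc htor (k + 1 - i) i (by omega) 0
    ((zeroEquiv 𝔪 (F.X i ⧸ bdry F i)).symm x)
  simp only [zero_add] at h
  rw [← map_smul] at h
  have h2 := congrArg Subtype.val ((LinearEquiv.map_eq_zero_iff _).1 h)
  exact (Submodule.Quotient.mk_eq_zero _).1 ((Submodule.Quotient.mk_smul _ _ _).trans h2)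

omit [IsLocalRing A] in
theorem smul_H_pi_eq_zero {I : Ideal A} {j b : ℕ} {c : A}
    (hc : ∀ z : LocCoh.H I j A, c • z = 0) (z : LocCoh.H I j (Fin b → A)) : c • z = 0 := by
  rw [← sum_Hmap_single I j z, Finset.smul_sum]
  exact Finset.sum_eq_zero fun i _ => by rw [← map_smul, hc, map_zero]

theorem smul_H_free_eq_zero {I : Ideal A} {j : ℕ} {c : A} (hc : ∀ z : LocCoh.H I j A, c • z = 0)
    (M : Type u) [AddCommGroup M] [Module A M] [Module.Free A M] [Module.Finite A M]
    (z : LocCoh.H I j M) : c • z = 0 := by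
  let e : M ≃ₗ[A] (Fin _ → A) := (Module.finBasis A M).equivFun
  have h : Hmap I e.symm.toLinearMap j (Hmap I e.toLinearMap j z) = z := by
    rw [← LinearMap.comp_apply, ← Hmap_comp,
      show e.symm.toLinearMap ∘ₗ e.toLinearMap = LinearMap.id from
        LinearMap.ext fun x => e.symm_apply_apply x, Hmap_id, LinearMap.id_apply]
  rw [← h, ← map_smul, smul_H_pi_eq_zero hc, map_zero]

omit [IsLocalRing A] in
theorem Hmap_bijective_of_bijective (I : Ideal A) {M N : Type u} [AddCommGroup M] [Module A M]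
    [AddCommGroup N] [Module A N] (g : M →ₗ[A] N) (hg : Function.Bijective g) (j : ℕ) :
    Function.Bijective (Hmap I g j) := by
  let e := LinearEquiv.ofBijective g hg
  refine Function.bijective_iff_has_inverse.2 ⟨Hmap I e.symm.toLinearMap j, fun z => ?_, fun z => ?_⟩
  · rw [← LinearMap.comp_apply, ← Hmap_comp, show e.symm.toLinearMap ∘ₗ g = LinearMap.id from
      LinearMap.ext fun x => e.symm_apply_apply x, Hmap_id, LinearMap.id_apply]
  · rw [← LinearMap.comp_apply, ← Hmap_comp, show g ∘ₗ e.symm.toLinearMap = LinearMap.id from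
      LinearMap.ext fun x => e.apply_symm_apply x, Hmap_id, LinearMap.id_apply]

/-- The acyclicity lemma for complexes with finite length homology. -/
theorem isZero_homology_of_lt_depth (k : ℕ) (hbd : ∀ i, k < i → Limits.IsZero (F.X i))
    (hfree : ∀ i, Module.Free A (F.X i) ∧ Module.Finite A (F.X i))
    (hfl : ∀ i, IsFiniteLength A (F.homology i)) (d : ℕ)
    (hd : (d : ℕ∞) ≤ LocCoh.idealDepth 𝔪 A) (i : ℕ) (hi : k < i + d) :
    Limits.IsZero (F.homology i) := by
  refine (isZero_homology_iff F i).2 fun z hz => ?_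
  rcases lt_or_ge k i with hki | hki
  · exact ⟨0, @Subsingleton.elim _ (ModuleCat.subsingleton_of_isZero (hbd i hki)) _ _⟩
  · have h := prod_smul_mem_bdry F (fun j => if j < d then 1 else 0) k hbd (fun i' j w => ?_)
      (fun i' z' hz' => exists_pow_smul_mem_bdry F i' (hfl i') z' hz') i hki z hz
    · rwa [Finset.prod_eq_one (fun t ht => if_pos (by rw [Finset.mem_range] at ht; omega)),
        one_smul] at h
    · obtain ⟨_, _⟩ := hfree i'
      by_cases hjd : j < d
      · refine smul_H_free_eq_zero (fun w => ?_) _ w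
        exact (congrArg _ (@Subsingleton.elim _ ((le_idealDepth_iff_H 𝔪 A).1 hd j hjd) w 0)).trans
          (smul_zero _)
      · rw [if_neg hjd, zero_smul]

/-- Maps with entries in the maximal ideal kill the socle of local cohomology. -/
theorem Hmap_eq_zero_of_socle {X Y : Type u} [AddCommGroup X] [Module A X] [Module.Free A X]
    [Module.Finite A X] [AddCommGroup Y] [Module A Y] (g : X →ₗ[A] Y)
    (hg : ∀ x, g x ∈ 𝔪 • (⊤ : Submodule A Y)) (j : ℕ) {s : LocCoh.H 𝔪 j X}
    (hs : ∀ a ∈ 𝔪, a • s = 0) : Hmap 𝔪 g j s = 0 := by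
  let b := Module.finBasis A X
  have hg' : g = ∑ l, (b.coord l).smulRight (g (b l)) :=
    b.ext fun l => by simp [LinearMap.sum_apply, Finsupp.single_apply]
  have hgen : ∀ y ∈ 𝔪 • (⊤ : Submodule A Y), ∀ φ : X →ₗ[A] A,
      Hmap 𝔪 (φ.smulRight y) j s = 0 := fun y hy φ => by
    refine Submodule.smul_induction_on hy (fun a ha w _ => ?_) fun y y' h h' => ?_
    · rw [show φ.smulRight (a • w) = φ.smulRight w ∘ₗ (a • LinearMap.id) from
        LinearMap.ext fun x => by simp [smul_smul, mul_comm], Hmap_comp, LinearMap.comp_apply,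
        Hmap_smul_id, hs a ha, map_zero]
    · rw [show φ.smulRight (y + y') = φ.smulRight y + φ.smulRight y' from
        LinearMap.ext fun x => by simp, show Hmap 𝔪 (φ.smulRight y + φ.smulRight y') j =
          HmapHom 𝔪 _ _ j (φ.smulRight y + φ.smulRight y') from rfl, map_add, LinearMap.add_apply]
      exact (congrArg₂ (· + ·) h h').trans (add_zero 0)
  rw [show Hmap 𝔪 g j = HmapHom 𝔪 _ _ j g from rfl, hg', map_sum, LinearMap.sum_apply]
  exact Finset.sum_eq_zero fun l _ => hgen _ (hg _) _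

/-- A minimal complex has nonzero homology in degree at least `k - depth`. -/
theorem exists_homology_ne_zero (k : ℕ) (hbd : ∀ i, k < i → Limits.IsZero (F.X i))
    (htop : ¬ Limits.IsZero (F.X k))
    (hfree : ∀ i, Module.Free A (F.X i) ∧ Module.Finite A (F.X i))
    (hmin : ∀ i j, LinearMap.range (F.d i j).hom ≤ 𝔪 • (⊤ : Submodule A (F.X j)))
    (d : ℕ) (hd : LocCoh.idealDepth 𝔪 A = d) :
    ∃ i, k - d ≤ i ∧ i ≤ k ∧ ¬ Limits.IsZero (F.homology i) := by
  by_contra hall
  push Not at hall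
  have hlt : ∀ j < d, Subsingleton (LocCoh.H 𝔪 j A) := (le_idealDepth_iff_H 𝔪 A).1 hd.ge
  have hX : ∀ i, ∀ j < d, Subsingleton (LocCoh.H 𝔪 j (F.X i)) := fun i j hj => by
    obtain ⟨_, _⟩ := hfree i
    exact subsingleton_of_forall_eq 0 fun z => (one_smul A z).symm.trans
      (smul_H_free_eq_zero (fun w => @Subsingleton.elim _ (hlt j hj) _ _) _ z)
  have hdA : Nontrivial (LocCoh.H 𝔪 d A) := ((idealDepth_eq_natCast_iff_H 𝔪 A).1 hd).2
  obtain ⟨_, _⟩ := hfree k
  let π := (bdry F k).mkQ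
  have hπi : Function.Injective π := by
    refine LinearMap.ker_eq_bot.1 ?_
    rw [Submodule.ker_mkQ, LinearMap.range_eq_bot]
    exact LinearMap.ext fun x => by
      rw [@Subsingleton.elim _ (ModuleCat.subsingleton_of_isZero (hbd (k + 1) k.lt_succ_self)) x 0,
        map_zero, LinearMap.zero_apply]
  -- a socle element in the top cokernel
  obtain ⟨s, hs0, hs⟩ : ∃ s : LocCoh.H 𝔪 d (F.X k), s ≠ 0 ∧ ∀ a ∈ 𝔪, a • s = 0 := by
    have : Nontrivial (F.X k) :=
      not_subsingleton_iff_nontrivial.1 fun h => htop (ModuleCat.isZero_of_subsingleton _)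
    obtain ⟨w, hw⟩ := exists_ne (0 : LocCoh.H 𝔪 d A)
    obtain ⟨r, hr, hr0⟩ := H4Matlis.exists_least_torsion (isPowerTorsion_H 𝔪 d A) hw
    let b := Module.finBasis A (F.X k)
    obtain ⟨l⟩ : Nonempty (Fin (Module.finrank A (F.X k))) := b.index_nonempty
    have hl : Hmap 𝔪 (b.coord l) d (Hmap 𝔪 (LinearMap.toSpanSingleton A _ (b l)) d (r • w)) =
        r • w := by
      rw [← LinearMap.comp_apply, ← Hmap_comp,
        show b.coord l ∘ₗ LinearMap.toSpanSingleton A _ (b l) = LinearMap.id from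
          LinearMap.ext_ring (by simp), Hmap_id, LinearMap.id_apply]
    refine ⟨Hmap 𝔪 (LinearMap.toSpanSingleton A _ (b l)) d (r • w), fun h => hr0 ?_, fun a ha => ?_⟩
    · rw [← hl, h, map_zero]
    · rw [← map_smul, (Submodule.mem_torsionBySet_iff _ _).1 hr ⟨a, ha⟩, map_zero]
  have main : ∀ t i, t ≤ d → t + i = k →
      ∃ w : LocCoh.H 𝔪 (d - t) (F.X i ⧸ bdry F i), w ≠ 0 ∧ (t = 0 → ∀ a ∈ 𝔪, a • w = 0) := by
    intro t
    induction t with
    | zero =>
      intro i _ hi
      obtain rfl : i = k := by omega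
      refine ⟨Hmap 𝔪 π d s, fun h => hs0 ?_, fun _ a ha => by rw [← map_smul, hs a ha, map_zero]⟩
      exact (Hmap_bijective_of_bijective 𝔪 π ⟨hπi, Submodule.mkQ_surjective _⟩ d).1 (h.trans (map_zero _).symm)
    | succ t ih =>
      intro i ht hi
      obtain ⟨w, hw0, hwm⟩ := ih (i + 1) (by omega) (by omega)
      obtain ⟨j, hj⟩ : ∃ j, d - t = j + 1 := ⟨d - (t + 1), by omega⟩
      have hj' : d - (t + 1) = j := by omega
      rw [hj']
      revert w
      rw [hj]
      intro w hw0 hwm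
      have hinj := cokerMap_injective F i (hall (i + 1) (by omega) (by omega))
      have h0 : Hmap 𝔪 (cokerMap F i) (j + 1) w = 0 := by
        rcases Nat.eq_zero_or_pos t with rfl | htpos
        · obtain rfl : d = j + 1 := by omega
          obtain rfl : i + 1 = k := by omega
          obtain ⟨v, rfl⟩ := (Hmap_bijective_of_bijective 𝔪 π ⟨hπi, Submodule.mkQ_surjective _⟩ (j + 1)).2 w
          rw [← LinearMap.comp_apply, ← Hmap_comp]
          refine Hmap_eq_zero_of_socle _ (fun x => hmin (i + 1) i ⟨x, rfl⟩) _ fun a ha => ?_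
          refine (Hmap_bijective_of_bijective 𝔪 π ⟨hπi, Submodule.mkQ_surjective _⟩ (j + 1)).1 ?_
          rw [map_smul, hwm rfl a ha, map_zero]
        · exact @Subsingleton.elim _ (hX i (j + 1) (by omega)) _ _
      obtain ⟨z, hz⟩ := (exactH₁ 𝔪 hinj (Submodule.mkQ_surjective _) (exact_cokerMap F i) j w).1 h0
      exact ⟨z, fun h => hw0 (by rw [← hz, h, map_zero]), fun h => absurd h t.succ_ne_zero⟩
  obtain ⟨i, hi⟩ : ∃ i, i = k - min d k := ⟨_, rfl⟩
  have hzero := hall i (by omega) (by omega)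
  have hmain := main (min d k) i (min_le_left d k) (by omega)
  rcases Nat.eq_zero_or_pos i with hi0 | hipos
  · subst hi0
    obtain ⟨w, hw0, -⟩ := hmain
    have : Subsingleton (F.X 0 ⧸ bdry F 0) := Submodule.Quotient.subsingleton_iff.2
      (eq_top_iff.2 fun z _ => (isZero_homology_iff F 0).1 hzero z (isCycle_zero F z))
    exact hw0 (@Subsingleton.elim _ (subsingleton_H_of_subsingleton 𝔪 _ _) _ _)
  · obtain ⟨i', hi'⟩ : ∃ i', i = i' + 1 := ⟨i - 1, by omega⟩
    have hdk : d - min d k = 0 := by omega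
    subst hi'
    rw [hdk] at hmain
    obtain ⟨w, hw0, hwm⟩ := hmain
    have hinj := cokerMap_injective F i' hzero
    refine hw0 (Hmap_zero_injective 𝔪 hinj (Submodule.mkQ_surjective _) (exact_cokerMap F i')
      (Eq.trans ?_ (map_zero _).symm))
    rcases Nat.eq_zero_or_pos d with rfl | hdpos
    · obtain rfl : k = i' + 1 := by omega
      obtain ⟨v, rfl⟩ := (Hmap_bijective_of_bijective 𝔪 π ⟨hπi, Submodule.mkQ_surjective _⟩ 0).2 w
      rw [← LinearMap.comp_apply, ← Hmap_comp]
      refine Hmap_eq_zero_of_socle _ (fun x => hmin (i' + 1) i' ⟨x, rfl⟩) _ fun a ha => ?_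
      refine (Hmap_bijective_of_bijective 𝔪 π ⟨hπi, Submodule.mkQ_surjective _⟩ 0).1 ?_
      rw [map_smul, hwm (Nat.zero_min _) a ha, map_zero]
    · exact @Subsingleton.elim _ (hX i' 0 hdpos) _ _

end Groth.Agent.H4LC
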