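import Groth.Agent.H4LC.LC
import Mathlib.CategoryTheory.Abelian.Injective.Ext
import Mathlib.CategoryTheory.Abelian.RightDerived
import Mathlib.Algebra.Category.ModuleCat.EnoughInjectives

/-!
# Local cohomology is the right derived functor of `Γ_I`
-/

set_option autoImplicit false

universe u

open CategoryTheory CategoryTheory.Limits Opposite CategoryTheory.Abelian

namespace Groth.Agent.H4LC

variable {R : Type u} [CommRing R] (I : Ideal R)

/-- `Γ_I` applied to an injective resolution. -/
noncomputable abbrev gammaCx {M : ModuleCat.{u} R} (J : InjectiveResolution M) :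
    CochainComplex (ModuleCat.{u} R) ℕ :=
  ((DRing.gammaI I).mapHomologicalComplex _).obj J.cocomplex

section

variable {M : ModuleCat.{u} R} (J : InjectiveResolution M) (i : ℕ)

theorem quotHom_comp_d {n : ℕ} (v : J.cocomplex.X i) (hn : ∀ a ∈ I ^ n, a • v = 0)
    (hd : (J.cocomplex.d i (i + 1)).hom v = 0) :
    quotHom I v hn ≫ J.cocomplex.d i (i + 1) = 0 :=
  quot_hom_ext I ((congrArg _ (quotHom_one I v hn)).trans hd)

/-- The class in local cohomology of a torsion cocycle killed by `I ^ n`. -/
noncomputable def cls (n : ℕ) (v : J.cocomplex.X i) (hn : ∀ a ∈ I ^ n, a • v = 0)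
    (hd : (J.cocomplex.d i (i + 1)).hom v = 0) : (extColim (quotSys I) i).obj M :=
  ι (quotSys I) i M n (J.extMk (quotHom I v hn) (i + 1) rfl (quotHom_comp_d I J i v hn hd))

theorem extMk_congr' {X : ModuleCat.{u} R} {f g : X ⟶ J.cocomplex.X i} (h : f = g)
    (hf : f ≫ J.cocomplex.d i (i + 1) = 0) :
    J.extMk f (i + 1) rfl hf = J.extMk g (i + 1) rfl (h ▸ hf) := by
  subst h; rfl

theorem cls_congr (n : ℕ) {v w : J.cocomplex.X i} (h : v = w) (hn : ∀ a ∈ I ^ n, a • v = 0)
    (hd : (J.cocomplex.d i (i + 1)).hom v = 0) :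
    cls I J i n v hn hd = cls I J i n w (h ▸ hn) (h ▸ hd) := by
  subst h; rfl

theorem cls_mono {n m : ℕ} (h : n ≤ m) (v : J.cocomplex.X i) (hn : ∀ a ∈ I ^ n, a • v = 0)
    (hm : ∀ a ∈ I ^ m, a • v = 0) (hd : (J.cocomplex.d i (i + 1)).hom v = 0) :
    cls I J i m v hm hd = cls I J i n v hn hd := by
  rw [cls, cls, ← ι_tr (quotSys I) i M h (J.extMk (quotHom I v hn) _ _ _),
    InjectiveResolution.mk₀_comp_extMk]
  refine congrArg (ι (quotSys I) i M m) (extMk_congr' J i ?_ _)
  apply quot_hom_ext
  rw [quotHom_one, ModuleCat.comp_apply]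
  exact ((congrArg _ (tr_one I h)).trans (quotHom_one I v hn)).symm

theorem cls_indep (n m : ℕ) (v : J.cocomplex.X i) (hn : ∀ a ∈ I ^ n, a • v = 0)
    (hm : ∀ a ∈ I ^ m, a • v = 0) (hd : (J.cocomplex.d i (i + 1)).hom v = 0) :
    cls I J i n v hn hd = cls I J i m v hm hd := by
  have hk : ∀ a ∈ I ^ max n m, a • v = 0 := fun a ha =>
    hn a (Ideal.pow_le_pow_right (le_max_left n m) ha)
  rw [← cls_mono I J i (le_max_left n m) v hn hk hd,
    ← cls_mono I J i (le_max_right n m) v hm hk hd]

theorem cls_add (n : ℕ) (v w : J.cocomplex.X i) (hv : ∀ a ∈ I ^ n, a • v = 0)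
    (hw : ∀ a ∈ I ^ n, a • w = 0) (hvw : ∀ a ∈ I ^ n, a • (v + w) = 0)
    (hdv : (J.cocomplex.d i (i + 1)).hom v = 0) (hdw : (J.cocomplex.d i (i + 1)).hom w = 0)
    (hd : (J.cocomplex.d i (i + 1)).hom (v + w) = 0) :
    cls I J i n (v + w) hvw hd = cls I J i n v hv hdv + cls I J i n w hw hdw := by
  rw [cls, cls, cls, ← map_add, InjectiveResolution.add_extMk]
  refine congrArg (ι (quotSys I) i M n) (extMk_congr' J i ?_ _)
  exact quot_hom_ext I ((quotHom_one I _ hvw).trans
    (congrArg₂ (· + ·) (quotHom_one I v hv) (quotHom_one I w hw)).symm)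

theorem cls_smul (n : ℕ) (r : R) (v : J.cocomplex.X i) (hv : ∀ a ∈ I ^ n, a • v = 0)
    (hrv : ∀ a ∈ I ^ n, a • (r • v) = 0) (hdv : (J.cocomplex.d i (i + 1)).hom v = 0)
    (hd : (J.cocomplex.d i (i + 1)).hom (r • v) = 0) :
    cls I J i n (r • v) hrv hd = r • cls I J i n v hv hdv := by
  rw [cls, cls, ← map_smul]
  refine congrArg (ι (quotSys I) i M n) ?_
  have h1 : r • J.extMk (quotHom I v hv) (i + 1) rfl (quotHom_comp_d I J i v hv hdv) =
      (Abelian.Ext.mk₀ (r • 𝟙 _)).comp
        (J.extMk (quotHom I v hv) (i + 1) rfl (quotHom_comp_d I J i v hv hdv)) (zero_add i) := by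
    rw [Abelian.Ext.mk₀_smul, Abelian.Ext.smul_comp, Abelian.Ext.mk₀_id_comp]
  rw [h1, InjectiveResolution.mk₀_comp_extMk]
  refine extMk_congr' J i (quot_hom_ext I ?_) _
  rw [quotHom_one, Linear.smul_comp, Category.id_comp]
  exact (congrArg (r • ·) (quotHom_one I v hv)).symm

/-- A cycle of `Γ_I(J)`, as an element of `J`. -/
noncomputable def cycleVal (z : (gammaCx I J).cycles i) : J.cocomplex.X i :=
  Subtype.val (((gammaCx I J).iCycles i).hom z)

theorem cycleVal_mem (z : (gammaCx I J).cycles i) :
    cycleVal I J i z ∈ DRing.torsionSub I (J.cocomplex.X i) :=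
  Subtype.prop (((gammaCx I J).iCycles i).hom z)

theorem d_cycleVal (z : (gammaCx I J).cycles i) :
    (J.cocomplex.d i (i + 1)).hom (cycleVal I J i z) = 0 :=
  congrArg Subtype.val
    (congrArg (fun a : (gammaCx I J).cycles i ⟶ (gammaCx I J).X (i + 1) => a.hom z)
      ((gammaCx I J).iCycles_d i (i + 1)))

/-- The class of a cycle of `Γ_I(J)`. -/
noncomputable def cyclesToH : (gammaCx I J).cycles i ⟶ (extColim (quotSys I) i).obj M :=
  ModuleCat.ofHom
    { toFun := fun z => cls I J i (cycleVal_mem I J i z).choose (cycleVal I J i z)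
        (cycleVal_mem I J i z).choose_spec (d_cycleVal I J i z)
      map_add' := fun z w => by
        have hzw : cycleVal I J i (z + w) = cycleVal I J i z + cycleVal I J i w :=
          congrArg Subtype.val (map_add ((gammaCx I J).iCycles i).hom z w)
        set N := max (cycleVal_mem I J i z).choose (cycleVal_mem I J i w).choose
        have hz : ∀ a ∈ I ^ N, a • cycleVal I J i z = 0 := fun a ha =>
          (cycleVal_mem I J i z).choose_spec a (Ideal.pow_le_pow_right (le_max_left _ _) ha)
        have hw : ∀ a ∈ I ^ N, a • cycleVal I J i w = 0 := fun a ha =>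
          (cycleVal_mem I J i w).choose_spec a (Ideal.pow_le_pow_right (le_max_right _ _) ha)
        have h : ∀ a ∈ I ^ N, a • cycleVal I J i (z + w) = 0 := fun a ha => by
          rw [hzw, smul_add, hz a ha, hw a ha, add_zero]
        rw [cls_indep I J i _ N _ (cycleVal_mem I J i (z + w)).choose_spec h,
          cls_congr I J i N hzw, cls_add I J i N _ _ hz hw,
          cls_indep I J i N _ _ hz (cycleVal_mem I J i z).choose_spec,
          cls_indep I J i N _ _ hw (cycleVal_mem I J i w).choose_spec]
      map_smul' := fun r z => by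
        have hrz : cycleVal I J i (r • z) = r • cycleVal I J i z :=
          congrArg Subtype.val (map_smul ((gammaCx I J).iCycles i).hom r z)
        have h : ∀ a ∈ I ^ (cycleVal_mem I J i z).choose, a • cycleVal I J i (r • z) = 0 :=
          fun a ha => by
            rw [hrz, smul_comm, (cycleVal_mem I J i z).choose_spec a ha, smul_zero]
        rw [RingHom.id_apply, cls_indep I J i _ _ _ (cycleVal_mem I J i (r • z)).choose_spec h,
          cls_congr I J i _ hrz,
          cls_smul I J i _ r _ (cycleVal_mem I J i z).choose_spec _ (d_cycleVal I J i z)] }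

theorem cyclesToH_apply (z : (gammaCx I J).cycles i) (n : ℕ)
    (hn : ∀ a ∈ I ^ n, a • cycleVal I J i z = 0) :
    (cyclesToH I J i).hom z = cls I J i n (cycleVal I J i z) hn (d_cycleVal I J i z) :=
  cls_indep I J i _ _ _ _ _ _

theorem cycleVal_toCycles (p : ℕ) (v : (gammaCx I J).X p) :
    cycleVal I J i (((gammaCx I J).toCycles p i).hom v) =
      (J.cocomplex.d p i).hom (Subtype.val v) :=
  congrArg Subtype.val
    (congrArg (fun a : (gammaCx I J).X p ⟶ (gammaCx I J).X i => a.hom v)
      ((gammaCx I J).toCycles_i p i))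

theorem toCycles_cyclesToH (p : ℕ) :
    (gammaCx I J).toCycles p i ≫ cyclesToH I J i = 0 := by
  apply ModuleCat.hom_ext
  refine LinearMap.ext fun v => ?_
  obtain ⟨n, hn⟩ := Subtype.prop v
  have hn' : ∀ a ∈ I ^ n, a • cycleVal I J i (((gammaCx I J).toCycles p i).hom v) = 0 := by
    intro a ha
    rw [cycleVal_toCycles, ← map_smul, hn a ha, map_zero]
  refine (cyclesToH_apply I J i _ n hn').trans ?_
  have hval := cycleVal_toCycles I J i p v
  by_cases hp : p + 1 = i
  · refine (congrArg (ι (quotSys I) i M n) ?_).trans (map_zero _)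
    refine (J.extMk_eq_zero_iff _ _ rfl _ p hp).2 ⟨quotHom I (Subtype.val v) hn, ?_⟩
    exact quot_hom_ext I (((congrArg (J.cocomplex.d p i).hom
      (quotHom_one I (Subtype.val v) hn)).trans hval.symm).trans (quotHom_one I _ hn').symm)
  · refine (congrArg (ι (quotSys I) i M n) ?_).trans (map_zero _)
    have h0 : quotHom I (cycleVal I J i (((gammaCx I J).toCycles p i).hom v)) hn' = 0 :=
      quot_hom_ext I ((quotHom_one I _ hn').trans (hval.trans (by
        rw [J.cocomplex.shape p i (by simpa [ComplexShape.up_Rel] using hp)]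
        rfl)))
    rw [extMk_congr' J i h0, J.extMk_zero]

/-- The comparison map from the homology of `Γ_I(J)` to local cohomology. -/
noncomputable def homologyToH : (gammaCx I J).homology i ⟶ (extColim (quotSys I) i).obj M :=
  (CokernelCofork.IsColimit.desc' ((gammaCx I J).homologyIsCokernel
    ((ComplexShape.up ℕ).prev i) i rfl) (cyclesToH I J i) (toCycles_cyclesToH I J i _)).1

theorem homologyπ_homologyToH (z : (gammaCx I J).cycles i) :
    (homologyToH I J i).hom (((gammaCx I J).homologyπ i).hom z) = (cyclesToH I J i).hom z :=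
  congrArg (fun a : (gammaCx I J).cycles i ⟶ (extColim (quotSys I) i).obj M => a.hom z)
    (CokernelCofork.IsColimit.desc' ((gammaCx I J).homologyIsCokernel
      ((ComplexShape.up ℕ).prev i) i rfl) (cyclesToH I J i) (toCycles_cyclesToH I J i _)).2

end

theorem extMk_zero_degree_eq_zero_iff' {M X : ModuleCat.{u} R} (J : InjectiveResolution M)
    (f : X ⟶ J.cocomplex.X 0) (hf : f ≫ J.cocomplex.d 0 1 = 0) :
    J.extMk f 1 rfl hf = 0 ↔ f = 0 := by
  constructor
  · intro h
    rw [← J.extEquivCohomologyClass.apply_eq_iff_eq,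
      InjectiveResolution.extEquivCohomologyClass_extMk,
      InjectiveResolution.extEquivCohomologyClass_zero,
      CochainComplex.HomComplex.CohomologyClass.mk_eq_zero_iff,
      CochainComplex.HomComplex.Cocycle.fromSingleMk_mem_coboundaries_iff _ _ _ _ _ (-1)
        (by lia)] at h
    obtain ⟨g, hg⟩ := h
    have hz : IsZero (J.cochainComplex.X (-1)) :=
      J.cochainComplex.isZero_of_isStrictlyGE 0 (-1) (by lia)
    rw [hz.eq_of_tgt g 0, zero_comp] at hg
    exact (cancel_mono (J.cochainComplexXIso 0 0 rfl).inv).1 (by simpa using hg.symm)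
  · rintro rfl
    exact J.extMk_zero 1 rfl

variable {M : ModuleCat.{u} R} (J : InjectiveResolution M) (i : ℕ)

theorem homologyToH_bijective : Function.Bijective (homologyToH I J i).hom := by
  constructor
  · rw [injective_iff_map_eq_zero]
    intro x hx
    obtain ⟨z, rfl⟩ := (ModuleCat.epi_iff_surjective ((gammaCx I J).homologyπ i)).1 inferInstance x
    obtain ⟨n, hn⟩ := cycleVal_mem I J i z
    rw [homologyπ_homologyToH, cyclesToH_apply I J i z n hn, cls, ι_eq_zero_iff] at hx
    obtain ⟨m, hnm, hx⟩ := hx
    rw [InjectiveResolution.mk₀_comp_extMk] at hx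
    have hinj : Function.Injective ((gammaCx I J).iCycles i).hom :=
      (ModuleCat.mono_iff_injective _).1 inferInstance
    have hone : ((tr (quotSys I) hnm) ≫ quotHom I (cycleVal I J i z) hn).hom (oneCls I m) =
        cycleVal I J i z :=
      (congrArg _ (tr_one I hnm)).trans (quotHom_one I _ hn)
    cases i with
    | zero =>
      have h0 := (extMk_zero_degree_eq_zero_iff' J _ _).1 hx
      have : z = 0 := hinj (Subtype.ext (hone.symm.trans
        ((congrArg (fun a => a.hom (oneCls I m)) h0).trans
          (congrArg Subtype.val (map_zero ((gammaCx I J).iCycles 0).hom)).symm)))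
      rw [this, map_zero]
    | succ p =>
      obtain ⟨g, hg⟩ := (J.extMk_eq_zero_iff _ _ rfl _ p rfl).1 hx
      let w : (gammaCx I J).X p :=
        (⟨g.hom (oneCls I m), m, apply_one_killed I g⟩ : DRing.torsionSub I (J.cocomplex.X p))
      have : z = ((gammaCx I J).toCycles p (p + 1)).hom w := by
        apply hinj
        apply Subtype.ext
        exact (hone.symm.trans (congrArg (fun a => a.hom (oneCls I m)) hg).symm).trans
          (cycleVal_toCycles I J (p + 1) p w).symm
      rw [this]
      exact congrArg (fun a : (gammaCx I J).X p ⟶ (gammaCx I J).homology (p + 1) => a.hom w)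
        ((gammaCx I J).toCycles_comp_homologyπ p (p + 1))
  · intro e
    obtain ⟨n, x, rfl⟩ := exists_rep (quotSys I) i M e
    obtain ⟨f, hf, rfl⟩ := J.extMk_surjective x (i + 1) rfl
    let v : (gammaCx I J).X i :=
      (⟨f.hom (oneCls I n), n, apply_one_killed I f⟩ : DRing.torsionSub I (J.cocomplex.X i))
    let k : ModuleCat.of R R ⟶ (gammaCx I J).X i :=
      ModuleCat.ofHom (LinearMap.toSpanSingleton R _ v)
    have hk : k ≫ (gammaCx I J).d i (i + 1) = 0 := by
      apply ModuleCat.hom_ext
      refine LinearMap.ext fun r => ?_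
      change ((gammaCx I J).d i (i + 1)).hom (r • v) = 0
      have h0 : ((gammaCx I J).d i (i + 1)).hom v = 0 :=
        Subtype.ext (congrArg (fun a => a.hom (oneCls I n)) hf)
      rw [map_smul, h0]
      exact smul_zero (M := R) (show R from r)
    let z := ((gammaCx I J).liftCycles k (i + 1) (CochainComplex.next ℕ i) hk).hom 1
    have hz : cycleVal I J i z = f.hom (oneCls I n) :=
      congrArg Subtype.val ((congrArg (fun a : ModuleCat.of R R ⟶ (gammaCx I J).X i => a.hom 1)
        ((gammaCx I J).liftCycles_i k (i + 1) (CochainComplex.next ℕ i) hk)).trans (one_smul R v))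
    refine ⟨((gammaCx I J).homologyπ i).hom z, ?_⟩
    have hn : ∀ a ∈ I ^ n, a • cycleVal I J i z = 0 := by
      rw [hz]; exact apply_one_killed I f
    rw [homologyπ_homologyToH, cyclesToH_apply I J i z n hn, cls]
    exact congrArg (ι (quotSys I) i M n)
      (extMk_congr' J i (quot_hom_ext I ((quotHom_one I _ hn).trans hz)) _)

theorem homologyToH_naturality {N : ModuleCat.{u} R} {J' : InjectiveResolution N} {f : M ⟶ N}
    (φ : InjectiveResolution.Hom J J' f) (x : (gammaCx I J).homology i) :
    (homologyToH I J' i).hom ((HomologicalComplex.homologyMap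
        (((DRing.gammaI I).mapHomologicalComplex _).map φ.hom) i).hom x) =
      ((extColim (quotSys I) i).map f).hom ((homologyToH I J i).hom x) := by
  obtain ⟨z, rfl⟩ := (ModuleCat.epi_iff_surjective ((gammaCx I J).homologyπ i)).1 inferInstance x
  obtain ⟨n, hn⟩ := cycleVal_mem I J i z
  let z' : (gammaCx I J').cycles i :=
    (HomologicalComplex.cyclesMap (((DRing.gammaI I).mapHomologicalComplex _).map φ.hom) i).hom z
  have e1 : (HomologicalComplex.homologyMap
      (((DRing.gammaI I).mapHomologicalComplex _).map φ.hom) i).hom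
      (((gammaCx I J).homologyπ i).hom z) = ((gammaCx I J').homologyπ i).hom z' :=
    congrArg (fun a : (gammaCx I J).cycles i ⟶ (gammaCx I J').homology i => a.hom z)
      (HomologicalComplex.homologyπ_naturality _ i)
  have hval : cycleVal I J' i z' = (φ.hom.f i).hom (cycleVal I J i z) :=
    congrArg Subtype.val
      (congrArg (fun a : (gammaCx I J).cycles i ⟶ (gammaCx I J').X i => a.hom z)
        (HomologicalComplex.cyclesMap_i (((DRing.gammaI I).mapHomologicalComplex _).map φ.hom) i))
  have hn' : ∀ a ∈ I ^ n, a • cycleVal I J' i z' = 0 := fun a ha => by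
    rw [hval, ← map_smul, hn a ha, map_zero]
  rw [e1, homologyπ_homologyToH, homologyπ_homologyToH, cyclesToH_apply I J i z n hn,
    cyclesToH_apply I J' i z' n hn', cls, cls, map_ι, InjectiveResolution.extMk_comp_mk₀ _ _ _ _ φ]
  exact congrArg (ι (quotSys I) i N n) (extMk_congr' J' i (quot_hom_ext I
    ((quotHom_one I _ hn').trans (hval.trans
      (congrArg (φ.hom.f i).hom (quotHom_one I _ hn)).symm))) _)

/-- `R^iΓ_I(M) ≅ H^i_I(M)`, from the chosen injective resolution. -/
noncomputable def rightDerivedAppIso (M : ModuleCat.{u} R) (i : ℕ) :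
    ((DRing.gammaI I).rightDerived i).obj M ≅ (localCohomology I i).obj M :=
  (injectiveResolution M).isoRightDerivedObj (DRing.gammaI I) i ≪≫
    (LinearEquiv.ofBijective (homologyToH I (injectiveResolution M) i).hom
      (homologyToH_bijective I _ i)).toModuleIso

/-- `R^iΓ_I ≅ H^i_I`. -/
noncomputable def rightDerivedIso (i : ℕ) :
    (DRing.gammaI I).rightDerived i ≅ localCohomology I i :=
  NatIso.ofComponents (fun M => rightDerivedAppIso I M i) fun {M N} f => by
    apply ModuleCat.hom_ext
    refine LinearMap.ext fun x => ?_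
    let φ : InjectiveResolution.Hom (injectiveResolution M) (injectiveResolution N) f :=
      { hom := InjectiveResolution.desc f (injectiveResolution N) (injectiveResolution M)
        ι_f_zero_comp_hom_f_zero :=
          (InjectiveResolution.desc_commutes_zero f _ _).trans (by rfl) }
    have h := InjectiveResolution.isoRightDerivedObj_hom_naturality f (injectiveResolution M)
      (injectiveResolution N) φ.hom φ.ι_f_zero_comp_hom_f_zero (DRing.gammaI I) i
    exact (congrArg (homologyToH I (injectiveResolution N) i).hom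
      (congrArg (fun a => a.hom x) h)).trans (homologyToH_naturality I _ i φ _)

end Groth.Agent.H4LC
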