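import Mathlib.RingTheory.Ideal.KrullsHeightTheorem
import Mathlib.RingTheory.KrullDimension.Basic
import Mathlib.RingTheory.KrullDimension.NonZeroDivisors

/-!
# Primes of coheight one avoiding an element
-/

set_option autoImplicit false

universe u

open IsLocalRing

namespace Groth.Agent.H4LC

theorem ringKrullDim_le_one_of_mem_all_nonzero_primes {D : Type u} [CommRing D] [IsDomain D]
    [IsLocalRing D] [IsNoetherianRing D] {f : D} (hf : f ∈ maximalIdeal D) (hf0 : f ≠ 0)
    (hall : ∀ Q : Ideal D, Q.IsPrime → Q ≠ ⊥ → f ∈ Q) : ringKrullDim D ≤ 1 := by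
  rw [← maximalIdeal_height_eq_ringKrullDim]
  have hsp : Ideal.span {f} ≤ maximalIdeal D := (Ideal.span_singleton_le_iff_mem _).mpr hf
  have key : maximalIdeal D ∈ (Ideal.span {f}).minimalPrimes := by
    by_contra hne
    have hfin := (Ideal.span {f}).finite_minimalPrimes_of_isNoetherianRing
    have hnot : ¬ ((maximalIdeal D : Ideal D) : Set D) ⊆ ⋃ P ∈ (hfin.toFinset : Set (Ideal D)), (P : Set D) := by
      rw [Ideal.subset_union_prime (f := fun P => P) ⊥ ⊥
        (fun P hP _ _ => (hfin.mem_toFinset.mp hP).isPrime)]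
      rintro ⟨P, hP, hle⟩
      have hP' := hfin.mem_toFinset.mp hP
      exact hne (le_antisymm hle (le_maximalIdeal hP'.isPrime.ne_top) ▸ hP')
    obtain ⟨g, hg, hgn⟩ := Set.not_subset.mp hnot
    simp only [Set.mem_iUnion, not_exists, Finset.mem_coe, hfin.mem_toFinset] at hgn
    obtain ⟨Q, hQ, -⟩ := Ideal.exists_minimalPrimes_le ((Ideal.span_singleton_le_iff_mem _).mpr hg)
    have := hQ.isPrime
    have hQ1 := Ideal.height_le_one_of_isPrincipal_of_mem_minimalPrimes (Ideal.span {g}) Q hQ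
    have hgQ : g ∈ Q := hQ.1.2 (Ideal.mem_span_singleton_self g)
    obtain ⟨P₀, hP₀, -⟩ := Ideal.exists_minimalPrimes_le hsp
    have hQ0 : Q ≠ ⊥ := by
      rintro rfl
      rw [Ideal.mem_bot] at hgQ
      exact hgn P₀ hP₀ (hgQ ▸ zero_mem _)
    obtain ⟨P, hP, hPQ⟩ := Ideal.exists_minimalPrimes_le
      ((Ideal.span_singleton_le_iff_mem _).mpr (hall Q ‹_› hQ0))
    have := hP.isPrime
    refine hgn P hP ?_
    by_contra hgP
    have hlt : P < Q := lt_of_le_of_ne hPQ fun e => hgP (e ▸ hgQ)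
    have h := (Ideal.height_strict_mono_of_isPrime_of_isPrime hlt).trans_le hQ1
    rw [Order.lt_one_iff, Ideal.height_eq_zero_iff_eq_bot] at h
    subst h
    exact hf0 (by simpa using hP.1.2 (Ideal.mem_span_singleton_self f))
  have h := Ideal.height_le_one_of_isPrincipal_of_mem_minimalPrimes (Ideal.span {f}) _ key
  exact_mod_cast h

theorem exists_prime_dim_one_not_mem {S : Type u} [CommRing S] [IsLocalRing S] [IsNoetherianRing S]
    {f : S} (hf : f ∈ maximalIdeal S) (hnil : ¬ IsNilpotent f) :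
    ∃ P : Ideal S, ∃ _ : P.IsPrime, f ∉ P ∧ ringKrullDim (S ⧸ P) = 1 := by
  rw [← mem_nilradical, nilradical_eq_sInf, Submodule.mem_sInf] at hnil
  push Not at hnil
  obtain ⟨P₀, hP₀, hfP₀⟩ := hnil
  obtain ⟨P, ⟨hP, hfP⟩, hmax⟩ := set_has_maximal_iff_noetherian.2 inferInstance
    {P : Ideal S | P.IsPrime ∧ f ∉ P} ⟨P₀, hP₀, hfP₀⟩
  have := hP
  refine ⟨P, hP, hfP, ?_⟩
  have : IsLocalRing (S ⧸ P) := .of_surjective' (Ideal.Quotient.mk P) Ideal.Quotient.mk_surjective
  have hfm : Ideal.Quotient.mk P f ∈ maximalIdeal (S ⧸ P) := by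
    rw [mem_maximalIdeal, mem_nonunits_iff]
    intro hu
    have : IsLocalHom (Ideal.Quotient.mk P) :=
      .of_surjective _ Ideal.Quotient.mk_surjective
    exact (mem_nonunits_iff.mp ((mem_maximalIdeal f).mp hf))
      ((isUnit_map_iff (Ideal.Quotient.mk P) f).mp hu)
  have hf0 : Ideal.Quotient.mk P f ≠ 0 := by rwa [Ne, Ideal.Quotient.eq_zero_iff_mem]
  refine le_antisymm (ringKrullDim_le_one_of_mem_all_nonzero_primes hfm hf0 fun Q hQ hQ0 => ?_) ?_
  · by_contra hfQ
    refine hQ0 ?_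
    have hle : P ≤ Q.comap (Ideal.Quotient.mk P) := fun x hx => by
      simp [Ideal.Quotient.eq_zero_iff_mem.mpr hx]
    have he : P = Q.comap (Ideal.Quotient.mk P) :=
      hle.eq_or_lt.resolve_right (hmax _ ⟨Ideal.comap_isPrime _ Q, hfQ⟩)
    rw [← Ideal.map_comap_of_surjective _ Ideal.Quotient.mk_surjective Q, ← he, Ideal.map_quotient_self]
  · have hne : maximalIdeal (S ⧸ P) ≠ ⊥ := fun e => hf0 (by simpa [e] using hfm)
    rw [← maximalIdeal_height_eq_ringKrullDim]
    exact_mod_cast Order.one_le_iff_ne_zero.mpr fun e => hne (Ideal.height_eq_zero_iff_eq_bot.mp e)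

end Groth.Agent.H4LC
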