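import Groth.Agent.H4LC.HomResolution

/-!
# Layers of the torsion cocycles of `Hom(D, J)`

`H^i_a(M)` is filtered with layers subquotients of the modules `H^{i+c}(Γ_a Hom(E^c, J))`.
-/

set_option autoImplicit false
set_option linter.unusedSectionVars false

universe u

open CategoryTheory

namespace Groth.Agent.H4LC

variable {S : Type u} [CommRing S] [IsNoetherianRing S] (a : Ideal S)

theorem mem_torsionSub_of_forall {Y X : Type u} [AddCommGroup Y] [Module S Y] [Module.Finite S Y]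
    [AddCommGroup X] [Module S X] {f : Y →ₗ[S] X} (hf : ∀ y, f y ∈ DRing.torsionSub a X) :
    f ∈ DRing.torsionSub a (Y →ₗ[S] X) := by
  obtain ⟨n, π, hπ⟩ := Module.Finite.exists_fin' S Y
  choose e he using fun i : Fin n => hf (π (Pi.single i 1))
  refine ⟨∑ i, e i, fun r hr => LinearMap.ext fun y => ?_⟩
  obtain ⟨v, rfl⟩ := hπ y
  change (r • (f ∘ₗ π)) v = 0
  rw [LinearMap.pi_ext' (f := r • (f ∘ₗ π)) (g := 0) fun i => LinearMap.ext_ring ?_,
    LinearMap.zero_apply]
  exact he i r (Ideal.pow_le_pow_right (Finset.single_le_sum (fun _ _ => Nat.zero_le _)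
    (Finset.mem_univ i)) hr)

theorem apply_mem_torsionSub {Y X : Type u} [AddCommGroup Y] [Module S Y] [AddCommGroup X]
    [Module S X] {f : Y →ₗ[S] X} (hf : f ∈ DRing.torsionSub a (Y →ₗ[S] X)) (y : Y) :
    f y ∈ DRing.torsionSub a X :=
  DRing.map_mem_torsionSub a (LinearMap.applyₗ y) hf

/-- Extension of torsion valued maps into an injective module. -/
theorem exists_torsion_extension {X Y E : Type u} [AddCommGroup X] [Module S X] [AddCommGroup Y]
    [Module S Y] [Module.Finite S Y] [AddCommGroup E] [Module S E] (hE : Module.Injective S E)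
    (ι : X →ₗ[S] Y) (hι : Function.Injective ι) (g : X →ₗ[S] E)
    (hg : ∀ x, g x ∈ DRing.torsionSub a E) :
    ∃ h ∈ DRing.torsionSub a (Y →ₗ[S] E), h ∘ₗ ι = g := by
  obtain ⟨h, hh⟩ := Module.Injective.extension_property (inj := injective_torsionSub a E hE)
    S _ X Y ι hι (g.codRestrict _ hg)
  exact ⟨(DRing.torsionSub a E).subtype ∘ₗ h, mem_torsionSub_of_forall a fun y => (h y).2,
    LinearMap.ext fun x => congrArg Subtype.val (LinearMap.congr_fun hh x)⟩

variable (J : RingRes S)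

/-- Cocycles of `Γ_a Hom(E, J)`. -/
noncomputable def homZ (E : Type u) [AddCommGroup E] [Module S E] (k : ℕ) :
    Submodule S (E →ₗ[S] resX S J k) :=
  LinearMap.ker (LinearMap.llcomp S E (resX S J k) (resX S J (k + 1)) (resD S J k)) ⊓
    DRing.torsionSub a (E →ₗ[S] resX S J k)

/-- Coboundaries of `Γ_a Hom(E, J)`. -/
noncomputable def homB (E : Type u) [AddCommGroup E] [Module S E] :
    ∀ k, Submodule S (E →ₗ[S] resX S J k)
  | 0 => ⊥
  | k + 1 => (DRing.torsionSub a (E →ₗ[S] resX S J k)).map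
      (LinearMap.llcomp S E (resX S J k) (resX S J (k + 1)) (resD S J k))

theorem mem_homZ_iff {E : Type u} [AddCommGroup E] [Module S E] {k : ℕ}
    {f : E →ₗ[S] resX S J k} : f ∈ homZ a J E k ↔
      resD S J k ∘ₗ f = 0 ∧ f ∈ DRing.torsionSub a (E →ₗ[S] resX S J k) := Iff.rfl

theorem mem_homB_succ_iff {E : Type u} [AddCommGroup E] [Module S E] {k : ℕ}
    {f : E →ₗ[S] resX S J (k + 1)} : f ∈ homB a J E (k + 1) ↔
      ∃ g ∈ DRing.torsionSub a (E →ₗ[S] resX S J k), resD S J k ∘ₗ g = f := Iff.rfl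

theorem homB_le_homZ (E : Type u) [AddCommGroup E] [Module S E] (k : ℕ) :
    homB a J E k ≤ homZ a J E k := by
  cases k with
  | zero => exact bot_le
  | succ k =>
    rintro _ ⟨g, hg, rfl⟩
    refine ⟨LinearMap.ext fun x => (exact_resD S J k).apply_apply_eq_zero (g x),
      DRing.map_mem_torsionSub a _ hg⟩

namespace DualRes

variable {M : Type u} [AddCommGroup M] [Module S M] (P : DualRes S M) [P.Bounded] (i : ℕ)

/-- Torsion cocycles whose components vanish below `c`. -/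
noncomputable def layer (c : ℕ) : Submodule S (P.torCyc J a (i : ℤ)) where
  carrier := {φ | ∀ c' < c, ∀ k, φ.1 c' k = 0}
  zero_mem' _ _ _ := rfl
  add_mem' {φ ψ} h h' c' hc k := by
    change φ.1 c' k + ψ.1 c' k = 0
    rw [h c' hc k, h' c' hc k, add_zero]
  smul_mem' r φ h c' hc k := by
    change r • φ.1 c' k = 0
    rw [h c' hc k, smul_zero]

theorem layer_apply_bd (c : ℕ) (φ : P.layer a J i c) {z : P.D c} (hz : z ∈ P.Bd c) :
    φ.1.1 c (i + c) z = 0 := by
  cases c with
  | zero => rw [(Submodule.mem_bot _).1 hz, map_zero]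
  | succ c =>
    obtain ⟨x, rfl⟩ := hz
    have h : P.δW J φ.1.1 c (i + c + 1) x = 0 := by
      rw [show P.δW J φ.1.1 = 0 from φ.1.2.1.2]; rfl
    rw [δW_succ, φ.2 c c.lt_succ_self, LinearMap.comp_zero, smul_zero, zero_add] at h
    exact h

/-- The bottom component of a layer element, on cohomology. -/
noncomputable def bottom (c : ℕ) : P.layer a J i c →ₗ[S] (P.E c →ₗ[S] resX S J (i + c)) where
  toFun φ := Submodule.liftQ _ (φ.1.1 c (i + c) ∘ₗ (LinearMap.ker (P.d c)).subtype)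
    fun _ hz => P.layer_apply_bd a J i c φ hz
  map_add' φ ψ := Submodule.linearMap_qext _ (LinearMap.ext fun _ => rfl)
  map_smul' r φ := Submodule.linearMap_qext _ (LinearMap.ext fun _ => rfl)

theorem bottom_mk (c : ℕ) (φ : P.layer a J i c) (z : LinearMap.ker (P.d c)) :
    P.bottom a J i c φ (Submodule.Quotient.mk z) = φ.1.1 c (i + c) z.1 := rfl

theorem bottom_mem_homZ (c : ℕ) (φ : P.layer a J i c) :
    P.bottom a J i c φ ∈ homZ a J (P.E c) (i + c) := by
  refine (mem_homZ_iff a J).2 ⟨Submodule.linearMap_qext _ (LinearMap.ext fun z => ?_),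
    DRing.map_mem_torsionSub a (m := φ) (P.bottom a J i c) ?_⟩
  · have h : P.δW J φ.1.1 c (i + c + 1) z.1 = 0 := by
      rw [show P.δW J φ.1.1 = 0 from φ.1.2.1.2]; rfl
    rw [δW_succ, LinearMap.add_apply, LinearMap.comp_apply (φ.1.1 (c + 1) (i + c + 1)),
      LinearMap.mem_ker.1 z.2, map_zero, add_zero, LinearMap.smul_apply] at h
    exact (IsUnit.smul_eq_zero (isUnit_neg_one.pow c)).1 h
  · obtain ⟨e, he⟩ := φ.1.2.2
    exact ⟨e, fun r hr => Subtype.ext (Subtype.ext (he r hr))⟩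

variable {Φ : P.torCyc J a (i : ℤ) →ₗ[S] LocCoh.H a i M}
  (hΦ : ∀ (φ : P.torCyc J a (i : ℤ)) (ψ : P.HomW J), ψ ∈ P.deg J ((i : ℤ) - 1) →
    ψ ∈ DRing.torsionSub a (P.HomW J) → P.δW J ψ = φ.1 → Φ φ = 0)

include hΦ in
theorem exists_kills_ker (c : ℕ) (φ : P.layer a J i c)
    (h : P.bottom a J i c φ ∈ homB a J (P.E c) (i + c)) :
    ∃ φ' : P.layer a J i c, Φ φ'.1 = Φ φ.1 ∧ ∀ z ∈ LinearMap.ker (P.d c), φ'.1.1 c (i + c) z = 0 := by
  obtain ⟨k, hk⟩ : ∃ k, i + c = k := ⟨_, rfl⟩
  rcases k with _ | k₀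
  · refine ⟨φ, rfl, fun z hz => ?_⟩
    have h0 : P.bottom a J i c φ = 0 := by
      revert h
      generalize P.bottom a J i c φ = f
      revert f
      rw [hk]
      exact fun f hf => (Submodule.mem_bot S).1 hf
    rw [← P.bottom_mk a J i c φ ⟨z, hz⟩, h0, LinearMap.zero_apply]
  · have key : ∀ (k : ℕ) (f : P.E c →ₗ[S] resX S J k), k = k₀ + 1 → f ∈ homB a J (P.E c) k →
        (∀ z : LinearMap.ker (P.d c), f (Submodule.Quotient.mk z) = φ.1.1 c k z.1) →
        ∃ φ' : P.layer a J i c, Φ φ'.1 = Φ φ.1 ∧ ∀ z ∈ LinearMap.ker (P.d c), φ'.1.1 c k z = 0 := by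
      rintro k f rfl hf hfz
      obtain ⟨g, hg, hgf⟩ := (mem_homB_succ_iff a J).1 hf
      obtain ⟨g', hg', hgg'⟩ := exists_torsion_extension a (injective_resX S J k₀)
        (LinearMap.ker (P.d c)).subtype Subtype.val_injective
        (g ∘ₗ Submodule.mkQ _) fun x => apply_mem_torsionSub a hg _
      let χ := ((-1 : S) ^ c) • g'
      let ψ := P.sgl J c k₀ χ
      have hψ : ψ ∈ P.deg J ((i : ℤ) - 1) := P.sgl_mem_deg J (by omega) χ
      have hψt : ψ ∈ DRing.torsionSub a (P.HomW J) :=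
        DRing.map_mem_torsionSub a (P.sgl J c k₀) (Submodule.smul_mem _ _ hg')
      let φ₁ : P.torCyc J a (i : ℤ) :=
        φ.1 - ⟨P.δW J ψ, P.δW_mem_torCyc J a (by omega) hψ hψt⟩
      refine ⟨⟨φ₁, fun c' hc' l => ?_⟩, ?_, fun z hz => ?_⟩
      · change φ.1.1 c' l - P.δW J ψ c' l = 0
        rw [φ.2 c' hc', zero_sub, neg_eq_zero]
        simp only [ψ]
        rcases l with _ | l
        · rw [δW_zero]
          by_cases hcc : c' + 1 = c ∧ k₀ = 0
          · obtain ⟨rfl, rfl⟩ := hcc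
            refine LinearMap.ext fun x => ?_
            rw [LinearMap.comp_apply, sgl_same, LinearMap.smul_apply]
            have h1 := LinearMap.congr_fun hgg' ⟨P.d c' x, P.d_d c' x⟩
            rw [LinearMap.comp_apply, LinearMap.comp_apply, Submodule.mkQ_apply,
              (Submodule.Quotient.mk_eq_zero
                ((P.Bd (c' + 1)).comap (LinearMap.ker (P.d (c' + 1))).subtype)).2 ⟨x, rfl⟩, map_zero] at h1
            exact (congrArg _ h1).trans (smul_zero _)
          · rw [P.sgl_ne J χ (by omega : c' + 1 ≠ c ∨ 0 ≠ k₀), LinearMap.zero_comp]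
        · rw [δW_succ, P.sgl_ne J χ (Or.inl (by omega) : c' ≠ c ∨ l ≠ k₀), LinearMap.comp_zero,
            smul_zero, zero_add]
          by_cases hcc : c' + 1 = c ∧ l + 1 = k₀
          · obtain ⟨rfl, rfl⟩ := hcc
            refine LinearMap.ext fun x => ?_
            rw [LinearMap.comp_apply, sgl_same, LinearMap.smul_apply]
            have h1 := LinearMap.congr_fun hgg' ⟨P.d c' x, P.d_d c' x⟩
            rw [LinearMap.comp_apply, LinearMap.comp_apply, Submodule.mkQ_apply,
              (Submodule.Quotient.mk_eq_zero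
                ((P.Bd (c' + 1)).comap (LinearMap.ker (P.d (c' + 1))).subtype)).2 ⟨x, rfl⟩, map_zero] at h1
            exact (congrArg _ h1).trans (smul_zero _)
          · rw [P.sgl_ne J χ (by omega : c' + 1 ≠ c ∨ l + 1 ≠ k₀), LinearMap.zero_comp]
      · rw [map_sub, hΦ ⟨P.δW J ψ, P.δW_mem_torCyc J a (by omega) hψ hψt⟩ ψ hψ hψt rfl, sub_zero]
      · change φ.1.1 c (k₀ + 1) z - P.δW J ψ c (k₀ + 1) z = 0
        simp only [ψ]
        rw [δW_succ, sgl_same, P.sgl_ne J χ (Or.inl (by omega) : c + 1 ≠ c ∨ k₀ + 1 ≠ k₀),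
          LinearMap.zero_comp, add_zero, LinearMap.comp_smul, smul_smul, ← mul_pow, neg_one_mul,
          neg_neg, one_pow, one_smul, LinearMap.comp_apply, sub_eq_zero,
          show g' z = g (Submodule.Quotient.mk ⟨z, hz⟩) from LinearMap.congr_fun hgg' ⟨z, hz⟩,
          ← hfz ⟨z, hz⟩]
        exact (LinearMap.congr_fun hgf _).symm
    exact key _ _ hk h fun z => rfl

include hΦ in
/-- A layer element with exact bottom component moves to the next layer. -/
theorem exists_next_layer (c : ℕ) (φ : P.layer a J i c)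
    (h : P.bottom a J i c φ ∈ homB a J (P.E c) (i + c)) :
    ∃ φ' : P.layer a J i (c + 1), Φ φ'.1 = Φ φ.1 := by
  obtain ⟨φ₁, h₁, hker⟩ := P.exists_kills_ker a J i hΦ c φ h
  have htor : ∀ x, (LinearMap.ker (P.d c)).liftQ (φ₁.1.1 c (i + c))
      (fun z hz => hker z hz) x ∈ DRing.torsionSub a (resX S J (i + c)) := fun x => by
    obtain ⟨y, rfl⟩ := Submodule.Quotient.mk_surjective _ x
    obtain ⟨e, he⟩ := φ₁.1.2.2
    exact ⟨e, fun r hr => LinearMap.congr_fun (congrFun (congrFun (he r hr) c) (i + c)) y⟩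
  obtain ⟨g, hg, hgd⟩ := exists_torsion_extension a (injective_resX S J (i + c))
    ((LinearMap.ker (P.d c)).liftQ (P.d c) le_rfl)
    (LinearMap.ker_eq_bot.1 (Submodule.ker_liftQ_eq_bot _ _ _ le_rfl)) _ htor
  let ψ := P.sgl J (c + 1) (i + c) g
  have hψ : ψ ∈ P.deg J ((i : ℤ) - 1) := P.sgl_mem_deg J (by push_cast; ring) g
  have hψt : ψ ∈ DRing.torsionSub a (P.HomW J) :=
    DRing.map_mem_torsionSub a (P.sgl J (c + 1) (i + c)) hg
  refine ⟨⟨φ₁.1 - ⟨P.δW J ψ, P.δW_mem_torCyc J a (by omega) hψ hψt⟩, fun c' hc' l => ?_⟩, ?_⟩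
  · change φ₁.1.1 c' l - P.δW J ψ c' l = 0
    by_cases hcl : c' = c ∧ l = i + c
    · obtain ⟨rfl, rfl⟩ := hcl
      have hd : g ∘ₗ P.d c' = φ₁.1.1 c' (i + c') := LinearMap.ext fun x =>
        LinearMap.congr_fun hgd (Submodule.Quotient.mk x)
      rw [sub_eq_zero]
      obtain ⟨k, hk⟩ : ∃ k, i + c' = k := ⟨_, rfl⟩
      rw [← hd]
      clear hgd hd hψ hψt
      revert g
      rw [hk]
      intro g _ ψ
      simp only [ψ]
      rcases k with _ | k
      · rw [δW_zero, sgl_same]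
      · rw [δW_succ, P.sgl_ne J g (Or.inl (by omega) : c' ≠ c' + 1 ∨ k ≠ k + 1), sgl_same,
          LinearMap.comp_zero, smul_zero, zero_add]
    · have hz : φ₁.1.1 c' l = 0 := by
        rcases Nat.lt_succ_iff_lt_or_eq.1 hc' with h | rfl
        · exact φ₁.2 c' h l
        · exact φ₁.1.2.1.1 c' l (by omega)
      rw [hz, zero_sub, neg_eq_zero]
      simp only [ψ]
      rcases l with _ | l
      · rw [δW_zero, P.sgl_ne J g (by omega : c' + 1 ≠ c + 1 ∨ 0 ≠ i + c), LinearMap.zero_comp]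
      · rw [δW_succ, P.sgl_ne J g (Or.inl (by omega) : c' ≠ c + 1 ∨ l ≠ i + c),
          P.sgl_ne J g (by omega : c' + 1 ≠ c + 1 ∨ l + 1 ≠ i + c), LinearMap.comp_zero,
          LinearMap.zero_comp, smul_zero, add_zero]
  · rw [← h₁, map_sub, hΦ ⟨P.δW J ψ, P.δW_mem_torCyc J a (by omega) hψ hψt⟩ ψ hψ hψt rfl,
      sub_zero]

theorem layer_eq_zero {c : ℕ} (hc : P.len < c) (φ : P.layer a J i c) : φ = 0 :=
  Subtype.ext <| Subtype.ext <| funext fun c' => funext fun k => by
    by_cases h : c' < c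
    · exact φ.2 c' h k
    · exact P.apply_eq_zero_of_lt J _ (by omega) k

/-- Finiteness passes through the layers. -/
theorem finite_H (h : ∀ c, ((homZ a J (P.E c) (i + c)).map (homB a J (P.E c) (i + c)).mkQ).FG) :
    Module.Finite S (LocCoh.H a i M) := by
  obtain ⟨Φ, hsurj, hΦ⟩ := P.exists_surjective_H J a i
  suffices key : ∀ t c, P.len < c + t → ((P.layer a J i c).map Φ).FG by
    have h0 := key (P.len + 1) 0 (by omega)
    rw [show P.layer a J i 0 = ⊤ from eq_top_iff.2 fun φ _ c' hc' => absurd hc' c'.not_lt_zero,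
      Submodule.map_top, LinearMap.range_eq_top.2 hsurj] at h0
    exact ⟨h0⟩
  intro t
  induction t with
  | zero =>
    intro c hc
    rw [show P.layer a J i c = ⊥ from (Submodule.eq_bot_iff _).2 fun φ hφ =>
      congrArg Subtype.val (P.layer_eq_zero a J i (by omega) ⟨φ, hφ⟩), Submodule.map_bot]
    exact Submodule.fg_bot
  | succ t ih =>
    intro c hc
    let χ := (homB a J (P.E c) (i + c)).mkQ ∘ₗ P.bottom a J i c
    have hfg : (LinearMap.range χ).FG := by
      have := isNoetherian_of_fg_of_noetherian _ (h c)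
      refine (isNoetherian_submodule.1 this) _ ?_
      rintro _ ⟨φ, rfl⟩
      exact Submodule.mem_map_of_mem (P.bottom_mem_homZ a J i c φ)
    obtain ⟨n, v, hv⟩ := Submodule.fg_iff_exists_fin_generating_family.1 hfg
    have hmem : ∀ j, v j ∈ LinearMap.range χ := fun j => hv ▸ Submodule.subset_span ⟨j, rfl⟩
    choose s hs using hmem
    have heq : (P.layer a J i c).map Φ =
        Submodule.span S (Set.range fun j => Φ (s j).1) ⊔ (P.layer a J i (c + 1)).map Φ := by
      refine le_antisymm ?_ (sup_le (Submodule.span_le.2 ?_) (Submodule.map_mono fun φ hφ c' hc' =>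
        hφ c' (hc'.trans c.lt_succ_self)))
      · rintro _ ⟨φ, hφ, rfl⟩
        obtain ⟨r, hr⟩ := (Submodule.mem_span_range_iff_exists_fun S).1
          (hv.ge (LinearMap.mem_range_self χ ⟨φ, hφ⟩))
        let φ₁ : P.layer a J i c := ⟨φ, hφ⟩ - ∑ j, r j • s j
        have hb : P.bottom a J i c φ₁ ∈ homB a J (P.E c) (i + c) := by
          rw [← Submodule.Quotient.mk_eq_zero (homB a J (P.E c) (i + c))]
          change χ φ₁ = 0
          rw [show χ φ₁ = χ ⟨φ, hφ⟩ - χ (∑ j, r j • s j) from map_sub χ _ _, map_sum, sub_eq_zero, ← hr]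
          exact Finset.sum_congr rfl fun j _ => by rw [map_smul, hs]
        obtain ⟨φ₂, hφ₂⟩ := P.exists_next_layer a J i hΦ c φ₁ hb
        have : Φ φ = ∑ j, r j • Φ (s j).1 + Φ φ₂.1 := by
          rw [hφ₂]
          simp [φ₁, map_sub, map_sum]
        rw [this]
        exact Submodule.add_mem_sup (Submodule.sum_mem _ fun j _ =>
          Submodule.smul_mem _ _ (Submodule.subset_span ⟨j, rfl⟩)) (Submodule.mem_map_of_mem φ₂.2)
      · rintro _ ⟨j, rfl⟩
        exact Submodule.mem_map_of_mem (s j).2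
    rw [heq]
    exact (Submodule.fg_span (Set.finite_range _)).sup (ih (c + 1) (by omega))

/-- Annihilation passes through the layers. -/
theorem exists_pow_smul_H_eq_zero (β : S)
    (h' : ∀ c, ∃ N : ℕ, ∀ f ∈ homZ a J (P.E c) (i + c), β ^ N • f ∈ homB a J (P.E c) (i + c)) :
    ∃ K : ℕ, ∀ z : LocCoh.H a i M, β ^ K • z = 0 := by
  obtain ⟨Φ, hsurj, hΦ⟩ := P.exists_surjective_H J a i
  suffices key : ∀ t c, P.len < c + t → ∃ K : ℕ, ∀ φ : P.layer a J i c, β ^ K • Φ φ.1 = 0 by
    obtain ⟨K, hK⟩ := key (P.len + 1) 0 (by omega)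
    refine ⟨K, fun z => ?_⟩
    obtain ⟨φ, rfl⟩ := hsurj z
    exact hK ⟨φ, fun c' hc' => absurd hc' c'.not_lt_zero⟩
  intro t
  induction t with
  | zero => exact fun c hc => ⟨0, fun φ => by simp [P.layer_eq_zero a J i (by omega) φ]⟩
  | succ t ih =>
    intro c hc
    obtain ⟨K, hK⟩ := ih (c + 1) (by omega)
    obtain ⟨N, hN⟩ := h' c
    refine ⟨K + N, fun φ => ?_⟩
    obtain ⟨φ', hφ'⟩ := P.exists_next_layer a J i hΦ c (β ^ N • φ) (by
      rw [map_smul]; exact hN _ (P.bottom_mem_homZ a J i c φ))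
    rw [pow_add, mul_smul, ← map_smul, ← map_smul, ← Submodule.coe_smul, map_smul, ← hφ']
    exact hK φ'

end DualRes

end Groth.Agent.H4LC
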