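import Groth.Agent.H4LC.RegularPDBound
import Mathlib.LinearAlgebra.Dual.Lemmas
import Mathlib.Algebra.Module.FinitePresentation

/-!
# Dual of a finite projective resolution

For a finite module `M` of finite projective dimension we record the cochain complex
`D = Hom(F, S)` of a finite projective resolution `F → M`, together with the exactness of `F`.
Its cohomology modules `E c` play the role of `Ext^c(M, S)`.
-/

set_option autoImplicit false
set_option linter.unusedSectionVars false

universe u

open CategoryTheory

namespace Groth.Agent.H4LC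

variable {S : Type u} [CommRing S]

/-- The dual of a finite resolution of `M` by finite projective modules. -/
structure DualRes (S : Type u) [CommRing S] (M : Type u) [AddCommGroup M] [Module S M] where
  /-- The terms. -/
  D : ℕ → ModuleCat.{u} S
  finite : ∀ c, Module.Finite S (D c)
  projective : ∀ c, Module.Projective S (D c)
  /-- The differentials. -/
  d : ∀ c, D c →ₗ[S] D (c + 1)
  d_d : ∀ c (x : D c), d (c + 1) (d c x) = 0
  exact : ∀ c (f : D (c + 1) →ₗ[S] S), f ∘ₗ d c = 0 →
    ∃ g : D (c + 2) →ₗ[S] S, g ∘ₗ d (c + 1) = f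
  /-- The augmentation. -/
  ε : (D 0 →ₗ[S] S) →ₗ[S] M
  ε_surjective : Function.Surjective ε
  ε_ker : ∀ f, ε f = 0 ↔ ∃ g : D 1 →ₗ[S] S, g ∘ₗ d 0 = f

namespace DualRes

attribute [instance] DualRes.finite DualRes.projective

/-- The complex vanishes in large degrees. -/
class Bounded {M : Type u} [AddCommGroup M] [Module S M] (P : DualRes S M) : Prop where
  exists_bound : ∃ n, ∀ c, n < c → Subsingleton (P.D c)

variable {M : Type u} [AddCommGroup M] [Module S M] (P : DualRes S M)

/-- Coboundaries. -/
def Bd : ∀ c, Submodule S (P.D c)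
  | 0 => ⊥
  | c + 1 => LinearMap.range (P.d c)

theorem Bd_le_ker (c : ℕ) : P.Bd c ≤ LinearMap.ker (P.d c) := by
  cases c with
  | zero => exact bot_le
  | succ c =>
    rintro _ ⟨x, rfl⟩
    exact P.d_d c x

/-- The cohomology of the dual complex. -/
abbrev E (c : ℕ) : Type u :=
  LinearMap.ker (P.d c) ⧸ (P.Bd c).comap (LinearMap.ker (P.d c)).subtype

theorem subsingleton_E_iff (c : ℕ) :
    Subsingleton (P.E c) ↔ LinearMap.ker (P.d c) ≤ P.Bd c := by
  rw [Submodule.Quotient.subsingleton_iff, eq_top_iff]
  exact ⟨fun h z hz => h (show (⟨z, hz⟩ : LinearMap.ker (P.d c)) ∈ ⊤ from trivial),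
    fun h z _ => h z.2⟩

/-- A bound for the length of a bounded dual resolution. -/
noncomputable def len [P.Bounded] : ℕ := (Bounded.exists_bound (P := P)).choose

theorem subsingleton [P.Bounded] (c : ℕ) (hc : P.len < c) : Subsingleton (P.D c) :=
  (Bounded.exists_bound (P := P)).choose_spec c hc

theorem subsingleton_E_of_lt [P.Bounded] {c : ℕ} (hc : P.len < c) : Subsingleton (P.E c) := by
  have := P.subsingleton c hc
  exact (P.subsingleton_E_iff c).2 fun z _ => Subsingleton.elim 0 z ▸ zero_mem _

theorem notMem_support_E_iff (c : ℕ) (p : PrimeSpectrum S) :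
    p ∉ Module.support S (P.E c) ↔
      ∀ z ∈ LinearMap.ker (P.d c), ∃ t ∉ p.asIdeal, t • z ∈ P.Bd c := by
  rw [Module.notMem_support_iff']
  constructor
  · intro h z hz
    obtain ⟨t, ht, h0⟩ := h (Submodule.Quotient.mk ⟨z, hz⟩)
    rw [← Submodule.Quotient.mk_smul, Submodule.Quotient.mk_eq_zero] at h0
    exact ⟨t, ht, h0⟩
  · intro h x
    obtain ⟨⟨z, hz⟩, rfl⟩ := Submodule.Quotient.mk_surjective _ x
    obtain ⟨t, ht, h0⟩ := h z hz
    refine ⟨t, ht, ?_⟩
    rw [← Submodule.Quotient.mk_smul, Submodule.Quotient.mk_eq_zero]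
    exact h0

/-- The kernel of the augmentation has the shifted complex as dual resolution. -/
def shift : DualRes S (LinearMap.ker P.ε) where
  D c := P.D (c + 1)
  finite c := P.finite _
  projective c := P.projective _
  d c := P.d (c + 1)
  d_d c := P.d_d (c + 1)
  exact c := P.exact (c + 1)
  ε := ((P.d 0).lcomp S S).codRestrict (LinearMap.ker P.ε) fun g =>
    (P.ε_ker _).2 ⟨g, rfl⟩
  ε_surjective y := by
    obtain ⟨g, hg⟩ := (P.ε_ker _).1 y.2
    exact ⟨g, Subtype.ext hg⟩
  ε_ker f := by
    refine ⟨fun h => P.exact 0 f (congrArg Subtype.val h), ?_⟩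
    rintro ⟨g, rfl⟩
    exact Subtype.ext (LinearMap.ext fun x => by
      show g (P.d 1 (P.d 0 x)) = 0
      rw [P.d_d, map_zero])

theorem subsingleton_shift_E_iff (c : ℕ) :
    Subsingleton (P.shift.E (c + 1)) ↔ Subsingleton (P.E (c + 2)) := Iff.rfl

include P in
/-- `M` is finite. -/
theorem finite_module : Module.Finite S M :=
  Module.Finite.of_surjective P.ε P.ε_surjective

end DualRes

section Existence

variable [IsNoetherianRing S]

/-- The terms of a dual resolution extended by one step. -/
def consD (F : Type u) [AddCommGroup F] [Module S F] (D : ℕ → ModuleCat.{u} S) :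
    ℕ → ModuleCat.{u} S
  | 0 => ModuleCat.of S (Module.Dual S F)
  | c + 1 => D c

/-- The differentials of a dual resolution extended by one step. -/
def consd (F : Type u) [AddCommGroup F] [Module S F] (D : ℕ → ModuleCat.{u} S)
    (d : ∀ c, D c →ₗ[S] D (c + 1)) (d₀ : Module.Dual S F →ₗ[S] D 0) :
    ∀ c, consD F D c →ₗ[S] consD F D (c + 1)
  | 0 => d₀
  | c + 1 => d c

theorem nonempty_dualRes_of_le : ∀ (r : ℕ) (M : Type u) [AddCommGroup M] [Module S M]
    [Module.Finite S M], HasProjectiveDimensionLE (ModuleCat.of S M) r →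
      ∃ P : DualRes S M, P.Bounded := by
  intro r
  induction r with
  | zero =>
    intro M _ _ _ h
    simp only [HasProjectiveDimensionLE, zero_add, ← projective_iff_hasProjectiveDimensionLT_one] at h
    have := (IsProjective.iff_projective M).2 h
    refine ⟨{
      D := consD M (fun _ => ModuleCat.of S PUnit.{u + 1})
      finite := fun c => by cases c <;> unfold consD <;> infer_instance
      projective := fun c => by cases c <;> unfold consD <;> infer_instance
      d := consd M _ (fun _ => 0) 0
      d_d := fun c x => by cases c <;> rfl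
      exact := fun c f _ => ⟨0, by
        have : Subsingleton (consD (S := S) M (fun _ => ModuleCat.of S PUnit.{u + 1}) (c + 1)) :=
          inferInstanceAs (Subsingleton PUnit)
        exact LinearMap.ext fun x => by rw [Subsingleton.elim x 0, map_zero, map_zero]⟩
      ε := (Module.evalEquiv S M).symm.toLinearMap
      ε_surjective := (Module.evalEquiv S M).symm.surjective
      ε_ker := fun f => ⟨fun h => ⟨0, ?_⟩, ?_⟩ }, ?_⟩
    · rw [(Module.evalEquiv S M).symm.injective (h.trans (map_zero _).symm)]
      rfl
    · rintro ⟨g, rfl⟩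
      exact (congrArg (Module.evalEquiv S M).symm (LinearMap.comp_zero g)).trans (map_zero _)
    · refine ⟨0, fun c hc => ?_⟩
      cases c with
      | zero => omega
      | succ c => exact inferInstanceAs (Subsingleton PUnit)
  | succ r ih =>
    intro M _ _ _ h
    obtain ⟨n, f, hf⟩ := Module.Finite.exists_fin' S M
    have hS := LinearMap.shortExact_shortComplexKer hf
    have hP := ModuleCat.projective_of_categoryTheory_projective f.shortComplexKer.X₂
    obtain ⟨P, hPb⟩ := ih (LinearMap.ker f) ((hS.hasProjectiveDimensionLT_X₃_iff r hP).1 h)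
    let F := Fin n → S
    let d₀ : Module.Dual S F →ₗ[S] P.D 0 := (Module.evalEquiv S (P.D 0)).symm.toLinearMap ∘ₗ
      ((LinearMap.ker f).subtype ∘ₗ P.ε).dualMap
    have hd₀ : ∀ (y : Module.Dual S F) (g : P.D 0 →ₗ[S] S), g (d₀ y) = y (P.ε g).1 := fun y g =>
      Module.apply_evalEquiv_symm_apply S (P.D 0) g _
    let e := Module.evalEquiv S F
    refine ⟨{
      D := consD F P.D
      finite := fun c => by
        cases c with
        | zero => exact inferInstanceAs (Module.Finite S (Module.Dual S F))
        | succ c => exact P.finite c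
      projective := fun c => by
        cases c with
        | zero => exact inferInstanceAs (Module.Projective S (Module.Dual S F))
        | succ c => exact P.projective c
      d := consd F P.D P.d d₀
      d_d := fun c x => by
        cases c with
        | zero =>
          refine (Module.evalEquiv S (P.D 1)).injective (LinearMap.ext fun g => ?_)
          show g (P.d 0 (d₀ x)) = Module.evalEquiv S (P.D 1) 0 g
          rw [map_zero (Module.evalEquiv S (P.D 1)), LinearMap.zero_apply]
          refine (hd₀ x (g ∘ₗ P.d 0)).trans ?_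
          rw [(P.ε_ker _).2 ⟨g, rfl⟩]
          exact (show (Module.Dual S F) from x).map_zero
        | succ c => exact P.d_d c x
      exact := fun c g hg => by
        cases c with
        | zero =>
          refine (P.ε_ker g).1 (Subtype.ext ?_)
          refine e.injective (LinearMap.ext fun (y : Module.Dual S F) => ?_)
          refine (hd₀ y g).symm.trans ((LinearMap.congr_fun hg y).trans ?_)
          exact (map_zero y).symm
        | succ c => exact P.exact c g hg
      ε := f ∘ₗ e.symm.toLinearMap
      ε_surjective := hf.comp e.symm.surjective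
      ε_ker := fun φ => ⟨fun hφ => ?_, ?_⟩ }, ?_⟩
    · obtain ⟨g, hg⟩ := P.ε_surjective ⟨e.symm φ, hφ⟩
      refine ⟨g, LinearMap.ext fun y => ?_⟩
      refine (hd₀ y g).trans ?_
      rw [hg]
      exact Module.apply_evalEquiv_symm_apply S F y φ
    · rintro ⟨g, rfl⟩
      have : e.symm (g ∘ₗ d₀) = (P.ε g).1 := by
        rw [LinearEquiv.symm_apply_eq]
        exact LinearMap.ext fun y => hd₀ y g
      exact (congrArg f this).trans (P.ε g).2
    · obtain ⟨b, hb⟩ := hPb.exists_bound
      refine ⟨b + 1, fun c hc => ?_⟩
      cases c with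
      | zero => omega
      | succ c => exact hb c (by omega)

/-- Over a regular ring every finite module has a dual resolution. -/
theorem nonempty_dualRes {S : Type u} [CommRing S] [IsRegularRing S] (M : Type u) [AddCommGroup M]
    [Module S M] [Module.Finite S M] : ∃ P : DualRes S M, P.Bounded := by
  obtain ⟨d, hd⟩ := exists_projectiveDimension_bound (A := S) M
  exact nonempty_dualRes_of_le d M hd

/-- Every finite module over a Noetherian ring has a dual resolution, possibly unbounded. -/
theorem nonempty_dualRes_of_finite (M : Type u) [AddCommGroup M] [Module S M] [Module.Finite S M] :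
    Nonempty (DualRes S M) := by
  choose n g hg using fun X : {K : ModuleCat.{u} S // Module.Finite S K} =>
    @Module.Finite.exists_fin' S X.1 _ _ _ X.2
  let nxt : {K : ModuleCat.{u} S // Module.Finite S K} → {K : ModuleCat.{u} S // Module.Finite S K} :=
    fun X => ⟨ModuleCat.of S (LinearMap.ker (g X)), inferInstanceAs (Module.Finite S (LinearMap.ker (g X)))⟩
  let K : ℕ → {K : ModuleCat.{u} S // Module.Finite S K} := fun c =>
    Nat.rec ⟨ModuleCat.of S M, inferInstanceAs (Module.Finite S M)⟩ (fun _ X => nxt X) c
  let F : ℕ → Type u := fun c => Fin (n (K c)) → S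
  let inc : ∀ c, (K (c + 1)).1 →ₗ[S] (Fin (n (K c)) → S) := fun c => (LinearMap.ker (g (K c))).subtype
  let δ : ∀ c, (Fin (n (K (c + 1))) → S) →ₗ[S] (Fin (n (K c)) → S) := fun c => inc c ∘ₗ g (K (c + 1))
  have hinc : ∀ c x, g (K c) (inc c x) = 0 := fun c x => x.2
  have hex : ∀ c x, g (K c) x = 0 → ∃ y, δ c y = x := fun c x hx => by
    obtain ⟨y, hy⟩ := hg (K (c + 1)) ⟨x, hx⟩
    exact ⟨y, congrArg Subtype.val hy⟩
  refine ⟨{
    D := fun c => ModuleCat.of S (Module.Dual S (Fin (n (K c)) → S))
    finite := fun c => inferInstanceAs (Module.Finite S (Module.Dual S (Fin (n (K c)) → S)))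
    projective := fun c => inferInstanceAs (Module.Projective S (Module.Dual S (Fin (n (K c)) → S)))
    d := fun c => (δ c).dualMap
    d_d := fun c φ => LinearMap.ext fun x => by
      show φ (inc c (g (K (c + 1)) (inc (c + 1) (g (K (c + 2)) x)))) = 0
      rw [hinc (c + 1), map_zero, map_zero]
    exact := fun c f hf => ?_
    ε := g (K 0) ∘ₗ (Module.evalEquiv S (Fin (n (K 0)) → S)).symm.toLinearMap
    ε_surjective := (hg (K 0)).comp (Module.evalEquiv S (Fin (n (K 0)) → S)).symm.surjective
    ε_ker := fun φ => ⟨fun hφ => ?_, ?_⟩ }⟩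
  · obtain ⟨x, rfl⟩ := (Module.evalEquiv S (Fin (n (K (c + 1))) → S)).surjective f
    have hx : δ c x = 0 := (Module.evalEquiv S (Fin (n (K c)) → S)).injective
      (LinearMap.ext fun φ => (LinearMap.congr_fun hf φ).trans (by simp))
    obtain ⟨y, hy⟩ := hex (c + 1) x (Subtype.ext hx)
    exact ⟨Module.evalEquiv S _ y, LinearMap.ext fun φ => congrArg φ hy⟩
  · obtain ⟨x, rfl⟩ := (Module.evalEquiv S (Fin (n (K 0)) → S)).surjective φ
    simp only [LinearMap.comp_apply, LinearEquiv.coe_coe, LinearEquiv.symm_apply_apply] at hφ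
    obtain ⟨y, hy⟩ := hex 0 x hφ
    exact ⟨Module.evalEquiv S _ y, LinearMap.ext fun φ => congrArg φ hy⟩
  · rintro ⟨G, rfl⟩
    obtain ⟨y, rfl⟩ := (Module.evalEquiv S (Fin (n (K 1)) → S)).surjective G
    have : (Module.evalEquiv S (Fin (n (K 0)) → S)).symm
        (Module.evalEquiv S (Fin (n (K 1)) → S) y ∘ₗ (δ 0).dualMap) = δ 0 y :=
      (LinearEquiv.symm_apply_eq _).2 (LinearMap.ext fun φ => rfl)
    exact (congrArg (g (K 0)) this).trans (hinc 0 _)

end Existence

end Groth.Agent.H4LC
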