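import Groth.Agent.H4LC.FiniteH1
import Groth.Agent.H05EGA4.Equidim
import Groth.Agent.S2069

/-!
# Kollár's criterion
-/

set_option autoImplicit false
set_option linter.style.haveILetI false
set_option linter.unusedVariables false

universe u

open TensorProduct IsLocalRing

namespace Groth.Agent.H4LC

theorem mem_associatedPrimes_map_equiv {C R : Type u} [CommRing C] [IsNoetherianRing C] [CommRing R] [IsNoetherianRing R]
    {J P : Ideal C} (e : (C ⧸ J) ≃+* R) (hP : P ∈ associatedPrimes C (C ⧸ J)) :
    ∃ P' : Ideal R, P' ∈ associatedPrimes R R ∧ ringKrullDim (R ⧸ P') = ringKrullDim (C ⧸ P) := by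
  obtain ⟨hPp, x, hx⟩ := isAssociatedPrime_iff.1 hP
  let φ : C →+* R := e.toRingHom.comp (Ideal.Quotient.mk J)
  have hφ : Function.Surjective φ := e.surjective.comp Ideal.Quotient.mk_surjective
  have hann : ∀ c, c ∈ P ↔ φ c * e x = 0 := fun c => by
    rw [hx, Submodule.mem_colon_singleton, Submodule.mem_bot]
    show c • x = 0 ↔ e (Ideal.Quotient.mk J c) * e x = 0
    rw [← map_mul, map_eq_zero_iff e e.injective]
    rfl
  have hker : RingHom.ker φ ≤ P := fun c hc => (hann c).2 (by rw [RingHom.mem_ker.1 hc, zero_mul])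
  haveI : (P.map φ).IsPrime := Ideal.map_isPrime_of_surjective hφ hker
  refine ⟨P.map φ, isAssociatedPrime_iff.2 ⟨‹_›, e x, le_antisymm (fun r hr => ?_) fun r hr => ?_⟩, ?_⟩
  · obtain ⟨c, hc, rfl⟩ := (Ideal.mem_map_iff_of_surjective φ hφ).1 hr
    rw [Submodule.mem_colon_singleton, Submodule.mem_bot, smul_eq_mul]
    exact (hann c).1 hc
  · obtain ⟨c, rfl⟩ := hφ r
    rw [Submodule.mem_colon_singleton, Submodule.mem_bot, smul_eq_mul] at hr
    exact Ideal.mem_map_of_mem φ ((hann c).2 hr)
  · let g : C →+* R ⧸ P.map φ := (Ideal.Quotient.mk _).comp φ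
    have hg : RingHom.ker g = P := by
      show RingHom.ker ((Ideal.Quotient.mk (P.map φ)).comp φ) = P
      rw [← RingHom.comap_ker, Ideal.mk_ker, Ideal.comap_map_of_surjective' _ hφ, sup_eq_left.2 hker]
    exact (ringKrullDim_eq_of_ringEquiv ((Ideal.quotEquivOfEq hg.symm).trans
      (RingHom.quotientKerEquivOfSurjective (f := g) (Ideal.Quotient.mk_surjective.comp hφ)))).symm

variable {A : Type u} [CommRing A] [IsNoetherianRing A] (M : Type u) [AddCommGroup M] [Module A M] [Module.Finite A M]

/-- The associated primes of `Ĉ_q ⊗ M` come from completions of the quotients by associated primes of `M`. -/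
theorem exists_of_mem_associatedPrimes_compAt (q : PrimeSpectrum A) {P : Ideal (CompAt q)}
    (hP : P ∈ associatedPrimes (CompAt q) (CompAt q ⊗[A] M)) :
    ∃ p ∈ associatedPrimes A M, p ≤ q.asIdeal ∧ p.map (algebraMap A (CompAt q)) ≤ P ∧
      ∃ P' ∈ associatedPrimes
          (AdicCompletion ((maximalIdeal (Localization.AtPrime q.asIdeal)).map
            (Ideal.Quotient.mk (p.map (algebraMap A (Localization.AtPrime q.asIdeal)))))
            (Localization.AtPrime q.asIdeal ⧸ p.map (algebraMap A (Localization.AtPrime q.asIdeal))))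
          (AdicCompletion ((maximalIdeal (Localization.AtPrime q.asIdeal)).map
            (Ideal.Quotient.mk (p.map (algebraMap A (Localization.AtPrime q.asIdeal)))))
            (Localization.AtPrime q.asIdeal ⧸ p.map (algebraMap A (Localization.AtPrime q.asIdeal)))),
        ringKrullDim (AdicCompletion ((maximalIdeal (Localization.AtPrime q.asIdeal)).map
            (Ideal.Quotient.mk (p.map (algebraMap A (Localization.AtPrime q.asIdeal)))))
            (Localization.AtPrime q.asIdeal ⧸ p.map (algebraMap A (Localization.AtPrime q.asIdeal))) ⧸ P') =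
          ringKrullDim (CompAt q ⧸ P) := by
  let L := Localization.AtPrime q.asIdeal
  let C := CompAt q
  haveI : IsNoetherianRing L := IsLocalization.isNoetherianRing q.asIdeal.primeCompl L ‹_›
  haveI : Module.Flat A L := IsLocalization.flat L q.asIdeal.primeCompl
  haveI : Module.Flat L C := isComplLike_adicCompletion.flat
  haveI : Module.Flat A C := Module.Flat.trans A L C
  haveI : IsNoetherianRing C := H05EGA4.isNoetherianRing_adicCompletion L (maximalIdeal L)
  rw [Groth.Agent.S2069.result (R := A) (S := C) (M := M) (N := C)] at hP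
  obtain ⟨p, hp, hP⟩ := Set.mem_iUnion₂.1 hP
  have hpC : (p.map (algebraMap A C) • (⊤ : Submodule C C)) = p.map (algebraMap A C) := by
    rw [smul_eq_mul, Ideal.mul_top]
  rw [hpC] at hP
  have hle : p.map (algebraMap A C) ≤ P := by
    obtain ⟨hPp, x, hx⟩ := isAssociatedPrime_iff.1 hP
    intro c hc
    obtain ⟨y, rfl⟩ := Ideal.Quotient.mk_surjective x
    rw [hx, Submodule.mem_colon_singleton, Submodule.mem_bot]
    exact (Submodule.Quotient.mk_eq_zero _).2 (Ideal.mul_mem_right _ _ hc)
  have hpq : p ≤ q.asIdeal := fun a ha => by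
    by_contra haq
    refine hP.isPrime.ne_top (Ideal.eq_top_of_isUnit_mem _ (hle (Ideal.mem_map_of_mem _ ha)) ?_)
    rw [IsScalarTower.algebraMap_apply A L C]
    exact (IsLocalization.map_units L (⟨a, haq⟩ : q.asIdeal.primeCompl)).map (algebraMap L C)
  obtain ⟨e, -⟩ := H05EGA4.exists_completion_quotient_equiv_comm (maximalIdeal L)
    (L ⧸ p.map (algebraMap A L)) (Ideal.Quotient.mk _) Ideal.Quotient.mk_surjective _ rfl
  have hJ : (RingHom.ker (Ideal.Quotient.mk (p.map (algebraMap A L)))).map (algebraMap L C) =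
      p.map (algebraMap A C) := by
    rw [Ideal.mk_ker, Ideal.map_map, ← IsScalarTower.algebraMap_eq]
  haveI := H05EGA4.isNoetherianRing_adicCompletion (L ⧸ p.map (algebraMap A L))
    ((maximalIdeal L).map (Ideal.Quotient.mk (p.map (algebraMap A L))))
  exact ⟨p, hp, hpq, hle, mem_associatedPrimes_map_equiv ((Ideal.quotEquivOfEq hJ.symm).trans e) hP⟩

/-- Kollár's criterion. -/
theorem finite_H_one_kollar (I : Ideal A)
    (h : ∀ p ∈ associatedPrimes A M, ¬ I ≤ p → ∀ q : PrimeSpectrum A, p ≤ q.asIdeal → I ≤ q.asIdeal →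
      ∀ P ∈ associatedPrimes
          (AdicCompletion ((maximalIdeal (Localization.AtPrime q.asIdeal)).map
            (Ideal.Quotient.mk (p.map (algebraMap A (Localization.AtPrime q.asIdeal)))))
            (Localization.AtPrime q.asIdeal ⧸ p.map (algebraMap A (Localization.AtPrime q.asIdeal))))
          (AdicCompletion ((maximalIdeal (Localization.AtPrime q.asIdeal)).map
            (Ideal.Quotient.mk (p.map (algebraMap A (Localization.AtPrime q.asIdeal)))))
            (Localization.AtPrime q.asIdeal ⧸ p.map (algebraMap A (Localization.AtPrime q.asIdeal)))),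
        (2 : WithBot ℕ∞) ≤ ringKrullDim (AdicCompletion ((maximalIdeal (Localization.AtPrime q.asIdeal)).map
            (Ideal.Quotient.mk (p.map (algebraMap A (Localization.AtPrime q.asIdeal)))))
            (Localization.AtPrime q.asIdeal ⧸ p.map (algebraMap A (Localization.AtPrime q.asIdeal))) ⧸ P)) :
    Module.Finite A (LocCoh.H I 1 M) :=
  finite_H_one_of_completion I M fun q hq P hP hPI => by
    obtain ⟨p, hp, hpq, hle, P', hP', hdim⟩ := exists_of_mem_associatedPrimes_compAt M q hP
    rw [← hdim]
    exact h p hp (fun hIp => hPI ((Ideal.map_mono hIp).trans hle)) q hpq hq P' hP'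

end Groth.Agent.H4LC
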