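import Groth.Agent.H4LC.FiniteH1Apps
import Groth.Agent.H05EGA4.Ratliff
import Groth.Agent.H05EGA4.FormalFibres
import Groth.Agent.H05EGA4.FormalCatenary
import Groth.Agent.H1CAlg.Serre
import Groth.Agent.H1CAlg.NagataFiniteType
import Groth.Agent.H8Props.NagataAffine
import Groth.Agent.S9126
import Groth.Agent.S0576
import Groth.Agent.S0547

/-!
# `H^1_I` over universally catenary rings
-/

set_option autoImplicit false
set_option linter.style.haveILetI false
set_option linter.unusedVariables false

universe u

open IsLocalRing

namespace Groth.Agent.H4LC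

variable {A : Type u} [CommRing A] [IsNoetherianRing A]

/-- Without embedded primes in the completions, the condition is about chains of primes. -/
theorem finite_H_one_of_universallyCatenary (hA : CAlg.IsUniversallyCatenary A) (I : Ideal A)
    (hS1 : ∀ (q : PrimeSpectrum A), I ≤ q.asIdeal → ∀ p : Ideal A, p.IsPrime → p ≤ q.asIdeal →
      ∀ P ∈ associatedPrimes
          (AdicCompletion ((maximalIdeal (Localization.AtPrime q.asIdeal)).map
            (Ideal.Quotient.mk (p.map (algebraMap A (Localization.AtPrime q.asIdeal)))))
            (Localization.AtPrime q.asIdeal ⧸ p.map (algebraMap A (Localization.AtPrime q.asIdeal))))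
          (AdicCompletion ((maximalIdeal (Localization.AtPrime q.asIdeal)).map
            (Ideal.Quotient.mk (p.map (algebraMap A (Localization.AtPrime q.asIdeal)))))
            (Localization.AtPrime q.asIdeal ⧸ p.map (algebraMap A (Localization.AtPrime q.asIdeal)))),
        P ∈ minimalPrimes (AdicCompletion ((maximalIdeal (Localization.AtPrime q.asIdeal)).map
            (Ideal.Quotient.mk (p.map (algebraMap A (Localization.AtPrime q.asIdeal)))))
            (Localization.AtPrime q.asIdeal ⧸ p.map (algebraMap A (Localization.AtPrime q.asIdeal)))))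
    (M : Type u) [AddCommGroup M] [Module A M] [Module.Finite A M]
    (h : ∀ (p q : PrimeSpectrum A) (hpq : p ≤ q), p.asIdeal ∈ associatedPrimes A M → ¬ I ≤ p.asIdeal →
      I ≤ q.asIdeal → (2 : ℕ∞) ≤ Order.height (⟨q, hpq⟩ : Set.Ici p)) : Module.Finite A (LocCoh.H I 1 M) := by
  refine finite_H_one_kollar M I fun p hp hpI q hpq hqI P hP => ?_
  haveI := hp.isPrime
  let L := Localization.AtPrime q.asIdeal
  haveI : IsNoetherianRing L := IsLocalization.isNoetherianRing q.asIdeal.primeCompl L ‹_›
  have hdisj : Disjoint (q.asIdeal.primeCompl : Set A) (p : Set A) := Set.disjoint_left.2 fun a ha hap => ha (hpq hap)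
  haveI := IsLocalization.isPrime_of_isPrime_disjoint q.asIdeal.primeCompl L p hp.isPrime hdisj
  let R := L ⧸ p.map (algebraMap A L)
  haveI : IsLocalRing R := .of_surjective' _ Ideal.Quotient.mk_surjective
  haveI : Algebra.EssFiniteType A L := Algebra.EssFiniteType.of_isLocalization L q.asIdeal.primeCompl
  haveI : Algebra.EssFiniteType L R := inferInstance
  haveI : Algebra.EssFiniteType A R := Algebra.EssFiniteType.comp A L R
  have hR : EGA4.IsFormallyEquidim R :=
    H05EGA4.isFormallyEquidim_of_isUniversallyCatenary R (S9126.result A R hA)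
  have hm : maximalIdeal R = (maximalIdeal L).map (Ideal.Quotient.mk (p.map (algebraMap A L))) :=
    (IsLocalRing.map_maximalIdeal_of_surjective _ Ideal.Quotient.mk_surjective).symm
  have hmin := hS1 q hqI p hp.isPrime hpq P hP
  revert hP hmin P
  rw [← hm]
  intro P hP hmin
  rw [show ringKrullDim (AdicCompletion (maximalIdeal R) R ⧸ P) = ringKrullDim (AdicCompletion (maximalIdeal R) R)
    from hR P hmin, S0547.result R,
    H05EGA4.ringKrullDim_localization_quotient (show p ≤ q.asIdeal from hpq),
    height_map_mk_eq_Ici (p := ⟨p, hp.isPrime⟩) (q := q) hpq]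
  exact WithBot.coe_le_coe.2 (h ⟨p, hp.isPrime⟩ q hpq hp hpI hqI)

end Groth.Agent.H4LC
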