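import Groth.Agent.H4LC.DualChase
import Groth.Agent.H4LC.DualResLocal
import Groth.Agent.H4LC.LocalDuality
import Groth.Agent.H05EGA4.Equidim
import Groth.Agent.H05EGA4.Regular

/-!
# Cohomology of `Hom(E, J)` and of `Γ_a Hom(E, J)` over a regular ring
-/

set_option autoImplicit false
set_option linter.unusedSectionVars false

universe u

open CategoryTheory IsLocalRing

namespace Groth.Agent.H4LC

variable {S : Type u} [CommRing S] [IsNoetherianRing S] (J : RingRes S)

theorem exists_descend {X F N : Type u} [AddCommGroup X] [Module S X] [AddCommGroup F] [Module S F]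
    [AddCommGroup N] [Module S N] (π : F →ₗ[S] X) (hπ : Function.Surjective π) (q : F →ₗ[S] N)
    (hq : ∀ v ∈ LinearMap.ker π, q v = 0) : ∃ q' : X →ₗ[S] N, q' ∘ₗ π = q := by
  refine ⟨(LinearMap.ker π).liftQ q hq ∘ₗ (π.quotKerEquivOfSurjective hπ).symm.toLinearMap,
    LinearMap.ext fun v => ?_⟩
  rw [LinearMap.comp_apply, LinearMap.comp_apply, LinearEquiv.coe_coe,
    show (π.quotKerEquivOfSurjective hπ).symm (π v) = Submodule.Quotient.mk v from
      (LinearEquiv.symm_apply_eq _).2 rfl, Submodule.liftQ_apply]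

theorem cancel_surjective {X F N : Type u} [AddCommGroup X] [Module S X] [AddCommGroup F]
    [Module S F] [AddCommGroup N] [Module S N] {π : F →ₗ[S] X} (hπ : Function.Surjective π)
    {f g : X →ₗ[S] N} (h : f ∘ₗ π = g ∘ₗ π) : f = g :=
  LinearMap.ext fun x => by
    obtain ⟨v, rfl⟩ := hπ x
    exact LinearMap.congr_fun h v

namespace DualRes

theorem exists_eval {X : Type u} [AddCommGroup X] [Module S X] (Q : DualRes S X) (h : X →ₗ[S] S) :
    ∃ z ∈ LinearMap.ker (Q.d 0), ∀ g : Q.D 0 →ₗ[S] S, g z = h (Q.ε g) := by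
  refine ⟨(Module.evalEquiv S (Q.D 0)).symm (h ∘ₗ Q.ε), ?_,
    fun g => Module.apply_evalEquiv_symm_apply S (Q.D 0) g (h ∘ₗ Q.ε)⟩
  rw [LinearMap.mem_ker]
  refine (Module.evalEquiv S (Q.D 1)).injective (LinearMap.ext fun g => ?_)
  rw [map_zero (Module.evalEquiv S (Q.D 1)), LinearMap.zero_apply]
  refine (Module.apply_evalEquiv_symm_apply S (Q.D 0) (g ∘ₗ Q.d 0) (h ∘ₗ Q.ε)).trans ?_
  rw [LinearMap.comp_apply, (Q.ε_ker _).2 ⟨g, rfl⟩, map_zero]

theorem eq_zero_of_subsingleton_E {X : Type u} [AddCommGroup X] [Module S X] (Q : DualRes S X)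
    (hQ : Subsingleton (Q.E 0)) (f : X →ₗ[S] resX S J 0) (hf : resD S J 0 ∘ₗ f = 0) : f = 0 := by
  obtain ⟨h, rfl⟩ := exists_augJ_comp J f hf
  obtain ⟨z, hz, hzh⟩ := Q.exists_eval h
  have h0 : z = 0 := (Submodule.mem_bot S).1 ((Q.subsingleton_E_iff 0).1 hQ hz)
  rw [show h = 0 from cancel_surjective Q.ε_surjective (LinearMap.ext fun g => by
    rw [LinearMap.comp_apply, ← hzh, h0, map_zero]
    rfl), LinearMap.comp_zero]

theorem exists_resD_of_subsingleton_E : ∀ (k : ℕ) {X : Type u} [AddCommGroup X] [Module S X]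
    (Q : DualRes S X), Subsingleton (Q.E (k + 1)) → ∀ f : X →ₗ[S] resX S J (k + 1),
      resD S J (k + 1) ∘ₗ f = 0 → ∃ g : X →ₗ[S] resX S J k, resD S J k ∘ₗ g = f := by
  intro k
  induction k with
  | zero =>
    intro X _ _ Q hQ f hf
    obtain ⟨g, hg⟩ := exists_resD_comp J 0 (f ∘ₗ Q.ε) (by
      rw [← LinearMap.comp_assoc, hf, LinearMap.zero_comp])
    obtain ⟨h, hh⟩ := exists_augJ_comp J (X := LinearMap.ker Q.ε)
      (g ∘ₗ (LinearMap.ker Q.ε).subtype) (by
      refine LinearMap.ext fun v => ?_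
      change (resD S J 0 ∘ₗ g) v.1 = 0
      rw [hg, LinearMap.comp_apply, LinearMap.mem_ker.1 v.2, map_zero])
    obtain ⟨z, hz, hzh⟩ := Q.shift.exists_eval h
    obtain ⟨w, rfl⟩ := (Q.subsingleton_E_iff 1).1 hQ hz
    let h' : (Q.D 0 →ₗ[S] S) →ₗ[S] S := Module.Dual.eval S (Q.D 0) w
    obtain ⟨g', hg'⟩ := exists_descend Q.ε Q.ε_surjective (g - augJ J ∘ₗ h') fun v hv => by
      obtain ⟨u, rfl⟩ := (Q.ε_ker v).1 hv
      rw [LinearMap.sub_apply, sub_eq_zero]
      have h1 := LinearMap.congr_fun hh ⟨u ∘ₗ Q.d 0, hv⟩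
      refine h1.symm.trans (congrArg (augJ J) ?_)
      exact (hzh u).symm
    refine ⟨g', cancel_surjective Q.ε_surjective ?_⟩
    rw [LinearMap.comp_assoc, hg', LinearMap.comp_sub, hg, ← LinearMap.comp_assoc,
      show resD S J 0 ∘ₗ augJ J = 0 from LinearMap.ext (resD_augJ J), LinearMap.zero_comp, sub_zero]
  | succ k ih =>
    intro X _ _ Q hQ f hf
    obtain ⟨g, hg⟩ := exists_resD_comp J (k + 1) (f ∘ₗ Q.ε) (by
      rw [← LinearMap.comp_assoc, hf, LinearMap.zero_comp])
    obtain ⟨e, he⟩ := ih Q.shift hQ (g ∘ₗ (LinearMap.ker Q.ε).subtype) (by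
      refine LinearMap.ext fun v => ?_
      change (resD S J (k + 1) ∘ₗ g) v.1 = 0
      rw [hg, LinearMap.comp_apply, LinearMap.mem_ker.1 v.2, map_zero])
    obtain ⟨e', he'⟩ := Module.Injective.extension_property (inj := injective_resX S J k) S _
      (LinearMap.ker Q.ε) (Q.D 0 →ₗ[S] S) (LinearMap.ker Q.ε).subtype Subtype.val_injective e
    obtain ⟨g', hg'⟩ := exists_descend Q.ε Q.ε_surjective (g - resD S J k ∘ₗ e') fun v hv => by
      rw [LinearMap.sub_apply, sub_eq_zero]
      have h1 := LinearMap.congr_fun he ⟨v, hv⟩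
      have h2 := LinearMap.congr_fun he' ⟨v, hv⟩
      refine h1.symm.trans (congrArg (resD S J k) ?_)
      exact h2.symm
    refine ⟨g', cancel_surjective Q.ε_surjective ?_⟩
    rw [LinearMap.comp_assoc, hg', LinearMap.comp_sub, hg, ← LinearMap.comp_assoc,
      show resD S J (k + 1) ∘ₗ resD S J k = 0 from
        LinearMap.ext (exact_resD S J k).apply_apply_eq_zero, LinearMap.zero_comp, sub_zero]

end DualRes

/-! ### Finiteness of the cohomology of `Hom(X, J)` -/

theorem fg_range_of_ker_le {L A B : Type u} [AddCommGroup L] [Module S L] [AddCommGroup A]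
    [Module S A] [AddCommGroup B] [Module S B] {g : L →ₗ[S] A} {f : L →ₗ[S] B}
    (hg : (LinearMap.range g).FG) (h : LinearMap.ker g ≤ LinearMap.ker f) :
    (LinearMap.range f).FG := by
  have : Module.Finite S (LinearMap.range g) := ⟨(Submodule.fg_top _).2 hg⟩
  have := Module.Finite.equiv (g.quotKerEquivRange).symm
  rw [← (LinearMap.ker g).range_liftQ f h]
  exact Module.Finite.iff_fg.1 inferInstance

/-- Cocycles of `Hom(X, J)`. -/
noncomputable def cocycles (X : Type u) [AddCommGroup X] [Module S X] (k : ℕ) :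
    Submodule S (X →ₗ[S] resX S J k) :=
  LinearMap.ker (LinearMap.llcomp S X (resX S J k) (resX S J (k + 1)) (resD S J k))

/-- Coboundaries of `Hom(X, J)`. -/
noncomputable def coboundaries (X : Type u) [AddCommGroup X] [Module S X] :
    ∀ k, Submodule S (X →ₗ[S] resX S J k)
  | 0 => ⊥
  | k + 1 => LinearMap.range (LinearMap.llcomp S X (resX S J k) (resX S J (k + 1))
      (σ₁₂ := RingHom.id S) (σ₂₃ := RingHom.id S) (σ₁₃ := RingHom.id S) (resD S J k))

theorem fg_map_cocycles : ∀ (k : ℕ) (X : Type u) [AddCommGroup X] [Module S X] [Module.Finite S X],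
    ((cocycles J X k).map (coboundaries J X k).mkQ).FG := by
  intro k
  induction k with
  | zero =>
    intro X _ _ _
    refine Submodule.FG.map _ ?_
    have hfin : Module.Finite S (X →ₗ[S] S) := by
      obtain ⟨n, π, hπ⟩ := Module.Finite.exists_fin' S X
      exact Module.Finite.of_injective (LinearMap.lcomp S S π) fun f g h => cancel_surjective hπ h
    have : cocycles J X 0 = LinearMap.range (LinearMap.llcomp S X S (resX S J 0)
        (σ₁₂ := RingHom.id S) (σ₂₃ := RingHom.id S) (σ₁₃ := RingHom.id S) (augJ J)) := by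
      ext f
      refine ⟨fun hf => ?_, ?_⟩
      · obtain ⟨g, hg⟩ := exists_augJ_comp J f hf
        exact ⟨g, hg⟩
      · rintro ⟨g, rfl⟩
        exact LinearMap.ext fun x => resD_augJ J (g x)
    rw [this]
    exact Module.Finite.iff_fg.1 inferInstance
  | succ k ih =>
    intro X _ _ _
    obtain ⟨n, π, hπ⟩ := Module.Finite.exists_fin' S X
    let L : Submodule S (((Fin n → S) →ₗ[S] resX S J k) × (X →ₗ[S] resX S J (k + 1))) :=
      LinearMap.ker
        ((LinearMap.llcomp S (Fin n → S) (resX S J k) (resX S J (k + 1)) (resD S J k)).comp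
            (LinearMap.fst S _ _) -
          (LinearMap.lcomp S (resX S J (k + 1)) π).comp (LinearMap.snd S _ _))
    have hL : ∀ z : L, resD S J k ∘ₗ z.1.1 = z.1.2 ∘ₗ π := fun z =>
      sub_eq_zero.1 (LinearMap.mem_ker.1 z.2)
    let g := (coboundaries J (LinearMap.ker π) k).mkQ ∘ₗ
      LinearMap.lcomp S (resX S J k) (LinearMap.ker π).subtype ∘ₗ LinearMap.fst S _ _ ∘ₗ L.subtype
    let f := (coboundaries J X (k + 1)).mkQ ∘ₗ LinearMap.snd S _ _ ∘ₗ L.subtype
    have hg : (LinearMap.range g).FG := by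
      have := isNoetherian_of_fg_of_noetherian _ (ih (LinearMap.ker π))
      refine (isNoetherian_submodule.1 this) _ ?_
      rintro _ ⟨z, rfl⟩
      refine Submodule.mem_map_of_mem (LinearMap.ext fun v => ?_)
      change (resD S J k ∘ₗ z.1.1) v.1 = 0
      rw [hL, LinearMap.comp_apply, LinearMap.mem_ker.1 v.2, map_zero]
    have hle : LinearMap.ker g ≤ LinearMap.ker f := by
      intro z h0
      obtain ⟨⟨u, x⟩, hz⟩ := z
      have hu2 : resD S J k ∘ₗ u = x ∘ₗ π := hL ⟨⟨u, x⟩, hz⟩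
      replace h0 : u ∘ₗ (LinearMap.ker π).subtype ∈ coboundaries J (LinearMap.ker π) k :=
        (Submodule.Quotient.mk_eq_zero (coboundaries J (LinearMap.ker π) k)).1 h0
      suffices hex : ∃ v : X →ₗ[S] resX S J k, resD S J k ∘ₗ v = x by
        obtain ⟨v, hv⟩ := hex
        exact (Submodule.Quotient.mk_eq_zero (coboundaries J X (k + 1))).2 ⟨v, hv⟩
      rcases k with _ | k
      · obtain ⟨v, hv⟩ := exists_descend π hπ u fun w hw =>
          LinearMap.congr_fun ((Submodule.mem_bot S).1 h0) ⟨w, hw⟩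
        exact ⟨v, cancel_surjective hπ ((LinearMap.comp_assoc _ _ _).trans ((congrArg _ hv).trans hu2))⟩
      · obtain ⟨e, he⟩ : ∃ e, resD S J k ∘ₗ e = u ∘ₗ (LinearMap.ker π).subtype := h0
        obtain ⟨e', he'⟩ := Module.Injective.extension_property (inj := injective_resX S J k) S _
          (LinearMap.ker π) (Fin n → S) (LinearMap.ker π).subtype Subtype.val_injective e
        obtain ⟨v, hv⟩ := exists_descend π hπ (u - resD S J k ∘ₗ e') fun w hw => by
          rw [LinearMap.sub_apply, sub_eq_zero]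
          have h1 := LinearMap.congr_fun he ⟨w, hw⟩
          refine h1.symm.trans (congrArg (resD S J k) ?_)
          exact (LinearMap.congr_fun he' ⟨w, hw⟩).symm
        refine ⟨v, cancel_surjective hπ ((LinearMap.comp_assoc _ _ _).trans ?_)⟩
        rw [hv, LinearMap.comp_sub, hu2, ← LinearMap.comp_assoc,
          show resD S J (k + 1) ∘ₗ resD S J k = 0 from
            LinearMap.ext (exact_resD S J k).apply_apply_eq_zero, LinearMap.zero_comp, sub_zero]
    suffices heq : (cocycles J X (k + 1)).map (coboundaries J X (k + 1)).mkQ = LinearMap.range f from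
      heq ▸ fg_range_of_ker_le hg hle
    ext y
    constructor
    · rintro ⟨x, hx, rfl⟩
      obtain ⟨u, hu⟩ := exists_resD_comp J k (x ∘ₗ π) (by
        rw [← LinearMap.comp_assoc, show resD S J (k + 1) ∘ₗ x = 0 from hx, LinearMap.zero_comp])
      exact ⟨⟨(u, x), LinearMap.mem_ker.2 (sub_eq_zero.2 hu)⟩, rfl⟩
    · rintro ⟨z, rfl⟩
      refine Submodule.mem_map_of_mem (cancel_surjective hπ ?_)
      change (resD S J (k + 1) ∘ₗ z.1.2) ∘ₗ π = 0 ∘ₗ π
      rw [LinearMap.comp_assoc, ← hL z, ← LinearMap.comp_assoc,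
        show resD S J (k + 1) ∘ₗ resD S J k = 0 from
          LinearMap.ext (exact_resD S J k).apply_apply_eq_zero, LinearMap.zero_comp,
        LinearMap.zero_comp]

/-! ### Heights in regular rings -/

theorem height_eq_succ_of_covBy {R : Type u} [CommRing R] [IsRegularRing R] {p q : PrimeSpectrum R}
    (hpq : p ⋖ q) : q.asIdeal.height = p.asIdeal.height + 1 := by
  let Rq := Localization.AtPrime q.asIdeal
  have := isRegularRing_iff.1 (inferInstance : IsRegularRing R) q.asIdeal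
  have := H4Goren.isGorensteinLocalRing_of_isRegularLocalRing Rq
  have := H4Goren.isCohenMacaulayLocalRing Rq
  have hdisj : Disjoint (q.asIdeal.primeCompl : Set R) p.asIdeal :=
    Set.disjoint_left.2 fun z hz hzp => hz (hpq.1.le hzp)
  have hP := IsLocalization.isPrime_of_isPrime_disjoint q.asIdeal.primeCompl Rq p.asIdeal p.2 hdisj
  have hc := IsLocalization.under_map_of_isPrime_disjoint q.asIdeal.primeCompl Rq p.2 hdisj
  set P := p.asIdeal.map (algebraMap R Rq)
  have hcov : (⟨P, hP⟩ : PrimeSpectrum Rq) ⋖ ⟨maximalIdeal Rq, inferInstance⟩ := by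
    let e := IsLocalization.AtPrime.primeSpectrumOrderIso Rq q.asIdeal
    have h1 : (e ⟨P, hP⟩).1 = p := PrimeSpectrum.ext hc
    have h2 : (e ⟨maximalIdeal Rq, inferInstance⟩).1 = q :=
      PrimeSpectrum.ext (Localization.AtPrime.under_maximalIdeal (I := q.asIdeal))
    refine ⟨e.lt_iff_lt.mp (show (e ⟨P, hP⟩).1 < (e ⟨maximalIdeal Rq, inferInstance⟩).1 by
      rw [h1, h2]; exact hpq.1), fun r hr1 hr2 => ?_⟩
    have a1 : (e ⟨P, hP⟩).1 < (e r).1 := e.lt_iff_lt.mpr hr1
    have a2 : (e r).1 < (e ⟨maximalIdeal Rq, inferInstance⟩).1 := e.lt_iff_lt.mpr hr2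
    rw [h1] at a1
    rw [h2] at a2
    exact hpq.2 a1 a2
  have hform := H05EGA4.height_add_dim_eq_of_isCohenMacaulay Rq P
  have hone : ringKrullDim (Rq ⧸ P) = 1 := by
    have : IsLocalRing (Rq ⧸ P) := .of_surjective' _ Ideal.Quotient.mk_surjective
    rw [← maximalIdeal_height_eq_ringKrullDim,
      ← IsLocalRing.map_maximalIdeal_of_surjective _ Ideal.Quotient.mk_surjective,
      H05EGA4.height_map_mk_of_covBy hcov, WithBot.coe_one]
  rw [hone, IsLocalization.height_map_of_disjoint q.asIdeal.primeCompl p.asIdeal hdisj,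
    IsLocalization.AtPrime.ringKrullDim_eq_height q.asIdeal Rq, ← WithBot.coe_one,
    ← WithBot.coe_add] at hform
  exact (WithBot.coe_injective hform).symm

/-- Between two comparable primes of a regular ring all intermediate heights occur. -/
theorem exists_between_height_eq {R : Type u} [CommRing R] [IsRegularRing R]
    {p q : PrimeSpectrum R} (hpq : p ≤ q) {k : ℕ} (hp : p.asIdeal.height ≤ k)
    (hq : (k : ℕ∞) ≤ q.asIdeal.height) :
    ∃ r : PrimeSpectrum R, p ≤ r ∧ r ≤ q ∧ r.asIdeal.height = k := by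
  rcases hp.eq_or_lt with h | h
  · exact ⟨p, le_rfl, hpq, h⟩
  obtain ⟨_, ⟨r, ⟨hpr, hrq, hr⟩, rfl⟩, hmax⟩ := set_has_maximal_iff_noetherian.2
    (inferInstance : IsNoetherianRing R)
    (PrimeSpectrum.asIdeal '' {r | p ≤ r ∧ r ≤ q ∧ r.asIdeal.height < k}) ⟨_, p, ⟨le_rfl, hpq, h⟩, rfl⟩
  have hlt : r < q := lt_of_le_of_ne hrq fun e => not_lt.2 hq (e ▸ hr)
  obtain ⟨s, ⟨hrs, hsq⟩, hmin⟩ := exists_minimalFor_of_wellFoundedLT
    (fun s => r < s ∧ s ≤ q) (fun s : PrimeSpectrum R => s.asIdeal.height) ⟨q, hlt, le_rfl⟩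
  have hcov : r ⋖ s := ⟨hrs, fun t hrt hts => by
    have := hmin ⟨hrt, hts.le.trans hsq⟩ (Ideal.height_mono hts.le)
    exact this.not_gt (Ideal.height_strict_mono_of_isPrime hts)⟩
  have hs : ¬ s.asIdeal.height < k := fun hs =>
    hmax s.asIdeal ⟨s, ⟨hpr.trans hrs.le, hsq, hs⟩, rfl⟩ hrs
  refine ⟨s, hpr.trans hrs.le, hsq, le_antisymm ?_ (not_lt.1 hs)⟩
  rw [height_eq_succ_of_covBy hcov]
  exact Order.add_one_le_of_lt hr

end Groth.Agent.H4LC
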