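import Groth.Agent.H4LC.GenLC

/-!
# Vanishing, annihilation and finiteness for the cohomology of `Γ_a Hom(E, J)`
-/

set_option autoImplicit false
set_option linter.unusedSectionVars false

universe u

open CategoryTheory IsLocalRing

namespace Groth.Agent.H4LC

variable {S : Type u} [CommRing S]

/-- If `H^j_p(M_p) = 0` for `j + c = ht p` then `E^c` vanishes at `p`. -/
theorem notMem_support_E_iff_H [IsRegularRing S] {M : Type u} [AddCommGroup M] [Module S M]
    (P : DualRes S M) (c : ℕ) (p : PrimeSpectrum S) :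
    p ∉ Module.support S (P.E c) ↔ ∀ j : ℕ, ((j + c : ℕ) : ℕ∞) = p.asIdeal.height →
      Subsingleton (LocCoh.H (maximalIdeal (Localization.AtPrime p.asIdeal)) j
        (LocalizedModule p.asIdeal.primeCompl M)) := by
  have := isRegularRing_iff.1 (inferInstance : IsRegularRing S) p.asIdeal
  have := H4Goren.isGorensteinLocalRing_of_isRegularLocalRing (Localization.AtPrime p.asIdeal)
  obtain ⟨h, hh⟩ := H05EGA4.exists_nat_height_eq p.asIdeal
  have hd : ringKrullDim (Localization.AtPrime p.asIdeal) = h := by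
    rw [IsLocalization.AtPrime.ringKrullDim_eq_height p.asIdeal (Localization.AtPrime p.asIdeal), hh]
    rfl
  rw [← P.subsingleton_loc_atPrime_iff c p,
    (P.loc p.asIdeal.primeCompl).subsingleton_E_iff_H hd c, hh]
  exact ⟨fun H j hj => H j (Nat.cast_injective hj), fun H j hj => H j (congrArg Nat.cast hj)⟩

theorem supportDim_localization_lt [IsNoetherianRing S] {X : Type u} [AddCommGroup X] [Module S X]
    (q : PrimeSpectrum S) {j k : ℕ} (hq : q.asIdeal.height = ((j + k : ℕ) : ℕ∞))
    (hX : ∀ r ≤ q, r ∈ Module.support S X → (k : ℕ∞) < r.asIdeal.height) :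
    Module.supportDim (Localization.AtPrime q.asIdeal) (LocalizedModule q.asIdeal.primeCompl X) <
      (j : WithBot ℕ∞) := by
  rcases isEmpty_or_nonempty
    (Module.support (Localization.AtPrime q.asIdeal) (LocalizedModule q.asIdeal.primeCompl X)) with
    he | hne
  · rw [Module.supportDim, Order.krullDim_eq_bot]
    exact WithBot.bot_lt_coe _
  have hmem : ∀ Q : Module.support (Localization.AtPrime q.asIdeal)
      (LocalizedModule q.asIdeal.primeCompl X),
      PrimeSpectrum.comap (algebraMap S (Localization.AtPrime q.asIdeal)) Q.1 ∈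
        Module.support S X := fun Q =>
    (H4Depth.mem_support_localizedModule_iff q.asIdeal.primeCompl _
      (LocalizedModule.mkLinearMap q.asIdeal.primeCompl X) Q.1).1 Q.2
  have hle : ∀ Q : PrimeSpectrum (Localization.AtPrime q.asIdeal),
      PrimeSpectrum.comap (algebraMap S (Localization.AtPrime q.asIdeal)) Q ≤ q := fun Q => by
    change Q.asIdeal.comap _ ≤ q.asIdeal
    conv_rhs => rw [← Localization.AtPrime.under_maximalIdeal (I := q.asIdeal)]
    exact Ideal.comap_mono (le_maximalIdeal Q.2.ne_top)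
  cases j with
  | zero =>
    obtain ⟨Q⟩ := hne
    have h1 := hX _ (hle Q.1) (hmem Q)
    have h2 := Ideal.height_mono (show (PrimeSpectrum.comap (algebraMap S
      (Localization.AtPrime q.asIdeal)) Q.1).asIdeal ≤ q.asIdeal from hle Q.1)
    rw [hq] at h2
    exact absurd (h1.trans_le h2) (by simp)
  | succ j =>
    refine lt_of_le_of_lt (b := (j : WithBot ℕ∞)) ?_ (by exact_mod_cast j.lt_succ_self)
    rw [Module.supportDim]
    refine iSup_le fun s => ?_
    have hlow : ∀ i : ℕ, ∀ hi : i < s.length + 1, ((k + 1 + i : ℕ) : ℕ∞) ≤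
        (PrimeSpectrum.comap (algebraMap S (Localization.AtPrime q.asIdeal))
          (s ⟨i, hi⟩).1).asIdeal.height := by
      intro i
      induction i with
      | zero =>
        intro hi
        rw [add_zero, Nat.cast_add, Nat.cast_one]
        exact Order.add_one_le_of_lt (hX _ (hle _) (hmem _))
      | succ i ih =>
        intro hi
        have hlt : (PrimeSpectrum.comap (algebraMap S (Localization.AtPrime q.asIdeal))
            (s ⟨i, by omega⟩).1).asIdeal < (PrimeSpectrum.comap
              (algebraMap S (Localization.AtPrime q.asIdeal)) (s ⟨i + 1, hi⟩).1).asIdeal := by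
          have h := (IsLocalization.AtPrime.primeSpectrumOrderIso
            (Localization.AtPrime q.asIdeal) q.asIdeal).strictMono
            (show (s ⟨i, by omega⟩).1 < (s ⟨i + 1, hi⟩).1 from s.strictMono (by simp [Fin.lt_def]))
          exact h
        rw [← add_assoc, Nat.cast_add, Nat.cast_one]
        exact Order.add_one_le_of_lt ((ih _).trans_lt (Ideal.height_strict_mono_of_isPrime hlt))
    have h1 := (hlow s.length (by omega)).trans
      (Ideal.height_mono (show _ ≤ q.asIdeal from hle (s ⟨s.length, by omega⟩).1))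
    rw [hq, Nat.cast_le] at h1
    exact_mod_cast (by omega : s.length ≤ j)

variable [IsRegularRing S] (J : RingRes S)

/-- A finite module none of whose primes has height `k` has no cohomology in degree `k`. -/
theorem subsingleton_E_of_heights {X : Type u} [AddCommGroup X] [Module S X] [Module.Finite S X]
    (Q : DualRes S X) (k : ℕ) (hX : ∀ q ∈ Module.support S X, q.asIdeal.height ≠ k) :
    Subsingleton (Q.E k) := by
  rw [← Module.support_eq_empty_iff (R := S)]
  refine Set.eq_empty_iff_forall_notMem.2 fun q => ?_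
  rw [notMem_support_E_iff_H]
  intro j hj
  by_cases hq : q ∈ Module.support S X
  · refine subsingleton_H_of_supportDim_lt _ j _ (supportDim_localization_lt q hj.symm fun r hr hrX => ?_)
    refine lt_of_not_ge fun hle => ?_
    obtain ⟨r', hrr', hr'q, hr'⟩ := exists_between_height_eq hr hle
      (hj ▸ Nat.cast_le.2 (Nat.le_add_left k j))
    exact hX r' (Module.mem_support_mono hrr' hrX) hr'
  · have := Module.notMem_support_iff.1 hq
    exact subsingleton_H_of_subsingleton _ _ _

theorem mem_coboundaries_of_heights {X : Type u} [AddCommGroup X] [Module S X] [Module.Finite S X]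
    (k : ℕ) (hX : ∀ q ∈ Module.support S X, q.asIdeal.height ≠ k) {f : X →ₗ[S] resX S J k}
    (hf : f ∈ cocycles J X k) : f ∈ coboundaries J X k := by
  obtain ⟨Q, _⟩ := nonempty_dualRes (S := S) X
  have hE := subsingleton_E_of_heights Q k hX
  cases k with
  | zero => exact (Submodule.mem_bot S).2 (Q.eq_zero_of_subsingleton_E J hE f hf)
  | succ k => exact Q.exists_resD_of_subsingleton_E J k hE f hf

variable (a : Ideal S)

theorem homB_le_coboundaries (E : Type u) [AddCommGroup E] [Module S E] (k : ℕ) :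
    homB a J E k ≤ coboundaries J E k := by
  cases k with
  | zero => exact le_rfl
  | succ k =>
    rintro _ ⟨g, -, rfl⟩
    exact ⟨g, rfl⟩

theorem coboundaries_le_homB {E : Type u} [AddCommGroup E] [Module S E] [Module.Finite S E]
    (hE : LocCoh.IsPowerTorsion a E) (k : ℕ) : coboundaries J E k ≤ homB a J E k := by
  cases k with
  | zero => exact le_rfl
  | succ k =>
    rintro _ ⟨g, rfl⟩
    exact ⟨g, mem_torsionSub_of_forall a fun y => DRing.map_mem_torsionSub a g (hE y), rfl⟩

theorem comp_mem_homB {E E' : Type u} [AddCommGroup E] [Module S E] [AddCommGroup E'] [Module S E']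
    (q : E →ₗ[S] E') {k : ℕ} {f : E' →ₗ[S] resX S J k} (hf : f ∈ homB a J E' k) :
    f ∘ₗ q ∈ homB a J E k := by
  cases k with
  | zero =>
    rw [(Submodule.mem_bot S).1 hf]
    exact (Submodule.mem_bot S).2 (LinearMap.zero_comp q)
  | succ k =>
    obtain ⟨g, hg, rfl⟩ := (mem_homB_succ_iff a J).1 hf
    exact (mem_homB_succ_iff a J).2
      ⟨g ∘ₗ q, DRing.map_mem_torsionSub a (LinearMap.lcomp S _ q) hg, (LinearMap.comp_assoc _ _ _).symm⟩

/-- If no prime of the support above `a` has height `k`, torsion cocycles are coboundaries. -/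
theorem homZ_le_homB {E : Type u} [AddCommGroup E] [Module S E] [Module.Finite S E] (k : ℕ)
    (hE : ∀ q ∈ Module.support S E, a ≤ q.asIdeal → q.asIdeal.height ≠ k) :
    homZ a J E k ≤ homB a J E k := by
  intro f hf
  obtain ⟨hd, e, he⟩ := (mem_homZ_iff a J).1 hf
  let N := (a ^ (e + 1)) • (⊤ : Submodule S E)
  have hker : N ≤ LinearMap.ker f := Submodule.smul_le.2 fun r hr y _ => by
    rw [LinearMap.mem_ker, map_smul]
    exact LinearMap.congr_fun (he r (Ideal.pow_le_pow_right e.le_succ hr)) y
  have htor : LocCoh.IsPowerTorsion a (E ⧸ N) := fun y => ⟨e + 1, fun r hr => by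
    obtain ⟨y, rfl⟩ := Submodule.Quotient.mk_surjective _ y
    rw [← Submodule.Quotient.mk_smul, Submodule.Quotient.mk_eq_zero]
    exact Submodule.smul_mem_smul hr Submodule.mem_top⟩
  have hsupp : ∀ q ∈ Module.support S (E ⧸ N), q.asIdeal.height ≠ k := fun q hq => by
    refine hE q (Module.support_subset_of_surjective N.mkQ N.mkQ_surjective hq) ?_
    refine Ideal.IsPrime.le_of_pow_le (n := e + 1) (le_trans ?_ (Module.annihilator_le_of_mem_support hq))
    intro r hr
    rw [Module.mem_annihilator]
    intro y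
    obtain ⟨y, rfl⟩ := Submodule.Quotient.mk_surjective _ y
    rw [← Submodule.Quotient.mk_smul, Submodule.Quotient.mk_eq_zero]
    exact Submodule.smul_mem_smul hr Submodule.mem_top
  rw [← Submodule.liftQ_mkQ N f hker]
  exact comp_mem_homB J a _ (coboundaries_le_homB J a htor k (mem_coboundaries_of_heights J k hsupp
    (Submodule.linearMap_qext _ (LinearMap.ext fun y => LinearMap.congr_fun hd y))))

theorem exists_support_notMem {E : Type u} [AddCommGroup E] [Module S E] [Module.Finite S E]
    (T : Submodule S E) (b : Ideal S)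
    (hT : ∀ y : E, (∀ r ∈ b, r • y ∈ T) → y ∈ T)
    {q : PrimeSpectrum S} (hq : q ∈ Module.support S (E ⧸ T)) :
    ∃ p ∈ Module.support S E, p ≤ q ∧ ¬ b ≤ p.asIdeal := by
  obtain ⟨P, hP, hPq⟩ := Ideal.exists_minimalPrimes_le (Module.annihilator_le_of_mem_support hq)
  have hass := Module.associatedPrimes.minimalPrimes_annihilator_subset_associatedPrimes S (E ⧸ T) hP
  obtain ⟨hPp, x, hx⟩ := isAssociatedPrime_iff.1 hass
  refine ⟨⟨P, hPp⟩, Module.support_subset_of_surjective T.mkQ T.mkQ_surjective ?_, hPq, fun hb => ?_⟩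
  · rw [Module.support_eq_zeroLocus]
    exact hP.1.2
  · refine hPp.ne_top ?_
    obtain ⟨y, rfl⟩ := Submodule.Quotient.mk_surjective _ x
    have hy : y ∈ T := hT y fun r hr => by
      have : r ∈ (⊥ : Submodule S (E ⧸ T)).colon {Submodule.Quotient.mk y} := hx ▸ hb hr
      rwa [Submodule.mem_colon_singleton, Submodule.mem_bot, ← Submodule.Quotient.mk_smul,
        Submodule.Quotient.mk_eq_zero] at this
    rw [hx, (Submodule.Quotient.mk_eq_zero T).2 hy]
    simp

theorem exists_pow_smul_torsionSub (b : Ideal S) (E : Type u) [AddCommGroup E] [Module S E]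
    [Module.Finite S E] : ∃ N : ℕ, ∀ y ∈ DRing.torsionSub b E, ∀ r ∈ b ^ N, r • y = 0 := by
  obtain ⟨n, v, hv⟩ := Submodule.fg_iff_exists_fin_generating_family.1
    (IsNoetherian.noetherian (DRing.torsionSub b E))
  choose e he using fun i : Fin n => (hv ▸ Submodule.subset_span ⟨i, rfl⟩ : v i ∈ DRing.torsionSub b E)
  refine ⟨∑ i, e i, fun y hy r hr => ?_⟩
  rw [← hv] at hy
  induction hy using Submodule.span_induction with
  | mem z hz =>
    obtain ⟨i, rfl⟩ := hz
    exact he i r (Ideal.pow_le_pow_right (Finset.single_le_sum (fun _ _ => Nat.zero_le _)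
      (Finset.mem_univ i)) hr)
  | zero => exact smul_zero r
  | add z w _ _ hz hw => rw [smul_add, hz, hw, add_zero]
  | smul t z _ hz => rw [smul_comm, hz, smul_zero]

theorem mem_torsionSub_of_smul_mem (b : Ideal S) {E : Type u} [AddCommGroup E] [Module S E]
    [Module.Finite S E] {y : E} (hy : ∀ r ∈ b, r • y ∈ DRing.torsionSub b E) :
    y ∈ DRing.torsionSub b E := by
  obtain ⟨N, hN⟩ := exists_pow_smul_torsionSub b E
  refine ⟨N + 1, fun r hr => ?_⟩
  rw [pow_succ] at hr
  induction hr using Submodule.mul_induction_on' with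
  | mem_mul_mem u hu w hw => rw [mul_smul]; exact hN _ (hy w hw) u hu
  | add u _ w _ hu hw => rw [add_smul, hu, hw, add_zero]

/-- Annihilation of the torsion cohomology. -/
theorem exists_pow_smul_mem_homB {E : Type u} [AddCommGroup E] [Module S E] [Module.Finite S E]
    (k : ℕ) (β : S)
    (hE : ∀ p ∈ Module.support S E, β ∉ p.asIdeal →
      ∀ q : PrimeSpectrum S, p ≤ q → a ≤ q.asIdeal → q.asIdeal.height ≠ k) :
    ∃ N : ℕ, ∀ f ∈ homZ a J E k, β ^ N • f ∈ homB a J E k := by
  let b := Ideal.span {β}
  let T := DRing.torsionSub b E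
  obtain ⟨N, hN⟩ := exists_pow_smul_torsionSub b E
  refine ⟨N, fun f hf => ?_⟩
  have hker : T ≤ LinearMap.ker (β ^ N • f) := fun y hy => by
    rw [LinearMap.mem_ker, LinearMap.smul_apply, ← map_smul, hN y hy _
      (Ideal.pow_mem_pow (Ideal.mem_span_singleton_self β) N), map_zero]
  have hZ : T.liftQ (β ^ N • f) hker ∈ homZ a J (E ⧸ T) k := by
    obtain ⟨hd, htor⟩ := (mem_homZ_iff a J).1 (Submodule.smul_mem _ (β ^ N) hf)
    refine (mem_homZ_iff a J).2
      ⟨Submodule.linearMap_qext _ (LinearMap.ext fun y => LinearMap.congr_fun hd y), ?_⟩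
    obtain ⟨e, he⟩ := htor
    exact ⟨e, fun r hr => Submodule.linearMap_qext _ (LinearMap.ext fun y =>
      LinearMap.congr_fun (he r hr) y)⟩
  rw [← Submodule.liftQ_mkQ T (β ^ N • f) hker]
  refine comp_mem_homB J a _ (homZ_le_homB J a k (fun q hq haq => ?_) hZ)
  obtain ⟨p, hp, hpq, hpb⟩ := exists_support_notMem T b
    (fun y hy => mem_torsionSub_of_smul_mem b hy) hq
  exact hE p hp (fun h => hpb ((Ideal.span_singleton_le_iff_mem _).2 h)) q hpq haq

/-- Finiteness of the torsion cohomology. -/
theorem fg_map_homZ {E : Type u} [AddCommGroup E] [Module S E] [Module.Finite S E] (k : ℕ)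
    (hE : ∀ p ∈ Module.support S E, ¬ a ≤ p.asIdeal →
      ∀ q : PrimeSpectrum S, p ≤ q → a ≤ q.asIdeal → q.asIdeal.height ≠ k) :
    ((homZ a J E k).map (homB a J E k).mkQ).FG := by
  let T := DRing.torsionSub a E
  let L := homZ a J E k
  let g := (coboundaries J T k).mkQ ∘ₗ LinearMap.lcomp S (resX S J k) T.subtype ∘ₗ L.subtype
  let f := (homB a J E k).mkQ ∘ₗ L.subtype
  have hg : (LinearMap.range g).FG := by
    have := isNoetherian_of_fg_of_noetherian _ (fg_map_cocycles J k T)
    refine (isNoetherian_submodule.1 this) _ ?_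
    rintro _ ⟨φ, rfl⟩
    exact Submodule.mem_map_of_mem (LinearMap.ext fun y =>
      LinearMap.congr_fun ((mem_homZ_iff a J).1 φ.2).1 y.1)
  have hle : LinearMap.ker g ≤ LinearMap.ker f := by
    rintro ⟨φ, hφ⟩ h0
    replace h0 : φ ∘ₗ T.subtype ∈ homB a J T k :=
      coboundaries_le_homB J a (isPowerTorsion_torsionSub a E) k
        ((Submodule.Quotient.mk_eq_zero (coboundaries J T k)).1 h0)
    refine (Submodule.Quotient.mk_eq_zero (homB a J E k)).2 ?_
    obtain ⟨χ, hχB, hχ⟩ : ∃ χ ∈ homB a J E k, χ ∘ₗ T.subtype = φ ∘ₗ T.subtype := by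
      rcases k with _ | k
      · exact ⟨0, zero_mem _, ((Submodule.mem_bot S).1 h0).symm ▸ LinearMap.zero_comp _⟩
      · obtain ⟨v, hv, hve⟩ := (mem_homB_succ_iff a J).1 h0
        obtain ⟨v', hv', hvv'⟩ := exists_torsion_extension a (injective_resX S J k) T.subtype
          Subtype.val_injective v fun y => apply_mem_torsionSub a hv y
        exact ⟨resD S J k ∘ₗ v', ⟨v', hv', rfl⟩, by rw [LinearMap.comp_assoc, hvv', hve]⟩
    have hker : T ≤ LinearMap.ker (φ - χ) := fun y hy =>
      sub_eq_zero.2 (LinearMap.congr_fun hχ ⟨y, hy⟩).symm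
    have hZ : T.liftQ (φ - χ) hker ∈ homZ a J (E ⧸ T) k := by
      obtain ⟨hd, htor⟩ := (mem_homZ_iff a J).1 (sub_mem hφ (homB_le_homZ a J E k hχB))
      refine (mem_homZ_iff a J).2
        ⟨Submodule.linearMap_qext _ (LinearMap.ext fun y => LinearMap.congr_fun hd y), ?_⟩
      obtain ⟨e, he⟩ := htor
      exact ⟨e, fun r hr => Submodule.linearMap_qext _ (LinearMap.ext fun y =>
        LinearMap.congr_fun (he r hr) y)⟩
    have h1 : φ - χ ∈ homB a J E k := by
      rw [← Submodule.liftQ_mkQ T (φ - χ) hker]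
      refine comp_mem_homB J a _ (homZ_le_homB J a k (fun q hq haq => ?_) hZ)
      obtain ⟨p, hp, hpq, hpa⟩ := exists_support_notMem T a
        (fun y hy => mem_torsionSub_of_smul_mem a hy) hq
      exact hE p hp hpa q hpq haq
    exact (Submodule.sub_mem_iff_left _ hχB).1 h1
  have hrange : L.map (homB a J E k).mkQ = LinearMap.range f := by
    rw [LinearMap.range_comp, Submodule.range_subtype]
  exact hrange ▸ fg_range_of_ker_le hg hle

end Groth.Agent.H4LC
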