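import Groth.Agent.H4LC.LC
import Groth.Agent.H4Goren.Hull
import Groth.Agent.S17754
import Mathlib.RingTheory.Filtration

/-!
# Symbolic powers of a prime of dimension one and top local cohomology over a Gorenstein ring
-/

set_option autoImplicit false

universe u

open CategoryTheory IsLocalRing Opposite

namespace Groth.Agent.H4LC

section Symb

variable {B : Type u} [CommRing B] (P : Ideal B) [P.IsPrime]

/-- The symbolic power `P^(m)`. -/
abbrev symb (m : ℕ) : Ideal B :=
  ((P.map (algebraMap B (Localization.AtPrime P))) ^ m).comap (algebraMap B (Localization.AtPrime P))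

theorem pow_le_symb (m : ℕ) : P ^ m ≤ symb P m := by
  rw [symb, ← Ideal.map_pow]
  exact Ideal.le_comap_map

theorem symb_antitone : Antitone (symb P) := fun _ _ h =>
  Ideal.comap_mono (Ideal.pow_le_pow_right h)

theorem symb_le_self {m : ℕ} (hm : 1 ≤ m) : symb P m ≤ P :=
  (symb_antitone P hm).trans (le_of_eq (by
    rw [symb, pow_one, Localization.AtPrime.map_eq_maximalIdeal]
    exact Localization.AtPrime.under_maximalIdeal))

theorem mem_symb_of_mul_mem {m : ℕ} {x a : B} (hx : x ∉ P) (h : x * a ∈ symb P m) : a ∈ symb P m := by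
  have hu : IsUnit (algebraMap B (Localization.AtPrime P) x) :=
    IsLocalization.map_units (Localization.AtPrime P) (⟨x, hx⟩ : P.primeCompl)
  rw [symb, Ideal.mem_comap, map_mul] at h
  exact (Ideal.unit_mul_mem_iff_mem _ hu).1 h

theorem exists_mul_mem_pow {m : ℕ} {a : B} (ha : a ∈ symb P m) : ∃ s ∉ P, s * a ∈ P ^ m := by
  rw [symb, Ideal.mem_comap, ← Ideal.map_pow] at ha
  obtain ⟨s, hs, hsa⟩ := (IsLocalization.algebraMap_mem_map_algebraMap_iff P.primeCompl _ _ _).1 ha
  exact ⟨s, hs, hsa⟩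

theorem iInf_symb [IsDomain B] [IsNoetherianRing B] : ⨅ m, symb P m = ⊥ := by
  have : IsNoetherianRing (Localization.AtPrime P) :=
    IsLocalization.isNoetherianRing P.primeCompl _ inferInstance
  refine eq_bot_iff.2 fun a ha => ?_
  have hne : P.map (algebraMap B (Localization.AtPrime P)) ≠ ⊤ := by
    rw [Localization.AtPrime.map_eq_maximalIdeal]
    exact (maximalIdeal.isMaximal _).ne_top
  have h0 : algebraMap B (Localization.AtPrime P) a = 0 := by
    rw [← Ideal.mem_bot, ← Ideal.iInf_pow_eq_bot_of_isLocalRing _ hne, Ideal.mem_iInf]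
    exact fun m => (Ideal.mem_iInf.1 ha m)
  exact (Ideal.mem_bot).2 ((map_eq_zero_iff _ (IsLocalization.injective (Localization.AtPrime P)
    (le_nonZeroDivisors_of_noZeroDivisors (fun h : (0 : B) ∈ P.primeCompl => h P.zero_mem)))).1 h0)

end Symb

section DimOne

variable {B : Type u} [CommRing B] [IsLocalRing B]

theorem eq_maximalIdeal_of_lt {P Q : Ideal B} [P.IsPrime] [Q.IsPrime] (hP : ringKrullDim (B ⧸ P) = 1)
    (h : P < Q) : Q = maximalIdeal B := by
  by_contra hne
  have hQm : Q < maximalIdeal B := lt_of_le_of_ne (le_maximalIdeal (Ideal.IsPrime.ne_top ‹_›)) hne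
  rw [ringKrullDim_quotient] at hP
  let a : PrimeSpectrum.zeroLocus (P : Set B) := ⟨⟨P, ‹_›⟩, (PrimeSpectrum.mem_zeroLocus _ _).2 subset_rfl⟩
  let b : PrimeSpectrum.zeroLocus (P : Set B) := ⟨⟨Q, ‹_›⟩, (PrimeSpectrum.mem_zeroLocus _ _).2 h.le⟩
  let c : PrimeSpectrum.zeroLocus (P : Set B) := ⟨⟨maximalIdeal B, inferInstance⟩,
    (PrimeSpectrum.mem_zeroLocus _ _).2 (h.le.trans hQm.le)⟩
  have hab : a < b := h
  have hbc : b < c := hQm
  have := Order.LTSeries.length_le_krullDim ((((RelSeries.singleton _ c).cons b hbc : LTSeries _).cons a hab) : LTSeries _)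
  rw [hP] at this
  simp only [RelSeries.cons_length, RelSeries.singleton_length] at this
  exact absurd (show (2 : ℕ) ≤ 1 by exact_mod_cast this) (by omega)

theorem ne_maximalIdeal_of_dim_one {P : Ideal B} (hP : ringKrullDim (B ⧸ P) = 1) :
    P ≠ maximalIdeal B := by
  rintro rfl
  letI := Ideal.Quotient.field (maximalIdeal B)
  rw [ringKrullDim_eq_zero_of_field] at hP
  exact zero_ne_one hP

variable [IsNoetherianRing B] (P : Ideal B) [P.IsPrime]

/-- Chevalley's bound transported to the `P`-adic topology. -/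
theorem exists_symb_le_pow (hP : ringKrullDim (B ⧸ P) = 1)
    (hC : ∀ k, ∃ s, symb P s ≤ maximalIdeal B ^ k) (n : ℕ) : ∃ m, n ≤ m ∧ symb P m ≤ P ^ n := by
  let N := symb P n
  have hle : maximalIdeal B ≤ ((P ^ n).colon (N : Set B)).radical := by
    rw [Ideal.radical_eq_sInf]
    refine le_sInf fun Q ⟨hQ, hQp⟩ => ?_
    have := hQp
    have hpow : P ^ n ≤ Q := le_trans (fun a ha => Submodule.mem_colon.2 fun x _ =>
      Ideal.mul_mem_right x _ ha) hQ
    have hPQ : P ≤ Q := by
      rcases Nat.eq_zero_or_pos n with h | h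
      · subst h
        rw [pow_zero, Ideal.one_eq_top, top_le_iff] at hpow
        exact absurd hpow hQp.ne_top
      · exact (hQp.pow_le_iff h.ne').1 hpow
    have hne : P ≠ Q := by
      rintro rfl
      obtain ⟨G, hG⟩ := (IsNoetherian.noetherian N : N.FG)
      classical
      have hG' : ∀ g ∈ G, ∃ s ∉ P, s * g ∈ P ^ n := fun g hg =>
        exists_mul_mem_pow P (show g ∈ N from hG.le (Submodule.subset_span hg))
      choose! s hs hsg using hG'
      refine (Ideal.IsPrime.prod_mem_iff.not.2 (by rintro ⟨g, hg, h⟩; exact hs g hg h)) (hQ ?_)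
      refine Submodule.mem_colon.2 fun x hx => ?_
      have hx' : x ∈ Submodule.span B (G : Set B) := by rw [hG]; exact hx
      clear hx
      induction hx' using Submodule.span_induction with
      | mem y hy =>
        obtain ⟨c, hc⟩ := Finset.dvd_prod_of_mem s (Finset.mem_coe.1 hy)
        rw [smul_eq_mul, hc, mul_right_comm]
        exact Ideal.mul_mem_right _ _ (hsg y hy)
      | zero => simp
      | add y z _ _ hy hz => rw [smul_add]; exact Submodule.add_mem _ hy hz
      | smul r y _ hy => rw [smul_comm]; exact Submodule.smul_mem _ _ hy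
    exact (eq_maximalIdeal_of_lt hP (lt_of_le_of_ne hPQ hne)).ge
  obtain ⟨c, hc⟩ := Ideal.exists_pow_le_of_le_radical_of_fg hle (IsNoetherian.noetherian _)
  obtain ⟨k, hk⟩ := Ideal.exists_pow_inf_eq_pow_smul (maximalIdeal B) (N : Submodule B B)
  obtain ⟨s, hs⟩ := hC (c + k)
  refine ⟨max s n, le_max_right _ _, ?_⟩
  intro a ha
  have ha1 : a ∈ maximalIdeal B ^ (c + k) := hs (symb_antitone P (le_max_left s n) ha)
  have ha2 : a ∈ N := symb_antitone P (le_max_right s n) ha
  have ha3 : a ∈ (maximalIdeal B ^ c • (maximalIdeal B ^ k • ⊤ ⊓ (N : Submodule B B)) : Submodule B B) := by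
    have := hk (c + k) (Nat.le_add_left k c)
    rw [Nat.add_sub_cancel] at this
    rw [← this]
    exact ⟨by simpa using ha1, ha2⟩
  refine Submodule.smul_induction_on ha3 (fun r hr x hx => ?_) fun x y hx hy => add_mem hx hy
  exact Submodule.mem_colon.1 (hc hr) x hx.2

/-- Chevalley's theorem pulled back along a finite injective map to a complete domain. -/
theorem exists_symb_le_maximalIdeal_pow (R : Type u) [CommRing R] [IsDomain R] [IsLocalRing R]
    [IsNoetherianRing R] [IsAdicComplete (maximalIdeal R) R] [Algebra B R] [Module.Finite B R]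
    (hinj : Function.Injective (algebraMap B R)) (p : Ideal R) [p.IsPrime]
    (hp : p.comap (algebraMap B R) = P) (k : ℕ) : ∃ s, symb P s ≤ maximalIdeal B ^ k := by
  have hrad : maximalIdeal R ≤ ((maximalIdeal B).map (algebraMap B R)).radical := by
    rw [Ideal.radical_eq_sInf]
    refine le_sInf fun Q ⟨hQ, hQp⟩ => ?_
    have := hQp
    have : (Q.comap (algebraMap B R)).IsMaximal := by
      rw [← (maximalIdeal.isMaximal B).eq_of_le (Ideal.IsPrime.ne_top inferInstance)
        (Ideal.map_le_iff_le_comap.1 hQ)]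
      exact maximalIdeal.isMaximal B
    exact (IsLocalRing.eq_maximalIdeal (Ideal.isMaximal_of_isIntegral_of_isMaximal_comap Q this)).ge
  obtain ⟨c, hc⟩ := Ideal.exists_pow_le_of_le_radical_of_fg hrad (IsNoetherian.noetherian _)
  obtain ⟨a, ha⟩ := Ideal.exists_pow_inf_eq_pow_smul (maximalIdeal B)
    (LinearMap.range (Algebra.linearMap B R))
  obtain ⟨s, hs⟩ := S17754.result R (symb p) (symb_antitone p) (iInf_symb p) (c * (k + a))
  refine ⟨s, fun x hx => ?_⟩
  obtain ⟨t, ht, htx⟩ := exists_mul_mem_pow P hx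
  have hx1 : algebraMap B R x ∈ symb p s := by
    refine mem_symb_of_mul_mem p (x := algebraMap B R t) (fun h => ht (hp ▸ h)) (pow_le_symb p s ?_)
    rw [← map_mul]
    refine Ideal.pow_right_mono (Ideal.map_le_iff_le_comap.2 hp.ge) s ?_
    rw [← Ideal.map_pow]
    exact Ideal.mem_map_of_mem _ htx
  have hx2 : algebraMap B R x ∈ (maximalIdeal B ^ (k + a) • ⊤ : Submodule B R) := by
    rw [Ideal.smul_top_eq_map, Submodule.restrictScalars_mem, Ideal.map_pow]
    exact Ideal.pow_right_mono hc _ (by rw [← pow_mul]; exact hs hx1)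
  have hx3 : algebraMap B R x ∈ (maximalIdeal B ^ k • LinearMap.range (Algebra.linearMap B R) :
      Submodule B R) := by
    have := ha (k + a) (Nat.le_add_left a k)
    rw [Nat.add_sub_cancel] at this
    exact Submodule.smul_mono le_rfl inf_le_right (this.le ⟨hx2, ⟨x, rfl⟩⟩)
  rw [← Submodule.map_top, ← Submodule.map_smul''] at hx3
  obtain ⟨y, hy, hyx⟩ := hx3
  obtain rfl : y = x := hinj hyx
  simpa using hy

end DimOne

section Gorenstein

/-- Hartshorne–Lichtenbaum vanishing at a prime of dimension one of a Gorenstein local domain. -/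
theorem subsingleton_H_prime_of_gorenstein (B : Type u) [CommRing B] [IsDomain B]
    [LocCoh.IsGorensteinLocalRing B] (P : Ideal B) [P.IsPrime] (hP : ringKrullDim (B ⧸ P) = 1)
    (hC : ∀ k, ∃ s, symb P s ≤ maximalIdeal B ^ k) (n : ℕ) (hn : ringKrullDim B = n) :
    Subsingleton (LocCoh.H P n B) := by
  refine subsingleton_of_forall_eq 0 fun z => ?_
  obtain ⟨N, hN, x, rfl⟩ := exists_rep_ge (quotSys P) n (ModuleCat.of B B) z 1
  obtain ⟨m, hm, hle⟩ := exists_symb_le_pow P hP hC N
  have hsub : Subsingleton (Abelian.Ext (ModuleCat.of B (B ⧸ symb P m)) (ModuleCat.of B B) n) := by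
    have hs : symb P m ≠ ⊤ := fun h => Ideal.IsPrime.ne_top ‹P.IsPrime›
      (top_le_iff.1 (h ▸ symb_le_self P (hN.trans hm)))
    have : Nontrivial (B ⧸ symb P m) := Ideal.Quotient.nontrivial_iff.2 hs
    refine (H4Goren.zero_lt_depth_iff B n hn (B ⧸ symb P m)).1 ?_
    obtain ⟨t, htm, htP⟩ := SetLike.exists_of_lt (lt_of_le_of_ne
      (le_maximalIdeal (Ideal.IsPrime.ne_top ‹P.IsPrime›)) (ne_maximalIdeal_of_dim_one hP))
    refine Order.one_le_iff_pos.1 ((H4Depth.one_le_idealDepth_iff
      (H4Depth.maximalIdeal_smul_top_ne_top (R := B) (M := B ⧸ symb P m))).2 ⟨t, htm, ?_⟩)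
    intro a b hab
    obtain ⟨a, rfl⟩ := Submodule.Quotient.mk_surjective _ a
    obtain ⟨b, rfl⟩ := Submodule.Quotient.mk_surjective _ b
    change Submodule.Quotient.mk (t • a) = Submodule.Quotient.mk (t • b) at hab
    rw [Submodule.Quotient.eq, smul_eq_mul, smul_eq_mul, ← mul_sub] at hab
    exact (Submodule.Quotient.eq _).2 (mem_symb_of_mul_mem P htP hab)
  let u : (quotSys P).obj (op m) ⟶ ModuleCat.of B (B ⧸ symb P m) :=
    ModuleCat.ofHom (Submodule.mapQ (P ^ m) (symb P m) LinearMap.id (fun a ha => pow_le_symb P m ha))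
  let v : ModuleCat.of B (B ⧸ symb P m) ⟶ (quotSys P).obj (op N) :=
    ModuleCat.ofHom (Submodule.mapQ (symb P m) (P ^ N) LinearMap.id (fun a ha => hle ha))
  have htr : u ≫ v = tr (quotSys P) hm := quot_hom_ext P rfl
  rw [← ι_tr (quotSys P) n (ModuleCat.of B B) hm x, ← htr, ← Abelian.Ext.mk₀_comp_mk₀,
    Abelian.Ext.comp_assoc_of_second_deg_zero,
    Subsingleton.elim ((Abelian.Ext.mk₀ v).comp x (zero_add n)) 0, Abelian.Ext.comp_zero, map_zero]
  rfl

end Gorenstein

end Groth.Agent.H4LC
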