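import Groth.Agent.H4LC.DualRes
import Groth.Agent.H4LC.Shift

/-!
# The complex `Hom(D, J)` of a dual resolution `D` and an injective resolution `J` of the ring

Its cohomology is `M` in degree zero, so its torsion cocycles compute local cohomology.
-/

set_option autoImplicit false
set_option linter.unusedSectionVars false

universe u

open CategoryTheory

namespace Groth.Agent.H4LC

variable {S : Type u} [CommRing S] [IsNoetherianRing S]

/-- An injective resolution of the ring. -/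
abbrev RingRes (S : Type u) [CommRing S] := InjectiveResolution (ModuleCat.of S S)

variable (J : RingRes S)

/-- The augmentation `S → J⁰`. -/
noncomputable def augJ : S →ₗ[S] resX S J 0 :=
  (LinearMap.ker (resD S J 0)).subtype ∘ₗ (augEquiv S J).toLinearMap

theorem augJ_injective : Function.Injective (augJ J) :=
  Subtype.val_injective.comp (augEquiv S J).injective

theorem resD_augJ (s : S) : resD S J 0 (augJ J s) = 0 := (augEquiv S J s).2

/-- Maps killed by the first differential factor through the ring. -/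
theorem exists_augJ_comp {X : Type u} [AddCommGroup X] [Module S X] (f : X →ₗ[S] resX S J 0)
    (hf : resD S J 0 ∘ₗ f = 0) : ∃ g : X →ₗ[S] S, augJ J ∘ₗ g = f :=
  ⟨(augEquiv S J).symm.toLinearMap ∘ₗ f.codRestrict _ (LinearMap.congr_fun hf),
    LinearMap.ext fun x => congrArg Subtype.val ((augEquiv S J).apply_symm_apply _)⟩

theorem exists_resD_comp {X : Type u} [AddCommGroup X] [Module S X] [Module.Projective S X] (k : ℕ)
    (f : X →ₗ[S] resX S J (k + 1)) (hf : resD S J (k + 1) ∘ₗ f = 0) :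
    ∃ g : X →ₗ[S] resX S J k, resD S J k ∘ₗ g = f := by
  have hsurj : Function.Surjective ((resD S J k).codRestrict (LinearMap.ker (resD S J (k + 1)))
      fun x => (exact_resD S J k).apply_apply_eq_zero x) := fun y => by
    obtain ⟨x, hx⟩ := (exact_resD S J k y.1).1 y.2
    exact ⟨x, Subtype.ext hx⟩
  obtain ⟨g, hg⟩ := Module.projective_lifting_property _
    (f.codRestrict (LinearMap.ker (resD S J (k + 1))) (LinearMap.congr_fun hf)) hsurj
  exact ⟨g, LinearMap.ext fun x => congrArg Subtype.val (LinearMap.congr_fun hg x)⟩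

theorem injective_hom (X : Type u) [AddCommGroup X] [Module S X] [Module.Finite S X]
    [Module.Projective S X] (E : Type u) [AddCommGroup E] [Module S E] (hE : Module.Injective S E) :
    Module.Injective S (X →ₗ[S] E) := by
  obtain ⟨n, f, hf⟩ := Module.Finite.exists_fin' S X
  obtain ⟨g, hg⟩ := Module.projective_lifting_property f LinearMap.id hf
  have : Module.Injective S (Fin n → E) := inferInstance
  refine H4Inj.injective_of_leftInverse this
    (LinearMap.pi fun i => LinearMap.applyₗ (f (Pi.single i 1)))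
    (LinearMap.lcomp S E g ∘ₗ (LinearMap.lsum S (fun _ : Fin n => S) S).toLinearMap ∘ₗ
      (LinearMap.pi fun i => (LinearMap.ringLmapEquivSelf S S E).symm.toLinearMap ∘ₗ LinearMap.proj i))
    ?_
  refine LinearMap.ext fun φ => LinearMap.ext fun x => ?_
  conv_rhs => rw [LinearMap.id_apply, show x = f (g x) from (LinearMap.congr_fun hg x).symm,
    pi_eq_sum_univ' (g x), map_sum, map_sum]
  simp

variable {M : Type u} [AddCommGroup M] [Module S M] (P : DualRes S M)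

namespace DualRes

/-- All components `Hom(D^c, J^k)`. -/
abbrev HomW : Type u := ∀ (c k : ℕ), P.D c →ₗ[S] resX S J k

/-- Components of the total differential. -/
noncomputable def δComp (φ : P.HomW J) (c : ℕ) : ∀ k, P.D c →ₗ[S] resX S J k
  | 0 => φ (c + 1) 0 ∘ₗ P.d c
  | k + 1 => ((-1 : S) ^ c) • (resD S J k ∘ₗ φ c k) + φ (c + 1) (k + 1) ∘ₗ P.d c

/-- The total differential. -/
noncomputable def δW : P.HomW J →ₗ[S] P.HomW J where
  toFun φ c k := P.δComp J φ c k
  map_add' φ ψ := by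
    funext c k
    cases k
    · simp only [δComp, Pi.add_apply, LinearMap.add_comp]
    · simp only [δComp, Pi.add_apply, LinearMap.add_comp, LinearMap.comp_add, smul_add]
      abel
  map_smul' r φ := by
    funext c k
    cases k
    · simp only [δComp, Pi.smul_apply, LinearMap.smul_comp, RingHom.id_apply]
    · simp only [δComp, Pi.smul_apply, LinearMap.smul_comp, LinearMap.comp_smul, RingHom.id_apply,
        smul_add, smul_comm r]

theorem δW_zero (φ : P.HomW J) (c : ℕ) : P.δW J φ c 0 = φ (c + 1) 0 ∘ₗ P.d c := rfl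

theorem δW_succ (φ : P.HomW J) (c k : ℕ) : P.δW J φ c (k + 1) =
    ((-1 : S) ^ c) • (resD S J k ∘ₗ φ c k) + φ (c + 1) (k + 1) ∘ₗ P.d c := rfl

theorem δW_δW (φ : P.HomW J) : P.δW J (P.δW J φ) = 0 := by
  funext c k
  refine LinearMap.ext fun x => ?_
  rcases k with _ | _ | k
  · simp [δW_zero, δW_succ, P.d_d]
  · simp [δW_zero, δW_succ, P.d_d, pow_succ]
  · simp [δW_succ, P.d_d, pow_succ,
      show ∀ y, resD S J (k + 1) (resD S J k y) = 0 from (exact_resD S J k).apply_apply_eq_zero]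

/-- Cochains of degree `n`. -/
def deg (n : ℤ) : Submodule S (P.HomW J) where
  carrier := {φ | ∀ c k : ℕ, (k : ℤ) ≠ n + c → φ c k = 0}
  zero_mem' _ _ _ := rfl
  add_mem' {φ ψ} h h' c k hck := by rw [Pi.add_apply, Pi.add_apply, h c k hck, h' c k hck, add_zero]
  smul_mem' r φ h c k hck := by rw [Pi.smul_apply, Pi.smul_apply, h c k hck, smul_zero]

theorem δW_mem_deg {n m : ℤ} (hm : n + 1 = m) {φ : P.HomW J} (hφ : φ ∈ P.deg J n) :
    P.δW J φ ∈ P.deg J m := by
  intro c k hck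
  rcases k with _ | k
  · rw [δW_zero, hφ (c + 1) 0 (by omega), LinearMap.zero_comp]
  · rw [δW_succ, hφ c k (by omega), hφ (c + 1) (k + 1) (by omega), LinearMap.comp_zero,
      LinearMap.zero_comp, smul_zero, add_zero]

variable [P.Bounded] in
theorem apply_eq_zero_of_lt (φ : P.HomW J) {c : ℕ} (hc : P.len < c) (k : ℕ) : φ c k = 0 := by
  have := P.subsingleton c hc
  exact LinearMap.ext fun x => by rw [Subsingleton.elim x 0, map_zero, map_zero]

/-- A single component. -/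
noncomputable def sgl (c k : ℕ) : (P.D c →ₗ[S] resX S J k) →ₗ[S] P.HomW J :=
  LinearMap.single S (fun c => ∀ k, P.D c →ₗ[S] resX S J k) c ∘ₗ
    LinearMap.single S (fun k => P.D c →ₗ[S] resX S J k) k

theorem sgl_same (c k : ℕ) (f : P.D c →ₗ[S] resX S J k) : P.sgl J c k f c k = f := by
  simp [sgl]

theorem sgl_ne {c k c' k' : ℕ} (f : P.D c →ₗ[S] resX S J k) (h : c' ≠ c ∨ k' ≠ k) :
    P.sgl J c k f c' k' = 0 := by
  by_cases hc : c' = c
  · subst hc
    have hk := h.resolve_left fun h => h rfl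
    simp [sgl, hk]
  · simp [sgl, hc]

theorem sgl_mem_deg {n : ℤ} {c k : ℕ} (h : (k : ℤ) = n + c) (f : P.D c →ₗ[S] resX S J k) :
    P.sgl J c k f ∈ P.deg J n := fun c' k' hck => P.sgl_ne J f <| by
  by_contra hh
  push Not at hh
  obtain ⟨rfl, rfl⟩ := hh
  exact hck h

theorem eq_sgl_of_forall {n : ℤ} {φ : P.HomW J} (hφ : φ ∈ P.deg J n) {c k : ℕ}
    (h : ∀ c' k', (c' ≠ c ∨ k' ≠ k) → (k' : ℤ) = n + c' → φ c' k' = 0) :
    φ = P.sgl J c k (φ c k) := by
  funext c' k'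
  by_cases hh : c' = c ∧ k' = k
  · obtain ⟨rfl, rfl⟩ := hh
    rw [sgl_same]
  · rw [not_and_or] at hh
    rw [P.sgl_ne J _ hh]
    by_cases hd : (k' : ℤ) = n + c'
    · exact h c' k' hh hd
    · exact hφ c' k' hd

variable [P.Bounded]

/-- Moving a cochain to the bottom row. -/
theorem exists_sub_δW {n : ℤ} {φ : P.HomW J} (hφ : φ ∈ P.deg J n)
    (hδ : ∀ c k, P.δW J φ c (k + 1) = 0) :
    ∃ ψ ∈ P.deg J (n - 1), (∀ c k, (φ - P.δW J ψ) c (k + 1) = 0) ∧
      ∀ c, resD S J 0 ∘ₗ (φ - P.δW J ψ) c 0 = 0 := by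
  suffices key : ∀ t, ∃ ψ ∈ P.deg J (n - 1), ∀ c, P.len < c + t → ∀ k,
      (φ - P.δW J ψ) c (k + 1) = 0 by
    obtain ⟨ψ, hψ, h⟩ := key (P.len + 1)
    refine ⟨ψ, hψ, fun c => h c (by omega), fun c => ?_⟩
    have h1 : P.δW J (φ - P.δW J ψ) c 1 = 0 := by
      rw [map_sub, δW_δW, sub_zero]
      exact hδ c 0
    rw [δW_succ, h (c + 1) (by omega) 0, LinearMap.zero_comp, add_zero] at h1
    exact (IsUnit.smul_eq_zero (isUnit_neg_one.pow c)).1 h1
  intro t
  induction t with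
  | zero => exact ⟨0, zero_mem _, fun c hc k => P.apply_eq_zero_of_lt J _ (by omega) _⟩
  | succ t ih =>
    obtain ⟨ψ, hψ, h⟩ := ih
    by_cases ht : P.len < t
    · exact ⟨ψ, hψ, fun c _ => h c (by omega)⟩
    obtain ⟨c₀, hc₀⟩ : ∃ c₀, c₀ + t = P.len := ⟨P.len - t, by omega⟩
    let φ' := φ - P.δW J ψ
    have hφ' : φ' ∈ P.deg J n := sub_mem hφ (P.δW_mem_deg J (by omega) hψ)
    by_cases hk : ∃ k₀ : ℕ, ((k₀ + 1 : ℕ) : ℤ) = n + c₀
    swap
    · refine ⟨ψ, hψ, fun c hc k => ?_⟩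
      by_cases hcc : P.len < c + t
      · exact h c hcc k
      obtain rfl : c = c₀ := by omega
      exact hφ' c (k + 1) fun he => hk ⟨k, he⟩
    obtain ⟨k₀, hk₀⟩ := hk
    have h2 : resD S J (k₀ + 1) ∘ₗ φ' c₀ (k₀ + 1) = 0 := by
      have h1 : P.δW J φ' c₀ (k₀ + 2) = 0 := by
        rw [map_sub, δW_δW, sub_zero]
        exact hδ c₀ (k₀ + 1)
      rw [δW_succ, show φ' (c₀ + 1) (k₀ + 1 + 1) = 0 from h (c₀ + 1) (by omega) (k₀ + 1),
        LinearMap.zero_comp, add_zero] at h1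
      exact (IsUnit.smul_eq_zero (isUnit_neg_one.pow c₀)).1 h1
    obtain ⟨χ, hχ⟩ := exists_resD_comp J k₀ (((-1 : S) ^ c₀) • φ' c₀ (k₀ + 1))
      (by rw [LinearMap.comp_smul, h2, smul_zero])
    refine ⟨ψ + P.sgl J c₀ k₀ χ, add_mem hψ (P.sgl_mem_deg J (by omega) χ), fun c hc k => ?_⟩
    rw [map_add, sub_add_eq_sub_sub, Pi.sub_apply, Pi.sub_apply]
    change φ' c (k + 1) - P.δW J (P.sgl J c₀ k₀ χ) c (k + 1) = 0
    rw [δW_succ]
    by_cases hcc : c = c₀
    · subst hcc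
      rw [P.sgl_ne J χ (Or.inl (by omega) : c + 1 ≠ c ∨ _), LinearMap.zero_comp, add_zero]
      by_cases hkk : k = k₀
      · subst hkk
        rw [sgl_same, hχ, smul_smul, ← mul_pow, neg_one_mul, neg_neg, one_pow, one_smul, sub_self]
      · rw [P.sgl_ne J χ (Or.inr hkk), LinearMap.comp_zero, smul_zero, sub_zero,
          hφ' c (k + 1) (by omega)]
    · rw [P.sgl_ne J χ (Or.inl hcc), P.sgl_ne J χ (Or.inl (by omega) : c + 1 ≠ c₀ ∨ _),
        LinearMap.comp_zero, LinearMap.zero_comp, smul_zero, add_zero, sub_zero]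
      exact h c (by omega) k

theorem exists_δW_eq {n : ℤ} (hn : n ≠ 0) {φ : P.HomW J} (hφ : φ ∈ P.deg J n)
    (hδ : P.δW J φ = 0) : ∃ ψ ∈ P.deg J (n - 1), P.δW J ψ = φ := by
  obtain ⟨ψ, hψ, h, h0⟩ := P.exists_sub_δW J hφ fun c k => by rw [hδ]; rfl
  let φ' := φ - P.δW J ψ
  have hφ' : φ' ∈ P.deg J n := sub_mem hφ (P.δW_mem_deg J (by omega) hψ)
  by_cases hm : ∃ m : ℕ, n + ((m + 1 : ℕ) : ℤ) = 0
  · obtain ⟨m, hm⟩ := hm
    have heq : φ' = P.sgl J (m + 1) 0 (φ' (m + 1) 0) := P.eq_sgl_of_forall J hφ' fun c k hck hd => by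
      rcases k with _ | k
      · omega
      · exact h c k
    obtain ⟨f, hf⟩ := exists_augJ_comp J (φ' (m + 1) 0) (h0 (m + 1))
    have hfd : f ∘ₗ P.d m = 0 := by
      refine LinearMap.ext fun x => augJ_injective J ?_
      have h1 : P.δW J φ' m 0 = 0 := by rw [map_sub, δW_δW, sub_zero, hδ]; rfl
      rw [δW_zero, ← hf] at h1
      rw [LinearMap.comp_apply, LinearMap.zero_apply, map_zero]
      exact LinearMap.congr_fun h1 x
    obtain ⟨g, hg⟩ := P.exact m f hfd
    refine ⟨ψ + P.sgl J (m + 2) 0 (augJ J ∘ₗ g), add_mem hψ (P.sgl_mem_deg J (by omega) _), ?_⟩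
    rw [map_add, add_comm, ← eq_sub_iff_add_eq]
    change _ = φ'
    rw [heq]
    funext c k
    rcases k with _ | k
    · rw [δW_zero]
      by_cases hc : c = m + 1
      · subst hc
        rw [sgl_same, sgl_same, LinearMap.comp_assoc, hg, hf]
      · rw [P.sgl_ne J _ (Or.inl (by omega)), P.sgl_ne J _ (Or.inl hc), LinearMap.zero_comp]
    · rw [δW_succ, P.sgl_ne J _ (Or.inr (Nat.succ_ne_zero k) : _ ∨ k + 1 ≠ 0),
        P.sgl_ne J _ (Or.inr (Nat.succ_ne_zero k) : _ ∨ k + 1 ≠ 0), LinearMap.zero_comp, add_zero]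
      by_cases hc : c = m + 2 ∧ k = 0
      · obtain ⟨rfl, rfl⟩ := hc
        rw [sgl_same, ← LinearMap.comp_assoc, show resD S J 0 ∘ₗ augJ J = 0 from
          LinearMap.ext (resD_augJ J), LinearMap.zero_comp, smul_zero]
      · rw [not_and_or] at hc
        rw [P.sgl_ne J _ hc, LinearMap.comp_zero, smul_zero]
  · refine ⟨ψ, hψ, (sub_eq_zero.1 ?_).symm⟩
    funext c k
    rcases k with _ | k
    · refine hφ' c 0 fun hd => ?_
      rcases c with _ | c
      · exact hn (by omega)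
      · exact hm ⟨c, by omega⟩
    · exact h c k

/-- A functional on `D⁰` as a degree zero cocycle. -/
noncomputable def θ : (P.D 0 →ₗ[S] S) →ₗ[S] P.HomW J :=
  P.sgl J 0 0 ∘ₗ LinearMap.llcomp S (P.D 0) S (resX S J 0) (augJ J)

theorem θ_apply (f : P.D 0 →ₗ[S] S) : P.θ J f = P.sgl J 0 0 (augJ J ∘ₗ f) := rfl

theorem θ_mem_deg (f : P.D 0 →ₗ[S] S) : P.θ J f ∈ P.deg J 0 := P.sgl_mem_deg J (by simp) _

theorem δW_θ (f : P.D 0 →ₗ[S] S) : P.δW J (P.θ J f) = 0 := by
  funext c k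
  rcases k with _ | k
  · rw [δW_zero, θ_apply, P.sgl_ne J _ (Or.inl (Nat.succ_ne_zero c)), LinearMap.zero_comp]
    rfl
  · rw [δW_succ, θ_apply, P.sgl_ne J _ (Or.inl (Nat.succ_ne_zero c) : c + 1 ≠ 0 ∨ _),
      LinearMap.zero_comp, add_zero]
    by_cases hc : c = 0 ∧ k = 0
    · obtain ⟨rfl, rfl⟩ := hc
      rw [sgl_same, ← LinearMap.comp_assoc, show resD S J 0 ∘ₗ augJ J = 0 from
        LinearMap.ext (resD_augJ J), LinearMap.zero_comp, smul_zero]
      rfl
    · rw [not_and_or] at hc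
      rw [P.sgl_ne J _ hc, LinearMap.comp_zero, smul_zero]
      rfl

theorem exists_θ_sub {φ : P.HomW J} (hφ : φ ∈ P.deg J 0) (hδ : P.δW J φ = 0) :
    ∃ f, ∃ ψ ∈ P.deg J (-1), P.θ J f + P.δW J ψ = φ := by
  obtain ⟨ψ, hψ, h, h0⟩ := P.exists_sub_δW J hφ fun c k => by rw [hδ]; rfl
  let φ' := φ - P.δW J ψ
  have hφ' : φ' ∈ P.deg J 0 := sub_mem hφ (P.δW_mem_deg J (by omega) hψ)
  obtain ⟨f, hf⟩ := exists_augJ_comp J (φ' 0 0) (h0 0)
  refine ⟨f, ψ, hψ, ?_⟩
  rw [← eq_sub_iff_add_eq]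
  change _ = φ'
  rw [θ_apply, hf]
  refine (P.eq_sgl_of_forall J hφ' fun c k hck hd => ?_).symm
  rcases k with _ | k
  · omega
  · exact h c k

theorem ε_eq_zero_iff_θ (f : P.D 0 →ₗ[S] S) :
    P.ε f = 0 ↔ ∃ ψ ∈ P.deg J (-1), P.δW J ψ = P.θ J f := by
  rw [P.ε_ker]
  constructor
  · rintro ⟨g, rfl⟩
    refine ⟨P.sgl J 1 0 (augJ J ∘ₗ g), P.sgl_mem_deg J (by simp) _, ?_⟩
    funext c k
    rcases k with _ | k
    · rw [δW_zero, θ_apply]
      by_cases hc : c = 0
      · subst hc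
        rw [sgl_same, sgl_same, LinearMap.comp_assoc]
      · rw [P.sgl_ne J _ (Or.inl (by omega)), P.sgl_ne J _ (Or.inl hc), LinearMap.zero_comp]
    · rw [δW_succ, θ_apply, P.sgl_ne J _ (Or.inr (Nat.succ_ne_zero k) : _ ∨ k + 1 ≠ 0),
        P.sgl_ne J _ (Or.inr (Nat.succ_ne_zero k) : _ ∨ k + 1 ≠ 0), LinearMap.zero_comp, add_zero]
      by_cases hc : c = 1 ∧ k = 0
      · obtain ⟨rfl, rfl⟩ := hc
        rw [sgl_same, ← LinearMap.comp_assoc, show resD S J 0 ∘ₗ augJ J = 0 from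
          LinearMap.ext (resD_augJ J), LinearMap.zero_comp, smul_zero]
      · rw [not_and_or] at hc
        rw [P.sgl_ne J _ hc, LinearMap.comp_zero, smul_zero]
  · rintro ⟨ψ, hψ, he⟩
    obtain ⟨ρ, hρ, h, h0⟩ := P.exists_sub_δW J hψ fun c k => by
      rw [he, θ_apply, P.sgl_ne J _ (Or.inr (Nat.succ_ne_zero k))]
    let ψ' := ψ - P.δW J ρ
    obtain ⟨g, hg⟩ := exists_augJ_comp J (ψ' 1 0) (h0 1)
    refine ⟨g, LinearMap.ext fun x => augJ_injective J ?_⟩
    have h1 : P.δW J ψ' 0 0 = augJ J ∘ₗ f := by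
      rw [map_sub, δW_δW, sub_zero, he, θ_apply, sgl_same]
    rw [δW_zero, ← hg] at h1
    exact LinearMap.congr_fun h1 x

end DualRes

end Groth.Agent.H4LC
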