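import Groth.Agent.H4LC.HomComplex

/-!
# Local cohomology from torsion cocycles of `Hom(D, J)`
-/

set_option autoImplicit false
set_option linter.unusedSectionVars false

universe u

open CategoryTheory

namespace Groth.Agent.H4LC

namespace DualRes

variable {S : Type u} [CommRing S] [IsNoetherianRing S] {M : Type u} [AddCommGroup M] [Module S M]
  (P : DualRes S M) [P.Bounded] (J : RingRes S)

theorem injective_HomW : Module.Injective S (P.HomW J) := by
  have : ∀ c k, Module.Injective S (P.D c →ₗ[S] resX S J k) := fun c k =>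
    injective_hom _ _ (injective_resX S J k)
  have : ∀ c, Module.Injective S (∀ k, P.D c →ₗ[S] resX S J k) := fun c => inferInstance
  infer_instance

/-- The projection onto cochains of degree `n`. -/
noncomputable def degProj (n : ℤ) : P.HomW J →ₗ[S] P.deg J n where
  toFun φ := ⟨fun c k => if (k : ℤ) = n + c then φ c k else 0, fun _ _ h => if_neg h⟩
  map_add' φ ψ := Subtype.ext <| funext fun c => funext fun k => by
    by_cases h : (k : ℤ) = n + c <;> simp [h]
  map_smul' r φ := Subtype.ext <| funext fun c => funext fun k => by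
    by_cases h : (k : ℤ) = n + c <;> simp [h]

theorem injective_deg (n : ℤ) : Module.Injective S (P.deg J n) :=
  H4Inj.injective_of_leftInverse (P.injective_HomW J) (P.deg J n).subtype (P.degProj J n) <|
    LinearMap.ext fun φ => Subtype.ext <| funext fun c => funext fun k => by
      by_cases h : (k : ℤ) = n + c
      · exact if_pos h
      · exact (if_neg h).trans (φ.2 c k h).symm

/-- The differential between degrees. -/
noncomputable def δdeg {n m : ℤ} (h : n + 1 = m) : P.deg J n →ₗ[S] P.deg J m :=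
  (P.δW J).restrict fun _ hφ => P.δW_mem_deg J h hφ

/-- Coboundaries of negative degree cochains, in degree zero. -/
noncomputable def bnd : ∀ n : ℕ, Submodule S (P.deg J (n : ℤ))
  | 0 => LinearMap.range (P.δdeg J (show (-1 : ℤ) + 1 = ((0 : ℕ) : ℤ) by rfl))
  | _ + 1 => ⊥

/-- The terms of a resolution of `M` by acyclic modules. -/
abbrev RT (n : ℕ) : Type u := P.deg J (n : ℤ) ⧸ P.bnd J n

theorem bnd_le_comap (n : ℕ) : P.bnd J n ≤
    (P.bnd J (n + 1)).comap (P.δdeg J (show (n : ℤ) + 1 = ((n + 1 : ℕ) : ℤ) by push_cast; rfl)) := by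
  cases n with
  | zero =>
    rintro _ ⟨ψ, rfl⟩
    exact (Submodule.mem_bot S).2 (Subtype.ext (P.δW_δW J _))
  | succ n => exact fun φ hφ => by rw [(Submodule.mem_bot _).1 hφ]; exact zero_mem _

/-- The differentials of the resolution. -/
noncomputable def dRT (n : ℕ) : P.RT J n →ₗ[S] P.RT J (n + 1) :=
  (P.bnd J n).mapQ (P.bnd J (n + 1)) _ (P.bnd_le_comap J n)

theorem dRT_mk_eq_zero_iff (n : ℕ) (φ : P.deg J (n : ℤ)) :
    P.dRT J n (Submodule.Quotient.mk φ) = 0 ↔ P.δW J φ.1 = 0 := by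
  rw [dRT, Submodule.mapQ_apply, Submodule.Quotient.mk_eq_zero]
  exact (Submodule.mem_bot _).trans
    ⟨fun h => congrArg Subtype.val h, fun h => Subtype.ext h⟩

theorem exact_dRT (n : ℕ) : Function.Exact (P.dRT J n) (P.dRT J (n + 1)) := by
  intro y
  obtain ⟨φ, rfl⟩ := Submodule.Quotient.mk_surjective _ y
  constructor
  · intro h
    obtain ⟨ψ, hψ, hψ'⟩ := P.exists_δW_eq J (n := ((n + 1 : ℕ) : ℤ)) (by omega) φ.2
      ((P.dRT_mk_eq_zero_iff J _ φ).1 h)
    refine ⟨Submodule.Quotient.mk ⟨ψ, (show ((n + 1 : ℕ) : ℤ) - 1 = n by omega) ▸ hψ⟩, ?_⟩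
    rw [dRT, Submodule.mapQ_apply]
    exact congrArg _ (Subtype.ext hψ')
  · rintro ⟨w, hw⟩
    obtain ⟨ψ, rfl⟩ := Submodule.Quotient.mk_surjective _ w
    rw [← hw]
    exact (P.dRT_mk_eq_zero_iff J (n + 1) _).2 (P.δW_δW J ψ.1)

/-- The augmentation into the resolution. -/
noncomputable def toKer : (P.D 0 →ₗ[S] S) →ₗ[S] LinearMap.ker (P.dRT J 0) :=
  ((P.bnd J 0).mkQ ∘ₗ (P.θ J).codRestrict (P.deg J ((0 : ℕ) : ℤ)) fun f => P.θ_mem_deg J f).codRestrict
    _ fun f => (P.dRT_mk_eq_zero_iff J 0 _).2 (P.δW_θ J f)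

theorem ker_toKer : LinearMap.ker (P.toKer J) = LinearMap.ker P.ε := by
  ext f
  rw [LinearMap.mem_ker, LinearMap.mem_ker, P.ε_eq_zero_iff_θ J]
  refine ⟨fun h => ?_, fun ⟨ψ, hψ, he⟩ => ?_⟩
  · obtain ⟨⟨ψ, hψ⟩, he⟩ := (Submodule.Quotient.mk_eq_zero (P.bnd J 0)).1 (congrArg Subtype.val h)
    exact ⟨ψ, hψ, congrArg Subtype.val he⟩
  · exact Subtype.ext ((Submodule.Quotient.mk_eq_zero (P.bnd J 0)).2 ⟨⟨ψ, hψ⟩, Subtype.ext he⟩)

theorem toKer_surjective : Function.Surjective (P.toKer J) := by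
  rintro ⟨y, hy⟩
  obtain ⟨φ, rfl⟩ := Submodule.Quotient.mk_surjective _ y
  obtain ⟨f, ψ, hψ, he⟩ := P.exists_θ_sub J φ.2 ((P.dRT_mk_eq_zero_iff J 0 φ).1 hy)
  refine ⟨f, Subtype.ext ((Submodule.Quotient.eq _).2 ?_)⟩
  refine ⟨-⟨ψ, hψ⟩, Subtype.ext ?_⟩
  change P.δW J (-ψ) = P.θ J f - φ.1
  rw [map_neg, ← he, sub_add_cancel_left]

theorem nonempty_ker_equiv : Nonempty (M ≃ₗ[S] LinearMap.ker (P.dRT J 0)) :=
  ⟨(P.ε.quotKerEquivOfSurjective P.ε_surjective).symm.trans
    ((Submodule.quotEquivOfEq _ _ (P.ker_toKer J).symm).trans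
      ((P.toKer J).quotKerEquivOfSurjective (P.toKer_surjective J)))⟩

variable (a : Ideal S)

theorem subsingleton_H_range_δdeg : ∀ (t : ℕ) (m m' : ℤ) (h : m + 1 = m'),
    m + (P.len + 1 : ℕ) = t → m < 0 → ∀ k,
      Subsingleton (LocCoh.H a (k + 1) (LinearMap.range (P.δdeg J h))) := by
  intro t
  induction t with
  | zero =>
    intro m m' h ht _ k
    have : LinearMap.range (P.δdeg J h) = ⊥ := by
      rw [LinearMap.range_eq_bot]
      refine LinearMap.ext fun φ => Subtype.ext ?_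
      have hφ : φ.1 = 0 := funext fun c => funext fun l => by
        by_cases hc : P.len < c
        · exact P.apply_eq_zero_of_lt J _ hc l
        · exact φ.2 c l (by omega)
      change P.δW J φ.1 = 0
      rw [hφ, map_zero]
    rw [this]
    exact subsingleton_H_of_subsingleton a _ _
  | succ t ih =>
    intro m m' h ht hm k
    have hm1 : (m - 1) + 1 = m := by omega
    let L := LinearMap.range (P.δdeg J hm1)
    let g := (P.δdeg J h).rangeRestrict
    have hex : Function.Exact L.subtype g := by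
      intro φ
      constructor
      · intro hg
        obtain ⟨ψ, hψ, he⟩ := P.exists_δW_eq J (by omega : m ≠ 0) φ.2
          (congrArg (fun z => z.1.1) hg)
        exact ⟨⟨φ, ⟨ψ, hψ⟩, Subtype.ext he⟩, rfl⟩
      · rintro ⟨⟨_, ψ, rfl⟩, rfl⟩
        exact Subtype.ext (Subtype.ext (P.δW_δW J ψ.1))
    have := P.injective_deg J m
    exact subsingleton_H_right a L.injective_subtype (LinearMap.surjective_rangeRestrict _) hex (k + 1)
      (subsingleton_H_of_injective a _ k.succ_pos) (ih (m - 1) m hm1 (by push_cast at ht ⊢; omega)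
        (by omega) (k + 1))

theorem subsingleton_H_bnd (n k : ℕ) : Subsingleton (LocCoh.H a (k + 1) (P.bnd J n)) := by
  cases n with
  | zero => exact P.subsingleton_H_range_δdeg J a P.len _ _ _ (by push_cast; ring) (by norm_num) k
  | succ n => exact subsingleton_H_of_subsingleton a (⊥ : Submodule S (P.deg J ((n + 1 : ℕ) : ℤ))) _

theorem subsingleton_H_RT (n i : ℕ) : Subsingleton (LocCoh.H a (i + 1) (P.RT J n)) := by
  have := P.injective_deg J (n : ℤ)
  exact subsingleton_H_right a (P.bnd J n).injective_subtype (P.bnd J n).mkQ_surjective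
    (LinearMap.exact_subtype_mkQ _) (i + 1) (subsingleton_H_of_injective a _ i.succ_pos)
    (P.subsingleton_H_bnd J a n (i + 1))

theorem exists_torsion_lift (n : ℕ) {y : P.RT J n} (hy : y ∈ DRing.torsionSub a (P.RT J n)) :
    ∃ φ : P.deg J (n : ℤ), φ ∈ DRing.torsionSub a (P.deg J (n : ℤ)) ∧
      Submodule.Quotient.mk φ = y := by
  obtain ⟨w, hw⟩ := (exactH₃ a (P.bnd J n).injective_subtype (P.bnd J n).mkQ_surjective
    (LinearMap.exact_subtype_mkQ _) 0 ((zeroEquiv a _).symm ⟨y, hy⟩)).1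
    (@Subsingleton.elim _ (P.subsingleton_H_bnd J a n 0) _ _)
  refine ⟨(zeroEquiv a _ w).1, (zeroEquiv a _ w).2, ?_⟩
  have h := zeroEquiv_naturality a (P.bnd J n).mkQ w
  rw [hw, LinearEquiv.apply_symm_apply] at h
  exact h.symm

/-- Torsion cocycles. -/
noncomputable def torCyc (n : ℤ) : Submodule S (P.HomW J) :=
  P.deg J n ⊓ LinearMap.ker (P.δW J) ⊓ DRing.torsionSub a (P.HomW J)

theorem δW_mem_torCyc {n m : ℤ} (h : n + 1 = m) {ψ : P.HomW J} (hψ : ψ ∈ P.deg J n)
    (ht : ψ ∈ DRing.torsionSub a (P.HomW J)) : P.δW J ψ ∈ P.torCyc J a m :=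
  ⟨⟨P.δW_mem_deg J h hψ, P.δW_δW J ψ⟩, DRing.map_mem_torsionSub a (P.δW J) ht⟩

theorem mem_torsionSub_deg {n : ℤ} {φ : P.deg J n} (h : φ.1 ∈ DRing.torsionSub a (P.HomW J)) :
    φ ∈ DRing.torsionSub a (P.deg J n) := by
  obtain ⟨e, he⟩ := h
  exact ⟨e, fun r hr => Subtype.ext (he r hr)⟩

/-- The class of a torsion cocycle in the complex computing local cohomology. -/
noncomputable def cycClass (n : ℕ) : P.torCyc J a (n : ℤ) →ₗ[S] LinearMap.ker (Γmap a (P.dRT J n)) :=
  LinearMap.codRestrict _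
    (LinearMap.codRestrict (DRing.torsionSub a (P.RT J n))
      ((P.bnd J n).mkQ ∘ₗ LinearMap.codRestrict (P.deg J (n : ℤ)) (P.torCyc J a (n : ℤ)).subtype
        fun φ => φ.2.1.1)
      fun φ => DRing.map_mem_torsionSub a (P.bnd J n).mkQ (P.mem_torsionSub_deg J a φ.2.2))
    fun φ => Subtype.ext ((P.dRT_mk_eq_zero_iff J n _).2 φ.2.1.2)

theorem cycClass_surjective (n : ℕ) : Function.Surjective (P.cycClass J a n) := by
  rintro ⟨⟨y, hy⟩, hy0⟩
  obtain ⟨φ, hφ, rfl⟩ := P.exists_torsion_lift J a n hy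
  exact ⟨⟨φ.1, ⟨φ.2, (P.dRT_mk_eq_zero_iff J n φ).1 (congrArg Subtype.val hy0)⟩,
    DRing.map_mem_torsionSub a (P.deg J (n : ℤ)).subtype hφ⟩, rfl⟩

/-- Torsion cocycles surject onto local cohomology, killing coboundaries. -/
theorem exists_surjective_H (i : ℕ) :
    ∃ Φ : P.torCyc J a (i : ℤ) →ₗ[S] LocCoh.H a i M, Function.Surjective Φ ∧
      ∀ (φ : P.torCyc J a (i : ℤ)) (ψ : P.HomW J), ψ ∈ P.deg J ((i : ℤ) - 1) →
        ψ ∈ DRing.torsionSub a (P.HomW J) → P.δW J ψ = φ.1 → Φ φ = 0 := by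
  obtain ⟨e⟩ := P.nonempty_ker_equiv J
  let eH := ((localCohomology a i).mapIso e.toModuleIso).toLinearEquiv
  cases i with
  | zero =>
    obtain ⟨g⟩ := nonempty_H_zero_equiv a (P.RT J) (P.dRT J) 0
    refine ⟨(eH.trans g).symm.toLinearMap ∘ₗ P.cycClass J a 0,
      (eH.trans g).symm.surjective.comp (P.cycClass_surjective J a 0), fun φ ψ hψ _ he => ?_⟩
    have h0 : P.cycClass J a 0 φ = 0 := Subtype.ext (Subtype.ext
      ((Submodule.Quotient.mk_eq_zero (P.bnd J 0)).2 ⟨⟨ψ, hψ⟩, Subtype.ext he⟩))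
    simp [h0]
  | succ n =>
    obtain ⟨g⟩ := nonempty_H_succ_equiv a (P.RT J) (P.dRT J) (P.exact_dRT J)
      (fun m k => P.subsingleton_H_RT J a m k) n
    refine ⟨(eH.trans g).symm.toLinearMap ∘ₗ Submodule.mkQ _ ∘ₗ P.cycClass J a (n + 1),
      (eH.trans g).symm.surjective.comp
        ((Submodule.mkQ_surjective _).comp (P.cycClass_surjective J a (n + 1))), fun φ ψ hψ ht he => ?_⟩
    have hψ' : ψ ∈ P.deg J (n : ℤ) := (show ((n + 1 : ℕ) : ℤ) - 1 = n by omega) ▸ hψ
    have h0 : P.cycClass J a (n + 1) φ ∈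
        (LinearMap.range (Γmap a (P.dRT J n))).comap
          (LinearMap.ker (Γmap a (P.dRT J (n + 1)))).subtype :=
      ⟨⟨Submodule.Quotient.mk ⟨ψ, hψ'⟩, DRing.map_mem_torsionSub a (P.bnd J n).mkQ
        (P.mem_torsionSub_deg J a (φ := ⟨ψ, hψ'⟩) ht)⟩,
        Subtype.ext (congrArg Submodule.Quotient.mk (Subtype.ext he))⟩
    simp only [LinearMap.comp_apply, Submodule.mkQ_apply, LinearEquiv.coe_coe]
    refine (congrArg (eH.trans g).symm ?_).trans (map_zero _)
    exact (Submodule.Quotient.mk_eq_zero _).2 h0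

end DualRes

end Groth.Agent.H4LC
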