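import Groth.Agent.H05EGA4.NormalAscent
import Groth.Agent.H05EGA4.CompleteNormalization
import Groth.Agent.H9Hens.GRingLocal
import Groth.Agent.H4LC.CompletionTransfer

/-!
# The completion of a normal excellent local domain
-/

set_option autoImplicit false
set_option linter.style.haveILetI false

universe u

open IsLocalRing TensorProduct

namespace Groth.Agent.H4LC

theorem isDomain_completion_of_normal_gring (A : Type u) [CommRing A] [IsDomain A] [IsLocalRing A]
    [IsNoetherianRing A] [IsIntegrallyClosed A] (hA : CAlg.IsGRing A) :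
    IsDomain (AdicCompletion (maximalIdeal A) A) := by
  let B := AdicCompletion (maximalIdeal A) A
  have hcl : IsComplLike A B := isComplLike_adicCompletion
  haveI : Module.Flat A B := hcl.flat
  haveI : IsNoetherianRing B := H05EGA4.isNoetherianRing_adicCompletion A (maximalIdeal A)
  have hreg : CAlg.IsRegularHom A B :=
    H05EGA4.isRegularHom_iff_grsHom.mpr (H9Hens.grsHom_cpl_of_isGRing A hA)
  have hfib : ∀ (r : Ideal B) [r.IsPrime], IsDomain (EGA4.FibLocRing A B r) ∧
      IsIntegrallyClosed (EGA4.FibLocRing A B r) := by
    intro r _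
    let p := r.comap (algebraMap A B)
    haveI := (hreg.2 p).1
    haveI : IsRegularRing (p.Fiber B) :=
      @IsRegularRing.of_ringEquiv _ _ _ _ (Algebra.TensorProduct.lid p.ResidueField (p.Fiber B)).toRingEquiv
        ((hreg.2 p).2 p.ResidueField inferInstance)
    let Q := (PrimeSpectrum.preimageEquivFiber A B ⟨p, inferInstance⟩) ⟨⟨r, ‹_›⟩, rfl⟩
    have hQ : Q.asIdeal.comap Algebra.TensorProduct.includeRight = r :=
      congrArg (fun x => x.1.asIdeal)
        ((PrimeSpectrum.preimageEquivFiber A B ⟨p, inferInstance⟩).symm_apply_apply ⟨⟨r, ‹_›⟩, rfl⟩)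
    have key : ∀ (r' : Ideal B) [r'.IsPrime], r' = r →
        IsRegularLocalRing (Localization.AtPrime r' ⧸ p.map (algebraMap A (Localization.AtPrime r'))) →
        IsRegularLocalRing (EGA4.FibLocRing A B r) := by
      intro r' _ h H
      subst h
      exact H
    have : IsRegularLocalRing (EGA4.FibLocRing A B r) := by
      refine key (Q.asIdeal.comap Algebra.TensorProduct.includeRight) hQ ?_
      have : (Q.asIdeal.comap Algebra.TensorProduct.includeRight).LiesOver p := ⟨by rw [hQ]⟩
      letI := Localization.AtPrime.algebraOfLiesOver p (Q.asIdeal.comap Algebra.TensorProduct.includeRight)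
      have e := Ideal.Fiber.localizationAlgEquivQuotient p Q.asIdeal
      have : IsRegularLocalRing (Localization.AtPrime Q.asIdeal) := isRegularRing_iff.mp inferInstance _
      exact IsRegularLocalRing.of_ringEquiv (R := Localization.AtPrime Q.asIdeal) e.toRingEquiv
    exact ⟨H4Depth.isDomain_of_isRegularLocalRing _, H05EGA4.isIntegrallyClosed_of_isRegularLocalRing _⟩
  have hbase : ∀ (r : Ideal B) [r.IsPrime],
      IsDomain (Localization.AtPrime (r.comap (algebraMap A B))) ∧
        IsIntegrallyClosed (Localization.AtPrime (r.comap (algebraMap A B))) := fun r _ => by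
    have hle := (r.comap (algebraMap A B)).primeCompl_le_nonZeroDivisors
    exact ⟨IsLocalization.isDomain_localization hle,
      isIntegrallyClosed_of_isLocalization _ (r.comap (algebraMap A B)).primeCompl hle⟩
  obtain ⟨hd, -⟩ := H05EGA4.isDomain_and_isIntegrallyClosed_of_flat (maximalIdeal B)
    (fun r _ _ => hbase r) (fun r _ _ => hfib r)
  exact (IsLocalization.atUnits B (maximalIdeal B).primeCompl
    (S := Localization.AtPrime (maximalIdeal B))
    (fun x hx => IsLocalRing.notMem_maximalIdeal.mp hx)).toRingEquiv.toMulEquiv.isDomain _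

end Groth.Agent.H4LC
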