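import Groth.Agent.H4LC.Torsion

/-!
# Injective resolutions by torsion modules
-/

set_option autoImplicit false

universe u

open CategoryTheory CategoryTheory.Limits Opposite

namespace Groth.Agent.H4LC

variable {R : Type u} [CommRing R] [IsNoetherianRing R] (I : Ideal R) {M : ModuleCat.{u} R}
  (hM : LocCoh.IsPowerTorsion I M) (J : InjectiveResolution M)

/-- `M → Γ_I(J⁰)` for torsion `M`. -/
noncomputable def torsionAug : M ⟶ (gammaCx I J).X 0 :=
  ModuleCat.ofHom (LinearMap.codRestrict (DRing.torsionSub I (J.cocomplex.X 0)) (J.ι.f 0).hom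
    (fun x => DRing.map_mem_torsionSub I (J.ι.f 0).hom (hM x)))

theorem torsionAug_val (x : M) :
    Subtype.val ((torsionAug I hM J).hom x) = (J.ι.f 0).hom x := rfl

theorem torsionAug_d : torsionAug I hM J ≫ (gammaCx I J).d 0 1 = 0 := by
  apply ModuleCat.hom_ext
  refine LinearMap.ext fun x => Subtype.ext ?_
  exact congrArg (fun a => a.hom x) J.ι_f_zero_comp_complex_d

theorem exact_torsionAug :
    (ShortComplex.mk (torsionAug I hM J) ((gammaCx I J).d 0 1) (torsionAug_d I hM J)).Exact ∧
      Mono (torsionAug I hM J) := by
  have hinj : Function.Injective (J.ι.f 0).hom := (ModuleCat.mono_iff_injective _).1 inferInstance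
  refine ⟨?_, (ModuleCat.mono_iff_injective _).2 fun x y h => hinj (congrArg Subtype.val h)⟩
  rw [ShortComplex.moduleCat_exact_iff]
  intro w hw
  have hex := ShortComplex.exact_of_f_is_kernel
    (ShortComplex.mk (J.ι.f 0) (J.cocomplex.d 0 1) J.ι_f_zero_comp_complex_d) J.isLimitKernelFork
  obtain ⟨m, hm⟩ := (ShortComplex.moduleCat_exact_iff _).1 hex (Subtype.val w)
    (congrArg Subtype.val hw)
  exact ⟨m, Subtype.ext hm⟩

/-- The `Γ_I` of an injective resolution of a torsion module is an injective resolution. -/
noncomputable def torsionResolution : InjectiveResolution M where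
  cocomplex := gammaCx I J
  injective n := by
    have h : Module.Injective R (J.cocomplex.X n) :=
      (Module.injective_iff_injective_object R (J.cocomplex.X n)).mpr (J.injective n)
    have := injective_torsionSub I (J.cocomplex.X n) h
    exact Module.injective_object_of_injective_module R (DRing.torsionSub I (J.cocomplex.X n))
  ι := (CochainComplex.fromSingle₀Equiv (gammaCx I J) M).symm
    ⟨torsionAug I hM J, torsionAug_d I hM J⟩
  quasiIso := ⟨fun n => by
    cases n
    · rw [CochainComplex.quasiIsoAt₀_iff, ShortComplex.quasiIso_iff_of_zeros]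
      · refine (ShortComplex.exact_and_mono_f_iff_of_iso ?_).2 (exact_torsionAug I hM J)
        refine ShortComplex.isoMk (Iso.refl _) (Iso.refl _) (Iso.refl _) ?_ ?_
        all_goals exact (Category.id_comp _).trans (Category.comp_id _).symm
      all_goals first | rfl | exact HomologicalComplex.shape (gammaCx I J) 0 0 (by decide)
    · rename_i k
      rw [quasiIsoAt_iff_exactAt]
      · rw [HomologicalComplex.exactAt_iff_isZero_homology, ModuleCat.isZero_iff_subsingleton]
        have hs := subsingleton_H_of_isPowerTorsion I (k + 1) M hM k.succ_pos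
        exact @Function.Injective.subsingleton _ _ _ (homologyToH_bijective I J (k + 1)).1 hs
      · apply CochainComplex.exactAt_succ_single_obj⟩

theorem isPowerTorsion_torsionResolution (n : ℕ) :
    LocCoh.IsPowerTorsion I ((torsionResolution I hM J).cocomplex.X n) :=
  isPowerTorsion_torsionSub I (J.cocomplex.X n)

include hM in
theorem exists_torsion_resolution :
    ∃ J' : InjectiveResolution M, ∀ n, LocCoh.IsPowerTorsion I (J'.cocomplex.X n) :=
  ⟨torsionResolution I hM (injectiveResolution M), fun n => isPowerTorsion_torsionResolution I hM _ n⟩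

end Groth.Agent.H4LC
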